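import Cfsg.Agent.H4.TC

/-!
# Coset enumeration certificates for subgroups of the Higman–Sims group
-/

set_option autoImplicit false
set_option maxRecDepth 100000

namespace Cfsg.Agent.H7.HS

open Cfsg.Agent.H4

/-- Certificate data. -/
def tQ_par : Trie :=
    (.node (.node (.node (.node (.node (.node (.leaf (nat_lit 0)) (.leaf (nat_lit 3075))) (.node
    (.leaf (nat_lit 771)) (.leaf (nat_lit 6661)))) (.node (.node (.leaf (nat_lit 259)) (.leaf
    (nat_lit 4357))) (.node (.leaf (nat_lit 1797)) (.leaf (nat_lit 9733))))) (.node (.node (.node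
    (.leaf (nat_lit 4)) (.leaf (nat_lit 3334))) (.node (.leaf (nat_lit 1030)) (.leaf (nat_lit
    8197)))) (.node (.node (.leaf (nat_lit 515)) (.leaf (nat_lit 5638))) (.node (.leaf (nat_lit
    2054)) (.leaf (nat_lit 11525)))))) (.node (.node (.node (.node (.leaf (nat_lit 2)) (.leaf
    (nat_lit 3078))) (.node (.leaf (nat_lit 774)) (.leaf (nat_lit 6917)))) (.node (.node (.leaf
    (nat_lit 261)) (.leaf (nat_lit 5635))) (.node (.leaf (nat_lit 2051)) (.leaf (nat_lit 10758)))))
    (.node (.node (.node (.leaf (nat_lit 6)) (.leaf (nat_lit 4101))) (.node (.leaf (nat_lit 1795))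
    (.leaf (nat_lit 8453)))) (.node (.node (.leaf (nat_lit 517)) (.leaf (nat_lit 5894))) (.node
    (.leaf (nat_lit 2310)) (.leaf (nat_lit 13317))))))) (.node (.node (.node (.node (.node (.leaf
    (nat_lit 1)) (.leaf (nat_lit 3077))) (.node (.leaf (nat_lit 773)) (.leaf (nat_lit 6662))))
    (.node (.node (.leaf (nat_lit 260)) (.leaf (nat_lit 4869))) (.node (.leaf (nat_lit 1798))
    (.leaf (nat_lit 10757))))) (.node (.node (.node (.leaf (nat_lit 5)) (.leaf (nat_lit 3589)))
    (.node (.leaf (nat_lit 1285)) (.leaf (nat_lit 8198)))) (.node (.node (.leaf (nat_lit 516))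
    (.leaf (nat_lit 5893))) (.node (.leaf (nat_lit 2309)) (.leaf (nat_lit 12293)))))) (.node (.node
    (.node (.node (.leaf (nat_lit 3)) (.leaf (nat_lit 3333))) (.node (.leaf (nat_lit 1029)) (.leaf
    (nat_lit 7429)))) (.node (.node (.leaf (nat_lit 262)) (.leaf (nat_lit 5637))) (.node (.leaf
    (nat_lit 2053)) (.leaf (nat_lit 11013))))) (.node (.node (.node (.leaf (nat_lit 257)) (.leaf
    (nat_lit 4102))) (.node (.leaf (nat_lit 1796)) (.leaf (nat_lit 8965)))) (.node (.node (.leaf
    (nat_lit 518)) (.leaf (nat_lit 6149))) (.node (.leaf (nat_lit 2565)) (.leaf (nat_lit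
    14597))))))))

/-- Certificate data. -/
def tQ_fact : Trie :=
    (.node (.node (.node (.node (.node (.node (.node (.node (.leaf (nat_lit 16385)) (.leaf (nat_lit
    826117))) (.leaf (nat_lit 188165))) (.node (.node (.leaf (nat_lit 328710)) (.leaf (nat_lit
    719108))) (.leaf (nat_lit 693763)))) (.node (.node (.node (.leaf (nat_lit 197123)) (.leaf
    (nat_lit 893189))) (.leaf (nat_lit 254979))) (.node (.node (.leaf (nat_lit 428035)) (.leaf
    (nat_lit 1011717))) (.leaf (nat_lit 759558))))) (.node (.node (.node (.node (.leaf (nat_lit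
    131331)) (.leaf (nat_lit 860165))) (.leaf (nat_lit 560134))) (.node (.node (.leaf (nat_lit
    153346)) (.leaf (nat_lit 899841))) (.leaf (nat_lit 726534)))) (.node (.node (.node (.leaf
    (nat_lit 262915)) (.leaf (nat_lit 927237))) (.leaf (nat_lit 304900))) (.node (.node (.leaf
    (nat_lit 187396)) (.leaf (nat_lit 916995))) (.leaf (nat_lit 793093)))))) (.node (.node (.node
    (.node (.node (.leaf (nat_lit 81925)) (.leaf (nat_lit 843013))) (.leaf (nat_lit 270337)))
    (.node (.node (.leaf (nat_lit 362243)) (.leaf (nat_lit 735748))) (.leaf (nat_lit 710149))))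
    (.node (.node (.node (.leaf (nat_lit 229893)) (.leaf (nat_lit 910085))) (.leaf (nat_lit
    626693))) (.node (.node (.leaf (nat_lit 285442)) (.leaf (nat_lit 834820))) (.leaf (nat_lit
    776197))))) (.node (.node (.node (.node (.leaf (nat_lit 164101)) (.leaf (nat_lit 876550)))
    (.leaf (nat_lit 320257))) (.node (.node (.leaf (nat_lit 169986)) (.leaf (nat_lit 769029)))
    (.leaf (nat_lit 743173)))) (.node (.node (.node (.leaf (nat_lit 295686)) (.leaf (nat_lit
    944645))) (.leaf (nat_lit 354308))) (.node (.node (.leaf (nat_lit 493830)) (.leaf (nat_lit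
    1031937))) (.leaf (nat_lit 809478))))))) (.node (.node (.node (.node (.node (.node (.leaf
    (nat_lit 49155)) (.leaf (nat_lit 668162))) (.leaf (nat_lit 527363))) (.node (.node (.leaf
    (nat_lit 345349)) (.leaf (nat_lit 817666))) (.leaf (nat_lit 535041)))) (.node (.node (.node
    (.leaf (nat_lit 213508)) (.leaf (nat_lit 669185))) (.leaf (nat_lit 255237))) (.node (.node
    (.leaf (nat_lit 268802)) (.leaf (nat_lit 933122))) (.leaf (nat_lit 601601))))) (.node (.node
    (.node (.node (.leaf (nat_lit 147716)) (.leaf (nat_lit 586755))) (.leaf (nat_lit 254468)))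
    (.node (.node (.leaf (nat_lit 395013)) (.leaf (nat_lit 785156))) (.leaf (nat_lit 568321))))
    (.node (.node (.node (.leaf (nat_lit 279301)) (.leaf (nat_lit 686083))) (.leaf (nat_lit
    659717))) (.node (.node (.leaf (nat_lit 318722)) (.leaf (nat_lit 1046789))) (.leaf (nat_lit
    487427)))))) (.node (.node (.node (.node (.node (.leaf (nat_lit 114945)) (.leaf (nat_lit
    684802))) (.leaf (nat_lit 286977))) (.node (.node (.leaf (nat_lit 136706)) (.leaf (nat_lit
    977669))) (.leaf (nat_lit 453378)))) (.node (.node (.node (.leaf (nat_lit 246278)) (.leaf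
    (nat_lit 685825))) (.leaf (nat_lit 288260))) (.node (.node (.leaf (nat_lit 460806)) (.leaf
    (nat_lit 884229))) (.leaf (nat_lit 618241))))) (.node (.node (.node (.node (.leaf (nat_lit
    180486)) (.leaf (nat_lit 570628))) (.leaf (nat_lit 593158))) (.node (.node (.leaf (nat_lit
    186626)) (.leaf (nat_lit 850946))) (.leaf (nat_lit 486658)))) (.node (.node (.node (.leaf
    (nat_lit 312325)) (.leaf (nat_lit 801026))) (.leaf (nat_lit 338181))) (.node (.node (.leaf
    (nat_lit 187907)) (.leaf (nat_lit 999171))) (.leaf (nat_lit 471300)))))))) (.node (.node (.node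
    (.node (.node (.node (.node (.leaf (nat_lit 32770)) (.leaf (nat_lit 471557))) (.leaf (nat_lit
    352002))) (.node (.node (.leaf (nat_lit 103427)) (.leaf (nat_lit 961030))) (.leaf (nat_lit
    387587)))) (.node (.node (.node (.leaf (nat_lit 52225)) (.leaf (nat_lit 570885))) (.leaf
    (nat_lit 609797))) (.node (.node (.leaf (nat_lit 154115)) (.leaf (nat_lit 818437))) (.leaf
    (nat_lit 503298))))) (.node (.node (.node (.node (.leaf (nat_lit 51202)) (.leaf (nat_lit
    635905))) (.leaf (nat_lit 303617))) (.node (.node (.leaf (nat_lit 218881)) (.leaf (nat_lit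
    834306))) (.leaf (nat_lit 470018)))) (.node (.node (.node (.leaf (nat_lit 69635)) (.leaf
    (nat_lit 653317))) (.leaf (nat_lit 337667))) (.node (.node (.leaf (nat_lit 477445)) (.leaf
    (nat_lit 900612))) (.leaf (nat_lit 634882)))))) (.node (.node (.node (.node (.node (.leaf
    (nat_lit 98310)) (.leaf (nat_lit 504581))) (.leaf (nat_lit 543749))) (.node (.node (.leaf
    (nat_lit 202241)) (.leaf (nat_lit 768515))) (.leaf (nat_lit 551681)))) (.node (.node (.node
    (.leaf (nat_lit 85505)) (.leaf (nat_lit 603909))) (.leaf (nat_lit 321027))) (.node (.node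
    (.leaf (nat_lit 170756)) (.leaf (nat_lit 1029125))) (.leaf (nat_lit 421637))))) (.node (.node
    (.node (.node (.leaf (nat_lit 84482)) (.leaf (nat_lit 652545))) (.leaf (nat_lit 238339)))
    (.node (.node (.leaf (nat_lit 411398)) (.leaf (nat_lit 916481))) (.leaf (nat_lit 584961))))
    (.node (.node (.node (.leaf (nat_lit 102916)) (.leaf (nat_lit 866561))) (.leaf (nat_lit
    676613))) (.node (.node (.leaf (nat_lit 335362)) (.leaf (nat_lit 1015554))) (.leaf (nat_lit
    651522))))))) (.node (.node (.node (.node (.node (.node (.leaf (nat_lit 65540)) (.leaf (nat_lit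
    520708))) (.leaf (nat_lit 221187))) (.node (.node (.leaf (nat_lit 103685)) (.leaf (nat_lit
    883201))) (.leaf (nat_lit 436738)))) (.node (.node (.node (.leaf (nat_lit 68865)) (.leaf
    (nat_lit 620036))) (.leaf (nat_lit 353537))) (.node (.node (.leaf (nat_lit 444421)) (.leaf
    (nat_lit 851203))) (.leaf (nat_lit 421379))))) (.node (.node (.node (.node (.leaf (nat_lit
    67842)) (.leaf (nat_lit 553988))) (.leaf (nat_lit 576773))) (.node (.node (.leaf (nat_lit
    235521)) (.leaf (nat_lit 994565))) (.leaf (nat_lit 420868)))) (.node (.node (.node (.leaf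
    (nat_lit 86276)) (.leaf (nat_lit 669700))) (.leaf (nat_lit 305157))) (.node (.node (.leaf
    (nat_lit 171267)) (.leaf (nat_lit 966405))) (.leaf (nat_lit 454660)))))) (.node (.node (.node
    (.node (.node (.leaf (nat_lit 34561)) (.leaf (nat_lit 520963))) (.leaf (nat_lit 237828)))
    (.node (.node (.leaf (nat_lit 378628)) (.leaf (nat_lit 736005))) (.leaf (nat_lit 404228))))
    (.node (.node (.node (.leaf (nat_lit 102145)) (.leaf (nat_lit 620291))) (.leaf (nat_lit
    643078))) (.node (.node (.leaf (nat_lit 302082)) (.leaf (nat_lit 933377))) (.leaf (nat_lit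
    519938))))) (.node (.node (.node (.node (.leaf (nat_lit 101122)) (.leaf (nat_lit 603395)))
    (.leaf (nat_lit 336897))) (.node (.node (.leaf (nat_lit 252161)) (.leaf (nat_lit 785411)))
    (.leaf (nat_lit 404739)))) (.node (.node (.node (.leaf (nat_lit 86787)) (.leaf (nat_lit
    751875))) (.leaf (nat_lit 354563))) (.node (.node (.leaf (nat_lit 510469)) (.leaf (nat_lit
    982788))) (.leaf (nat_lit 504067)))))))))

/-- Certificate data. -/
def tQ_just : Trie :=
    (.node (.node (.node (.node (.node (.node (.node (.node (.leaf (nat_lit 0)) (.leaf (nat_lit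
    0))) (.leaf (nat_lit 31580718434025489))) (.node (.node (.leaf (nat_lit 0)) (.leaf (nat_lit
    225605737181806605))) (.leaf (nat_lit 0)))) (.node (.node (.node (.leaf (nat_lit 0)) (.leaf
    (nat_lit 0))) (.leaf (nat_lit 49621634071592976))) (.node (.node (.leaf (nat_lit 0)) (.leaf
    (nat_lit 0))) (.leaf (nat_lit 0))))) (.node (.node (.node (.node (.leaf (nat_lit 0)) (.leaf
    (nat_lit 0))) (.leaf (nat_lit 0))) (.node (.node (.leaf (nat_lit 22546924741787653)) (.leaf
    (nat_lit 324704806092603402))) (.leaf (nat_lit 0)))) (.node (.node (.node (.leaf (nat_lit 0))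
    (.leaf (nat_lit 0))) (.leaf (nat_lit 63158898542182414))) (.node (.node (.leaf (nat_lit
    31563048938569742)) (.leaf (nat_lit 333874861917274127))) (.leaf (nat_lit 0)))))) (.node (.node
    (.node (.node (.node (.leaf (nat_lit 0)) (.leaf (nat_lit 0))) (.leaf (nat_lit
    54118533549981704))) (.node (.node (.leaf (nat_lit 0)) (.leaf (nat_lit 234612979386220558)))
    (.leaf (nat_lit 0)))) (.node (.node (.node (.leaf (nat_lit 0)) (.leaf (nat_lit 0))) (.leaf
    (nat_lit 0))) (.node (.node (.leaf (nat_lit 58586819956244486)) (.leaf (nat_lit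
    288772851996229645))) (.leaf (nat_lit 0))))) (.node (.node (.node (.node (.leaf (nat_lit 0))
    (.leaf (nat_lit 0))) (.leaf (nat_lit 67638205834526730))) (.node (.node (.leaf (nat_lit
    27050550138961926)) (.leaf (nat_lit 252680240353181713))) (.leaf (nat_lit 0)))) (.node (.node
    (.node (.leaf (nat_lit 0)) (.leaf (nat_lit 0))) (.leaf (nat_lit 76680718310375437))) (.node
    (.node (.leaf (nat_lit 0)) (.leaf (nat_lit 408267861602271242))) (.leaf (nat_lit 0)))))))
    (.node (.node (.node (.node (.node (.node (.leaf (nat_lit 0)) (.leaf (nat_lit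
    202891785457041414))) (.leaf (nat_lit 0))) (.node (.node (.leaf (nat_lit 0)) (.leaf (nat_lit
    279659970776203271))) (.leaf (nat_lit 148782344353021960)))) (.node (.node (.node (.leaf
    (nat_lit 0)) (.leaf (nat_lit 202971087733194762))) (.leaf (nat_lit 49630455934418961))) (.node
    (.node (.leaf (nat_lit 54083194559070212)) (.leaf (nat_lit 342807251431653382))) (.leaf
    (nat_lit 175821671742242827))))) (.node (.node (.node (.node (.leaf (nat_lit 0)) (.leaf
    (nat_lit 169180827668905999))) (.leaf (nat_lit 49612786438963214))) (.node (.node (.leaf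
    (nat_lit 0)) (.leaf (nat_lit 261663207402438669))) (.leaf (nat_lit 162293211954610187))))
    (.node (.node (.node (.leaf (nat_lit 0)) (.leaf (nat_lit 209792526591393807))) (.leaf (nat_lit
    0))) (.node (.node (.leaf (nat_lit 67602866843615238)) (.leaf (nat_lit 0))) (.leaf (nat_lit
    128569128746418191)))))) (.node (.node (.node (.node (.node (.leaf (nat_lit 0)) (.leaf (nat_lit
    209673607536902150))) (.leaf (nat_lit 58622158947155978))) (.node (.node (.leaf (nat_lit
    18043299344613380)) (.leaf (nat_lit 0))) (.leaf (nat_lit 115009779553992710)))) (.node (.node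
    (.node (.leaf (nat_lit 0)) (.leaf (nat_lit 209752909813055498))) (.leaf (nat_lit
    58655273145008141))) (.node (.node (.leaf (nat_lit 0)) (.leaf (nat_lit 315853866338025489)))
    (.leaf (nat_lit 182585901636059146))))) (.node (.node (.node (.node (.leaf (nat_lit 0)) (.leaf
    (nat_lit 162423263564333070))) (.leaf (nat_lit 0))) (.node (.node (.leaf (nat_lit
    31554175536136199)) (.leaf (nat_lit 297722833696653318))) (.leaf (nat_lit
    128529443248603142)))) (.node (.node (.node (.leaf (nat_lit 0)) (.leaf (nat_lit
    270652728571789318))) (.leaf (nat_lit 72192537615597585))) (.node (.node (.leaf (nat_lit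
    31571896571199504)) (.leaf (nat_lit 385758659558440975))) (.leaf (nat_lit
    121811564641845262)))))))) (.node (.node (.node (.node (.node (.node (.node (.leaf (nat_lit 0))
    (.leaf (nat_lit 121824793141116945))) (.leaf (nat_lit 76618913730985990))) (.node (.node (.leaf
    (nat_lit 11274671404285968)) (.leaf (nat_lit 0))) (.leaf (nat_lit 87981550360264716)))) (.node
    (.node (.node (.leaf (nat_lit 4510338431254536)) (.leaf (nat_lit 162436492063604753))) (.leaf
    (nat_lit 0))) (.node (.node (.leaf (nat_lit 22555798144221196)) (.leaf (nat_lit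
    279754657625210897))) (.leaf (nat_lit 135284877049397255))))) (.node (.node (.node (.node
    (.leaf (nat_lit 4505871665266692)) (.leaf (nat_lit 189451424038584330))) (.leaf (nat_lit
    63125784344330251))) (.node (.node (.leaf (nat_lit 40563522274525193)) (.leaf (nat_lit
    288680407120150534))) (.leaf (nat_lit 121765213354786823)))) (.node (.node (.node (.leaf
    (nat_lit 6766605010927628)) (.leaf (nat_lit 196279528686026769))) (.leaf (nat_lit
    72168296820178960))) (.node (.node (.leaf (nat_lit 0)) (.leaf (nat_lit 324872060709044237)))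
    (.leaf (nat_lit 189372121762430982)))))) (.node (.node (.node (.node (.node (.leaf (nat_lit 0))
    (.leaf (nat_lit 135362014662033425))) (.leaf (nat_lit 0))) (.node (.node (.leaf (nat_lit
    36059896877350920)) (.leaf (nat_lit 252629576918958096))) (.leaf (nat_lit
    155537778153816074)))) (.node (.node (.node (.leaf (nat_lit 9013972418363402)) (.leaf (nat_lit
    175973713584521233))) (.leaf (nat_lit 67664671423004687))) (.node (.node (.leaf (nat_lit
    27059423541395469)) (.leaf (nat_lit 0))) (.leaf (nat_lit 101518909320134673))))) (.node (.node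
    (.node (.node (.leaf (nat_lit 9009505652375558)) (.leaf (nat_lit 196206857839378443))) (.leaf
    (nat_lit 45118008674418703))) (.node (.node (.leaf (nat_lit 0)) (.leaf (nat_lit
    333747232669106186))) (.leaf (nat_lit 169066237941448714)))) (.node (.node (.node (.leaf
    (nat_lit 11270238998036494)) (.leaf (nat_lit 306677127544242186))) (.leaf (nat_lit 0))) (.node
    (.node (.leaf (nat_lit 72106492240789511)) (.leaf (nat_lit 397013260580356102))) (.leaf
    (nat_lit 196127555563225095))))))) (.node (.node (.node (.node (.node (.node (.leaf (nat_lit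
    0)) (.leaf (nat_lit 142097588534050829))) (.leaf (nat_lit 40605535644614668))) (.node (.node
    (.leaf (nat_lit 11279086630666257)) (.leaf (nat_lit 315684369748656139))) (.leaf (nat_lit
    108254345753198596)))) (.node (.node (.node (.leaf (nat_lit 6762155424808969)) (.leaf (nat_lit
    182709287456538637))) (.leaf (nat_lit 76654252721897482))) (.node (.node (.leaf (nat_lit 0))
    (.leaf (nat_lit 297775653204459535))) (.leaf (nat_lit 101505680820862992))))) (.node (.node
    (.node (.node (.leaf (nat_lit 6757688658821125)) (.leaf (nat_lit 155667829763538957))) (.leaf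
    (nat_lit 0))) (.node (.node (.leaf (nat_lit 45067147671699466)) (.leaf (nat_lit 0))) (.leaf
    (nat_lit 101492417961852942)))) (.node (.node (.node (.leaf (nat_lit 9018422004482061)) (.leaf
    (nat_lit 203041525196849165))) (.leaf (nat_lit 63167720405008401))) (.node (.node (.leaf
    (nat_lit 27068271174025231)) (.leaf (nat_lit 363229666305310737))) (.leaf (nat_lit
    115056130841051149)))))) (.node (.node (.node (.node (.node (.leaf (nat_lit 2254054671712259))
    (.leaf (nat_lit 142124011172855823))) (.leaf (nat_lit 45109161041788941))) (.node (.node (.leaf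
    (nat_lit 0)) (.leaf (nat_lit 234630614521937937))) (.leaf (nat_lit 94736984161058829)))) (.node
    (.node (.node (.leaf (nat_lit 11265789411917835)) (.leaf (nat_lit 182735710095343631))) (.leaf
    (nat_lit 0))) (.node (.node (.leaf (nat_lit 63090445353418759)) (.leaf (nat_lit
    342877663125504010))) (.leaf (nat_lit 142057903036235782))))) (.node (.node (.node (.node
    (.leaf (nat_lit 11261322645929991)) (.leaf (nat_lit 175936261469700112))) (.leaf (nat_lit
    72141831231701003))) (.node (.node (.leaf (nat_lit 49570773068873739)) (.leaf (nat_lit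
    261698434724200463))) (.leaf (nat_lit 94750247020068879)))) (.node (.node (.node (.leaf
    (nat_lit 9022854410731535)) (.leaf (nat_lit 243622334714544143))) (.leaf (nat_lit
    76698336266223631))) (.node (.node (.leaf (nat_lit 0)) (.leaf (nat_lit 374504058536525837)))
    (.leaf (nat_lit 135324562547212304)))))))))

/-- Certificate data. -/
def tQ_rel : Trie :=
    (.node (.node (.node (.node (.leaf (nat_lit 0)) (.leaf (nat_lit 100730114))) (.node (.leaf
    (nat_lit 100795649)) (.leaf (nat_lit 84149763)))) (.node (.node (.leaf (nat_lit 67240705))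
    (.leaf (nat_lit 67372036))) (.node (.leaf (nat_lit 67175170)) (.leaf (nat_lit 84084228)))))
    (.node (.node (.node (.leaf (nat_lit 33686018)) (.leaf (nat_lit 83953154))) (.node (.leaf
    (nat_lit 84018689)) (.leaf (nat_lit 100861188)))) (.node (.node (.leaf (nat_lit 50463745))
    (.leaf (nat_lit 100926723))) (.node (.leaf (nat_lit 50398210)) (.leaf (nat_lit 101058054))))))

/-- Certificate data. -/
def tQ_rc : Trie :=
    (.node (.node (.node (.node (.leaf (nat_lit 12)) (.leaf (nat_lit 393225))) (.node (.leaf
    (nat_lit 8)) (.leaf (nat_lit 131083)))) (.node (.node (.leaf (nat_lit 6)) (.leaf (nat_lit 3)))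
    (.node (.leaf (nat_lit 393223)) (.leaf (nat_lit 262154))))) (.node (.node (.node (.leaf
    (nat_lit 1)) (.leaf (nat_lit 262152))) (.node (.leaf (nat_lit 131081)) (.leaf (nat_lit
    393227)))) (.node (.node (.leaf (nat_lit 131079)) (.leaf (nat_lit 10))) (.node (.leaf (nat_lit
    262150)) (.leaf (nat_lit 5))))))

/-- Certificate data. -/
def tQ_lv : Trie :=
    (.node (.node (.node (.node (.node (.node (.leaf (nat_lit 0)) (.leaf (nat_lit 32))) (.node
    (.leaf (nat_lit 16)) (.leaf (nat_lit 48)))) (.node (.node (.leaf (nat_lit 8)) (.leaf (nat_lit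
    40))) (.node (.leaf (nat_lit 24)) (.leaf (nat_lit 56))))) (.node (.node (.node (.leaf (nat_lit
    4)) (.leaf (nat_lit 36))) (.node (.leaf (nat_lit 20)) (.leaf (nat_lit 52)))) (.node (.node
    (.leaf (nat_lit 12)) (.leaf (nat_lit 44))) (.node (.leaf (nat_lit 28)) (.leaf (nat_lit 60))))))
    (.node (.node (.node (.node (.leaf (nat_lit 2)) (.leaf (nat_lit 34))) (.node (.leaf (nat_lit
    18)) (.leaf (nat_lit 50)))) (.node (.node (.leaf (nat_lit 10)) (.leaf (nat_lit 42))) (.node
    (.leaf (nat_lit 26)) (.leaf (nat_lit 58))))) (.node (.node (.node (.leaf (nat_lit 6)) (.leaf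
    (nat_lit 38))) (.node (.leaf (nat_lit 22)) (.leaf (nat_lit 54)))) (.node (.node (.leaf (nat_lit
    14)) (.leaf (nat_lit 46))) (.node (.leaf (nat_lit 30)) (.leaf (nat_lit 62))))))) (.node (.node
    (.node (.node (.node (.leaf (nat_lit 1)) (.leaf (nat_lit 33))) (.node (.leaf (nat_lit 17))
    (.leaf (nat_lit 49)))) (.node (.node (.leaf (nat_lit 9)) (.leaf (nat_lit 41))) (.node (.leaf
    (nat_lit 25)) (.leaf (nat_lit 57))))) (.node (.node (.node (.leaf (nat_lit 5)) (.leaf (nat_lit
    37))) (.node (.leaf (nat_lit 21)) (.leaf (nat_lit 53)))) (.node (.node (.leaf (nat_lit 13))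
    (.leaf (nat_lit 45))) (.node (.leaf (nat_lit 29)) (.leaf (nat_lit 61)))))) (.node (.node (.node
    (.node (.leaf (nat_lit 3)) (.leaf (nat_lit 35))) (.node (.leaf (nat_lit 19)) (.leaf (nat_lit
    51)))) (.node (.node (.leaf (nat_lit 11)) (.leaf (nat_lit 43))) (.node (.leaf (nat_lit 27))
    (.leaf (nat_lit 59))))) (.node (.node (.node (.leaf (nat_lit 7)) (.leaf (nat_lit 39))) (.node
    (.leaf (nat_lit 23)) (.leaf (nat_lit 55)))) (.node (.node (.leaf (nat_lit 15)) (.leaf (nat_lit
    47))) (.node (.leaf (nat_lit 31)) (.leaf (nat_lit 63))))))))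

/-- Certificate data. -/
def tQ_tb : Trie :=
    (.node (.node (.node (.node (.node (.node (.node (.node (.leaf (nat_lit 512)) (.leaf (nat_lit
    2568))) (.leaf (nat_lit 1540))) (.node (.node (.leaf (nat_lit 8328)) (.leaf (nat_lit 26896)))
    (.leaf (nat_lit 6790)))) (.node (.node (.node (.leaf (nat_lit 13413)) (.leaf (nat_lit 19624)))
    (.leaf (nat_lit 2098))) (.node (.node (.leaf (nat_lit 29501)) (.leaf (nat_lit 31584))) (.leaf
    (nat_lit 15092))))) (.node (.node (.node (.node (.leaf (nat_lit 11341)) (.leaf (nat_lit
    13926))) (.leaf (nat_lit 13408))) (.node (.node (.leaf (nat_lit 25861)) (.leaf (nat_lit 9398)))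
    (.leaf (nat_lit 28983)))) (.node (.node (.node (.leaf (nat_lit 7254)) (.leaf (nat_lit 24296)))
    (.leaf (nat_lit 22223))) (.node (.node (.leaf (nat_lit 31589)) (.leaf (nat_lit 20274))) (.leaf
    (nat_lit 21300)))))) (.node (.node (.node (.node (.node (.leaf (nat_lit 4631)) (.leaf (nat_lit
    9788))) (.leaf (nat_lit 7))) (.node (.node (.leaf (nat_lit 10398)) (.leaf (nat_lit 6813)))
    (.leaf (nat_lit 7840)))) (.node (.node (.node (.leaf (nat_lit 15483)) (.leaf (nat_lit 2113)))
    (.leaf (nat_lit 3138))) (.node (.node (.leaf (nat_lit 19730)) (.leaf (nat_lit 32106))) (.leaf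
    (nat_lit 18196))))) (.node (.node (.node (.node (.leaf (nat_lit 1570)) (.leaf (nat_lit 17034)))
    (.leaf (nat_lit 16516))) (.node (.node (.leaf (nat_lit 17620)) (.leaf (nat_lit 11473))) (.leaf
    (nat_lit 30025)))) (.node (.node (.node (.leaf (nat_lit 22739)) (.leaf (nat_lit 4205))) (.leaf
    (nat_lit 25341))) (.node (.node (.leaf (nat_lit 28506)) (.leaf (nat_lit 23896))) (.leaf
    (nat_lit 24414))))))) (.node (.node (.node (.node (.node (.node (.leaf (nat_lit 3)) (.leaf
    (nat_lit 7208))) (.leaf (nat_lit 6176))) (.node (.node (.leaf (nat_lit 9362)) (.leaf (nat_lit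
    6289))) (.leaf (nat_lit 27421)))) (.node (.node (.node (.leaf (nat_lit 14447)) (.leaf (nat_lit
    1593))) (.leaf (nat_lit 20145))) (.node (.node (.leaf (nat_lit 30547)) (.leaf (nat_lit 14594)))
    (.leaf (nat_lit 31593))))) (.node (.node (.node (.node (.leaf (nat_lit 12377)) (.leaf (nat_lit
    15998))) (.leaf (nat_lit 13931))) (.node (.node (.leaf (nat_lit 16580)) (.leaf (nat_lit
    29496))) (.leaf (nat_lit 11970)))) (.node (.node (.node (.leaf (nat_lit 21703)) (.leaf (nat_lit
    24816))) (.leaf (nat_lit 4706))) (.node (.node (.leaf (nat_lit 27462)) (.leaf (nat_lit 21827)))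
    (.leaf (nat_lit 23882)))))) (.node (.node (.node (.node (.node (.leaf (nat_lit 5663)) (.leaf
    (nat_lit 11))) (.leaf (nat_lit 9275))) (.node (.node (.leaf (nat_lit 24819)) (.leaf (nat_lit
    28976))) (.leaf (nat_lit 9898)))) (.node (.node (.node (.leaf (nat_lit 6218)) (.leaf (nat_lit
    22216))) (.leaf (nat_lit 21696))) (.node (.node (.leaf (nat_lit 20772)) (.leaf (nat_lit
    17698))) (.leaf (nat_lit 32115))))) (.node (.node (.node (.node (.leaf (nat_lit 2602)) (.leaf
    (nat_lit 19106))) (.leaf (nat_lit 17039))) (.node (.node (.leaf (nat_lit 18660)) (.leaf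
    (nat_lit 12001))) (.leaf (nat_lit 13030)))) (.node (.node (.node (.leaf (nat_lit 23779)) (.leaf
    (nat_lit 4729))) (.leaf (nat_lit 5756))) (.node (.node (.leaf (nat_lit 29038)) (.leaf (nat_lit
    27500))) (.leaf (nat_lit 28528)))))))) (.node (.node (.node (.node (.node (.node (.node (.leaf
    (nat_lit 3596)) (.leaf (nat_lit 5144))) (.leaf (nat_lit 4112))) (.node (.node (.leaf (nat_lit
    8844)) (.leaf (nat_lit 27936))) (.leaf (nat_lit 26903)))) (.node (.node (.node (.leaf (nat_lit
    13929)) (.leaf (nat_lit 20660))) (.leaf (nat_lit 19629))) (.node (.node (.leaf (nat_lit 30021))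
    (.leaf (nat_lit 13561))) (.leaf (nat_lit 15614))))) (.node (.node (.node (.node (.leaf (nat_lit
    11857)) (.leaf (nat_lit 14962))) (.leaf (nat_lit 533))) (.node (.node (.leaf (nat_lit 26381))
    (.leaf (nat_lit 10428))) (.leaf (nat_lit 10942)))) (.node (.node (.node (.leaf (nat_lit 7774))
    (.leaf (nat_lit 3675))) (.leaf (nat_lit 22743))) (.node (.node (.leaf (nat_lit 26938)) (.leaf
    (nat_lit 32628))) (.leaf (nat_lit 23358)))))) (.node (.node (.node (.node (.node (.leaf
    (nat_lit 5147)) (.leaf (nat_lit 10820))) (.leaf (nat_lit 8759))) (.node (.node (.leaf (nat_lit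
    10918)) (.leaf (nat_lit 7844))) (.leaf (nat_lit 27943)))) (.node (.node (.node (.leaf (nat_lit
    16003)) (.leaf (nat_lit 3142))) (.leaf (nat_lit 20665))) (.node (.node (.leaf (nat_lit 20250))
    (.leaf (nat_lit 16665))) (.leaf (nat_lit 18718))))) (.node (.node (.node (.node (.leaf (nat_lit
    2086)) (.leaf (nat_lit 18070))) (.leaf (nat_lit 1061))) (.node (.node (.leaf (nat_lit 18138))
    (.leaf (nat_lit 31062))) (.leaf (nat_lit 12510)))) (.node (.node (.node (.leaf (nat_lit 23261))
    (.leaf (nat_lit 26376))) (.leaf (nat_lit 5238))) (.node (.node (.leaf (nat_lit 32635)) (.leaf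
    (nat_lit 25442))) (.leaf (nat_lit 26470))))))) (.node (.node (.node (.node (.node (.node (.leaf
    (nat_lit 4115)) (.leaf (nat_lit 8756))) (.leaf (nat_lit 8240))) (.node (.node (.leaf (nat_lit
    9880)) (.leaf (nat_lit 28456))) (.leaf (nat_lit 7322)))) (.node (.node (.node (.leaf (nat_lit
    14965)) (.leaf (nat_lit 21178))) (.leaf (nat_lit 2622))) (.node (.node (.leaf (nat_lit 31069))
    (.leaf (nat_lit 15626))) (.leaf (nat_lit 16142))))) (.node (.node (.node (.node (.leaf (nat_lit
    12893)) (.leaf (nat_lit 541))) (.leaf (nat_lit 14449))) (.node (.node (.leaf (nat_lit 17098))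
    (.leaf (nat_lit 30540))) (.leaf (nat_lit 29505)))) (.node (.node (.node (.leaf (nat_lit 22221))
    (.leaf (nat_lit 25856))) (.leaf (nat_lit 24823))) (.node (.node (.leaf (nat_lit 27984)) (.leaf
    (nat_lit 22862))) (.leaf (nat_lit 32639)))))) (.node (.node (.node (.node (.node (.leaf
    (nat_lit 1038)) (.leaf (nat_lit 12372))) (.leaf (nat_lit 11336))) (.node (.node (.leaf (nat_lit
    25339)) (.leaf (nat_lit 8367))) (.leaf (nat_lit 10418)))) (.node (.node (.node (.leaf (nat_lit
    6738)) (.leaf (nat_lit 23256))) (.leaf (nat_lit 3663))) (.node (.node (.leaf (nat_lit 21292))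
    (.leaf (nat_lit 18730))) (.leaf (nat_lit 19246))))) (.node (.node (.node (.node (.leaf (nat_lit
    3118)) (.leaf (nat_lit 1069))) (.leaf (nat_lit 17557))) (.node (.node (.leaf (nat_lit 19180))
    (.leaf (nat_lit 13034))) (.leaf (nat_lit 30549)))) (.node (.node (.node (.leaf (nat_lit 24303))
    (.leaf (nat_lit 5760))) (.leaf (nat_lit 25863))) (.node (.node (.leaf (nat_lit 32120)) (.leaf
    (nat_lit 30070))) (.leaf (nat_lit 31100)))))))))

/-- Certificate data. -/
def tQ_C : TC.Cert := ⟨6, 63, 9, 511, 1486373390087298562220836320735856039100928, 0, tQ_par, tQ_fact, tQ_just, tQ_rel, 16⟩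

/-- Certificate data. -/
def tQ_rs : List (List ℕ) := [[1, 1, 1, 1], [3, 3, 3, 3], [5, 5, 5, 5], [1, 3, 2, 4], [1, 5, 2, 6], [3, 5, 4, 6]]

/-- Certificate data. -/
def tQ_gl : List ℕ := [1, 16387, 32773]

theorem tQ_h1 : allB tQ_C.factChk 192 = true := by decide +kernel

theorem tQ_h2 : tQ_C.finChk 192 64 tQ_lv tQ_tb tQ_gl = true := by decide +kernel

theorem tQ_h3 : TC.relChk tQ_C.ivc tQ_rs tQ_C.rel tQ_rc tQ_C.nrel = true := by decide +kernel

/-- Certificate data. -/
def tB_par : Trie :=
    (.node (.node (.node (.node (.node (.leaf (nat_lit 0)) (.leaf (nat_lit 1032))) (.node (.leaf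
    (nat_lit 266)) (.leaf (nat_lit 2568)))) (.node (.node (.leaf (nat_lit 10)) (.leaf (nat_lit
    1543))) (.leaf (nat_lit 522)))) (.node (.node (.node (.leaf (nat_lit 8)) (.leaf (nat_lit
    1287))) (.leaf (nat_lit 271))) (.node (.node (.leaf (nat_lit 15)) (.leaf (nat_lit 1550)))
    (.leaf (nat_lit 527))))) (.node (.node (.node (.node (.leaf (nat_lit 7)) (.leaf (nat_lit
    1038))) (.leaf (nat_lit 270))) (.node (.node (.leaf (nat_lit 14)) (.leaf (nat_lit 1544)))
    (.leaf (nat_lit 526)))) (.node (.node (.node (.leaf (nat_lit 9)) (.leaf (nat_lit 1289))) (.leaf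
    (nat_lit 521))) (.node (.node (.leaf (nat_lit 265)) (.leaf (nat_lit 1806))) (.leaf (nat_lit
    782))))))

/-- Certificate data. -/
def tB_fact : Trie :=
    (.node (.node (.node (.node (.node (.node (.node (.node (.leaf (nat_lit 1)) (.leaf (nat_lit
    127241))) (.node (.leaf (nat_lit 84483)) (.leaf (nat_lit 202769)))) (.node (.node (.leaf
    (nat_lit 49167)) (.leaf (nat_lit 169224))) (.leaf (nat_lit 109841)))) (.node (.node (.node
    (.leaf (nat_lit 16912)) (.leaf (nat_lit 119559))) (.leaf (nat_lit 44039))) (.node (.node (.leaf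
    (nat_lit 67586)) (.leaf (nat_lit 193802))) (.leaf (nat_lit 132104))))) (.node (.node (.node
    (.node (.leaf (nat_lit 8451)) (.leaf (nat_lit 152067))) (.leaf (nat_lit 60167))) (.node (.node
    (.leaf (nat_lit 57609)) (.leaf (nat_lit 181774))) (.leaf (nat_lit 118289)))) (.node (.node
    (.node (.leaf (nat_lit 32778)) (.leaf (nat_lit 168966))) (.leaf (nat_lit 101392))) (.node
    (.node (.leaf (nat_lit 76034)) (.leaf (nat_lit 202753))) (.leaf (nat_lit 140302)))))) (.node
    (.node (.node (.node (.node (.leaf (nat_lit 17)) (.leaf (nat_lit 102919))) (.leaf (nat_lit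
    84497))) (.node (.node (.leaf (nat_lit 50185)) (.leaf (nat_lit 177413))) (.leaf (nat_lit
    118275)))) (.node (.node (.node (.leaf (nat_lit 25348)) (.leaf (nat_lit 160528))) (.leaf
    (nat_lit 42246))) (.node (.node (.leaf (nat_lit 67600)) (.leaf (nat_lit 194320))) (.leaf
    (nat_lit 135173))))) (.node (.node (.node (.node (.leaf (nat_lit 8712)) (.leaf (nat_lit
    152081))) (.leaf (nat_lit 92945))) (.node (.node (.leaf (nat_lit 59141)) (.leaf (nat_lit
    194306))) (.leaf (nat_lit 126726)))) (.node (.node (.node (.leaf (nat_lit 33797)) (.leaf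
    (nat_lit 168976))) (.leaf (nat_lit 109826))) (.node (.node (.leaf (nat_lit 76049)) (.leaf
    (nat_lit 169994))) (.leaf (nat_lit 143622))))))) (.node (.node (.node (.node (.node (.node
    (.leaf (nat_lit 5)) (.leaf (nat_lit 124175))) (.leaf (nat_lit 84485))) (.node (.node (.leaf
    (nat_lit 50689)) (.leaf (nat_lit 177411))) (.leaf (nat_lit 93706)))) (.node (.node (.node
    (.leaf (nat_lit 24585)) (.leaf (nat_lit 144143))) (.leaf (nat_lit 101381))) (.node (.node
    (.leaf (nat_lit 59407)) (.leaf (nat_lit 54030))) (.leaf (nat_lit 135169))))) (.node (.node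
    (.node (.node (.leaf (nat_lit 8465)) (.leaf (nat_lit 102414))) (.leaf (nat_lit 92933))) (.node
    (.node (.leaf (nat_lit 59140)) (.leaf (nat_lit 120584))) (.leaf (nat_lit 85768)))) (.node
    (.node (.node (.leaf (nat_lit 33795)) (.leaf (nat_lit 95246))) (.leaf (nat_lit 107022))) (.node
    (.node (.leaf (nat_lit 76035)) (.leaf (nat_lit 112649))) (.leaf (nat_lit 141320)))))) (.node
    (.node (.node (.node (.node (.leaf (nat_lit 8450)) (.leaf (nat_lit 152070))) (.leaf (nat_lit
    92929))) (.node (.node (.leaf (nat_lit 50704)) (.leaf (nat_lit 177424))) (.leaf (nat_lit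
    118277)))) (.node (.node (.node (.leaf (nat_lit 25360)) (.leaf (nat_lit 165383))) (.leaf
    (nat_lit 42256))) (.node (.node (.leaf (nat_lit 73998)) (.leaf (nat_lit 199176))) (.leaf
    (nat_lit 135184))))) (.node (.node (.node (.node (.leaf (nat_lit 16899)) (.leaf (nat_lit
    160513))) (.leaf (nat_lit 101378))) (.node (.node (.leaf (nat_lit 59153)) (.leaf (nat_lit
    193033))) (.leaf (nat_lit 126736)))) (.node (.node (.node (.leaf (nat_lit 33809)) (.leaf
    (nat_lit 168977))) (.leaf (nat_lit 109827))) (.node (.node (.leaf (nat_lit 59914)) (.leaf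
    (nat_lit 200719))) (.leaf (nat_lit 143632)))))))) (.node (.node (.node (.node (.node (.node
    (.node (.leaf (nat_lit 3)) (.leaf (nat_lit 45322))) (.node (.leaf (nat_lit 83977)) (.leaf
    (nat_lit 200206)))) (.node (.node (.leaf (nat_lit 26122)) (.leaf (nat_lit 177409))) (.leaf
    (nat_lit 115215)))) (.node (.node (.node (.leaf (nat_lit 16913)) (.leaf (nat_lit 127754)))
    (.leaf (nat_lit 93199))) (.node (.node (.leaf (nat_lit 67587)) (.leaf (nat_lit 161280))) (.leaf
    (nat_lit 77832))))) (.node (.node (.node (.node (.leaf (nat_lit 8464)) (.leaf (nat_lit 78346)))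
    (.leaf (nat_lit 27400))) (.node (.node (.leaf (nat_lit 59137)) (.leaf (nat_lit 190222))) (.leaf
    (nat_lit 123662)))) (.node (.node (.node (.leaf (nat_lit 33794)) (.leaf (nat_lit 136201)))
    (.leaf (nat_lit 101393))) (.node (.node (.leaf (nat_lit 76038)) (.leaf (nat_lit 202755)))
    (.leaf (nat_lit 110856)))))) (.node (.node (.node (.node (.node (.leaf (nat_lit 8199)) (.leaf
    (nat_lit 152066))) (.leaf (nat_lit 90633))) (.node (.node (.leaf (nat_lit 50693)) (.leaf
    (nat_lit 176655))) (.leaf (nat_lit 117769)))) (.node (.node (.node (.leaf (nat_lit 25349))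
    (.leaf (nat_lit 160529))) (.leaf (nat_lit 42243))) (.node (.node (.leaf (nat_lit 67601)) (.leaf
    (nat_lit 194321))) (.leaf (nat_lit 110602))))) (.node (.node (.node (.node (.leaf (nat_lit
    16897)) (.leaf (nat_lit 156937))) (.leaf (nat_lit 98826))) (.node (.node (.leaf (nat_lit
    59152)) (.leaf (nat_lit 194310))) (.leaf (nat_lit 126723)))) (.node (.node (.node (.leaf
    (nat_lit 33808)) (.leaf (nat_lit 111631))) (.leaf (nat_lit 109830))) (.node (.node (.leaf
    (nat_lit 82191)) (.leaf (nat_lit 174606))) (.leaf (nat_lit 143619))))))) (.node (.node (.node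
    (.node (.node (.node (.leaf (nat_lit 16)) (.leaf (nat_lit 148743))) (.leaf (nat_lit 84496)))
    (.node (.node (.leaf (nat_lit 50691)) (.leaf (nat_lit 79113))) (.leaf (nat_lit 118273))))
    (.node (.node (.node (.leaf (nat_lit 25345)) (.leaf (nat_lit 160517))) (.leaf (nat_lit 42242)))
    (.node (.node (.leaf (nat_lit 67589)) (.leaf (nat_lit 79631))) (.leaf (nat_lit 135171)))))
    (.node (.node (.node (.node (.leaf (nat_lit 16392)) (.leaf (nat_lit 152080))) (.leaf (nat_lit
    92944))) (.node (.node (.leaf (nat_lit 26375)) (.leaf (nat_lit 193288))) (.leaf (nat_lit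
    126722)))) (.node (.node (.node (.leaf (nat_lit 25615)) (.leaf (nat_lit 168963))) (.leaf
    (nat_lit 68872))) (.node (.node (.leaf (nat_lit 76048)) (.leaf (nat_lit 202757))) (.leaf
    (nat_lit 143618)))))) (.node (.node (.node (.node (.node (.leaf (nat_lit 8454)) (.leaf (nat_lit
    70158))) (.leaf (nat_lit 92932))) (.node (.node (.leaf (nat_lit 50705)) (.leaf (nat_lit
    177425))) (.leaf (nat_lit 118288)))) (.node (.node (.node (.leaf (nat_lit 25361)) (.leaf
    (nat_lit 168962))) (.leaf (nat_lit 42257))) (.node (.node (.leaf (nat_lit 35080)) (.leaf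
    (nat_lit 129032))) (.leaf (nat_lit 135185))))) (.node (.node (.node (.node (.leaf (nat_lit
    16901)) (.leaf (nat_lit 160516))) (.leaf (nat_lit 101379))) (.node (.node (.leaf (nat_lit
    65802)) (.leaf (nat_lit 194307))) (.leaf (nat_lit 126737)))) (.node (.node (.node (.leaf
    (nat_lit 40974)) (.leaf (nat_lit 173576))) (.leaf (nat_lit 109840))) (.node (.node (.leaf
    (nat_lit 84481)) (.leaf (nat_lit 202768))) (.leaf (nat_lit 143633)))))))))

/-- Certificate data. -/
def tB_just : Trie :=
    (.node (.node (.node (.node (.node (.node (.node (.node (.leaf (nat_lit 1)) (.leaf (nat_lit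
    240103605447884830))) (.node (.leaf (nat_lit 140922738884935698)) (.leaf (nat_lit
    813024424361988)))) (.node (.node (.leaf (nat_lit 0)) (.leaf (nat_lit 661077071364105))) (.leaf
    (nat_lit 407613871357960)))) (.node (.node (.node (.leaf (nat_lit 63896228593667)) (.leaf
    (nat_lit 227787039402295321))) (.leaf (nat_lit 69857037479247900))) (.node (.node (.leaf
    (nat_lit 105861387544363025)) (.leaf (nat_lit 100759164088155023671325))) (.leaf (nat_lit
    0))))) (.node (.node (.node (.node (.leaf (nat_lit 5770261271954063367)) (.leaf (nat_lit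
    151222447782014222343))) (.leaf (nat_lit 90125366106193945))) (.node (.node (.leaf (nat_lit 0))
    (.leaf (nat_lit 0))) (.leaf (nat_lit 438460326477828)))) (.node (.node (.node (.leaf (nat_lit
    0)) (.leaf (nat_lit 337927395489284102))) (.leaf (nat_lit 350327597563907))) (.node (.node
    (.leaf (nat_lit 125085313268908037)) (.leaf (nat_lit 410106210684174346))) (.leaf (nat_lit
    0)))))) (.node (.node (.node (.node (.node (.leaf (nat_lit 2203318353924)) (.leaf (nat_lit
    355172320673823))) (.leaf (nat_lit 279821414432772))) (.node (.node (.leaf (nat_lit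
    75514669049249815)) (.leaf (nat_lit 183399119226247839756))) (.leaf (nat_lit
    222115384764071954)))) (.node (.node (.node (.leaf (nat_lit 40539152630087694)) (.leaf (nat_lit
    632352330088464))) (.leaf (nat_lit 180494321282383878))) (.node (.node (.leaf (nat_lit
    218128504193027)) (.leaf (nat_lit 773364696350723))) (.leaf (nat_lit 129191502325257338892)))))
    (.node (.node (.node (.node (.leaf (nat_lit 22089016934409)) (.leaf (nat_lit 588285965631496)))
    (.leaf (nat_lit 310667869552644))) (.node (.node (.leaf (nat_lit 48512806320253173775)) (.leaf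
    (nat_lit 384370934150266885))) (.leaf (nat_lit 240101264690708486)))) (.node (.node (.node
    (.leaf (nat_lit 7873394395656432252223508)) (.leaf (nat_lit 685231967436803))) (.leaf (nat_lit
    206251570868977669))) (.node (.node (.leaf (nat_lit 248974959312904)) (.leaf (nat_lit
    88583091525848712675357))) (.leaf (nat_lit 274010332140339206))))))) (.node (.node (.node
    (.node (.node (.node (.leaf (nat_lit 1)) (.leaf (nat_lit 246010242041839635))) (.leaf (nat_lit
    18915783190088032635453464))) (.node (.node (.leaf (nat_lit 75519140110204950)) (.leaf (nat_lit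
    358200268191629323))) (.leaf (nat_lit 155438796337512469)))) (.node (.node (.node (.leaf
    (nat_lit 0)) (.leaf (nat_lit 292231627814404131))) (.leaf (nat_lit
    23923008407742044376006676))) (.node (.node (.leaf (nat_lit 95877821964156947)) (.leaf (nat_lit
    742595550642178))) (.leaf (nat_lit 252314695686619146))))) (.node (.node (.node (.node (.leaf
    (nat_lit 28643137028104)) (.leaf (nat_lit 297843277464535072))) (.leaf (nat_lit
    82012869780952055823))) (.node (.node (.leaf (nat_lit 90109723835301902)) (.leaf (nat_lit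
    222122596014161946))) (.leaf (nat_lit 140929709616857114)))) (.node (.node (.node (.leaf
    (nat_lit 54050003051806738)) (.leaf (nat_lit 165653714626084896))) (.leaf (nat_lit 0))) (.node
    (.node (.leaf (nat_lit 64051562182554681351)) (.leaf (nat_lit 206329322661937182))) (.leaf
    (nat_lit 535148630245385)))))) (.node (.node (.node (.node (.node (.leaf (nat_lit
    11261245336518661)) (.leaf (nat_lit 295362938146062342))) (.leaf (nat_lit 155434157772832781)))
    (.node (.node (.leaf (nat_lit 156435593953283)) (.leaf (nat_lit 716078422556675))) (.leaf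
    (nat_lit 29813857941084137159262232)))) (.node (.node (.node (.leaf (nat_lit 90336047267856))
    (.leaf (nat_lit 0))) (.leaf (nat_lit 376767416238083))) (.node (.node (.leaf (nat_lit 0))
    (.leaf (nat_lit 0))) (.leaf (nat_lit 508966509608963))))) (.node (.node (.node (.node (.leaf
    (nat_lit 24778692828004363)) (.leaf (nat_lit 317870027065982989))) (.leaf (nat_lit
    173448625001791505))) (.node (.node (.leaf (nat_lit 182875412627460)) (.leaf (nat_lit
    384377204802519070))) (.leaf (nat_lit 482526690934787)))) (.node (.node (.node (.leaf (nat_lit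
    112369229496328)) (.leaf (nat_lit 667605421654024))) (.leaf (nat_lit 105608686383027978247)))
    (.node (.node (.leaf (nat_lit 90109904223928341)) (.leaf (nat_lit 425140357156765731))) (.leaf
    (nat_lit 553032874065923)))))))) (.node (.node (.node (.node (.node (.node (.node (.leaf
    (nat_lit 1)) (.leaf (nat_lit 47312468142008327012381))) (.node (.leaf (nat_lit
    140913818237861911)) (.leaf (nat_lit 413844223801098272)))) (.node (.node (.leaf (nat_lit
    40539272889171989)) (.leaf (nat_lit 358187074052096010))) (.leaf (nat_lit 0)))) (.node (.node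
    (.node (.leaf (nat_lit 59489592147972)) (.leaf (nat_lit 288801138650841122))) (.leaf (nat_lit
    161307817607888915))) (.node (.node (.leaf (nat_lit 105872382660640786)) (.leaf (nat_lit
    198123055544082366490))) (.leaf (nat_lit 245057949138953))))) (.node (.node (.node (.node
    (.leaf (nat_lit 37456409919491)) (.leaf (nat_lit 66839167885779098992673))) (.leaf (nat_lit
    40583571181862939))) (.node (.node (.leaf (nat_lit 90098728719024141)) (.leaf (nat_lit 0)))
    (.leaf (nat_lit 0)))) (.node (.node (.node (.leaf (nat_lit 54045605005295633)) (.leaf (nat_lit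
    252363400615755812))) (.leaf (nat_lit 345920961118216))) (.node (.node (.leaf (nat_lit
    125091910338674694)) (.leaf (nat_lit 410119404823707659))) (.leaf (nat_lit
    263954194497732634)))))) (.node (.node (.node (.node (.node (.leaf (nat_lit 0)) (.leaf (nat_lit
    295351943029784581))) (.leaf (nat_lit 0))) (.node (.node (.leaf (nat_lit
    10137468780334017505787928)) (.leaf (nat_lit 365511827242811411))) (.leaf (nat_lit
    222106412577390615)))) (.node (.node (.node (.leaf (nat_lit 23098973642813603855)) (.leaf
    (nat_lit 627945693642756))) (.leaf (nat_lit 92419848617475702791))) (.node (.node (.leaf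
    (nat_lit 213721867747336)) (.leaf (nat_lit 760144787013640))) (.leaf (nat_lit
    54066265326255664857117))))) (.node (.node (.node (.node (.leaf (nat_lit 24769896734982154))
    (.leaf (nat_lit 0))) (.leaf (nat_lit 0))) (.node (.node (.leaf (nat_lit 187282049073168))
    (.leaf (nat_lit 384375332196777990))) (.leaf (nat_lit 122936352048882647047)))) (.node (.node
    (.node (.leaf (nat_lit 116775865942019)) (.leaf (nat_lit 264134815052398627))) (.leaf (nat_lit
    206258167938744326))) (.node (.node (.leaf (nat_lit 0)) (.leaf (nat_lit 362242266208862240)))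
    (.leaf (nat_lit 140289913421184630791))))))) (.node (.node (.node (.node (.node (.node (.leaf
    (nat_lit 6609954799619)) (.leaf (nat_lit 0))) (.leaf (nat_lit 284228050878467))) (.node (.node
    (.leaf (nat_lit 75523538156716050)) (.leaf (nat_lit 125136788451950622))) (.leaf (nat_lit
    222110986717560854)))) (.node (.node (.node (.leaf (nat_lit 40534754583576589)) (.leaf (nat_lit
    165185649583891677199))) (.leaf (nat_lit 180487724212617221))) (.node (.node (.leaf (nat_lit
    14838321231084790686810132)) (.leaf (nat_lit 131322786898706451))) (.leaf (nat_lit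
    252325690802896907))))) (.node (.node (.node (.node (.leaf (nat_lit 0)) (.leaf (nat_lit
    601505874968579))) (.leaf (nat_lit 315074505998352))) (.node (.node (.leaf (nat_lit
    40556933794693145)) (.leaf (nat_lit 751103880855561))) (.leaf (nat_lit 240096866644197381))))
    (.node (.node (.node (.leaf (nat_lit 46241271471341587)) (.leaf (nat_lit
    173023331395710484487))) (.leaf (nat_lit 105888145190617114))) (.node (.node (.leaf (nat_lit
    257788232204291)) (.leaf (nat_lit 209981743767719510028))) (.leaf (nat_lit
    273999337024061445)))))) (.node (.node (.node (.node (.node (.leaf (nat_lit 11265643383029766))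
    (.leaf (nat_lit 276416153776226336))) (.leaf (nat_lit 155438555819343886))) (.node (.node
    (.leaf (nat_lit 152028957507588)) (.leaf (nat_lit 711671786110980))) (.leaf (nat_lit
    442866962923523)))) (.node (.node (.node (.leaf (nat_lit 85929410822148)) (.leaf (nat_lit
    337922997442772997))) (.leaf (nat_lit 367954143346696))) (.node (.node (.leaf (nat_lit
    54067852935888922)) (.leaf (nat_lit 469959616626697))) (.leaf (nat_lit 504559873163268)))))
    (.node (.node (.node (.node (.leaf (nat_lit 12687772746063806476)) (.leaf (nat_lit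
    317881022182260750))) (.leaf (nat_lit 173453023048302610))) (.node (.node (.leaf (nat_lit 0))
    (.leaf (nat_lit 196804675170335981575))) (.leaf (nat_lit 473713418043400)))) (.node (.node
    (.node (.leaf (nat_lit 0)) (.leaf (nat_lit 0))) (.leaf (nat_lit 416427144249347))) (.node
    (.node (.leaf (nat_lit 140918340838424598)) (.leaf (nat_lit 817431060807683))) (.leaf (nat_lit
    544219601174536)))))))))

/-- Certificate data. -/
def tB_rel : Trie :=
    (.node (.node (.node (.node (.node (.node (.leaf (nat_lit 0)) (.leaf (nat_lit 151652618)))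
    (.leaf (nat_lit 168036868))) (.node (.leaf (nat_lit 117508098)) (.leaf (nat_lit 235407879))))
    (.node (.node (.leaf (nat_lit 134481669)) (.leaf (nat_lit 167840258))) (.node (.leaf (nat_lit
    151259395)) (.leaf (nat_lit 118032137))))) (.node (.node (.node (.node (.leaf (nat_lit 131601))
    (.leaf (nat_lit 134809609))) (.leaf (nat_lit 2821389820297990))) (.node (.leaf (nat_lit
    30132275206)) (.leaf (nat_lit 168234504)))) (.node (.node (.leaf (nat_lit 65809)) (.leaf
    (nat_lit 2816961725991430))) (.node (.leaf (nat_lit 197392)) (.leaf (nat_lit 134874894))))))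
    (.node (.node (.node (.node (.node (.leaf (nat_lit 263184)) (.leaf (nat_lit 67701263))) (.leaf
    (nat_lit 168362767))) (.node (.leaf (nat_lit 117770244)) (.leaf (nat_lit 151456007)))) (.node
    (.node (.leaf (nat_lit 25904416516)) (.leaf (nat_lit 168364553))) (.node (.leaf (nat_lit
    38755959814)) (.leaf (nat_lit 526344))))) (.node (.node (.node (.leaf (nat_lit 134350593))
    (.leaf (nat_lit 251922698))) (.node (.leaf (nat_lit 151128322)) (.leaf (nat_lit
    7739649165066)))) (.node (.node (.leaf (nat_lit 460551)) (.leaf (nat_lit 151521544))) (.node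
    (.leaf (nat_lit 167905793)) (.leaf (nat_lit 8839177570314)))))))

/-- Certificate data. -/
def tB_rc : Trie :=
    (.node (.node (.node (.node (.node (.node (.leaf (nat_lit 34)) (.leaf (nat_lit 131094))) (.leaf
    (nat_lit 15))) (.node (.leaf (nat_lit 262145)) (.leaf (nat_lit 26)))) (.node (.node (.leaf
    (nat_lit 3)) (.leaf (nat_lit 393228))) (.node (.leaf (nat_lit 131080)) (.leaf (nat_lit 20)))))
    (.node (.node (.node (.node (.leaf (nat_lit 33)) (.leaf (nat_lit 131093))) (.leaf (nat_lit
    17))) (.node (.leaf (nat_lit 393221)) (.leaf (nat_lit 262170)))) (.node (.node (.leaf (nat_lit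
    262176)) (.leaf (nat_lit 655377))) (.node (.leaf (nat_lit 262174)) (.leaf (nat_lit 393242))))))
    (.node (.node (.node (.node (.node (.leaf (nat_lit 31)) (.leaf (nat_lit 29))) (.leaf (nat_lit
    393244))) (.node (.leaf (nat_lit 262147)) (.leaf (nat_lit 131092)))) (.node (.node (.leaf
    (nat_lit 131077)) (.leaf (nat_lit 22))) (.node (.leaf (nat_lit 11)) (.leaf (nat_lit 19)))))
    (.node (.node (.node (.leaf (nat_lit 1)) (.leaf (nat_lit 131101))) (.node (.leaf (nat_lit 7))
    (.leaf (nat_lit 24)))) (.node (.node (.leaf (nat_lit 18)) (.leaf (nat_lit 21))) (.node (.leaf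
    (nat_lit 131084)) (.leaf (nat_lit 131097)))))))

/-- Certificate data. -/
def tB_lv : Trie :=
    (.node (.node (.node (.node (.node (.leaf (nat_lit 0)) (.leaf (nat_lit 16))) (.leaf (nat_lit
    8))) (.node (.node (.leaf (nat_lit 4)) (.leaf (nat_lit 20))) (.leaf (nat_lit 12)))) (.node
    (.node (.node (.leaf (nat_lit 2)) (.leaf (nat_lit 18))) (.leaf (nat_lit 10))) (.node (.node
    (.leaf (nat_lit 6)) (.leaf (nat_lit 23))) (.leaf (nat_lit 14))))) (.node (.node (.node (.node
    (.leaf (nat_lit 1)) (.leaf (nat_lit 17))) (.leaf (nat_lit 9))) (.node (.node (.leaf (nat_lit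
    5)) (.leaf (nat_lit 21))) (.leaf (nat_lit 13)))) (.node (.node (.node (.leaf (nat_lit 3))
    (.leaf (nat_lit 19))) (.leaf (nat_lit 11))) (.node (.node (.leaf (nat_lit 7)) (.leaf (nat_lit
    24))) (.leaf (nat_lit 15))))))

/-- Certificate data. -/
def tB_tb : Trie :=
    (.node (.node (.node (.node (.node (.node (.node (.node (.leaf (nat_lit 0)) (.leaf (nat_lit
    607))) (.node (.leaf (nat_lit 8424)) (.leaf (nat_lit 7)))) (.node (.node (.leaf (nat_lit 4194))
    (.leaf (nat_lit 6420))) (.node (.leaf (nat_lit 1572)) (.leaf (nat_lit 4203))))) (.node (.node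
    (.node (.leaf (nat_lit 8420)) (.leaf (nat_lit 2622))) (.node (.leaf (nat_lit 6839)) (.leaf
    (nat_lit 8429)))) (.node (.node (.leaf (nat_lit 4)) (.leaf (nat_lit 3684))) (.leaf (nat_lit
    10547))))) (.node (.node (.node (.node (.leaf (nat_lit 4193)) (.leaf (nat_lit 6890))) (.node
    (.leaf (nat_lit 522)) (.leaf (nat_lit 4201)))) (.node (.node (.leaf (nat_lit 8422)) (.leaf
    (nat_lit 3136))) (.node (.leaf (nat_lit 5250)) (.leaf (nat_lit 8431))))) (.node (.node (.node
    (.leaf (nat_lit 2)) (.leaf (nat_lit 9487))) (.node (.leaf (nat_lit 2273)) (.leaf (nat_lit 9))))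
    (.node (.node (.leaf (nat_lit 4198)) (.leaf (nat_lit 12156))) (.leaf (nat_lit 2096)))))) (.node
    (.node (.node (.node (.node (.leaf (nat_lit 2099)) (.leaf (nat_lit 1179))) (.node (.leaf
    (nat_lit 10545)) (.leaf (nat_lit 2107)))) (.node (.node (.leaf (nat_lit 6302)) (.leaf (nat_lit
    5940))) (.node (.leaf (nat_lit 3144)) (.leaf (nat_lit 6323))))) (.node (.node (.node (.leaf
    (nat_lit 10543)) (.leaf (nat_lit 8944))) (.node (.leaf (nat_lit 2720)) (.leaf (nat_lit
    10553)))) (.node (.node (.leaf (nat_lit 2104)) (.leaf (nat_lit 5794))) (.leaf (nat_lit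
    8498))))) (.node (.node (.node (.node (.leaf (nat_lit 6301)) (.leaf (nat_lit 12153))) (.node
    (.leaf (nat_lit 4719)) (.leaf (nat_lit 6321)))) (.node (.node (.leaf (nat_lit 10550)) (.leaf
    (nat_lit 1590))) (.node (.leaf (nat_lit 7370)) (.leaf (nat_lit 10557))))) (.node (.node (.node
    (.leaf (nat_lit 2100)) (.leaf (nat_lit 8469))) (.node (.leaf (nat_lit 11073)) (.leaf (nat_lit
    2109)))) (.node (.node (.leaf (nat_lit 6308)) (.leaf (nat_lit 6970))) (.leaf (nat_lit 49)))))))
    (.node (.node (.node (.node (.node (.node (.leaf (nat_lit 1050)) (.leaf (nat_lit 3708))) (.node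
    (.leaf (nat_lit 9485)) (.leaf (nat_lit 1057)))) (.node (.node (.leaf (nat_lit 5248)) (.leaf
    (nat_lit 4366))) (.node (.leaf (nat_lit 5770)) (.leaf (nat_lit 5257))))) (.node (.node (.node
    (.leaf (nat_lit 9483)) (.leaf (nat_lit 6836))) (.node (.leaf (nat_lit 7893)) (.leaf (nat_lit
    9495)))) (.node (.node (.leaf (nat_lit 1054)) (.leaf (nat_lit 635))) (.leaf (nat_lit 11612)))))
    (.node (.node (.node (.node (.leaf (nat_lit 5246)) (.leaf (nat_lit 4882))) (.node (.leaf
    (nat_lit 23)) (.leaf (nat_lit 5255)))) (.node (.node (.leaf (nat_lit 9488)) (.leaf (nat_lit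
    7362))) (.node (.leaf (nat_lit 4227)) (.leaf (nat_lit 9497))))) (.node (.node (.node (.leaf
    (nat_lit 1052)) (.leaf (nat_lit 11130))) (.node (.leaf (nat_lit 6408)) (.leaf (nat_lit 1059))))
    (.node (.node (.leaf (nat_lit 5252)) (.leaf (nat_lit 11082))) (.leaf (nat_lit 6298)))))) (.node
    (.node (.node (.node (.node (.leaf (nat_lit 3140)) (.leaf (nat_lit 5828))) (.node (.leaf
    (nat_lit 11611)) (.leaf (nat_lit 3149)))) (.node (.node (.leaf (nat_lit 7368)) (.leaf (nat_lit
    3923))) (.node (.leaf (nat_lit 2121)) (.leaf (nat_lit 7377))))) (.node (.node (.node (.leaf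
    (nat_lit 11609)) (.leaf (nat_lit 10085))) (.node (.leaf (nat_lit 11605)) (.leaf (nat_lit
    11625)))) (.node (.node (.leaf (nat_lit 3146)) (.leaf (nat_lit 1219))) (.leaf (nat_lit
    9565))))) (.node (.node (.node (.node (.leaf (nat_lit 7366)) (.leaf (nat_lit 11105))) (.node
    (.leaf (nat_lit 10540)) (.leaf (nat_lit 7375)))) (.node (.node (.leaf (nat_lit 11614)) (.leaf
    (nat_lit 65))) (.node (.leaf (nat_lit 6347)) (.leaf (nat_lit 11627))))) (.node (.node (.node
    (.leaf (nat_lit 3142)) (.leaf (nat_lit 12162))) (.node (.leaf (nat_lit 10071)) (.leaf (nat_lit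
    3151)))) (.node (.node (.leaf (nat_lit 7372)) (.leaf (nat_lit 4966))) (.leaf (nat_lit
    1602)))))))) (.node (.node (.node (.node (.node (.node (.node (.leaf (nat_lit 525)) (.leaf
    (nat_lit 9491))) (.node (.leaf (nat_lit 8953)) (.leaf (nat_lit 531)))) (.node (.node (.leaf
    (nat_lit 4724)) (.leaf (nat_lit 2289))) (.node (.leaf (nat_lit 3664)) (.leaf (nat_lit 4729)))))
    (.node (.node (.node (.leaf (nat_lit 8951)) (.leaf (nat_lit 4716))) (.node (.leaf (nat_lit
    8419)) (.leaf (nat_lit 8957)))) (.node (.node (.leaf (nat_lit 527)) (.leaf (nat_lit 11623)))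
    (.leaf (nat_lit 7936))))) (.node (.node (.node (.node (.leaf (nat_lit 4721)) (.leaf (nat_lit
    2818))) (.node (.leaf (nat_lit 1049)) (.leaf (nat_lit 4727)))) (.node (.node (.leaf (nat_lit
    8954)) (.leaf (nat_lit 5242))) (.node (.leaf (nat_lit 11079)) (.leaf (nat_lit 8959))))) (.node
    (.node (.node (.leaf (nat_lit 528)) (.leaf (nat_lit 621))) (.node (.leaf (nat_lit 4341)) (.leaf
    (nat_lit 533)))) (.node (.node (.leaf (nat_lit 4723)) (.leaf (nat_lit 10021))) (.leaf (nat_lit
    4190)))))) (.node (.node (.node (.node (.node (.leaf (nat_lit 2727)) (.leaf (nat_lit 8427)))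
    (.node (.leaf (nat_lit 11080)) (.leaf (nat_lit 2733)))) (.node (.node (.leaf (nat_lit 6844))
    (.leaf (nat_lit 5499))) (.node (.leaf (nat_lit 10010)) (.leaf (nat_lit 6849))))) (.node (.node
    (.node (.leaf (nat_lit 11074)) (.leaf (nat_lit 63))) (.node (.leaf (nat_lit 8947)) (.leaf
    (nat_lit 11085)))) (.node (.node (.leaf (nat_lit 2729)) (.leaf (nat_lit 10555))) (.leaf
    (nat_lit 4934))))) (.node (.node (.node (.node (.leaf (nat_lit 6841)) (.leaf (nat_lit 11616)))
    (.node (.leaf (nat_lit 9478)) (.leaf (nat_lit 6847)))) (.node (.node (.leaf (nat_lit 11076))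
    (.leaf (nat_lit 7940))) (.node (.leaf (nat_lit 12149)) (.leaf (nat_lit 11087))))) (.node (.node
    (.node (.leaf (nat_lit 2730)) (.leaf (nat_lit 1205))) (.node (.leaf (nat_lit 3391)) (.leaf
    (nat_lit 2735)))) (.node (.node (.leaf (nat_lit 6843)) (.leaf (nat_lit 9547))) (.leaf (nat_lit
    8963))))))) (.node (.node (.node (.node (.node (.node (.leaf (nat_lit 1574)) (.leaf (nat_lit
    7365))) (.node (.leaf (nat_lit 10022)) (.leaf (nat_lit 1581)))) (.node (.node (.leaf (nat_lit
    5775)) (.leaf (nat_lit 3428))) (.node (.leaf (nat_lit 37)) (.leaf (nat_lit 5785))))) (.node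
    (.node (.node (.leaf (nat_lit 10012)) (.leaf (nat_lit 7890))) (.node (.leaf (nat_lit 3728))
    (.leaf (nat_lit 10025)))) (.node (.node (.leaf (nat_lit 1578)) (.leaf (nat_lit 6307))) (.leaf
    (nat_lit 2843))))) (.node (.node (.node (.node (.leaf (nat_lit 5772)) (.leaf (nat_lit 7970)))
    (.node (.leaf (nat_lit 5779)) (.leaf (nat_lit 5783)))) (.node (.node (.leaf (nat_lit 10015))
    (.leaf (nat_lit 2103))) (.node (.leaf (nat_lit 1163)) (.leaf (nat_lit 10027))))) (.node (.node
    (.node (.leaf (nat_lit 1577)) (.leaf (nat_lit 10549))) (.node (.leaf (nat_lit 7456)) (.leaf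
    (nat_lit 1583)))) (.node (.node (.leaf (nat_lit 5780)) (.leaf (nat_lit 8996))) (.leaf (nat_lit
    3139)))))) (.node (.node (.node (.node (.node (.leaf (nat_lit 3666)) (.leaf (nat_lit 10019)))
    (.node (.leaf (nat_lit 12150)) (.leaf (nat_lit 3675)))) (.node (.node (.leaf (nat_lit 7898))
    (.leaf (nat_lit 7555))) (.node (.leaf (nat_lit 593)) (.leaf (nat_lit 7903))))) (.node (.node
    (.node (.leaf (nat_lit 12144)) (.leaf (nat_lit 11602))) (.node (.leaf (nat_lit 12143)) (.leaf
    (nat_lit 12159)))) (.node (.node (.leaf (nat_lit 3672)) (.leaf (nat_lit 2821))) (.leaf (nat_lit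
    7028))))) (.node (.node (.node (.node (.leaf (nat_lit 7895)) (.leaf (nat_lit 10616))) (.node
    (.leaf (nat_lit 1622)) (.leaf (nat_lit 7901)))) (.node (.node (.leaf (nat_lit 12146)) (.leaf
    (nat_lit 4197))) (.node (.leaf (nat_lit 8961)) (.leaf (nat_lit 12161))))) (.node (.node (.node
    (.leaf (nat_lit 3669)) (.leaf (nat_lit 1747))) (.node (.leaf (nat_lit 5485)) (.leaf (nat_lit
    3677)))) (.node (.node (.leaf (nat_lit 7897)) (.leaf (nat_lit 8573))) (.leaf (nat_lit
    5245)))))))))

/-- Certificate data. -/
def tB_C : TC.Cert := ⟨5, 31, 9, 511, 1486373390087298562220836320735856039100928, 126, tB_par, tB_fact, tB_just, tB_rel, 35⟩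

/-- Certificate data. -/
def tB_rs : List (List ℕ) := [[7, 1, 8, 2], [7, 3, 8, 6], [7, 5, 8, 3, 5], [9, 1, 9, 1], [9, 3, 9, 4], [9, 5, 9, 3, 5], [10, 1, 10, 2], [10, 3, 10, 3], [10, 5, 10, 1, 4, 4, 5], [7, 7, 7], [9, 7, 9, 7], [9, 10, 9, 10], [10, 7, 10, 7, 10, 7], [7, 10, 8, 14], [3, 9, 10, 15], [3, 3, 16], [1, 1, 17]]

/-- Certificate data. -/
def tB_gl : List ℕ := [1, 6147, 12293, 18439, 24585, 30730, 36878, 43023, 49168, 55313]

theorem tB_h1 : allB tB_C.factChk 194 = true := by decide +kernel

theorem tB_h2 : tB_C.finChk 194 24 tB_lv tB_tb tB_gl = true := by decide +kernel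

theorem tB_h3 : TC.relChk tB_C.ivc tB_rs tB_C.rel tB_rc tB_C.nrel = true := by decide +kernel

/-- Certificate data. -/
def tH_par : Trie :=
    (.node (.node (.node (.leaf (nat_lit 0)) (.leaf (nat_lit 517))) (.leaf (nat_lit 259))) (.node
    (.leaf (nat_lit 13)) (.leaf (nat_lit 261))))

/-- Certificate data. -/
def tH_fact : Trie :=
    (.node (.node (.node (.node (.node (.node (.leaf (nat_lit 1)) (.leaf (nat_lit 6925))) (.node
    (.leaf (nat_lit 2318)) (.leaf (nat_lit 9229)))) (.node (.node (.leaf (nat_lit 16)) (.leaf
    (nat_lit 5127))) (.leaf (nat_lit 4624)))) (.node (.node (.node (.leaf (nat_lit 9)) (.leaf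
    (nat_lit 8709))) (.leaf (nat_lit 4609))) (.node (.node (.leaf (nat_lit 2313)) (.leaf (nat_lit
    9226))) (.leaf (nat_lit 6913))))) (.node (.node (.node (.node (.leaf (nat_lit 5)) (.leaf
    (nat_lit 6928))) (.node (.leaf (nat_lit 4355)) (.leaf (nat_lit 6927)))) (.node (.node (.leaf
    (nat_lit 2061)) (.leaf (nat_lit 8967))) (.leaf (nat_lit 4625)))) (.node (.node (.node (.leaf
    (nat_lit 14)) (.leaf (nat_lit 7171))) (.leaf (nat_lit 4618))) (.node (.node (.leaf (nat_lit
    2314)) (.leaf (nat_lit 9231))) (.leaf (nat_lit 6406)))))) (.node (.node (.node (.node (.node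
    (.leaf (nat_lit 3)) (.leaf (nat_lit 6922))) (.node (.leaf (nat_lit 2321)) (.leaf (nat_lit
    9232)))) (.node (.node (.leaf (nat_lit 17)) (.leaf (nat_lit 7177))) (.leaf (nat_lit 4621))))
    (.node (.node (.node (.leaf (nat_lit 10)) (.leaf (nat_lit 9217))) (.leaf (nat_lit 4617)))
    (.node (.node (.leaf (nat_lit 2305)) (.leaf (nat_lit 4622))) (.leaf (nat_lit 4872))))) (.node
    (.node (.node (.node (.leaf (nat_lit 7)) (.leaf (nat_lit 6929))) (.node (.leaf (nat_lit 2563))
    (.leaf (nat_lit 9233)))) (.node (.node (.leaf (nat_lit 2312)) (.leaf (nat_lit 8710))) (.leaf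
    (nat_lit 6405)))) (.node (.node (.node (.leaf (nat_lit 15)) (.leaf (nat_lit 7172))) (.leaf
    (nat_lit 2575))) (.node (.node (.leaf (nat_lit 2320)) (.leaf (nat_lit 9230))) (.leaf (nat_lit
    6926)))))))

/-- Certificate data. -/
def tH_just : Trie :=
    (.node (.node (.node (.node (.node (.node (.leaf (nat_lit 1)) (.leaf (nat_lit
    4179492805476372))) (.node (.leaf (nat_lit 1633968768352264)) (.leaf (nat_lit
    5947073711243284)))) (.node (.node (.leaf (nat_lit 1)) (.leaf (nat_lit 662976688023666712)))
    (.leaf (nat_lit 19954418188303)))) (.node (.node (.node (.leaf (nat_lit 1)) (.leaf (nat_lit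
    0))) (.leaf (nat_lit 2547727355543563))) (.node (.node (.leaf (nat_lit 1412412880388100))
    (.leaf (nat_lit 11009955100145150722076))) (.leaf (nat_lit 3814442060152849))))) (.node (.node
    (.node (.node (.leaf (nat_lit 1)) (.leaf (nat_lit 4610527133368327))) (.node (.leaf (nat_lit
    0)) (.leaf (nat_lit 5393937758093341)))) (.node (.node (.leaf (nat_lit 0)) (.leaf (nat_lit
    5110860758581274))) (.leaf (nat_lit 22716082159625)))) (.node (.node (.node (.leaf (nat_lit 1))
    (.leaf (nat_lit 3821116439330838))) (.leaf (nat_lit 2760482855518221))) (.node (.node (.leaf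
    (nat_lit 1416810926899206)) (.leaf (nat_lit 6238414227832846))) (.leaf (nat_lit
    4173290872700947)))))) (.node (.node (.node (.node (.node (.leaf (nat_lit 1)) (.leaf (nat_lit
    8002664976002752839701))) (.node (.leaf (nat_lit 14959371223049)) (.leaf (nat_lit
    6804190269734919)))) (.node (.node (.leaf (nat_lit 1)) (.leaf (nat_lit 543059551851905049)))
    (.leaf (nat_lit 54368451606476029968)))) (.node (.node (.node (.leaf (nat_lit 1)) (.leaf
    (nat_lit 5088853346156561))) (.leaf (nat_lit 2547177599729676))) (.node (.node (.leaf (nat_lit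
    1408014833876997)) (.leaf (nat_lit 5678225938382856))) (.leaf (nat_lit 2545605641699346)))))
    (.node (.node (.node (.node (.leaf (nat_lit 1)) (.leaf (nat_lit 31580894658569))) (.node (.leaf
    (nat_lit 17201344151562)) (.leaf (nat_lit 41553808719881)))) (.node (.node (.leaf (nat_lit
    1411313368760323)) (.leaf (nat_lit 752985325508493339))) (.leaf (nat_lit 0)))) (.node (.node
    (.node (.leaf (nat_lit 1)) (.leaf (nat_lit 3820566683516951))) (.leaf (nat_lit
    2054596390486030))) (.node (.node (.leaf (nat_lit 1413512392015879)) (.leaf (nat_lit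
    5948173222871048))) (.leaf (nat_lit 4176194270593032)))))))

/-- Certificate data. -/
def tH_rel : Trie :=
    (.node (.node (.node (.node (.node (.leaf (nat_lit 0)) (.leaf (nat_lit 101188359))) (.node
    (.leaf (nat_lit 266244)) (.leaf (nat_lit 67568904)))) (.node (.node (.leaf (nat_lit 219155722))
    (.leaf (nat_lit 100861188))) (.leaf (nat_lit 67701263)))) (.node (.node (.node (.leaf (nat_lit
    218696969)) (.leaf (nat_lit 135071501))) (.node (.leaf (nat_lit 67699465)) (.leaf (nat_lit
    1418391542038794)))) (.node (.node (.leaf (nat_lit 134874894)) (.leaf (nat_lit 25887507976)))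
    (.leaf (nat_lit 16548761505549))))) (.node (.node (.node (.node (.leaf (nat_lit 218631431))
    (.leaf (nat_lit 134481669))) (.node (.leaf (nat_lit 67175170)) (.leaf (nat_lit 38738790661))))
    (.node (.node (.leaf (nat_lit 218762512)) (.leaf (nat_lit 100926723))) (.leaf (nat_lit
    197392)))) (.node (.node (.node (.leaf (nat_lit 218238210)) (.leaf (nat_lit 1411790127367434)))
    (.node (.leaf (nat_lit 67765258)) (.leaf (nat_lit 168362767)))) (.node (.node (.leaf (nat_lit
    131601)) (.leaf (nat_lit 25921062409))) (.leaf (nat_lit 100730114))))))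

/-- Certificate data. -/
def tH_rc : Trie :=
    (.node (.node (.node (.node (.node (.leaf (nat_lit 36)) (.leaf (nat_lit 6))) (.node (.leaf
    (nat_lit 262167)) (.leaf (nat_lit 393223)))) (.node (.node (.leaf (nat_lit 393248)) (.leaf
    (nat_lit 393221))) (.leaf (nat_lit 21)))) (.node (.node (.node (.leaf (nat_lit 131100)) (.leaf
    (nat_lit 26))) (.node (.leaf (nat_lit 10)) (.leaf (nat_lit 262160)))) (.node (.node (.leaf
    (nat_lit 393234)) (.leaf (nat_lit 524297))) (.leaf (nat_lit 131106))))) (.node (.node (.node
    (.node (.leaf (nat_lit 131098)) (.leaf (nat_lit 7))) (.node (.leaf (nat_lit 393217)) (.leaf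
    (nat_lit 131084)))) (.node (.node (.leaf (nat_lit 131104)) (.leaf (nat_lit 4))) (.leaf (nat_lit
    262166)))) (.node (.node (.node (.leaf (nat_lit 31)) (.leaf (nat_lit 16))) (.node (.leaf
    (nat_lit 131087)) (.leaf (nat_lit 393236)))) (.node (.node (.leaf (nat_lit 25)) (.leaf (nat_lit
    524301))) (.leaf (nat_lit 393219))))))

/-- Certificate data. -/
def tH_lv : Trie :=
    (.node (.node (.node (.leaf (nat_lit 0)) (.leaf (nat_lit 4))) (.leaf (nat_lit 2))) (.node
    (.leaf (nat_lit 1)) (.leaf (nat_lit 3))))

/-- Certificate data. -/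
def tH_tb : Trie :=
    (.node (.node (.node (.node (.node (.node (.leaf (nat_lit 0)) (.leaf (nat_lit 347))) (.node
    (.leaf (nat_lit 151)) (.leaf (nat_lit 455)))) (.node (.node (.leaf (nat_lit 591)) (.leaf
    (nat_lit 17))) (.leaf (nat_lit 466)))) (.node (.node (.node (.leaf (nat_lit 586)) (.leaf
    (nat_lit 303))) (.node (.leaf (nat_lit 9)) (.leaf (nat_lit 307)))) (.node (.node (.leaf
    (nat_lit 584)) (.leaf (nat_lit 611))) (.leaf (nat_lit 451))))) (.node (.node (.node (.node
    (.leaf (nat_lit 296)) (.leaf (nat_lit 607))) (.node (.leaf (nat_lit 596)) (.leaf (nat_lit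
    148)))) (.node (.node (.leaf (nat_lit 4)) (.leaf (nat_lit 305))) (.leaf (nat_lit 157)))) (.node
    (.node (.node (.leaf (nat_lit 292)) (.leaf (nat_lit 485))) (.node (.leaf (nat_lit 299)) (.leaf
    (nat_lit 609)))) (.node (.node (.leaf (nat_lit 343)) (.leaf (nat_lit 163))) (.leaf (nat_lit
    13)))))) (.node (.node (.node (.node (.node (.leaf (nat_lit 154)) (.leaf (nat_lit 447))) (.node
    (.leaf (nat_lit 443)) (.leaf (nat_lit 615)))) (.node (.node (.leaf (nat_lit 460)) (.leaf
    (nat_lit 159))) (.leaf (nat_lit 11)))) (.node (.node (.node (.leaf (nat_lit 2)) (.leaf (nat_lit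
    174))) (.node (.leaf (nat_lit 153)) (.leaf (nat_lit 449)))) (.node (.node (.leaf (nat_lit 189))
    (.leaf (nat_lit 19))) (.leaf (nat_lit 601))))) (.node (.node (.node (.node (.leaf (nat_lit
    440)) (.leaf (nat_lit 15))) (.node (.leaf (nat_lit 336)) (.leaf (nat_lit 21)))) (.node (.node
    (.leaf (nat_lit 438)) (.leaf (nat_lit 453))) (.leaf (nat_lit 301)))) (.node (.node (.node
    (.leaf (nat_lit 166)) (.leaf (nat_lit 605))) (.leaf (nat_lit 595))) (.node (.node (.leaf
    (nat_lit 6)) (.leaf (nat_lit 309))) (.leaf (nat_lit 161)))))))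

/-- Certificate data. -/
def tH_C : TC.Cert := ⟨3, 7, 7, 127, 1486373390087298562220836320735856039100928, 247806, tH_par, tH_fact, tH_just, tH_rel, 28⟩

/-- Certificate data. -/
def tH_rs : List (List ℕ) := [[1, 3, 2, 4], [1, 5, 2, 6], [3, 5, 4, 6], [7, 3, 8, 6], [7, 5, 8, 3, 5], [9, 3, 9, 4], [9, 5, 9, 3, 5], [10, 3, 10, 3], [10, 5, 10, 1, 4, 4, 5], [7, 10, 8, 14], [3, 9, 10, 15], [3, 3, 16], [1, 1, 17], [13, 7, 13, 8], [13, 9, 13, 9], [13, 1, 13, 1], [13, 16, 13, 10], [15, 13, 15, 13, 15, 13]]

/-- Certificate data. -/
def tH_gl : List ℕ := [1, 1283, 2565, 3847, 5129, 6410, 7694, 8975, 10256, 11537, 12813]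

theorem tH_h1 : allB tH_C.factChk 52 = true := by decide +kernel

theorem tH_h2 : tH_C.finChk 52 5 tH_lv tH_tb tH_gl = true := by decide +kernel

theorem tH_h3 : TC.relChk tH_C.ivc tH_rs tH_C.rel tH_rc tH_C.nrel = true := by decide +kernel

/-- Certificate data. -/
def tM_par : Trie :=
    (.node (.node (.node (.node (.node (.node (.node (.node (.node (.leaf (nat_lit 0)) (.leaf
    (nat_lit 38407))) (.node (.leaf (nat_lit 16396)) (.leaf (nat_lit 73483)))) (.node (.node (.leaf
    (nat_lit 7944)) (.leaf (nat_lit 53511))) (.leaf (nat_lit 26892)))) (.node (.node (.node (.leaf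
    (nat_lit 3852)) (.leaf (nat_lit 44807))) (.node (.leaf (nat_lit 21259)) (.leaf (nat_lit
    87303)))) (.node (.node (.leaf (nat_lit 12040)) (.leaf (nat_lit 64012))) (.leaf (nat_lit
    33031))))) (.node (.node (.node (.node (.leaf (nat_lit 1800)) (.leaf (nat_lit 41991))) (.node
    (.leaf (nat_lit 18699)) (.leaf (nat_lit 81420)))) (.node (.node (.leaf (nat_lit 9992)) (.leaf
    (nat_lit 58380))) (.leaf (nat_lit 29708)))) (.node (.node (.node (.leaf (nat_lit 5900)) (.leaf
    (nat_lit 47880))) (.node (.leaf (nat_lit 23820)) (.leaf (nat_lit 97031)))) (.node (.node (.leaf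
    (nat_lit 14343)) (.leaf (nat_lit 68619))) (.leaf (nat_lit 35591)))))) (.node (.node (.node
    (.node (.node (.leaf (nat_lit 780)) (.leaf (nat_lit 39943))) (.node (.leaf (nat_lit 17675))
    (.leaf (nat_lit 77324)))) (.node (.node (.leaf (nat_lit 8968)) (.leaf (nat_lit 56076))) (.leaf
    (nat_lit 28172)))) (.node (.node (.node (.leaf (nat_lit 4876)) (.leaf (nat_lit 46599))) (.node
    (.leaf (nat_lit 22284)) (.leaf (nat_lit 90375)))) (.node (.node (.leaf (nat_lit 13319)) (.leaf
    (nat_lit 65804))) (.leaf (nat_lit 34312))))) (.node (.node (.node (.node (.leaf (nat_lit 2824))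
    (.leaf (nat_lit 43527))) (.node (.leaf (nat_lit 19979)) (.leaf (nat_lit 84232)))) (.node (.node
    (.leaf (nat_lit 11016)) (.leaf (nat_lit 61196))) (.leaf (nat_lit 31244)))) (.node (.node (.node
    (.leaf (nat_lit 6924)) (.leaf (nat_lit 50439))) (.leaf (nat_lit 25356))) (.node (.node (.leaf
    (nat_lit 15367)) (.leaf (nat_lit 70924))) (.leaf (nat_lit 36872))))))) (.node (.node (.node
    (.node (.node (.node (.leaf (nat_lit 264)) (.leaf (nat_lit 39431))) (.node (.leaf (nat_lit
    16908)) (.leaf (nat_lit 75531)))) (.node (.node (.leaf (nat_lit 8456)) (.leaf (nat_lit 54535)))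
    (.leaf (nat_lit 27404)))) (.node (.node (.node (.leaf (nat_lit 4364)) (.leaf (nat_lit 46087)))
    (.node (.leaf (nat_lit 21771)) (.leaf (nat_lit 88839)))) (.node (.node (.leaf (nat_lit 12552))
    (.leaf (nat_lit 65292))) (.leaf (nat_lit 33800))))) (.node (.node (.node (.node (.leaf (nat_lit
    2312)) (.leaf (nat_lit 42504))) (.node (.leaf (nat_lit 19467)) (.leaf (nat_lit 82955)))) (.node
    (.node (.leaf (nat_lit 10504)) (.leaf (nat_lit 59915))) (.leaf (nat_lit 30731)))) (.node (.node
    (.node (.leaf (nat_lit 6412)) (.leaf (nat_lit 48647))) (.leaf (nat_lit 24587))) (.node (.node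
    (.leaf (nat_lit 14855)) (.leaf (nat_lit 69643))) (.leaf (nat_lit 36360)))))) (.node (.node
    (.node (.node (.node (.leaf (nat_lit 1292)) (.leaf (nat_lit 41224))) (.node (.leaf (nat_lit
    18187)) (.leaf (nat_lit 79628)))) (.node (.node (.leaf (nat_lit 9480)) (.leaf (nat_lit 57356)))
    (.leaf (nat_lit 28939)))) (.node (.node (.node (.leaf (nat_lit 5388)) (.leaf (nat_lit 47112)))
    (.node (.leaf (nat_lit 23051)) (.leaf (nat_lit 91911)))) (.node (.node (.leaf (nat_lit 13831))
    (.leaf (nat_lit 67340))) (.leaf (nat_lit 34824))))) (.node (.node (.node (.node (.leaf (nat_lit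
    3336)) (.leaf (nat_lit 44295))) (.node (.leaf (nat_lit 20491)) (.leaf (nat_lit 85767)))) (.node
    (.node (.leaf (nat_lit 11528)) (.leaf (nat_lit 61964))) (.leaf (nat_lit 32264)))) (.node (.node
    (.node (.leaf (nat_lit 7436)) (.leaf (nat_lit 51464))) (.leaf (nat_lit 26379))) (.node (.node
    (.leaf (nat_lit 15879)) (.leaf (nat_lit 72459))) (.leaf (nat_lit 37384)))))))) (.node (.node
    (.node (.node (.node (.node (.node (.leaf (nat_lit 12)) (.leaf (nat_lit 38920))) (.node (.leaf
    (nat_lit 16652)) (.leaf (nat_lit 74252)))) (.node (.node (.leaf (nat_lit 8200)) (.leaf (nat_lit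
    53768))) (.leaf (nat_lit 27148)))) (.node (.node (.node (.leaf (nat_lit 4108)) (.leaf (nat_lit
    45063))) (.node (.leaf (nat_lit 21515)) (.leaf (nat_lit 88327)))) (.node (.node (.leaf (nat_lit
    12296)) (.leaf (nat_lit 65036))) (.leaf (nat_lit 33288))))) (.node (.node (.node (.node (.leaf
    (nat_lit 2056)) (.leaf (nat_lit 42248))) (.node (.leaf (nat_lit 18955)) (.leaf (nat_lit
    82444)))) (.node (.node (.leaf (nat_lit 10248)) (.leaf (nat_lit 58891))) (.leaf (nat_lit
    29964)))) (.node (.node (.node (.leaf (nat_lit 6156)) (.leaf (nat_lit 48391))) (.node (.leaf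
    (nat_lit 24076)) (.leaf (nat_lit 98311)))) (.node (.node (.leaf (nat_lit 14599)) (.leaf
    (nat_lit 68876))) (.leaf (nat_lit 36103)))))) (.node (.node (.node (.node (.node (.leaf
    (nat_lit 1036)) (.leaf (nat_lit 40455))) (.node (.leaf (nat_lit 17931)) (.leaf (nat_lit
    78092)))) (.node (.node (.leaf (nat_lit 9224)) (.leaf (nat_lit 57100))) (.leaf (nat_lit
    28683)))) (.node (.node (.node (.leaf (nat_lit 5132)) (.leaf (nat_lit 46856))) (.node (.leaf
    (nat_lit 22540)) (.leaf (nat_lit 91400)))) (.node (.node (.leaf (nat_lit 13575)) (.leaf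
    (nat_lit 66060))) (.leaf (nat_lit 34568))))) (.node (.node (.node (.node (.leaf (nat_lit 3080))
    (.leaf (nat_lit 43784))) (.node (.leaf (nat_lit 20235)) (.leaf (nat_lit 85255)))) (.node (.node
    (.leaf (nat_lit 11272)) (.leaf (nat_lit 61708))) (.leaf (nat_lit 31756)))) (.node (.node (.node
    (.leaf (nat_lit 7180)) (.leaf (nat_lit 50696))) (.leaf (nat_lit 25867))) (.node (.node (.leaf
    (nat_lit 15623)) (.leaf (nat_lit 71692))) (.leaf (nat_lit 37128))))))) (.node (.node (.node
    (.node (.node (.node (.leaf (nat_lit 520)) (.leaf (nat_lit 39687))) (.node (.leaf (nat_lit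
    17164)) (.leaf (nat_lit 76300)))) (.node (.node (.leaf (nat_lit 8712)) (.leaf (nat_lit 54792)))
    (.leaf (nat_lit 27916)))) (.node (.node (.node (.leaf (nat_lit 4620)) (.leaf (nat_lit 46343)))
    (.node (.leaf (nat_lit 22028)) (.leaf (nat_lit 89352)))) (.node (.node (.leaf (nat_lit 13063))
    (.leaf (nat_lit 65548))) (.leaf (nat_lit 34056))))) (.node (.node (.node (.node (.leaf (nat_lit
    2568)) (.leaf (nat_lit 43015))) (.node (.leaf (nat_lit 19723)) (.leaf (nat_lit 83724)))) (.node
    (.node (.leaf (nat_lit 10760)) (.leaf (nat_lit 60428))) (.leaf (nat_lit 30988)))) (.node (.node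
    (.node (.leaf (nat_lit 6668)) (.leaf (nat_lit 49927))) (.leaf (nat_lit 24844))) (.node (.node
    (.leaf (nat_lit 15111)) (.leaf (nat_lit 70668))) (.leaf (nat_lit 36616)))))) (.node (.node
    (.node (.node (.node (.leaf (nat_lit 1548)) (.leaf (nat_lit 41735))) (.node (.leaf (nat_lit
    18443)) (.leaf (nat_lit 80140)))) (.node (.node (.leaf (nat_lit 9736)) (.leaf (nat_lit 58124)))
    (.leaf (nat_lit 29451)))) (.node (.node (.node (.leaf (nat_lit 5644)) (.leaf (nat_lit 47624)))
    (.node (.leaf (nat_lit 23308)) (.leaf (nat_lit 94984)))) (.node (.node (.leaf (nat_lit 14087))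
    (.leaf (nat_lit 68363))) (.leaf (nat_lit 35080))))) (.node (.node (.node (.node (.leaf (nat_lit
    3592)) (.leaf (nat_lit 44551))) (.node (.leaf (nat_lit 21003)) (.leaf (nat_lit 86024)))) (.node
    (.node (.leaf (nat_lit 11784)) (.leaf (nat_lit 63755))) (.leaf (nat_lit 32775)))) (.node (.node
    (.node (.leaf (nat_lit 7692)) (.leaf (nat_lit 52487))) (.leaf (nat_lit 26635))) (.node (.node
    (.leaf (nat_lit 16140)) (.leaf (nat_lit 73227))) (.leaf (nat_lit 37640))))))))) (.node (.node
    (.node (.node (.node (.node (.node (.node (.leaf (nat_lit 11)) (.leaf (nat_lit 38664))) (.node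
    (.leaf (nat_lit 16651)) (.leaf (nat_lit 74251)))) (.node (.node (.leaf (nat_lit 8199)) (.leaf
    (nat_lit 53512))) (.leaf (nat_lit 27147)))) (.node (.node (.node (.leaf (nat_lit 4107)) (.leaf
    (nat_lit 44808))) (.node (.leaf (nat_lit 21260)) (.leaf (nat_lit 87816)))) (.node (.node (.leaf
    (nat_lit 12295)) (.leaf (nat_lit 64523))) (.leaf (nat_lit 33287))))) (.node (.node (.node
    (.node (.leaf (nat_lit 2055)) (.leaf (nat_lit 42247))) (.node (.leaf (nat_lit 18700)) (.leaf
    (nat_lit 81676)))) (.node (.node (.leaf (nat_lit 10247)) (.leaf (nat_lit 58635))) (.leaf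
    (nat_lit 29963)))) (.node (.node (.node (.leaf (nat_lit 6155)) (.leaf (nat_lit 48136))) (.node
    (.leaf (nat_lit 24075)) (.leaf (nat_lit 97032)))) (.node (.node (.leaf (nat_lit 14344)) (.leaf
    (nat_lit 68875))) (.leaf (nat_lit 35848)))))) (.node (.node (.node (.node (.node (.leaf
    (nat_lit 1035)) (.leaf (nat_lit 40199))) (.node (.leaf (nat_lit 17676)) (.leaf (nat_lit
    77836)))) (.node (.node (.leaf (nat_lit 9223)) (.leaf (nat_lit 56844))) (.leaf (nat_lit
    28428)))) (.node (.node (.node (.leaf (nat_lit 5131)) (.leaf (nat_lit 46600))) (.node (.leaf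
    (nat_lit 22539)) (.leaf (nat_lit 90376)))) (.node (.node (.leaf (nat_lit 13320)) (.leaf
    (nat_lit 66059))) (.leaf (nat_lit 34567))))) (.node (.node (.node (.node (.leaf (nat_lit 3079))
    (.leaf (nat_lit 43783))) (.node (.leaf (nat_lit 19980)) (.leaf (nat_lit 84744)))) (.node (.node
    (.leaf (nat_lit 11271)) (.leaf (nat_lit 61452))) (.leaf (nat_lit 31499)))) (.node (.node (.node
    (.leaf (nat_lit 7179)) (.leaf (nat_lit 50440))) (.leaf (nat_lit 25612))) (.node (.node (.leaf
    (nat_lit 15368)) (.leaf (nat_lit 71691))) (.leaf (nat_lit 37127))))))) (.node (.node (.node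
    (.node (.node (.node (.leaf (nat_lit 519)) (.leaf (nat_lit 39432))) (.node (.leaf (nat_lit
    17163)) (.leaf (nat_lit 75532)))) (.node (.node (.leaf (nat_lit 8711)) (.leaf (nat_lit 54791)))
    (.leaf (nat_lit 27915)))) (.node (.node (.node (.leaf (nat_lit 4619)) (.leaf (nat_lit 46088)))
    (.node (.leaf (nat_lit 22027)) (.leaf (nat_lit 89096)))) (.node (.node (.leaf (nat_lit 12807))
    (.leaf (nat_lit 65547))) (.leaf (nat_lit 34055))))) (.node (.node (.node (.node (.leaf (nat_lit
    2567)) (.leaf (nat_lit 42759))) (.node (.leaf (nat_lit 19468)) (.leaf (nat_lit 82956)))) (.node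
    (.node (.leaf (nat_lit 10759)) (.leaf (nat_lit 60427))) (.leaf (nat_lit 30987)))) (.node (.node
    (.node (.leaf (nat_lit 6667)) (.leaf (nat_lit 48648))) (.leaf (nat_lit 24588))) (.node (.node
    (.leaf (nat_lit 14856)) (.leaf (nat_lit 70667))) (.leaf (nat_lit 36615)))))) (.node (.node
    (.node (.node (.node (.leaf (nat_lit 1547)) (.leaf (nat_lit 41479))) (.node (.leaf (nat_lit
    18188)) (.leaf (nat_lit 80139)))) (.node (.node (.leaf (nat_lit 9735)) (.leaf (nat_lit 58123)))
    (.leaf (nat_lit 28940)))) (.node (.node (.node (.leaf (nat_lit 5643)) (.leaf (nat_lit 47623)))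
    (.node (.leaf (nat_lit 23052)) (.leaf (nat_lit 92936)))) (.node (.node (.leaf (nat_lit 13832))
    (.leaf (nat_lit 67596))) (.leaf (nat_lit 35079))))) (.node (.node (.node (.node (.leaf (nat_lit
    3591)) (.leaf (nat_lit 44296))) (.node (.leaf (nat_lit 20492)) (.leaf (nat_lit 85768)))) (.node
    (.node (.leaf (nat_lit 11783)) (.leaf (nat_lit 62475))) (.leaf (nat_lit 32520)))) (.node (.node
    (.node (.leaf (nat_lit 7691)) (.leaf (nat_lit 52231))) (.leaf (nat_lit 26380))) (.node (.node
    (.leaf (nat_lit 15880)) (.leaf (nat_lit 72460))) (.leaf (nat_lit 37639)))))))) (.node (.node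
    (.node (.node (.node (.node (.node (.leaf (nat_lit 263)) (.leaf (nat_lit 39176))) (.node (.leaf
    (nat_lit 16907)) (.leaf (nat_lit 74507)))) (.node (.node (.leaf (nat_lit 8455)) (.leaf (nat_lit
    54023))) (.leaf (nat_lit 27403)))) (.node (.node (.node (.leaf (nat_lit 4363)) (.leaf (nat_lit
    45575))) (.node (.leaf (nat_lit 21516)) (.leaf (nat_lit 88584)))) (.node (.node (.leaf (nat_lit
    12551)) (.leaf (nat_lit 65291))) (.leaf (nat_lit 33544))))) (.node (.node (.node (.node (.leaf
    (nat_lit 2311)) (.leaf (nat_lit 42503))) (.node (.leaf (nat_lit 19212)) (.leaf (nat_lit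
    82699)))) (.node (.node (.leaf (nat_lit 10503)) (.leaf (nat_lit 58892))) (.leaf (nat_lit
    30219)))) (.node (.node (.node (.leaf (nat_lit 6411)) (.leaf (nat_lit 48392))) (.leaf (nat_lit
    24331))) (.node (.node (.leaf (nat_lit 14600)) (.leaf (nat_lit 69388))) (.leaf (nat_lit
    36359)))))) (.node (.node (.node (.node (.node (.leaf (nat_lit 1291)) (.leaf (nat_lit 40711)))
    (.node (.leaf (nat_lit 17932)) (.leaf (nat_lit 79627)))) (.node (.node (.leaf (nat_lit 9479))
    (.leaf (nat_lit 57355))) (.leaf (nat_lit 28684)))) (.node (.node (.node (.leaf (nat_lit 5387))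
    (.leaf (nat_lit 47111))) (.node (.leaf (nat_lit 22796)) (.leaf (nat_lit 91656)))) (.node (.node
    (.leaf (nat_lit 13576)) (.leaf (nat_lit 67339))) (.leaf (nat_lit 34823))))) (.node (.node
    (.node (.node (.leaf (nat_lit 3335)) (.leaf (nat_lit 44039))) (.node (.leaf (nat_lit 20236))
    (.leaf (nat_lit 85511)))) (.node (.node (.leaf (nat_lit 11527)) (.leaf (nat_lit 61963))) (.leaf
    (nat_lit 32263)))) (.node (.node (.node (.leaf (nat_lit 7435)) (.leaf (nat_lit 51208))) (.leaf
    (nat_lit 26123))) (.node (.node (.leaf (nat_lit 15624)) (.leaf (nat_lit 71948))) (.leaf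
    (nat_lit 37383))))))) (.node (.node (.node (.node (.node (.node (.leaf (nat_lit 779)) (.leaf
    (nat_lit 39688))) (.node (.leaf (nat_lit 17419)) (.leaf (nat_lit 77323)))) (.node (.node (.leaf
    (nat_lit 8967)) (.leaf (nat_lit 55815))) (.leaf (nat_lit 28171)))) (.node (.node (.node (.leaf
    (nat_lit 4875)) (.leaf (nat_lit 46344))) (.node (.leaf (nat_lit 22283)) (.leaf (nat_lit
    89607)))) (.node (.node (.leaf (nat_lit 13064)) (.leaf (nat_lit 65803))) (.leaf (nat_lit
    34311))))) (.node (.node (.node (.node (.leaf (nat_lit 2823)) (.leaf (nat_lit 43016))) (.node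
    (.leaf (nat_lit 19724)) (.leaf (nat_lit 84231)))) (.node (.node (.leaf (nat_lit 11015)) (.leaf
    (nat_lit 61195))) (.leaf (nat_lit 31243)))) (.node (.node (.node (.leaf (nat_lit 6923)) (.leaf
    (nat_lit 50183))) (.leaf (nat_lit 25355))) (.node (.node (.leaf (nat_lit 15112)) (.leaf
    (nat_lit 70923))) (.leaf (nat_lit 36871)))))) (.node (.node (.node (.node (.node (.leaf
    (nat_lit 1799)) (.leaf (nat_lit 41736))) (.node (.leaf (nat_lit 18444)) (.leaf (nat_lit
    80652)))) (.node (.node (.leaf (nat_lit 9991)) (.leaf (nat_lit 58379))) (.leaf (nat_lit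
    29707)))) (.node (.node (.node (.leaf (nat_lit 5899)) (.leaf (nat_lit 47879))) (.node (.leaf
    (nat_lit 23819)) (.leaf (nat_lit 95239)))) (.node (.node (.leaf (nat_lit 14088)) (.leaf
    (nat_lit 68364))) (.leaf (nat_lit 35335))))) (.node (.node (.node (.node (.leaf (nat_lit 3851))
    (.leaf (nat_lit 44552))) (.node (.leaf (nat_lit 21004)) (.leaf (nat_lit 86279)))) (.node (.node
    (.leaf (nat_lit 12039)) (.leaf (nat_lit 64011))) (.leaf (nat_lit 32776)))) (.node (.node (.node
    (.leaf (nat_lit 7943)) (.leaf (nat_lit 52743))) (.leaf (nat_lit 26636))) (.node (.node (.leaf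
    (nat_lit 16395)) (.leaf (nat_lit 73228))) (.leaf (nat_lit 38151))))))))))

/-- Certificate data. -/
def tM_fact : Trie :=
    (.node (.node (.node (.node (.node (.node (.node (.node (.node (.node (.node (.leaf (nat_lit
    1)) (.leaf (nat_lit 38319111))) (.node (.leaf (nat_lit 15612680)) (.leaf (nat_lit 43490560))))
    (.node (.node (.leaf (nat_lit 5779465)) (.leaf (nat_lit 49904908))) (.leaf (nat_lit
    17874702)))) (.node (.node (.node (.leaf (nat_lit 2495237)) (.leaf (nat_lit 42916359))) (.leaf
    (nat_lit 20618499))) (.node (.node (.leaf (nat_lit 9584655)) (.leaf (nat_lit 54240010))) (.leaf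
    (nat_lit 31650052))))) (.node (.node (.node (.node (.leaf (nat_lit 787215)) (.leaf (nat_lit
    38090510))) (.node (.leaf (nat_lit 17860609)) (.leaf (nat_lit 1211904)))) (.node (.node (.leaf
    (nat_lit 8536322)) (.leaf (nat_lit 52115723))) (.leaf (nat_lit 27825672)))) (.node (.node
    (.node (.leaf (nat_lit 4333827)) (.leaf (nat_lit 46881545))) (.leaf (nat_lit 20361225))) (.node
    (.node (.leaf (nat_lit 9331721)) (.leaf (nat_lit 24344064))) (.leaf (nat_lit 35168520))))))
    (.node (.node (.node (.node (.node (.leaf (nat_lit 393986)) (.leaf (nat_lit 39631368))) (.node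
    (.leaf (nat_lit 16416268)) (.leaf (nat_lit 19767808)))) (.node (.node (.leaf (nat_lit 7346956))
    (.leaf (nat_lit 47810057))) (.leaf (nat_lit 26505227)))) (.node (.node (.node (.leaf (nat_lit
    2234889)) (.leaf (nat_lit 45412620))) (.leaf (nat_lit 21931780))) (.node (.node (.leaf (nat_lit
    8281097)) (.leaf (nat_lit 50310408))) (.leaf (nat_lit 30735886))))) (.node (.node (.node (.node
    (.leaf (nat_lit 1314062)) (.leaf (nat_lit 41733383))) (.leaf (nat_lit 17732110))) (.node (.node
    (.leaf (nat_lit 9839879)) (.leaf (nat_lit 47682569))) (.leaf (nat_lit 29549064)))) (.node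
    (.node (.node (.leaf (nat_lit 5384450)) (.leaf (nat_lit 48697100))) (.leaf (nat_lit 24142604)))
    (.node (.node (.leaf (nat_lit 13266185)) (.leaf (nat_lit 46243840))) (.leaf (nat_lit
    27334663))))))) (.node (.node (.node (.node (.node (.node (.leaf (nat_lit 131598)) (.leaf
    (nat_lit 38873352))) (.node (.leaf (nat_lit 13794062)) (.leaf (nat_lit 6320896)))) (.node
    (.node (.leaf (nat_lit 6697732)) (.leaf (nat_lit 45712142))) (.leaf (nat_lit 25717516))))
    (.node (.node (.node (.leaf (nat_lit 2889222)) (.leaf (nat_lit 43995148))) (.leaf (nat_lit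
    17998602))) (.node (.node (.leaf (nat_lit 10901513)) (.leaf (nat_lit 55664903))) (.leaf
    (nat_lit 32411655))))) (.node (.node (.node (.node (.leaf (nat_lit 1311756)) (.leaf (nat_lit
    23914496))) (.leaf (nat_lit 18385923))) (.node (.node (.leaf (nat_lit 9192964)) (.leaf (nat_lit
    52138762))) (.leaf (nat_lit 28474123)))) (.node (.node (.node (.leaf (nat_lit 4990465)) (.leaf
    (nat_lit 47934736))) (.leaf (nat_lit 19706639))) (.node (.node (.leaf (nat_lit 11298574))
    (.leaf (nat_lit 13177856))) (.leaf (nat_lit 35955976)))))) (.node (.node (.node (.node (.node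
    (.leaf (nat_lit 656657)) (.leaf (nat_lit 38875662))) (.node (.leaf (nat_lit 17335297)) (.leaf
    (nat_lit 1597952)))) (.node (.node (.leaf (nat_lit 4602894)) (.leaf (nat_lit 51480592))) (.leaf
    (nat_lit 24301578)))) (.node (.node (.node (.leaf (nat_lit 2629130)) (.leaf (nat_lit
    46070283))) (.leaf (nat_lit 17607946))) (.node (.node (.leaf (nat_lit 12607492)) (.leaf
    (nat_lit 33902080))) (.leaf (nat_lit 34511624))))) (.node (.node (.node (.node (.leaf (nat_lit
    2098952)) (.leaf (nat_lit 39392780))) (.leaf (nat_lit 17864714))) (.node (.node (.leaf (nat_lit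
    10374914)) (.leaf (nat_lit 53956103))) (.leaf (nat_lit 30574343)))) (.node (.node (.node (.leaf
    (nat_lit 6034956)) (.leaf (nat_lit 48461838))) (.leaf (nat_lit 16562953))) (.node (.node (.leaf
    (nat_lit 10646026)) (.leaf (nat_lit 31538688))) (.leaf (nat_lit 32841225)))))))) (.node (.node
    (.node (.node (.node (.node (.node (.leaf (nat_lit 16)) (.leaf (nat_lit 38741764))) (.node
    (.leaf (nat_lit 9468170)) (.leaf (nat_lit 6707968)))) (.node (.node (.leaf (nat_lit 6566401))
    (.leaf (nat_lit 50405131))) (.leaf (nat_lit 18530574)))) (.node (.node (.node (.leaf (nat_lit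
    2755079)) (.leaf (nat_lit 43705099))) (.leaf (nat_lit 16817929))) (.node (.node (.leaf (nat_lit
    11151879)) (.leaf (nat_lit 55289092))) (.leaf (nat_lit 31781380))))) (.node (.node (.node
    (.node (.leaf (nat_lit 919298)) (.leaf (nat_lit 29047306))) (.node (.leaf (nat_lit 18123265))
    (.leaf (nat_lit 458240)))) (.node (.node (.leaf (nat_lit 8921352)) (.leaf (nat_lit 52510220)))
    (.leaf (nat_lit 28080396)))) (.node (.node (.node (.leaf (nat_lit 4596481)) (.leaf (nat_lit
    47646475))) (.leaf (nat_lit 23376389))) (.node (.node (.leaf (nat_lit 9856526)) (.leaf (nat_lit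
    51225856))) (.leaf (nat_lit 31133198)))))) (.node (.node (.node (.node (.node (.leaf (nat_lit
    525313)) (.leaf (nat_lit 39893768))) (.node (.leaf (nat_lit 17072643)) (.leaf (nat_lit
    4346368)))) (.node (.node (.leaf (nat_lit 6961678)) (.leaf (nat_lit 43353870))) (.leaf (nat_lit
    24955914)))) (.node (.node (.node (.leaf (nat_lit 2890762)) (.leaf (nat_lit 45702147))) (.leaf
    (nat_lit 18131470))) (.node (.node (.leaf (nat_lit 12332552)) (.leaf (nat_lit 55554316)))
    (.leaf (nat_lit 33855496))))) (.node (.node (.node (.node (.leaf (nat_lit 1838593)) (.leaf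
    (nat_lit 34160905))) (.leaf (nat_lit 19680523))) (.node (.node (.leaf (nat_lit 10233352))
    (.leaf (nat_lit 53317127))) (.leaf (nat_lit 29942788)))) (.node (.node (.node (.leaf (nat_lit
    5778437)) (.leaf (nat_lit 49091596))) (.leaf (nat_lit 24405259))) (.node (.node (.leaf (nat_lit
    10121230)) (.leaf (nat_lit 44007168))) (.leaf (nat_lit 33233417))))))) (.node (.node (.node
    (.node (.node (.node (.leaf (nat_lit 131331)) (.leaf (nat_lit 34548234))) (.node (.leaf
    (nat_lit 8289548)) (.leaf (nat_lit 45325312)))) (.node (.node (.leaf (nat_lit 5125385)) (.leaf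
    (nat_lit 44795150))) (.leaf (nat_lit 17614606)))) (.node (.node (.node (.leaf (nat_lit
    2496521)) (.leaf (nat_lit 44389132))) (.leaf (nat_lit 21530377))) (.node (.node (.leaf (nat_lit
    11939079)) (.leaf (nat_lit 56059400))) (.leaf (nat_lit 32936455))))) (.node (.node (.node
    (.node (.leaf (nat_lit 1444610)) (.leaf (nat_lit 41338888))) (.leaf (nat_lit 19024140))) (.node
    (.node (.leaf (nat_lit 9324552)) (.leaf (nat_lit 52397832))) (.leaf (nat_lit 28868104))))
    (.node (.node (.node (.leaf (nat_lit 5247756)) (.leaf (nat_lit 48328721))) (.leaf (nat_lit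
    23879948))) (.node (.node (.leaf (nat_lit 9333262)) (.leaf (nat_lit 45840903))) (.leaf (nat_lit
    36377858)))))) (.node (.node (.node (.node (.node (.leaf (nat_lit 787972)) (.leaf (nat_lit
    40449288))) (.node (.leaf (nat_lit 12093195)) (.leaf (nat_lit 1861120)))) (.node (.node (.leaf
    (nat_lit 4341262)) (.leaf (nat_lit 51741704))) (.leaf (nat_lit 20369930)))) (.node (.node
    (.node (.leaf (nat_lit 4071171)) (.leaf (nat_lit 46858251))) (.leaf (nat_lit 22851073))) (.node
    (.node (.leaf (nat_lit 12739080)) (.leaf (nat_lit 17256960))) (.leaf (nat_lit 31787018)))))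
    (.node (.node (.node (.node (.leaf (nat_lit 2232580)) (.leaf (nat_lit 38093834))) (.leaf
    (nat_lit 20336396))) (.node (.node (.leaf (nat_lit 10627079)) (.leaf (nat_lit 54613255)))
    (.leaf (nat_lit 31361543)))) (.node (.node (.node (.leaf (nat_lit 5909766)) (.leaf (nat_lit
    45054472))) (.leaf (nat_lit 24820993))) (.node (.node (.leaf (nat_lit 15234312)) (.leaf
    (nat_lit 2156288))) (.leaf (nat_lit 32317710))))))))) (.node (.node (.node (.node (.node (.node
    (.node (.node (.leaf (nat_lit 9)) (.leaf (nat_lit 36644110))) (.node (.leaf (nat_lit 15235086))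
    (.leaf (nat_lit 45314048)))) (.node (.node (.leaf (nat_lit 6431497)) (.leaf (nat_lit
    50273804))) (.leaf (nat_lit 21151754)))) (.node (.node (.node (.leaf (nat_lit 2233098)) (.leaf
    (nat_lit 43310860))) (.leaf (nat_lit 20487174))) (.node (.node (.leaf (nat_lit 11031556))
    (.leaf (nat_lit 55157764))) (.leaf (nat_lit 31755527))))) (.node (.node (.node (.node (.leaf
    (nat_lit 919566)) (.leaf (nat_lit 41075976))) (.node (.leaf (nat_lit 18254597)) (.leaf (nat_lit
    658944)))) (.node (.node (.leaf (nat_lit 8667652)) (.leaf (nat_lit 48205322))) (.leaf (nat_lit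
    25463560)))) (.node (.node (.node (.leaf (nat_lit 4727813)) (.leaf (nat_lit 44132362))) (.leaf
    (nat_lit 23113729))) (.node (.node (.leaf (nat_lit 13264130)) (.leaf (nat_lit 45850880)))
    (.leaf (nat_lit 35299847)))))) (.node (.node (.node (.node (.node (.leaf (nat_lit 394000))
    (.leaf (nat_lit 39661062))) (.node (.leaf (nat_lit 16924939)) (.leaf (nat_lit 2132480))))
    (.node (.node (.leaf (nat_lit 7478283)) (.leaf (nat_lit 51217937))) (.leaf (nat_lit
    21154569)))) (.node (.node (.node (.leaf (nat_lit 3021582)) (.leaf (nat_lit 45543947))) (.leaf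
    (nat_lit 22173707))) (.node (.node (.leaf (nat_lit 12213506)) (.leaf (nat_lit 56720135)))
    (.leaf (nat_lit 33619970))))) (.node (.node (.node (.node (.leaf (nat_lit 1314313)) (.leaf
    (nat_lit 41996551))) (.leaf (nat_lit 19174154))) (.node (.node (.leaf (nat_lit 9849864)) (.leaf
    (nat_lit 47813898))) (.leaf (nat_lit 29811457)))) (.node (.node (.node (.leaf (nat_lit
    4860430)) (.leaf (nat_lit 48849161))) (.leaf (nat_lit 24273932))) (.node (.node (.leaf (nat_lit
    8809998)) (.leaf (nat_lit 4080384))) (.leaf (nat_lit 36875015))))))) (.node (.node (.node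
    (.node (.node (.node (.leaf (nat_lit 262657)) (.leaf (nat_lit 35976972))) (.node (.leaf
    (nat_lit 16399880)) (.leaf (nat_lit 2104064)))) (.node (.node (.leaf (nat_lit 5649422)) (.leaf
    (nat_lit 44925966))) (.leaf (nat_lit 16827662)))) (.node (.node (.node (.leaf (nat_lit
    2758410)) (.leaf (nat_lit 43994886))) (.leaf (nat_lit 21406480))) (.node (.node (.leaf (nat_lit
    11807752)) (.leaf (nat_lit 55945732))) (.leaf (nat_lit 32674055))))) (.node (.node (.node
    (.node (.leaf (nat_lit 1313281)) (.leaf (nat_lit 17610247))) (.leaf (nat_lit 18648844))) (.node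
    (.node (.leaf (nat_lit 9324293)) (.leaf (nat_lit 50293511))) (.leaf (nat_lit 28482568))))
    (.node (.node (.node (.leaf (nat_lit 4204302)) (.leaf (nat_lit 48066316))) (.leaf (nat_lit
    19969294))) (.node (.node (.leaf (nat_lit 13658376)) (.leaf (nat_lit 25531904))) (.leaf
    (nat_lit 36218376)))))) (.node (.node (.node (.node (.node (.leaf (nat_lit 656399)) (.leaf
    (nat_lit 35992330))) (.node (.leaf (nat_lit 17449739)) (.leaf (nat_lit 1313536)))) (.node
    (.node (.leaf (nat_lit 4472078)) (.leaf (nat_lit 49776906))) (.leaf (nat_lit 18796814))))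
    (.node (.node (.node (.leaf (nat_lit 4071436)) (.leaf (nat_lit 43082250))) (.leaf (nat_lit
    19049993))) (.node (.node (.leaf (nat_lit 12726279)) (.leaf (nat_lit 43739648))) (.leaf
    (nat_lit 34670597))))) (.node (.node (.node (.node (.leaf (nat_lit 2101254)) (.leaf (nat_lit
    32064010))) (.leaf (nat_lit 20073996))) (.node (.node (.leaf (nat_lit 10506244)) (.leaf
    (nat_lit 54238468))) (.leaf (nat_lit 30967816)))) (.node (.node (.node (.leaf (nat_lit
    6041091)) (.leaf (nat_lit 43874574))) (.leaf (nat_lit 22723849))) (.node (.node (.leaf (nat_lit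
    15219207)) (.leaf (nat_lit 7495936))) (.leaf (nat_lit 32710409)))))))) (.node (.node (.node
    (.node (.node (.node (.node (.leaf (nat_lit 131337)) (.leaf (nat_lit 31008526))) (.node (.leaf
    (nat_lit 13662730)) (.leaf (nat_lit 12874240)))) (.node (.node (.leaf (nat_lit 6697734)) (.leaf
    (nat_lit 50668044))) (.leaf (nat_lit 17351178)))) (.node (.node (.node (.leaf (nat_lit
    2886152)) (.leaf (nat_lit 43863553))) (.leaf (nat_lit 17867273))) (.node (.node (.leaf (nat_lit
    11414279)) (.leaf (nat_lit 53847311))) (.leaf (nat_lit 29422601))))) (.node (.node (.node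
    (.node (.leaf (nat_lit 919818)) (.leaf (nat_lit 21699840))) (.node (.leaf (nat_lit 18386188))
    (.leaf (nat_lit 393995)))) (.node (.node (.leaf (nat_lit 9061634)) (.leaf (nat_lit 50303241)))
    (.leaf (nat_lit 22075150)))) (.node (.node (.node (.leaf (nat_lit 4859404)) (.leaf (nat_lit
    45706505))) (.leaf (nat_lit 18133769))) (.node (.node (.leaf (nat_lit 13526785)) (.leaf
    (nat_lit 47947776))) (.leaf (nat_lit 30740489)))))) (.node (.node (.node (.node (.node (.leaf
    (nat_lit 525328)) (.leaf (nat_lit 40025096))) (.node (.leaf (nat_lit 17318412)) (.leaf (nat_lit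
    6307328)))) (.node (.node (.leaf (nat_lit 7486217)) (.leaf (nat_lit 50300938))) (.leaf (nat_lit
    27161611)))) (.node (.node (.node (.leaf (nat_lit 2235662)) (.leaf (nat_lit 45806603))) (.leaf
    (nat_lit 19573774))) (.node (.node (.leaf (nat_lit 12463879)) (.leaf (nat_lit 56994059)))
    (.leaf (nat_lit 34249224))))) (.node (.node (.node (.node (.leaf (nat_lit 1967879)) (.leaf
    (nat_lit 36626956))) (.leaf (nat_lit 19699205))) (.node (.node (.leaf (nat_lit 9063945)) (.leaf
    (nat_lit 53693192))) (.leaf (nat_lit 30180616)))) (.node (.node (.node (.leaf (nat_lit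
    5778449)) (.leaf (nat_lit 48592654))) (.leaf (nat_lit 24427012))) (.node (.node (.leaf (nat_lit
    13660425)) (.leaf (nat_lit 44000768))) (.leaf (nat_lit 37399816))))))) (.node (.node (.node
    (.node (.node (.node (.leaf (nat_lit 262672)) (.leaf (nat_lit 39267336))) (.node (.leaf
    (nat_lit 10636043)) (.leaf (nat_lit 19705344)))) (.node (.node (.leaf (nat_lit 7215883)) (.leaf
    (nat_lit 51086609))) (.leaf (nat_lit 21809162)))) (.node (.node (.node (.leaf (nat_lit
    2365705)) (.leaf (nat_lit 45018891))) (.leaf (nat_lit 19572233))) (.node (.node (.leaf (nat_lit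
    11950852)) (.leaf (nat_lit 53846283))) (.leaf (nat_lit 33198855))))) (.node (.node (.node
    (.node (.leaf (nat_lit 1444878)) (.leaf (nat_lit 33242124))) (.leaf (nat_lit 19042561))) (.node
    (.node (.leaf (nat_lit 9586948)) (.leaf (nat_lit 47797512))) (.leaf (nat_lit 29155080))))
    (.node (.node (.node (.leaf (nat_lit 5253125)) (.leaf (nat_lit 48434443))) (.leaf (nat_lit
    24033030))) (.node (.node (.leaf (nat_lit 10644494)) (.leaf (nat_lit 46230784))) (.leaf
    (nat_lit 36481031)))))) (.node (.node (.node (.node (.node (.leaf (nat_lit 525834)) (.leaf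
    (nat_lit 40682247))) (.node (.leaf (nat_lit 17991941)) (.leaf (nat_lit 1600512)))) (.node
    (.node (.leaf (nat_lit 8273928)) (.leaf (nat_lit 45845257))) (.leaf (nat_lit 25875209))))
    (.node (.node (.node (.leaf (nat_lit 4334092)) (.leaf (nat_lit 46884364))) (.leaf (nat_lit
    22982402))) (.node (.node (.leaf (nat_lit 9462537)) (.leaf (nat_lit 50698752))) (.leaf (nat_lit
    34905607))))) (.node (.node (.node (.node (.leaf (nat_lit 2363905)) (.leaf (nat_lit 42784264)))
    (.leaf (nat_lit 20598796))) (.node (.node (.leaf (nat_lit 10768900)) (.leaf (nat_lit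
    54876423))) (.leaf (nat_lit 29814538)))) (.node (.node (.node (.leaf (nat_lit 6172420)) (.leaf
    (nat_lit 49879819))) (.leaf (nat_lit 24930315))) (.node (.node (.leaf (nat_lit 15481607))
    (.leaf (nat_lit 47151616))) (.leaf (nat_lit 38085124)))))))))) (.node (.node (.node (.node
    (.node (.node (.node (.node (.node (.leaf (nat_lit 5)) (.leaf (nat_lit 38450184))) (.node
    (.leaf (nat_lit 15744007)) (.leaf (nat_lit 4738048)))) (.node (.node (.leaf (nat_lit 5124362))
    (.leaf (nat_lit 46104074))) (.leaf (nat_lit 25192716)))) (.node (.node (.node (.leaf (nat_lit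
    1970958)) (.leaf (nat_lit 43047692))) (.leaf (nat_lit 20487171))) (.node (.node (.leaf (nat_lit
    11020552)) (.leaf (nat_lit 54893839))) (.leaf (nat_lit 31650054))))) (.node (.node (.node
    (.node (.leaf (nat_lit 1049356)) (.leaf (nat_lit 40944903))) (.node (.leaf (nat_lit 18236940))
    (.leaf (nat_lit 687616)))) (.node (.node (.leaf (nat_lit 8658952)) (.leaf (nat_lit 52246796)))
    (.leaf (nat_lit 20630023)))) (.node (.node (.node (.leaf (nat_lit 4722956)) (.leaf (nat_lit
    47251724))) (.leaf (nat_lit 23113733))) (.node (.node (.leaf (nat_lit 8676366)) (.leaf (nat_lit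
    17388288))) (.leaf (nat_lit 29821961)))))) (.node (.node (.node (.node (.node (.leaf (nat_lit
    393998)) (.leaf (nat_lit 39661057))) (.node (.leaf (nat_lit 16793612)) (.leaf (nat_lit
    2202880)))) (.node (.node (.leaf (nat_lit 6830089)) (.leaf (nat_lit 51217923))) (.leaf (nat_lit
    22202889)))) (.node (.node (.node (.leaf (nat_lit 3542279)) (.leaf (nat_lit 43997710))) (.leaf
    (nat_lit 21931782))) (.node (.node (.leaf (nat_lit 12201479)) (.leaf (nat_lit 56587271)))
    (.leaf (nat_lit 33592839))))) (.node (.node (.node (.node (.leaf (nat_lit 1836556)) (.leaf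
    (nat_lit 41864711))) (.leaf (nat_lit 10654476))) (.node (.node (.leaf (nat_lit 9849604)) (.leaf
    (nat_lit 53167116))) (.leaf (nat_lit 26665736)))) (.node (.node (.node (.leaf (nat_lit
    5510156)) (.leaf (nat_lit 48828427))) (.leaf (nat_lit 20232206))) (.node (.node (.leaf (nat_lit
    14432007)) (.leaf (nat_lit 43479047))) (.leaf (nat_lit 29825038))))))) (.node (.node (.node
    (.node (.node (.node (.leaf (nat_lit 262666)) (.leaf (nat_lit 35989774))) (.node (.leaf
    (nat_lit 11303945)) (.leaf (nat_lit 10645248)))) (.node (.node (.leaf (nat_lit 4858127)) (.leaf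
    (nat_lit 50810120))) (.leaf (nat_lit 25849099)))) (.node (.node (.node (.leaf (nat_lit
    3020549)) (.leaf (nat_lit 44126209))) (.leaf (nat_lit 21406465))) (.node (.node (.leaf (nat_lit
    11676679)) (.leaf (nat_lit 55683336))) (.leaf (nat_lit 32542728))))) (.node (.node (.node
    (.node (.leaf (nat_lit 1313285)) (.leaf (nat_lit 21671176))) (.leaf (nat_lit 18630667))) (.node
    (.node (.leaf (nat_lit 9192966)) (.leaf (nat_lit 46222344))) (.leaf (nat_lit 25221390))))
    (.node (.node (.node (.leaf (nat_lit 4859142)) (.leaf (nat_lit 48040715))) (.leaf (nat_lit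
    20100110))) (.node (.node (.leaf (nat_lit 9070606)) (.leaf (nat_lit 8578304))) (.leaf (nat_lit
    36087303)))))) (.node (.node (.node (.node (.node (.leaf (nat_lit 656644)) (.leaf (nat_lit
    40186632))) (.node (.leaf (nat_lit 17203969)) (.leaf (nat_lit 1457920)))) (.node (.node (.leaf
    (nat_lit 8003083)) (.leaf (nat_lit 51589132))) (.leaf (nat_lit 27424011)))) (.node (.node
    (.node (.leaf (nat_lit 4067083)) (.leaf (nat_lit 46332939))) (.leaf (nat_lit 22578441))) (.node
    (.node (.leaf (nat_lit 12607494)) (.leaf (nat_lit 21342720))) (.leaf (nat_lit 34642951)))))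
    (.node (.node (.node (.node (.leaf (nat_lit 2101252)) (.leaf (nat_lit 42003980))) (.leaf
    (nat_lit 19961858))) (.node (.node (.leaf (nat_lit 10495752)) (.leaf (nat_lit 54218504)))
    (.leaf (nat_lit 30599688)))) (.node (.node (.node (.leaf (nat_lit 6041093)) (.leaf (nat_lit
    49485835))) (.leaf (nat_lit 21806094))) (.node (.node (.leaf (nat_lit 15087880)) (.leaf
    (nat_lit 4341760))) (.leaf (nat_lit 37559812)))))))) (.node (.node (.node (.node (.node (.node
    (.node (.leaf (nat_lit 131083)) (.leaf (nat_lit 33892106))) (.node (.leaf (nat_lit 12614153))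
    (.leaf (nat_lit 2129920)))) (.node (.node (.leaf (nat_lit 4862730)) (.leaf (nat_lit 50536971)))
    (.leaf (nat_lit 25455116)))) (.node (.node (.node (.leaf (nat_lit 2757890)) (.leaf (nat_lit
    43732492))) (.leaf (nat_lit 21123852))) (.node (.node (.leaf (nat_lit 11163144)) (.leaf
    (nat_lit 53847306))) (.leaf (nat_lit 32017928))))) (.node (.node (.node (.node (.leaf (nat_lit
    919302)) (.leaf (nat_lit 29039627))) (.node (.leaf (nat_lit 18368267)) (.leaf (nat_lit
    46400268)))) (.node (.node (.leaf (nat_lit 9052679)) (.leaf (nat_lit 47550474))) (.leaf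
    (nat_lit 28211723)))) (.node (.node (.node (.leaf (nat_lit 4854283)) (.leaf (nat_lit
    45837326))) (.leaf (nat_lit 23486219))) (.node (.node (.leaf (nat_lit 13513480)) (.leaf
    (nat_lit 45842688))) (.leaf (nat_lit 35458824)))))) (.node (.node (.node (.node (.node (.leaf
    (nat_lit 525329)) (.leaf (nat_lit 33370122))) (.node (.leaf (nat_lit 16941315)) (.leaf (nat_lit
    4862720)))) (.node (.node (.leaf (nat_lit 5913354)) (.leaf (nat_lit 51457548))) (.leaf (nat_lit
    26898700)))) (.node (.node (.node (.leaf (nat_lit 3804679)) (.leaf (nat_lit 45570819))) (.leaf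
    (nat_lit 19311369))) (.node (.node (.leaf (nat_lit 12344838)) (.leaf (nat_lit 55554574)))
    (.leaf (nat_lit 34118151))))) (.node (.node (.node (.node (.leaf (nat_lit 1838608)) (.leaf
    (nat_lit 29704462))) (.leaf (nat_lit 19699204))) (.node (.node (.leaf (nat_lit 10243588))
    (.leaf (nat_lit 53561608))) (.leaf (nat_lit 29942790)))) (.node (.node (.node (.leaf (nat_lit
    5778435)) (.leaf (nat_lit 49222923))) (.leaf (nat_lit 24427014))) (.node (.node (.leaf (nat_lit
    14825480)) (.leaf (nat_lit 49647872))) (.leaf (nat_lit 30219017))))))) (.node (.node (.node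
    (.node (.node (.node (.leaf (nat_lit 131343)) (.leaf (nat_lit 39237639))) (.node (.leaf
    (nat_lit 14578188)) (.leaf (nat_lit 22913536)))) (.node (.node (.leaf (nat_lit 6567433)) (.leaf
    (nat_lit 51086595))) (.leaf (nat_lit 26242572)))) (.node (.node (.node (.leaf (nat_lit
    2889742)) (.leaf (nat_lit 44755979))) (.leaf (nat_lit 21779980))) (.node (.node (.leaf (nat_lit
    11950850)) (.leaf (nat_lit 54766345))) (.leaf (nat_lit 32963592))))) (.node (.node (.node
    (.node (.leaf (nat_lit 1574156)) (.leaf (nat_lit 41470216))) (.leaf (nat_lit 19042565))) (.node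
    (.node (.leaf (nat_lit 9586949)) (.leaf (nat_lit 48450311))) (.leaf (nat_lit 29130759))))
    (.node (.node (.node (.leaf (nat_lit 4728841)) (.leaf (nat_lit 48328720))) (.leaf (nat_lit
    24011531))) (.node (.node (.leaf (nat_lit 10382089)) (.leaf (nat_lit 43609088))) (.leaf
    (nat_lit 35329294)))))) (.node (.node (.node (.node (.node (.leaf (nat_lit 656905)) (.leaf
    (nat_lit 31274250))) (.node (.leaf (nat_lit 17974540)) (.leaf (nat_lit 1183232)))) (.node
    (.node (.leaf (nat_lit 8265479)) (.leaf (nat_lit 51853067))) (.leaf (nat_lit 27054858))))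
    (.node (.node (.node (.leaf (nat_lit 4329483)) (.leaf (nat_lit 46884102))) (.leaf (nat_lit
    17084174))) (.node (.node (.leaf (nat_lit 8937998)) (.leaf (nat_lit 45053952))) (.leaf (nat_lit
    29952265))))) (.node (.node (.node (.node (.leaf (nat_lit 2232840)) (.leaf (nat_lit 34161930)))
    (.leaf (nat_lit 20355841))) (.node (.node (.leaf (nat_lit 10758152)) (.leaf (nat_lit
    54744840))) (.leaf (nat_lit 31387397)))) (.node (.node (.node (.leaf (nat_lit 6166283)) (.leaf
    (nat_lit 47930375))) (.leaf (nat_lit 24821008))) (.node (.node (.leaf (nat_lit 14054666))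
    (.leaf (nat_lit 29466368))) (.leaf (nat_lit 38085122))))))))) (.node (.node (.node (.node
    (.node (.node (.node (.node (.leaf (nat_lit 14)) (.leaf (nat_lit 30877194))) (.node (.leaf
    (nat_lit 15875080)) (.leaf (nat_lit 7229952)))) (.node (.node (.leaf (nat_lit 5911054)) (.leaf
    (nat_lit 48070414))) (.leaf (nat_lit 25324043)))) (.node (.node (.node (.leaf (nat_lit
    2626561)) (.leaf (nat_lit 43573260))) (.leaf (nat_lit 18914826))) (.node (.node (.leaf (nat_lit
    10245130)) (.leaf (nat_lit 55270408))) (.leaf (nat_lit 31781381))))) (.node (.node (.node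
    (.node (.leaf (nat_lit 1050627)) (.leaf (nat_lit 32848142))) (.node (.leaf (nat_lit 18254593))
    (.leaf (nat_lit 525835)))) (.node (.node (.leaf (nat_lit 8667654)) (.leaf (nat_lit 44535561)))
    (.leaf (nat_lit 27949323)))) (.node (.node (.node (.leaf (nat_lit 4727809)) (.leaf (nat_lit
    47383051))) (.leaf (nat_lit 20623630))) (.node (.node (.leaf (nat_lit 13382407)) (.leaf
    (nat_lit 41775115))) (.leaf (nat_lit 35431175)))))) (.node (.node (.node (.node (.node (.leaf
    (nat_lit 394248)) (.leaf (nat_lit 39762695))) (.node (.leaf (nat_lit 16941580)) (.leaf (nat_lit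
    4339456)))) (.node (.node (.leaf (nat_lit 7609356)) (.leaf (nat_lit 47809039))) (.leaf (nat_lit
    26641159)))) (.node (.node (.node (.leaf (nat_lit 3673352)) (.leaf (nat_lit 45571084))) (.leaf
    (nat_lit 18262286))) (.node (.node (.leaf (nat_lit 12213508)) (.leaf (nat_lit 56851208)))
    (.leaf (nat_lit 33619972))))) (.node (.node (.node (.node (.leaf (nat_lit 1052170)) (.leaf
    (nat_lit 29573130))) (.leaf (nat_lit 19549196))) (.node (.node (.leaf (nat_lit 10112261))
    (.leaf (nat_lit 53298956))) (.leaf (nat_lit 29918216)))) (.node (.node (.node (.leaf (nat_lit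
    5772556)) (.leaf (nat_lit 46626058))) (.leaf (nat_lit 17217806))) (.node (.node (.leaf (nat_lit
    14446344)) (.leaf (nat_lit 16994560))) (.leaf (nat_lit 37006088))))))) (.node (.node (.node
    (.node (.node (.node (.leaf (nat_lit 131330)) (.leaf (nat_lit 39135748))) (.node (.leaf
    (nat_lit 8944906)) (.leaf (nat_lit 22891264)))) (.node (.node (.leaf (nat_lit 6953483)) (.leaf
    (nat_lit 51062540))) (.leaf (nat_lit 16696846)))) (.node (.node (.node (.leaf (nat_lit
    3151876)) (.leaf (nat_lit 44361227))) (.leaf (nat_lit 21517579))) (.node (.node (.leaf (nat_lit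
    11819521)) (.leaf (nat_lit 55945744))) (.leaf (nat_lit 32805128))))) (.node (.node (.node
    (.node (.leaf (nat_lit 1182473)) (.leaf (nat_lit 16709632))) (.leaf (nat_lit 18645257))) (.node
    (.node (.leaf (nat_lit 9324292)) (.leaf (nat_lit 46624519))) (.leaf (nat_lit 19585546))))
    (.node (.node (.node (.leaf (nat_lit 5121794)) (.leaf (nat_lit 43741194))) (.leaf (nat_lit
    23770371))) (.node (.node (.leaf (nat_lit 13907207)) (.leaf (nat_lit 45047047))) (.leaf
    (nat_lit 30217230)))))) (.node (.node (.node (.node (.node (.leaf (nat_lit 786952)) (.leaf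
    (nat_lit 35468298))) (.node (.leaf (nat_lit 17466892)) (.leaf (nat_lit 1339136)))) (.node
    (.node (.leaf (nat_lit 8134156)) (.leaf (nat_lit 49121801))) (.leaf (nat_lit 27555084))))
    (.node (.node (.node (.leaf (nat_lit 4202499)) (.leaf (nat_lit 46726924))) (.leaf (nat_lit
    20885002))) (.node (.node (.leaf (nat_lit 8806666)) (.leaf (nat_lit 35349760))) (.leaf (nat_lit
    33622025))))) (.node (.node (.node (.node (.leaf (nat_lit 2232581)) (.leaf (nat_lit 41108233)))
    (.leaf (nat_lit 20093187))) (.node (.node (.leaf (nat_lit 8671242)) (.leaf (nat_lit 54481159)))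
    (.leaf (nat_lit 31099143)))) (.node (.node (.node (.leaf (nat_lit 5909763)) (.leaf (nat_lit
    47020553))) (.leaf (nat_lit 23903498))) (.node (.node (.leaf (nat_lit 9335818)) (.leaf (nat_lit
    3845376))) (.leaf (nat_lit 32186378)))))))) (.node (.node (.node (.node (.node (.node (.node
    (.leaf (nat_lit 131596)) (.leaf (nat_lit 35858442))) (.node (.leaf (nat_lit 12483337)) (.leaf
    (nat_lit 14187776)))) (.node (.node (.leaf (nat_lit 6697745)) (.leaf (nat_lit 50692611)))
    (.leaf (nat_lit 20235018)))) (.node (.node (.node (.leaf (nat_lit 2889220)) (.leaf (nat_lit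
    43967499))) (.leaf (nat_lit 21386252))) (.node (.node (.leaf (nat_lit 9066250)) (.leaf (nat_lit
    49391112))) (.leaf (nat_lit 32280328))))) (.node (.node (.node (.node (.leaf (nat_lit 1181954))
    (.leaf (nat_lit 22745344))) (.leaf (nat_lit 18517251))) (.node (.node (.leaf (nat_lit 9183752))
    (.leaf (nat_lit 43618826))) (.leaf (nat_lit 21944334)))) (.node (.node (.node (.leaf (nat_lit
    4990469)) (.leaf (nat_lit 47934721))) (.leaf (nat_lit 23507716))) (.node (.node (.leaf (nat_lit
    11822858)) (.leaf (nat_lit 43485952))) (.leaf (nat_lit 33348367)))))) (.node (.node (.node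
    (.node (.node (.leaf (nat_lit 656645)) (.leaf (nat_lit 40156423))) (.node (.leaf (nat_lit
    17335301)) (.leaf (nat_lit 6319360)))) (.node (.node (.leaf (nat_lit 7748620)) (.leaf (nat_lit
    51480577))) (.leaf (nat_lit 27292684)))) (.node (.node (.node (.leaf (nat_lit 3935752)) (.leaf
    (nat_lit 45938955))) (.leaf (nat_lit 22588684))) (.node (.node (.leaf (nat_lit 10116874))
    (.leaf (nat_lit 53587468))) (.leaf (nat_lit 34380551))))) (.node (.node (.node (.node (.leaf
    (nat_lit 1969922)) (.leaf (nat_lit 37940491))) (.leaf (nat_lit 19699468))) (.node (.node (.leaf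
    (nat_lit 10364679)) (.leaf (nat_lit 53824775))) (.leaf (nat_lit 30311943)))) (.node (.node
    (.node (.leaf (nat_lit 5646601)) (.leaf (nat_lit 47403528))) (.leaf (nat_lit 17742602))) (.node
    (.node (.leaf (nat_lit 14956807)) (.leaf (nat_lit 31394560))) (.leaf (nat_lit 37531143)))))))
    (.node (.node (.node (.node (.node (.node (.leaf (nat_lit 393479)) (.leaf (nat_lit 39500295)))
    (.node (.leaf (nat_lit 9724427)) (.leaf (nat_lit 19766528)))) (.node (.node (.leaf (nat_lit
    6305550)) (.leaf (nat_lit 47544335))) (.leaf (nat_lit 14993676)))) (.node (.node (.node (.leaf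
    (nat_lit 3410952)) (.leaf (nat_lit 45176837))) (.leaf (nat_lit 21276426))) (.node (.node (.leaf
    (nat_lit 12070152)) (.leaf (nat_lit 54242313))) (.leaf (nat_lit 33329928))))) (.node (.node
    (.node (.node (.leaf (nat_lit 1705483)) (.leaf (nat_lit 41602055))) (.leaf (nat_lit 19155467)))
    (.node (.node (.leaf (nat_lit 9587208)) (.leaf (nat_lit 50686471))) (.leaf (nat_lit
    29524487)))) (.node (.node (.node (.leaf (nat_lit 4991246)) (.leaf (nat_lit 48565516))) (.leaf
    (nat_lit 24019215))) (.node (.node (.leaf (nat_lit 14300680)) (.leaf (nat_lit 45051392)))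
    (.leaf (nat_lit 36509448)))))) (.node (.node (.node (.node (.node (.leaf (nat_lit 787984))
    (.leaf (nat_lit 39269898))) (.node (.leaf (nat_lit 17991937)) (.leaf (nat_lit 556288)))) (.node
    (.node (.leaf (nat_lit 8527879)) (.leaf (nat_lit 43617289))) (.leaf (nat_lit 27317262))))
    (.node (.node (.node (.leaf (nat_lit 4465155)) (.leaf (nat_lit 45704714))) (.leaf (nat_lit
    23092492))) (.node (.node (.leaf (nat_lit 8545034)) (.leaf (nat_lit 44784640))) (.leaf (nat_lit
    35036935))))) (.node (.node (.node (.node (.leaf (nat_lit 2363910)) (.leaf (nat_lit 34293262)))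
    (.leaf (nat_lit 17341705))) (.node (.node (.leaf (nat_lit 8409610)) (.leaf (nat_lit 55026436)))
    (.leaf (nat_lit 25489415)))) (.node (.node (.node (.leaf (nat_lit 6172421)) (.leaf (nat_lit
    49902087))) (.leaf (nat_lit 24949769))) (.node (.node (.leaf (nat_lit 11957774)) (.leaf
    (nat_lit 19060992))) (.leaf (nat_lit 31793934))))))))))) (.node (.node (.node (.node (.node
    (.node (.node (.node (.node (.node (.leaf (nat_lit 3)) (.leaf (nat_lit 36512778))) (.node
    (.leaf (nat_lit 9729802)) (.leaf (nat_lit 18128640)))) (.node (.node (.leaf (nat_lit 6428683))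
    (.leaf (nat_lit 50142731))) (.leaf (nat_lit 23772938)))) (.node (.node (.node (.leaf (nat_lit
    2495234)) (.leaf (nat_lit 37177098))) (.leaf (nat_lit 20618497))) (.node (.node (.leaf (nat_lit
    10889479)) (.leaf (nat_lit 55026448))) (.leaf (nat_lit 31518986))))) (.node (.node (.node
    (.node (.leaf (nat_lit 918283)) (.leaf (nat_lit 29439754))) (.node (.leaf (nat_lit 18105867))
    (.leaf (nat_lit 657664)))) (.node (.node (.leaf (nat_lit 8536324)) (.leaf (nat_lit 46238990)))
    (.leaf (nat_lit 19844872)))) (.node (.node (.node (.leaf (nat_lit 4591883)) (.leaf (nat_lit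
    47120651))) (.leaf (nat_lit 16953358))) (.node (.node (.leaf (nat_lit 12346378)) (.leaf
    (nat_lit 8709632))) (.leaf (nat_lit 25365512)))))) (.node (.node (.node (.node (.node (.leaf
    (nat_lit 394001)) (.leaf (nat_lit 39661060))) (.node (.leaf (nat_lit 16662539)) (.leaf (nat_lit
    2135552)))) (.node (.node (.leaf (nat_lit 7223308)) (.leaf (nat_lit 50693642))) (.leaf (nat_lit
    19843598)))) (.node (.node (.node (.leaf (nat_lit 3152394)) (.leaf (nat_lit 45308425))) (.leaf
    (nat_lit 21931778))) (.node (.node (.leaf (nat_lit 9722894)) (.leaf (nat_lit 56455944))) (.leaf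
    (nat_lit 33461511))))) (.node (.node (.node (.node (.leaf (nat_lit 920841)) (.leaf (nat_lit
    36388362))) (.leaf (nat_lit 19286796))) (.node (.node (.leaf (nat_lit 9849605)) (.leaf (nat_lit
    53055751))) (.leaf (nat_lit 29786888)))) (.node (.node (.node (.leaf (nat_lit 5384452)) (.leaf
    (nat_lit 42824460))) (.leaf (nat_lit 17086473))) (.node (.node (.leaf (nat_lit 8416526)) (.leaf
    (nat_lit 48336128))) (.leaf (nat_lit 31791113))))))) (.node (.node (.node (.node (.node (.node
    (.leaf (nat_lit 262661)) (.leaf (nat_lit 30353673))) (.node (.leaf (nat_lit 16268807)) (.leaf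
    (nat_lit 1486080)))) (.node (.node (.leaf (nat_lit 6693129)) (.leaf (nat_lit 43746057))) (.leaf
    (nat_lit 23118858)))) (.node (.node (.node (.leaf (nat_lit 3017479)) (.leaf (nat_lit
    44126211))) (.leaf (nat_lit 21406467))) (.node (.node (.leaf (nat_lit 9197582)) (.leaf (nat_lit
    55795976))) (.leaf (nat_lit 29030153))))) (.node (.node (.node (.node (.leaf (nat_lit 1182220))
    (.leaf (nat_lit 30353664))) (.leaf (nat_lit 18385926))) (.node (.node (.leaf (nat_lit 9192961))
    (.leaf (nat_lit 52794119))) (.leaf (nat_lit 23517450)))) (.node (.node (.node (.leaf (nat_lit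
    4859139)) (.leaf (nat_lit 47017231))) (.leaf (nat_lit 23617547))) (.node (.node (.leaf (nat_lit
    13644807)) (.leaf (nat_lit 4228352))) (.leaf (nat_lit 35852808)))))) (.node (.node (.node
    (.node (.node (.leaf (nat_lit 656654)) (.leaf (nat_lit 40287496))) (.node (.leaf (nat_lit
    17203971)) (.leaf (nat_lit 1602048)))) (.node (.node (.leaf (nat_lit 7617546)) (.leaf (nat_lit
    46235407))) (.leaf (nat_lit 27306504)))) (.node (.node (.node (.leaf (nat_lit 2104846)) (.leaf
    (nat_lit 46201356))) (.leaf (nat_lit 22719747))) (.node (.node (.leaf (nat_lit 12607489))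
    (.leaf (nat_lit 17933312))) (.leaf (nat_lit 32048910))))) (.node (.node (.node (.node (.leaf
    (nat_lit 1970184)) (.leaf (nat_lit 40568075))) (.leaf (nat_lit 19961860))) (.node (.node (.leaf
    (nat_lit 10374916)) (.leaf (nat_lit 54087431))) (.leaf (nat_lit 30705416)))) (.node (.node
    (.node (.leaf (nat_lit 5910028)) (.leaf (nat_lit 49379331))) (.leaf (nat_lit 24667915))) (.node
    (.node (.leaf (nat_lit 14961167)) (.leaf (nat_lit 3187968))) (.leaf (nat_lit 35069454))))))))
    (.node (.node (.node (.node (.node (.node (.node (.leaf (nat_lit 17)) (.leaf (nat_lit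
    38741761))) (.node (.leaf (nat_lit 16006407)) (.leaf (nat_lit 8154368)))) (.node (.node (.leaf
    (nat_lit 6691083)) (.leaf (nat_lit 45973514))) (.leaf (nat_lit 25338119)))) (.node (.node
    (.node (.leaf (nat_lit 2757893)) (.leaf (nat_lit 43836172))) (.leaf (nat_lit 20992779))) (.node
    (.node (.leaf (nat_lit 11282952)) (.leaf (nat_lit 55289097))) (.leaf (nat_lit 31886855)))))
    (.node (.node (.node (.node (.leaf (nat_lit 919299)) (.leaf (nat_lit 41235211))) (.node (.leaf
    (nat_lit 18123270)) (.leaf (nat_lit 739328)))) (.node (.node (.leaf (nat_lit 8799240)) (.leaf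
    (nat_lit 49385481))) (.leaf (nat_lit 24172042)))) (.node (.node (.node (.leaf (nat_lit
    4596486)) (.leaf (nat_lit 47777548))) (.leaf (nat_lit 18526730))) (.node (.node (.leaf (nat_lit
    11167242)) (.leaf (nat_lit 47810048))) (.leaf (nat_lit 35562248)))))) (.node (.node (.node
    (.node (.node (.leaf (nat_lit 394249)) (.leaf (nat_lit 28782601))) (.node (.leaf (nat_lit
    17072641)) (.leaf (nat_lit 8278272)))) (.node (.node (.leaf (nat_lit 7740683)) (.leaf (nat_lit
    50169609))) (.leaf (nat_lit 21416974)))) (.node (.node (.node (.leaf (nat_lit 3415054)) (.leaf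
    (nat_lit 45702145))) (.leaf (nat_lit 22436108))) (.node (.node (.leaf (nat_lit 12344836))
    (.leaf (nat_lit 56983559))) (.leaf (nat_lit 33986824))))) (.node (.node (.node (.node (.leaf
    (nat_lit 1838609)) (.leaf (nat_lit 32325898))) (.leaf (nat_lit 18126346))) (.node (.node (.leaf
    (nat_lit 10112520)) (.leaf (nat_lit 53430535))) (.leaf (nat_lit 29942785)))) (.node (.node
    (.node (.leaf (nat_lit 5516298)) (.leaf (nat_lit 44398094))) (.leaf (nat_lit 19053070))) (.node
    (.node (.leaf (nat_lit 10907658)) (.leaf (nat_lit 31559168))) (.leaf (nat_lit 37137415)))))))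
    (.node (.node (.node (.node (.node (.node (.leaf (nat_lit 131344)) (.leaf (nat_lit 39135750)))
    (.node (.leaf (nat_lit 8936459)) (.leaf (nat_lit 22912256)))) (.node (.node (.leaf (nat_lit
    7084556)) (.leaf (nat_lit 49382666))) (.leaf (nat_lit 26125577)))) (.node (.node (.node (.leaf
    (nat_lit 3151878)) (.leaf (nat_lit 44624395))) (.leaf (nat_lit 21648907))) (.node (.node (.leaf
    (nat_lit 11950853)) (.leaf (nat_lit 48343816))) (.leaf (nat_lit 33067528))))) (.node (.node
    (.node (.node (.leaf (nat_lit 1444614)) (.leaf (nat_lit 30227210))) (.leaf (nat_lit 18911500)))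
    (.node (.node (.leaf (nat_lit 9577479)) (.leaf (nat_lit 43351303))) (.leaf (nat_lit
    28999432)))) (.node (.node (.node (.leaf (nat_lit 5122060)) (.leaf (nat_lit 48322313))) (.leaf
    (nat_lit 17610249))) (.node (.node (.leaf (nat_lit 14038280)) (.leaf (nat_lit 47008519)))
    (.leaf (nat_lit 33887497)))))) (.node (.node (.node (.node (.node (.leaf (nat_lit 787969))
    (.leaf (nat_lit 38352137))) (.node (.leaf (nat_lit 17843467)) (.leaf (nat_lit 1854208))))
    (.node (.node (.leaf (nat_lit 6307338)) (.leaf (nat_lit 44917767))) (.leaf (nat_lit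
    27686411)))) (.node (.node (.node (.leaf (nat_lit 4071174)) (.leaf (nat_lit 45180174))) (.leaf
    (nat_lit 22961419))) (.node (.node (.leaf (nat_lit 11690505)) (.leaf (nat_lit 50824448)))
    (.leaf (nat_lit 34774279))))) (.node (.node (.node (.node (.leaf (nat_lit 2361352)) (.leaf
    (nat_lit 42653191))) (.leaf (nat_lit 20355845))) (.node (.node (.leaf (nat_lit 9720073)) (.leaf
    (nat_lit 53714958))) (.leaf (nat_lit 24309511)))) (.node (.node (.node (.leaf (nat_lit
    5906185)) (.leaf (nat_lit 47017992))) (.leaf (nat_lit 24821009))) (.node (.node (.leaf (nat_lit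
    12219657)) (.leaf (nat_lit 924672))) (.leaf (nat_lit 38055943))))))))) (.node (.node (.node
    (.node (.node (.node (.node (.node (.leaf (nat_lit 10)) (.leaf (nat_lit 38581511))) (.node
    (.leaf (nat_lit 13924362)) (.leaf (nat_lit 1449216)))) (.node (.node (.leaf (nat_lit 6559756))
    (.leaf (nat_lit 50167564))) (.leaf (nat_lit 25201928)))) (.node (.node (.node (.leaf (nat_lit
    2623752)) (.leaf (nat_lit 43442187))) (.leaf (nat_lit 20730379))) (.node (.node (.leaf (nat_lit
    11031553)) (.leaf (nat_lit 53978122))) (.leaf (nat_lit 25227783))))) (.node (.node (.node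
    (.node (.leaf (nat_lit 1050629)) (.leaf (nat_lit 29309194))) (.node (.leaf (nat_lit 18254595))
    (.leaf (nat_lit 787723)))) (.node (.node (.leaf (nat_lit 8667649)) (.leaf (nat_lit 52378380)))
    (.leaf (nat_lit 18391048)))) (.node (.node (.node (.leaf (nat_lit 4727811)) (.leaf (nat_lit
    47140617))) (.leaf (nat_lit 23223819))) (.node (.node (.leaf (nat_lit 9594126)) (.leaf (nat_lit
    49653248))) (.leaf (nat_lit 31001865)))))) (.node (.node (.node (.node (.node (.leaf (nat_lit
    524552)) (.leaf (nat_lit 29306382))) (.node (.leaf (nat_lit 17056012)) (.leaf (nat_lit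
    2137856)))) (.node (.node (.leaf (nat_lit 4077834)) (.leaf (nat_lit 51217936))) (.leaf (nat_lit
    22334218)))) (.node (.node (.node (.leaf (nat_lit 3283722)) (.leaf (nat_lit 45675020))) (.leaf
    (nat_lit 21014794))) (.node (.node (.leaf (nat_lit 8543502)) (.leaf (nat_lit 55685130))) (.leaf
    (nat_lit 31391758))))) (.node (.node (.node (.node (.leaf (nat_lit 1183246)) (.leaf (nat_lit
    34291721))) (.leaf (nat_lit 19418123))) (.node (.node (.leaf (nat_lit 10102279)) (.leaf
    (nat_lit 53183752))) (.leaf (nat_lit 29811462)))) (.node (.node (.node (.leaf (nat_lit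
    5641483)) (.leaf (nat_lit 48960523))) (.leaf (nat_lit 23378185))) (.node (.node (.leaf (nat_lit
    14563080)) (.leaf (nat_lit 2000384))) (.leaf (nat_lit 33364233))))))) (.node (.node (.node
    (.node (.node (.node (.leaf (nat_lit 262673)) (.leaf (nat_lit 39106312))) (.node (.leaf
    (nat_lit 11173129)) (.leaf (nat_lit 1063168)))) (.node (.node (.leaf (nat_lit 4469770)) (.leaf
    (nat_lit 49251337))) (.leaf (nat_lit 25980172)))) (.node (.node (.node (.leaf (nat_lit
    3148552)) (.leaf (nat_lit 44229899))) (.leaf (nat_lit 20089103))) (.node (.node (.leaf (nat_lit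
    11819524)) (.leaf (nat_lit 55159305))) (.leaf (nat_lit 29161742))))) (.node (.node (.node
    (.node (.leaf (nat_lit 1443083)) (.leaf (nat_lit 30336777))) (.leaf (nat_lit 17075978))) (.node
    (.node (.leaf (nat_lit 9324290)) (.leaf (nat_lit 48070919))) (.leaf (nat_lit 28605452))))
    (.node (.node (.node (.leaf (nat_lit 5121798)) (.leaf (nat_lit 48303115))) (.leaf (nat_lit
    23770373))) (.node (.node (.leaf (nat_lit 11561226)) (.leaf (nat_lit 45847552))) (.leaf
    (nat_lit 33494025)))))) (.node (.node (.node (.node (.node (.leaf (nat_lit 656656)) (.leaf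
    (nat_lit 40418823))) (.node (.leaf (nat_lit 17580812)) (.leaf (nat_lit 1853952)))) (.node
    (.node (.leaf (nat_lit 6176009)) (.leaf (nat_lit 51720460))) (.leaf (nat_lit 20238601))))
    (.node (.node (.node (.leaf (nat_lit 4202501)) (.leaf (nat_lit 46595851))) (.leaf (nat_lit
    22851077))) (.node (.node (.leaf (nat_lit 11821321)) (.leaf (nat_lit 31021824))) (.leaf
    (nat_lit 34670594))))) (.node (.node (.node (.node (.leaf (nat_lit 2230279)) (.leaf (nat_lit
    42390279))) (.leaf (nat_lit 19962124))) (.node (.node (.leaf (nat_lit 10506241)) (.leaf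
    (nat_lit 54349832))) (.leaf (nat_lit 30862344)))) (.node (.node (.node (.leaf (nat_lit
    6041089)) (.leaf (nat_lit 49616908))) (.leaf (nat_lit 21675278))) (.node (.node (.leaf (nat_lit
    12350473)) (.leaf (nat_lit 5271040))) (.leaf (nat_lit 37793543)))))))) (.node (.node (.node
    (.node (.node (.node (.node (.leaf (nat_lit 262156)) (.leaf (nat_lit 38843911))) (.node (.leaf
    (nat_lit 16137480)) (.leaf (nat_lit 12084736)))) (.node (.node (.leaf (nat_lit 6697730)) (.leaf
    (nat_lit 50561548))) (.leaf (nat_lit 25586443)))) (.node (.node (.node (.leaf (nat_lit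
    2758152)) (.leaf (nat_lit 43732227))) (.leaf (nat_lit 21272591))) (.node (.node (.leaf (nat_lit
    11032329)) (.leaf (nat_lit 55401736))) (.leaf (nat_lit 32149255))))) (.node (.node (.node
    (.node (.leaf (nat_lit 1181956)) (.leaf (nat_lit 17639424))) (.leaf (nat_lit 18517253))) (.node
    (.node (.leaf (nat_lit 9061636)) (.leaf (nat_lit 52773388))) (.leaf (nat_lit 28342796))))
    (.node (.node (.node (.leaf (nat_lit 4466185)) (.leaf (nat_lit 47934723))) (.leaf (nat_lit
    23376647))) (.node (.node (.leaf (nat_lit 8808201)) (.leaf (nat_lit 47817984))) (.leaf (nat_lit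
    28774414)))))) (.node (.node (.node (.node (.node (.leaf (nat_lit 655879)) (.leaf (nat_lit
    36253962))) (.node (.leaf (nat_lit 17204236)) (.leaf (nat_lit 9722880)))) (.node (.node (.leaf
    (nat_lit 7871756)) (.leaf (nat_lit 51480579))) (.leaf (nat_lit 23252746)))) (.node (.node
    (.node (.leaf (nat_lit 1973514)) (.leaf (nat_lit 43474186))) (.leaf (nat_lit 22698508))) (.node
    (.node (.leaf (nat_lit 10903310)) (.leaf (nat_lit 56596236))) (.leaf (nat_lit 34145544)))))
    (.node (.node (.node (.node (.leaf (nat_lit 1969925)) (.leaf (nat_lit 35452427))) (.leaf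
    (nat_lit 19811596))) (.node (.node (.leaf (nat_lit 10243590)) (.leaf (nat_lit 48470280)))
    (.leaf (nat_lit 30074376)))) (.node (.node (.node (.leaf (nat_lit 5778448)) (.leaf (nat_lit
    49116935))) (.leaf (nat_lit 24536587))) (.node (.node (.leaf (nat_lit 11038990)) (.leaf
    (nat_lit 48344320))) (.leaf (nat_lit 37297416))))))) (.node (.node (.node (.node (.node (.node
    (.leaf (nat_lit 262671)) (.leaf (nat_lit 34286602))) (.node (.leaf (nat_lit 11695884)) (.leaf
    (nat_lit 45851392)))) (.node (.node (.leaf (nat_lit 4339466)) (.leaf (nat_lit 51086608)))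
    (.leaf (nat_lit 26373900)))) (.node (.node (.node (.leaf (nat_lit 2758926)) (.leaf (nat_lit
    45149964))) (.leaf (nat_lit 21911307))) (.node (.node (.leaf (nat_lit 9591562)) (.leaf (nat_lit
    56190727))) (.leaf (nat_lit 30604554))))) (.node (.node (.node (.node (.leaf (nat_lit 1313802))
    (.leaf (nat_lit 28908043))) (.leaf (nat_lit 18906889))) (.node (.node (.leaf (nat_lit 9708552))
    (.leaf (nat_lit 52529928))) (.leaf (nat_lit 29393159)))) (.node (.node (.node (.leaf (nat_lit
    5379083)) (.leaf (nat_lit 44790026))) (.leaf (nat_lit 24033026))) (.node (.node (.leaf (nat_lit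
    8285194)) (.leaf (nat_lit 43477760))) (.leaf (nat_lit 36612104)))))) (.node (.node (.node
    (.node (.node (.leaf (nat_lit 787974)) (.leaf (nat_lit 37959177))) (.node (.leaf (nat_lit
    17991939)) (.leaf (nat_lit 527360)))) (.node (.node (.leaf (nat_lit 8404996)) (.leaf (nat_lit
    51984140))) (.leaf (nat_lit 27817995)))) (.node (.node (.node (.leaf (nat_lit 4465157)) (.leaf
    (nat_lit 45049358))) (.leaf (nat_lit 22982404))) (.node (.node (.leaf (nat_lit 10380046))
    (.leaf (nat_lit 31806976))) (.leaf (nat_lit 32442894))))) (.node (.node (.node (.node (.leaf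
    (nat_lit 2101770)) (.leaf (nat_lit 42681864))) (.leaf (nat_lit 20487436))) (.node (.node (.leaf
    (nat_lit 9589257)) (.leaf (nat_lit 55007752))) (.leaf (nat_lit 31492871)))) (.node (.node
    (.node (.leaf (nat_lit 6172418)) (.leaf (nat_lit 44399626))) (.leaf (nat_lit 18005518))) (.node
    (.node (.leaf (nat_lit 15103497)) (.leaf (nat_lit 48339968))) (.leaf (nat_lit
    38187527)))))))))) (.node (.node (.node (.node (.node (.node (.node (.node (.node (.leaf
    (nat_lit 7)) (.leaf (nat_lit 34022666))) (.node (.leaf (nat_lit 8681481)) (.leaf (nat_lit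
    2266112)))) (.node (.node (.leaf (nat_lit 6041870)) (.leaf (nat_lit 48201230))) (.leaf (nat_lit
    22331401)))) (.node (.node (.node (.leaf (nat_lit 2495236)) (.leaf (nat_lit 43179532))) (.leaf
    (nat_lit 20487169))) (.node (.node (.leaf (nat_lit 10900488)) (.leaf (nat_lit 55139079)))
    (.leaf (nat_lit 29946126))))) (.node (.node (.node (.node (.leaf (nat_lit 919564)) (.leaf
    (nat_lit 32716810))) (.node (.leaf (nat_lit 18123532)) (.leaf (nat_lit 842496)))) (.node (.node
    (.leaf (nat_lit 8536584)) (.leaf (nat_lit 52137484))) (.leaf (nat_lit 22184967)))) (.node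
    (.node (.node (.leaf (nat_lit 4596748)) (.leaf (nat_lit 47147020))) (.leaf (nat_lit 23113731)))
    (.node (.node (.leaf (nat_lit 13251079)) (.leaf (nat_lit 50697472))) (.leaf (nat_lit
    34671630)))))) (.node (.node (.node (.node (.node (.leaf (nat_lit 393988)) (.leaf (nat_lit
    32845322))) (.node (.leaf (nat_lit 16678924)) (.leaf (nat_lit 18197504)))) (.node (.node (.leaf
    (nat_lit 4995082)) (.leaf (nat_lit 51217921))) (.leaf (nat_lit 26636300)))) (.node (.node
    (.node (.leaf (nat_lit 2104073)) (.leaf (nat_lit 45439493))) (.leaf (nat_lit 22042380))) (.node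
    (.node (.leaf (nat_lit 12213509)) (.leaf (nat_lit 55815945))) (.leaf (nat_lit 27852807)))))
    (.node (.node (.node (.node (.leaf (nat_lit 1707532)) (.leaf (nat_lit 37568266))) (.leaf
    (nat_lit 19305221))) (.node (.node (.leaf (nat_lit 9970952)) (.leaf (nat_lit 53056780))) (.leaf
    (nat_lit 29811460)))) (.node (.node (.node (.leaf (nat_lit 5384716)) (.leaf (nat_lit
    44659722))) (.leaf (nat_lit 22977039))) (.node (.node (.leaf (nat_lit 9989641)) (.leaf (nat_lit
    6465024))) (.leaf (nat_lit 33626122))))))) (.node (.node (.node (.node (.node (.node (.leaf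
    (nat_lit 262659)) (.leaf (nat_lit 34941196))) (.node (.leaf (nat_lit 14449674)) (.leaf (nat_lit
    1577216)))) (.node (.node (.leaf (nat_lit 6822156)) (.leaf (nat_lit 50931467))) (.leaf (nat_lit
    24429834)))) (.node (.node (.node (.leaf (nat_lit 2627337)) (.leaf (nat_lit 43994883))) (.leaf
    (nat_lit 21406481))) (.node (.node (.leaf (nat_lit 9853194)) (.leaf (nat_lit 55928072))) (.leaf
    (nat_lit 32438280))))) (.node (.node (.node (.node (.leaf (nat_lit 1313283)) (.leaf (nat_lit
    29030144))) (.leaf (nat_lit 18761740))) (.node (.node (.leaf (nat_lit 9315079)) (.leaf (nat_lit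
    52004872))) (.leaf (nat_lit 19716361)))) (.node (.node (.node (.leaf (nat_lit 5116683)) (.leaf
    (nat_lit 48171788))) (.leaf (nat_lit 23748620))) (.node (.node (.leaf (nat_lit 13775880))
    (.leaf (nat_lit 29982208))) (.leaf (nat_lit 30085898)))))) (.node (.node (.node (.node (.node
    (.leaf (nat_lit 394506)) (.leaf (nat_lit 37303049))) (.node (.leaf (nat_lit 17203974)) (.leaf
    (nat_lit 1462528)))) (.node (.node (.leaf (nat_lit 5651722)) (.leaf (nat_lit 46369038))) (.leaf
    (nat_lit 22991114)))) (.node (.node (.node (.leaf (nat_lit 4198156)) (.leaf (nat_lit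
    46464524))) (.leaf (nat_lit 22829836))) (.node (.node (.leaf (nat_lit 10248206)) (.leaf
    (nat_lit 29845760))) (.leaf (nat_lit 28510215))))) (.node (.node (.node (.node (.leaf (nat_lit
    2101249)) (.leaf (nat_lit 42258952))) (.leaf (nat_lit 19961861))) (.node (.node (.leaf (nat_lit
    10375176)) (.leaf (nat_lit 54107400))) (.leaf (nat_lit 30836743)))) (.node (.node (.node (.leaf
    (nat_lit 4206090)) (.leaf (nat_lit 45578506))) (.leaf (nat_lit 24798988))) (.node (.node (.leaf
    (nat_lit 10777358)) (.leaf (nat_lit 8274944))) (.leaf (nat_lit 37662216)))))))) (.node (.node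
    (.node (.node (.node (.node (.node (.leaf (nat_lit 131338)) (.leaf (nat_lit 38741766))) (.node
    (.leaf (nat_lit 11434510)) (.leaf (nat_lit 4341511)))) (.node (.node (.leaf (nat_lit 5780238))
    (.leaf (nat_lit 47677706))) (.leaf (nat_lit 18399758)))) (.node (.node (.node (.leaf (nat_lit
    2757892)) (.leaf (nat_lit 43863555))) (.leaf (nat_lit 21255179))) (.node (.node (.leaf (nat_lit
    9983498)) (.leaf (nat_lit 55289104))) (.leaf (nat_lit 31912968))))) (.node (.node (.node (.node
    (.leaf (nat_lit 1180683)) (.leaf (nat_lit 26161664))) (.node (.leaf (nat_lit 18499340)) (.leaf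
    (nat_lit 483840)))) (.node (.node (.leaf (nat_lit 9061637)) (.leaf (nat_lit 52641548))) (.leaf
    (nat_lit 23648010)))) (.node (.node (.node (.leaf (nat_lit 4985356)) (.leaf (nat_lit
    47908876))) (.leaf (nat_lit 21148430))) (.node (.node (.leaf (nat_lit 13526788)) (.leaf
    (nat_lit 18572288))) (.leaf (nat_lit 35693575)))))) (.node (.node (.node (.node (.node (.leaf
    (nat_lit 525318)) (.leaf (nat_lit 33107982))) (.node (.leaf (nat_lit 17187339)) (.leaf (nat_lit
    4872960)))) (.node (.node (.leaf (nat_lit 4733710)) (.leaf (nat_lit 46237705))) (.leaf (nat_lit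
    27030283)))) (.node (.node (.node (.leaf (nat_lit 2891017)) (.leaf (nat_lit 45570822))) (.leaf
    (nat_lit 22567435))) (.node (.node (.leaf (nat_lit 10509838)) (.leaf (nat_lit 53457418)))
    (.leaf (nat_lit 34014219))))) (.node (.node (.node (.node (.leaf (nat_lit 1576463)) (.leaf
    (nat_lit 42149132))) (.leaf (nat_lit 19699202))) (.node (.node (.leaf (nat_lit 10243585))
    (.leaf (nat_lit 53450760))) (.leaf (nat_lit 30049543)))) (.node (.node (.node (.leaf (nat_lit
    5778433)) (.leaf (nat_lit 47413002))) (.leaf (nat_lit 24427010))) (.node (.node (.leaf (nat_lit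
    14709000)) (.leaf (nat_lit 32835584))) (.leaf (nat_lit 37268743))))))) (.node (.node (.node
    (.node (.node (.node (.leaf (nat_lit 131334)) (.leaf (nat_lit 39368712))) (.node (.leaf
    (nat_lit 13397003)) (.leaf (nat_lit 2142976)))) (.node (.node (.leaf (nat_lit 5256714)) (.leaf
    (nat_lit 51086593))) (.leaf (nat_lit 17483790)))) (.node (.node (.node (.leaf (nat_lit
    3279879)) (.leaf (nat_lit 44887052))) (.leaf (nat_lit 21669388))) (.node (.node (.leaf (nat_lit
    8411913)) (.leaf (nat_lit 56075532))) (.leaf (nat_lit 30735370))))) (.node (.node (.node (.node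
    (.leaf (nat_lit 1051657)) (.leaf (nat_lit 28916746))) (.leaf (nat_lit 16814346))) (.node (.node
    (.leaf (nat_lit 9586946)) (.leaf (nat_lit 45840392))) (.leaf (nat_lit 29261832)))) (.node
    (.node (.node (.leaf (nat_lit 4073486)) (.leaf (nat_lit 45042959))) (.leaf (nat_lit 20363022)))
    (.node (.node (.leaf (nat_lit 14169607)) (.leaf (nat_lit 43623680))) (.leaf (nat_lit
    36377860)))))) (.node (.node (.node (.node (.node (.leaf (nat_lit 787985)) (.leaf (nat_lit
    35599630))) (.node (.leaf (nat_lit 17860876)) (.leaf (nat_lit 1205760)))) (.node (.node (.leaf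
    (nat_lit 8396552)) (.leaf (nat_lit 50694926))) (.leaf (nat_lit 22860558)))) (.node (.node
    (.node (.leaf (nat_lit 4460556)) (.leaf (nat_lit 46989324))) (.leaf (nat_lit 22982406))) (.node
    (.node (.leaf (nat_lit 12988679)) (.leaf (nat_lit 48336896))) (.leaf (nat_lit 33753354)))))
    (.node (.node (.node (.node (.leaf (nat_lit 2363908)) (.leaf (nat_lit 42677260))) (.leaf
    (nat_lit 20467723))) (.node (.node (.leaf (nat_lit 10637832)) (.leaf (nat_lit 49651976)))
    (.leaf (nat_lit 31387396)))) (.node (.node (.node (.leaf (nat_lit 5385994)) (.leaf (nat_lit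
    49748236))) (.leaf (nat_lit 17612047))) (.node (.node (.leaf (nat_lit 9467150)) (.leaf (nat_lit
    22912512))) (.leaf (nat_lit 34546185))))))))) (.node (.node (.node (.node (.node (.node (.node
    (.node (.leaf (nat_lit 15)) (.leaf (nat_lit 38712584))) (.node (.leaf (nat_lit 8550665)) (.leaf
    (nat_lit 4868352)))) (.node (.node (.leaf (nat_lit 4731402)) (.leaf (nat_lit 50298627))) (.leaf
    (nat_lit 20496650)))) (.node (.node (.node (.leaf (nat_lit 2364430)) (.leaf (nat_lit
    43469836))) (.leaf (nat_lit 20861452))) (.node (.node (.leaf (nat_lit 11031558)) (.leaf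
    (nat_lit 47949064))) (.leaf (nat_lit 31781378))))) (.node (.node (.node (.node (.leaf (nat_lit
    1050625)) (.leaf (nat_lit 41207304))) (.node (.leaf (nat_lit 18123267)) (.leaf (nat_lit
    525580)))) (.node (.node (.leaf (nat_lit 8790279)) (.leaf (nat_lit 50040586))) (.leaf (nat_lit
    16962826)))) (.node (.node (.node (.leaf (nat_lit 4596483)) (.leaf (nat_lit 47514124))) (.leaf
    (nat_lit 23354892))) (.node (.node (.leaf (nat_lit 8939017)) (.leaf (nat_lit 51882752))) (.leaf
    (nat_lit 34016777)))))) (.node (.node (.node (.node (.node (.leaf (nat_lit 525316)) (.leaf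
    (nat_lit 32976650))) (.node (.leaf (nat_lit 17072645)) (.leaf (nat_lit 9718528)))) (.node
    (.node (.leaf (nat_lit 6044169)) (.leaf (nat_lit 51326475))) (.leaf (nat_lit 26767627))))
    (.node (.node (.node (.leaf (nat_lit 1973257)) (.leaf (nat_lit 45702149))) (.leaf (nat_lit
    22304780))) (.node (.node (.leaf (nat_lit 10378506)) (.leaf (nat_lit 55816462))) (.leaf
    (nat_lit 33724168))))) (.node (.node (.node (.node (.leaf (nat_lit 1838595)) (.leaf (nat_lit
    42127624))) (.leaf (nat_lit 19436812))) (.node (.node (.leaf (nat_lit 9194761)) (.leaf (nat_lit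
    44537354))) (.leaf (nat_lit 22209544)))) (.node (.node (.node (.leaf (nat_lit 5647372)) (.leaf
    (nat_lit 44528910))) (.leaf (nat_lit 24283656))) (.node (.node (.leaf (nat_lit 14694407))
    (.leaf (nat_lit 37572608))) (.leaf (nat_lit 36903432))))))) (.node (.node (.node (.node (.node
    (.node (.leaf (nat_lit 131345)) (.leaf (nat_lit 39135745))) (.node (.leaf (nat_lit 14581006))
    (.leaf (nat_lit 45853696)))) (.node (.node (.leaf (nat_lit 4601098)) (.leaf (nat_lit
    47547657))) (.leaf (nat_lit 26111499)))) (.node (.node (.node (.leaf (nat_lit 3151873)) (.leaf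
    (nat_lit 44492300))) (.leaf (nat_lit 16557066))) (.node (.node (.leaf (nat_lit 9984526)) (.leaf
    (nat_lit 53979663))) (.leaf (nat_lit 32700936))))) (.node (.node (.node (.node (.leaf (nat_lit
    1444612)) (.leaf (nat_lit 18906887))) (.leaf (nat_lit 18893067))) (.node (.node (.leaf (nat_lit
    9446152)) (.leaf (nat_lit 50156296))) (.leaf (nat_lit 28737031)))) (.node (.node (.node (.leaf
    (nat_lit 5121796)) (.leaf (nat_lit 47935502))) (.leaf (nat_lit 23770369))) (.node (.node (.leaf
    (nat_lit 10512905)) (.leaf (nat_lit 43494144))) (.leaf (nat_lit 36349703)))))) (.node (.node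
    (.node (.node (.node (.leaf (nat_lit 656904)) (.leaf (nat_lit 40549896))) (.node (.leaf
    (nat_lit 17712139)) (.leaf (nat_lit 706816)))) (.node (.node (.leaf (nat_lit 5520905)) (.leaf
    (nat_lit 46762506))) (.leaf (nat_lit 18665998)))) (.node (.node (.node (.leaf (nat_lit
    4202497)) (.leaf (nat_lit 46621708))) (.leaf (nat_lit 22851075))) (.node (.node (.leaf (nat_lit
    12857352)) (.leaf (nat_lit 31422208))) (.leaf (nat_lit 34670596))))) (.node (.node (.node
    (.node (.leaf (nat_lit 2232578)) (.leaf (nat_lit 42521863))) (.leaf (nat_lit 20205323))) (.node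
    (.node (.leaf (nat_lit 10506246)) (.leaf (nat_lit 54370059))) (.leaf (nat_lit 31230216))))
    (.node (.node (.node (.leaf (nat_lit 5909761)) (.leaf (nat_lit 47938058))) (.leaf (nat_lit
    24820995))) (.node (.node (.leaf (nat_lit 15350280)) (.leaf (nat_lit 3716608))) (.leaf (nat_lit
    37924616)))))))) (.node (.node (.node (.node (.node (.node (.node (.leaf (nat_lit 262665))
    (.leaf (nat_lit 38974984))) (.node (.leaf (nat_lit 9206538)) (.leaf (nat_lit 12090880))))
    (.node (.node (.leaf (nat_lit 6697744)) (.leaf (nat_lit 50799371))) (.leaf (nat_lit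
    25603849)))) (.node (.node (.node (.leaf (nat_lit 2889217)) (.leaf (nat_lit 44098572))) (.leaf
    (nat_lit 20095753))) (.node (.node (.leaf (nat_lit 11545352)) (.leaf (nat_lit 55533063)))
    (.leaf (nat_lit 32175624))))) (.node (.node (.node (.node (.leaf (nat_lit 1181957)) (.leaf
    (nat_lit 35986432))) (.leaf (nat_lit 18517249))) (.node (.node (.leaf (nat_lit 9061896)) (.leaf
    (nat_lit 52904715))) (.leaf (nat_lit 26925066)))) (.node (.node (.node (.leaf (nat_lit
    4990467)) (.leaf (nat_lit 47934737))) (.leaf (nat_lit 23507728))) (.node (.node (.leaf (nat_lit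
    13526790)) (.leaf (nat_lit 48339200))) (.leaf (nat_lit 35824903)))))) (.node (.node (.node
    (.node (.node (.leaf (nat_lit 656642)) (.leaf (nat_lit 37433865))) (.node (.leaf (nat_lit
    17335299)) (.leaf (nat_lit 12872704)))) (.node (.node (.leaf (nat_lit 4209673)) (.leaf (nat_lit
    51480593))) (.leaf (nat_lit 27185164)))) (.node (.node (.node (.leaf (nat_lit 2760201)) (.leaf
    (nat_lit 43212302))) (.leaf (nat_lit 19442958))) (.node (.node (.leaf (nat_lit 12594952))
    (.leaf (nat_lit 20028160))) (.leaf (nat_lit 31917578))))) (.node (.node (.node (.node (.leaf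
    (nat_lit 1969924)) (.leaf (nat_lit 41626380))) (.leaf (nat_lit 19942923))) (.node (.node (.leaf
    (nat_lit 10374917)) (.leaf (nat_lit 50829831))) (.leaf (nat_lit 30443016)))) (.node (.node
    (.node (.leaf (nat_lit 5903883)) (.leaf (nat_lit 49353996))) (.leaf (nat_lit 19315470))) (.node
    (.node (.leaf (nat_lit 8286734)) (.leaf (nat_lit 4625664))) (.leaf (nat_lit 37559810)))))))
    (.node (.node (.node (.node (.node (.node (.leaf (nat_lit 393989)) (.leaf (nat_lit 29175050)))
    (.node (.leaf (nat_lit 16531212)) (.leaf (nat_lit 18177280)))) (.node (.node (.leaf (nat_lit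
    4863753)) (.leaf (nat_lit 51194380))) (.leaf (nat_lit 16566542)))) (.node (.node (.node (.leaf
    (nat_lit 3283464)) (.leaf (nat_lit 45281292))) (.leaf (nat_lit 19965705))) (.node (.node (.leaf
    (nat_lit 11951112)) (.leaf (nat_lit 56322824))) (.leaf (nat_lit 33357316))))) (.node (.node
    (.node (.node (.leaf (nat_lit 1445130)) (.leaf (nat_lit 31145226))) (.leaf (nat_lit 12882443)))
    (.node (.node (.leaf (nat_lit 9718276)) (.leaf (nat_lit 53036043))) (.leaf (nat_lit
    29655560)))) (.node (.node (.node (.leaf (nat_lit 5384454)) (.leaf (nat_lit 48460300))) (.leaf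
    (nat_lit 24033027))) (.node (.node (.leaf (nat_lit 14183688)) (.leaf (nat_lit 9371392))) (.leaf
    (nat_lit 36743687)))))) (.node (.node (.node (.node (.node (.leaf (nat_lit 525838)) (.leaf
    (nat_lit 40813575))) (.node (.leaf (nat_lit 17860611)) (.leaf (nat_lit 788992)))) (.node (.node
    (.leaf (nat_lit 8536325)) (.leaf (nat_lit 50564110))) (.leaf (nat_lit 20501513)))) (.node
    (.node (.node (.leaf (nat_lit 4465153)) (.leaf (nat_lit 47015427))) (.leaf (nat_lit 22982668)))
    (.node (.node (.leaf (nat_lit 13119752)) (.leaf (nat_lit 47018240))) (.leaf (nat_lit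
    29297417))))) (.node (.node (.node (.node (.leaf (nat_lit 2492679)) (.leaf (nat_lit 42798859)))
    (.leaf (nat_lit 20618501))) (.node (.node (.leaf (nat_lit 10768912)) (.leaf (nat_lit
    54895369))) (.leaf (nat_lit 31624200)))) (.node (.node (.node (.leaf (nat_lit 6297356)) (.leaf
    (nat_lit 50010892))) (.leaf (nat_lit 25061388))) (.node (.node (.leaf (nat_lit 13268490))
    (.leaf (nat_lit 45046272))) (.leaf (nat_lit 35201802))))))))))))

/-- Certificate data. -/
def tM_just : Trie :=
    (.node (.node (.node (.node (.node (.node (.node (.node (.node (.node (.node (.leaf (nat_lit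
    1)) (.leaf (nat_lit 0))) (.node (.leaf (nat_lit 0)) (.leaf (nat_lit 215865863222530867202))))
    (.node (.node (.leaf (nat_lit 33151702739244482566)) (.leaf (nat_lit 44906249606791173)))
    (.leaf (nat_lit 82017944525330382855)))) (.node (.node (.node (.leaf (nat_lit
    18305356769687437332)) (.leaf (nat_lit 0))) (.leaf (nat_lit 1537973581435221316806705162)))
    (.node (.node (.leaf (nat_lit 224957913324449534574644)) (.leaf (nat_lit
    200938312916193706019))) (.leaf (nat_lit 129003965352826306587))))) (.node (.node (.node (.node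
    (.leaf (nat_lit 33360866060153185894437)) (.leaf (nat_lit 146592775346789220375))) (.node
    (.leaf (nat_lit 5656293448325130035387112488971)) (.leaf (nat_lit 941160576385444605067266))))
    (.node (.node (.leaf (nat_lit 45835088876294832149)) (.leaf (nat_lit 0))) (.leaf (nat_lit
    490358366701257431973959)))) (.node (.node (.node (.leaf (nat_lit 454668291767693884633972746))
    (.leaf (nat_lit 174710349594156531718))) (.leaf (nat_lit 91095687887763734534))) (.node (.node
    (.leaf (nat_lit 48864218130640207901)) (.leaf (nat_lit 128169887772004515842))) (.leaf (nat_lit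
    0)))))) (.node (.node (.node (.node (.node (.leaf (nat_lit 4324229960454832149)) (.leaf
    (nat_lit 0))) (.node (.leaf (nat_lit 18881084255240197)) (.leaf (nat_lit 55041775424897026))))
    (.node (.node (.leaf (nat_lit 0)) (.leaf (nat_lit 176577989880571953158))) (.leaf (nat_lit
    0)))) (.node (.node (.node (.leaf (nat_lit 16864680144240050205)) (.leaf (nat_lit 0))) (.leaf
    (nat_lit 96795344789339045929))) (.node (.node (.leaf (nat_lit 45260951117182992413)) (.leaf
    (nat_lit 48003848740143130))) (.leaf (nat_lit 521069391708846289059876))))) (.node (.node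
    (.node (.node (.leaf (nat_lit 11531432473259081772)) (.leaf (nat_lit 0))) (.leaf (nat_lit
    81944179106266677292))) (.node (.node (.leaf (nat_lit 0)) (.leaf (nat_lit
    762257840028443975352324))) (.leaf (nat_lit 30336346149224474)))) (.node (.node (.node (.leaf
    (nat_lit 32072967195424129037)) (.leaf (nat_lit 0))) (.leaf (nat_lit 0))) (.node (.node (.leaf
    (nat_lit 65005875925423947805)) (.leaf (nat_lit 52789305596313602))) (.leaf (nat_lit
    28754148916854859))))))) (.node (.node (.node (.node (.node (.node (.leaf (nat_lit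
    1441380695141449735)) (.leaf (nat_lit 36495123093258266))) (.node (.leaf (nat_lit
    276629121847177215475748)) (.leaf (nat_lit 62959922452443103234)))) (.node (.node (.leaf
    (nat_lit 160008578678242322677811)) (.leaf (nat_lit 171388928178727878700))) (.leaf (nat_lit
    0)))) (.node (.node (.node (.leaf (nat_lit 84137332023955944636447)) (.leaf (nat_lit
    41035006604345349))) (.leaf (nat_lit 336521083560449060110345))) (.node (.node (.leaf (nat_lit
    55492742313626763293)) (.leaf (nat_lit 0))) (.leaf (nat_lit 0))))) (.node (.node (.node (.node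
    (.leaf (nat_lit 0)) (.leaf (nat_lit 149558270769403985922))) (.leaf (nat_lit
    1422045123443693121811316746))) (.node (.node (.leaf (nat_lit 48141143129180012571)) (.leaf
    (nat_lit 193731005004892012547))) (.leaf (nat_lit 0)))) (.node (.node (.node (.leaf (nat_lit
    2010720556721970628329350758411)) (.leaf (nat_lit 727126451275058743869485))) (.leaf (nat_lit
    364591707249335542743059))) (.node (.node (.leaf (nat_lit 232937573805103459336228)) (.leaf
    (nat_lit 106769098954844078082))) (.leaf (nat_lit 0)))))) (.node (.node (.node (.node (.node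
    (.leaf (nat_lit 6485940318255644694)) (.leaf (nat_lit 149474128984231051287))) (.node (.leaf
    (nat_lit 5507146916079866675949774176267)) (.leaf (nat_lit 3759828588016068509517021186))))
    (.node (.node (.leaf (nat_lit 27820285600504938503)) (.leaf (nat_lit
    783808687506074122846253))) (.leaf (nat_lit 436883552996845494206473)))) (.node (.node (.node
    (.leaf (nat_lit 19170875134613585955)) (.leaf (nat_lit 0))) (.leaf (nat_lit
    333583586233032154284041))) (.node (.node (.leaf (nat_lit 62122604189947461659)) (.leaf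
    (nat_lit 134943021257579495426))) (.leaf (nat_lit 0))))) (.node (.node (.node (.node (.leaf
    (nat_lit 0)) (.leaf (nat_lit 201672062486215844481316553496930690065829314465620623413)))
    (.leaf (nat_lit 82014354482426740739))) (.node (.node (.leaf (nat_lit 52753691439601483797))
    (.leaf (nat_lit 0))) (.leaf (nat_lit 0)))) (.node (.node (.node (.leaf (nat_lit 0)) (.leaf
    (nat_lit 179313996610626846727))) (.leaf (nat_lit 391461542608024264507396))) (.node (.node
    (.leaf (nat_lit 221982868291924720353313)) (.leaf (nat_lit 893311809271426265120770))) (.leaf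
    (nat_lit 132322098884890525742)))))))) (.node (.node (.node (.node (.node (.node (.node (.leaf
    (nat_lit 1)) (.leaf (nat_lit 148608294028675579931))) (.node (.leaf (nat_lit
    49442210013014851619)) (.leaf (nat_lit 39397000489491169282)))) (.node (.node (.leaf (nat_lit
    2585190032886525206097341841419)) (.leaf (nat_lit 0))) (.leaf (nat_lit 84612229077057863724))))
    (.node (.node (.node (.leaf (nat_lit 0)) (.leaf (nat_lit 0))) (.leaf (nat_lit
    78700338681538084870))) (.node (.node (.leaf (nat_lit 0)) (.leaf (nat_lit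
    203820810269066723355))) (.leaf (nat_lit 531351133935126534422552))))) (.node (.node (.node
    (.node (.leaf (nat_lit 9802349060173266957)) (.leaf (nat_lit 123534521245232201763))) (.node
    (.leaf (nat_lit 5735540958376027892965399986187)) (.leaf (nat_lit 9351838550242557954))))
    (.node (.node (.leaf (nat_lit 0)) (.leaf (nat_lit 0))) (.leaf (nat_lit 0)))) (.node (.node
    (.node (.leaf (nat_lit 1931660475932930729207600119819)) (.leaf (nat_lit 0))) (.leaf (nat_lit
    419761729212222095491080))) (.node (.node (.leaf (nat_lit 50737909149802364951)) (.leaf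
    (nat_lit 189346962376390541314))) (.leaf (nat_lit 127709145885470556183)))))) (.node (.node
    (.node (.node (.node (.leaf (nat_lit 5333053929301409820)) (.leaf (nat_lit 0))) (.node (.leaf
    (nat_lit 1327590376384189843319881738)) (.leaf (nat_lit 55393447347093506)))) (.node (.node
    (.leaf (nat_lit 40069970973706878983)) (.leaf (nat_lit 166634499368894529580))) (.leaf (nat_lit
    110121321337393971203)))) (.node (.node (.node (.leaf (nat_lit 20179505460564656163)) (.leaf
    (nat_lit 2875359651988026947048636426))) (.leaf (nat_lit 83168578289837211655))) (.node (.node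
    (.leaf (nat_lit 0)) (.leaf (nat_lit
    272648682918837283801637563226709219619219273548137562165))) (.leaf (nat_lit 0))))) (.node
    (.node (.node (.node (.leaf (nat_lit 970693724986815546449551818763)) (.leaf (nat_lit
    135208942469789188125))) (.leaf (nat_lit 0))) (.node (.node (.leaf (nat_lit 0)) (.leaf (nat_lit
    816871376321683810156624))) (.leaf (nat_lit 125399871575344480283)))) (.node (.node (.node
    (.leaf (nat_lit 135787857131062616653832)) (.leaf (nat_lit 0))) (.leaf (nat_lit 0))) (.node
    (.node (.leaf (nat_lit 51459364982951706647)) (.leaf (nat_lit 168090780233298542594))) (.leaf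
    (nat_lit 133186438100905295901))))))) (.node (.node (.node (.node (.node (.node (.leaf (nat_lit
    33861141308516409922617354)) (.leaf (nat_lit 136070466300381691939))) (.node (.leaf (nat_lit
    60158775925635594984878279631166772600528699166917722165)) (.leaf (nat_lit
    54197101386661890)))) (.node (.node (.leaf (nat_lit 152333362342957756448772)) (.leaf (nat_lit
    169804153751232249863))) (.leaf (nat_lit 81442117297882988588)))) (.node (.node (.node (.leaf
    (nat_lit 18305656025828753437)) (.leaf (nat_lit 41316550300532741))) (.leaf (nat_lit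
    391739759703830173057028))) (.node (.node (.leaf (nat_lit 0)) (.leaf (nat_lit 0))) (.leaf
    (nat_lit 0))))) (.node (.node (.node (.node (.leaf (nat_lit 12468726480505077802)) (.leaf
    (nat_lit 0))) (.leaf (nat_lit 0))) (.node (.node (.leaf (nat_lit 11930452780777498)) (.leaf
    (nat_lit 194675687472578625600))) (.leaf (nat_lit 0)))) (.node (.node (.node (.leaf (nat_lit
    0)) (.leaf (nat_lit 178674098224993861681))) (.leaf (nat_lit 0))) (.node (.node (.leaf (nat_lit
    48864869239092346903)) (.leaf (nat_lit 50027276552765442))) (.leaf (nat_lit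
    141688917409182973973)))))) (.node (.node (.node (.node (.node (.leaf (nat_lit
    7782836350759403547)) (.leaf (nat_lit 37902841574195226))) (.node (.leaf (nat_lit
    18916474785759291)) (.leaf (nat_lit 229054673650616303618)))) (.node (.node (.leaf (nat_lit
    26811655283143802887)) (.leaf (nat_lit 192366097155938779200))) (.leaf (nat_lit
    373135280556207425978377)))) (.node (.node (.node (.leaf (nat_lit 435320755134173899890425866))
    (.leaf (nat_lit 0))) (.leaf (nat_lit 6844321679980403252037629116427))) (.node (.node (.leaf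
    (nat_lit 15344161507115034)) (.leaf (nat_lit 124783040119028514818))) (.leaf (nat_lit
    532274200933453015547980))))) (.node (.node (.node (.node (.leaf (nat_lit
    69074556223861159100440)) (.leaf (nat_lit 600432541929501937106977))) (.leaf (nat_lit 0)))
    (.node (.node (.leaf (nat_lit 0)) (.leaf (nat_lit 0))) (.leaf (nat_lit 0)))) (.node (.node
    (.node (.leaf (nat_lit 141101531749182146347025)) (.leaf (nat_lit
    226084628897355976987342133139301624676909832672761413704))) (.leaf (nat_lit
    7478278785186752803115593236491))) (.node (.node (.leaf (nat_lit 17596511076614170)) (.leaf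
    (nat_lit 16410174610349424642))) (.leaf (nat_lit 538200799593161124216868))))))))) (.node
    (.node (.node (.node (.node (.node (.node (.node (.leaf (nat_lit 1)) (.leaf (nat_lit
    584835754265690287374372))) (.node (.leaf (nat_lit 72068329690936573975)) (.leaf (nat_lit
    170541760435236044802)))) (.node (.node (.leaf (nat_lit 152621879946000870932484)) (.leaf
    (nat_lit 0))) (.leaf (nat_lit 383749939316478070489097)))) (.node (.node (.node (.leaf (nat_lit
    69074484377459253051425)) (.leaf (nat_lit 0))) (.leaf (nat_lit 374891977196088068407313)))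
    (.node (.node (.leaf (nat_lit 55636312032266092571)) (.leaf (nat_lit
    833079720145743327264792))) (.leaf (nat_lit 0))))) (.node (.node (.node (.node (.leaf (nat_lit
    9368701656998543367)) (.leaf (nat_lit 0))) (.node (.leaf (nat_lit 341239701165411991289864))
    (.leaf (nat_lit 56343872070090754)))) (.node (.node (.leaf (nat_lit 46411479294213816347))
    (.leaf (nat_lit 729153642784045303857161))) (.leaf (nat_lit 112511306664356544582)))) (.node
    (.node (.node (.leaf (nat_lit 114534469100763464597512)) (.leaf (nat_lit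
    689012730207168228491273))) (.leaf (nat_lit 6953284587858308616218271416331))) (.node (.node
    (.leaf (nat_lit 65005259966984159253)) (.leaf (nat_lit 197633532781050134530))) (.leaf (nat_lit
    0)))))) (.node (.node (.node (.node (.node (.leaf (nat_lit 1249350151962649)) (.leaf (nat_lit
    624390031437517105135647))) (.node (.leaf (nat_lit 0)) (.leaf (nat_lit
    3762273890317173545299673090)))) (.node (.node (.leaf (nat_lit 0)) (.leaf (nat_lit
    46296341541945356))) (.leaf (nat_lit 93692084309270396934)))) (.node (.node (.node (.leaf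
    (nat_lit 20900046182212108311)) (.leaf (nat_lit 0))) (.leaf (nat_lit 0))) (.node (.node (.leaf
    (nat_lit 60248789973943386133)) (.leaf (nat_lit 0))) (.leaf (nat_lit 134048912029803282453)))))
    (.node (.node (.node (.node (.leaf (nat_lit 11531326954502553606)) (.leaf (nat_lit 0))) (.leaf
    (nat_lit 358668345850578877022217))) (.node (.node (.leaf (nat_lit 12387952697147418)) (.leaf
    (nat_lit 723259261328826615201801))) (.leaf (nat_lit 124679418737317838876)))) (.node (.node
    (.node (.leaf (nat_lit 29116019827175260167)) (.leaf (nat_lit 738924862725790240079876)))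
    (.leaf (nat_lit 0))) (.node (.node (.leaf (nat_lit 47135698191493824535)) (.leaf (nat_lit
    25993128228417634306))) (.leaf (nat_lit 0))))))) (.node (.node (.node (.node (.node (.node
    (.leaf (nat_lit 128750600969765818313883385867)) (.leaf (nat_lit 150204749092179083319)))
    (.node (.leaf (nat_lit 0)) (.leaf (nat_lit 902131947809985295286274)))) (.node (.node (.leaf
    (nat_lit 33007904382316118023)) (.leaf (nat_lit 169948268913538301996))) (.leaf (nat_lit
    78703823128375787564)))) (.node (.node (.node (.leaf (nat_lit 80294068628196621025313)) (.leaf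
    (nat_lit 688410984662856276115473))) (.leaf (nat_lit 389394793731925444132909))) (.node (.node
    (.leaf (nat_lit 0)) (.leaf (nat_lit 205694958736605642779))) (.leaf (nat_lit 0))))) (.node
    (.node (.node (.node (.leaf (nat_lit 792386827372439517270852894731)) (.leaf (nat_lit
    30954142835015682))) (.leaf (nat_lit 20904632326946821))) (.node (.node (.leaf (nat_lit
    48862053364043808788)) (.leaf (nat_lit 781748201255165514481744))) (.leaf (nat_lit
    122743380778886037568)))) (.node (.node (.node (.leaf (nat_lit 25801194450721112108)) (.leaf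
    (nat_lit 43428128021938181))) (.leaf (nat_lit 89799073587934724103))) (.node (.node (.leaf
    (nat_lit 16364748815859738)) (.leaf (nat_lit 112533777937544183810))) (.leaf (nat_lit 0))))))
    (.node (.node (.node (.node (.node (.leaf (nat_lit 7423375080169865232)) (.leaf (nat_lit
    140683067353001558051))) (.node (.leaf (nat_lit 0)) (.leaf (nat_lit 55125950419137120698370))))
    (.node (.node (.leaf (nat_lit 26955770436859920428)) (.leaf (nat_lit
    752770950625424927096841))) (.leaf (nat_lit 85766382412644941868)))) (.node (.node (.node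
    (.leaf (nat_lit 6264360125202437)) (.leaf (nat_lit 681354885363717927862281))) (.leaf (nat_lit
    86483649931126177798))) (.node (.node (.leaf (nat_lit 0)) (.leaf (nat_lit
    167513105091877076994))) (.leaf (nat_lit 136355564417013973012))))) (.node (.node (.node (.node
    (.leaf (nat_lit 67605013756561823367199)) (.leaf (nat_lit 130597326923185192995))) (.leaf
    (nat_lit 0))) (.node (.node (.leaf (nat_lit 53330117041892556827)) (.leaf (nat_lit
    200937820240495181851))) (.leaf (nat_lit 0)))) (.node (.node (.node (.leaf (nat_lit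
    580368531109463443498139658)) (.leaf (nat_lit 167352717501077323820))) (.leaf (nat_lit
    98735165501562093574))) (.node (.node (.leaf (nat_lit 0)) (.leaf (nat_lit
    42350869495765204994))) (.leaf (nat_lit 132033868551688486941)))))))) (.node (.node (.node
    (.node (.node (.node (.node (.leaf (nat_lit 6789843164610114617348)) (.leaf (nat_lit
    522855414929931383341092))) (.node (.leaf (nat_lit 274527410472382984618017)) (.leaf (nat_lit
    63824578366461378562)))) (.node (.node (.leaf (nat_lit 38558977878128787503)) (.leaf (nat_lit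
    0))) (.leaf (nat_lit 328278708095899228438537)))) (.node (.node (.node (.leaf (nat_lit 0))
    (.leaf (nat_lit 11500089920270107375958579609611))) (.leaf (nat_lit 368434383153505042169860)))
    (.node (.node (.leaf (nat_lit 0)) (.leaf (nat_lit 837243648138590617337875))) (.leaf (nat_lit
    124104242566782976029))))) (.node (.node (.node (.node (.leaf (nat_lit 9368930432726532099))
    (.leaf (nat_lit 114394078567232372738))) (.node (.leaf (nat_lit 20623088630759429)) (.leaf
    (nat_lit 56678273928790018)))) (.node (.node (.leaf (nat_lit 47564752711261028373)) (.leaf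
    (nat_lit 185083425182911234054))) (.leaf (nat_lit 97296160614825263148)))) (.node (.node (.node
    (.leaf (nat_lit 7108991213764613)) (.leaf (nat_lit 171386464688566108166))) (.leaf (nat_lit
    364301305082593621049348))) (.node (.node (.leaf (nat_lit 66014242265505136668)) (.leaf
    (nat_lit 183654500258000601090))) (.leaf (nat_lit 126988869055203704878)))))) (.node (.node
    (.node (.node (.node (.leaf (nat_lit 21844909470697451159584)) (.leaf (nat_lit 0))) (.node
    (.leaf (nat_lit 0)) (.leaf (nat_lit 916211138683997719363586)))) (.node (.node (.leaf (nat_lit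
    173277478933209488293892)) (.leaf (nat_lit 758085197939362788278281))) (.leaf (nat_lit 0))))
    (.node (.node (.node (.leaf (nat_lit 16865067275412242455)) (.leaf (nat_lit 0))) (.leaf
    (nat_lit 88501051389236150316))) (.node (.node (.leaf (nat_lit 0)) (.leaf (nat_lit
    209090039708744089657))) (.leaf (nat_lit 0))))) (.node (.node (.node (.node (.leaf (nat_lit 0))
    (.leaf (nat_lit 148190234169919602743))) (.leaf (nat_lit 365186746281607261585448))) (.node
    (.node (.leaf (nat_lit 47565227957982265373)) (.leaf (nat_lit 0))) (.leaf (nat_lit 0)))) (.node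
    (.node (.node (.leaf (nat_lit 8287942556647436)) (.leaf (nat_lit 179602226943828885548)))
    (.leaf (nat_lit 7389830311023335737993961275440))) (.node (.node (.leaf (nat_lit
    67023770136541855773)) (.leaf (nat_lit 892718919192063613599746))) (.leaf (nat_lit 0)))))))
    (.node (.node (.node (.node (.node (.node (.leaf (nat_lit 9743484559998536908818)) (.leaf
    (nat_lit 36952623009628186))) (.node (.leaf (nat_lit 68617815414154657849)) (.leaf (nat_lit
    122696021415758594050)))) (.node (.node (.leaf (nat_lit 0)) (.leaf (nat_lit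
    46014797845757964))) (.leaf (nat_lit 393213409455896636162057)))) (.node (.node (.node (.leaf
    (nat_lit 17441140870773669934)) (.leaf (nat_lit 0))) (.leaf (nat_lit 88500629030742196230)))
    (.node (.node (.leaf (nat_lit 240876511909453278478360)) (.leaf (nat_lit
    204405856179958513718))) (.leaf (nat_lit 0))))) (.node (.node (.node (.node (.leaf (nat_lit
    12251533390255423495)) (.leaf (nat_lit
    177031791159764673084435912175988957077787264603952840757))) (.leaf (nat_lit
    5942948969529513326602617225227))) (.node (.node (.leaf (nat_lit 203680308084905441755160))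
    (.leaf (nat_lit 724170437573554030772295))) (.leaf (nat_lit 30195574301130778)))) (.node (.node
    (.node (.leaf (nat_lit 127522418467752819032072)) (.leaf (nat_lit 0))) (.leaf (nat_lit
    105442538064263184431))) (.node (.node (.leaf (nat_lit 54197271978337042455)) (.leaf (nat_lit
    196337639692129468418))) (.leaf (nat_lit 0)))))) (.node (.node (.node (.node (.node (.leaf
    (nat_lit 5332825376911720483)) (.leaf (nat_lit 0))) (.node (.leaf (nat_lit
    336516397828198017269768)) (.leaf (nat_lit 55745643255300098)))) (.node (.node (.leaf (nat_lit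
    11050602960388122)) (.leaf (nat_lit 707046012504432615620612))) (.leaf (nat_lit
    464965190343714266152964)))) (.node (.node (.node (.leaf (nat_lit 6545903821389829)) (.leaf
    (nat_lit 42513128189198341))) (.leaf (nat_lit 100683939416711036941))) (.node (.node (.leaf
    (nat_lit 49440678848583893038)) (.leaf (nat_lit 198065667135965954050))) (.leaf (nat_lit 0)))))
    (.node (.node (.node (.node (.leaf (nat_lit 17440436891274117148)) (.leaf (nat_lit 0))) (.leaf
    (nat_lit 0))) (.node (.node (.leaf (nat_lit 54483302498009546779)) (.leaf (nat_lit 0))) (.leaf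
    (nat_lit 510712835579453292937292)))) (.node (.node (.node (.leaf (nat_lit
    36252906033057562662)) (.leaf (nat_lit 0))) (.leaf (nat_lit 0))) (.node (.node (.leaf (nat_lit
    0)) (.leaf (nat_lit 720969134335368303476738))) (.leaf (nat_lit
    600432609341676527550488)))))))))) (.node (.node (.node (.node (.node (.node (.node (.node
    (.node (.leaf (nat_lit 1)) (.leaf (nat_lit 0))) (.node (.leaf (nat_lit 0)) (.leaf (nat_lit
    28227969604252794882)))) (.node (.node (.leaf (nat_lit 30413654920471445507)) (.leaf (nat_lit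
    172973702546093965315))) (.leaf (nat_lit 0)))) (.node (.node (.node (.leaf (nat_lit
    15567115419688042519)) (.leaf (nat_lit 0))) (.leaf (nat_lit 1540549375763963759519137802)))
    (.node (.node (.leaf (nat_lit 0)) (.leaf (nat_lit 830749313043881663922228))) (.leaf (nat_lit
    529329197916748071043103))))) (.node (.node (.node (.node (.leaf (nat_lit 0)) (.leaf (nat_lit
    0))) (.node (.leaf (nat_lit 0)) (.leaf (nat_lit 56343923609698306)))) (.node (.node (.leaf
    (nat_lit 0)) (.leaf (nat_lit 0))) (.leaf (nat_lit 419227220335641357451337)))) (.node (.node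
    (.node (.leaf (nat_lit 0)) (.leaf (nat_lit 0))) (.leaf (nat_lit 414448130064640825884680)))
    (.node (.node (.leaf (nat_lit 191024985615443941392420)) (.leaf (nat_lit
    80395737374790975490))) (.leaf (nat_lit 124904124545706950685)))))) (.node (.node (.node (.node
    (.node (.leaf (nat_lit 4323860524547899415)) (.leaf (nat_lit 152211948001506295836))) (.node
    (.leaf (nat_lit 0)) (.leaf (nat_lit 55217731645079554)))) (.node (.node (.leaf (nat_lit
    39637484620451348486)) (.leaf (nat_lit 3170421394448509298389876746))) (.leaf (nat_lit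
    400018959487118503837700)))) (.node (.node (.node (.leaf (nat_lit 0)) (.leaf (nat_lit
    168069950221733527559))) (.leaf (nat_lit 397070727881387634065451))) (.node (.node (.leaf
    (nat_lit 0)) (.leaf (nat_lit 0))) (.leaf (nat_lit 0))))) (.node (.node (.node (.node (.leaf
    (nat_lit 0)) (.leaf (nat_lit 0))) (.leaf (nat_lit 19004796493234181))) (.node (.node (.leaf
    (nat_lit 207814468849916075835416)) (.leaf (nat_lit 0))) (.leaf (nat_lit 28366038492119066))))
    (.node (.node (.node (.leaf (nat_lit 0)) (.leaf (nat_lit 0))) (.leaf (nat_lit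
    90952347047931609095))) (.node (.node (.leaf (nat_lit 0)) (.leaf (nat_lit 48866278173179906)))
    (.leaf (nat_lit 124904159996367011863))))))) (.node (.node (.node (.node (.node (.node (.leaf
    (nat_lit 7674494246639525691401)) (.leaf (nat_lit 577163782685980606332964))) (.node (.leaf
    (nat_lit 56648215801901547566)) (.leaf (nat_lit 54240971058665684994)))) (.node (.node (.leaf
    (nat_lit 38344247015320518672)) (.leaf (nat_lit 765493518768730269810759))) (.leaf (nat_lit
    0)))) (.node (.node (.node (.leaf (nat_lit 20899782153392554004)) (.leaf (nat_lit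
    11559523134366201579152792223755))) (.leaf (nat_lit 6477849105614608011257748783115))) (.node
    (.node (.leaf (nat_lit 0)) (.leaf (nat_lit 50114790806388762))) (.leaf (nat_lit 0))))) (.node
    (.node (.node (.node (.leaf (nat_lit 47229863172257901445128)) (.leaf (nat_lit
    34331825375674370))) (.leaf (nat_lit 0))) (.node (.node (.leaf (nat_lit
    198682681346425817923615)) (.leaf (nat_lit 794143909503434290888775))) (.leaf (nat_lit
    110987279455431622700)))) (.node (.node (.node (.leaf (nat_lit 119257991390385076961297))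
    (.leaf (nat_lit 0))) (.leaf (nat_lit 90519649511134134316))) (.node (.node (.leaf (nat_lit
    47567762134715793431)) (.leaf (nat_lit 46601039866256097282))) (.leaf (nat_lit 0)))))) (.node
    (.node (.node (.node (.node (.leaf (nat_lit 26565762093232955850776)) (.leaf (nat_lit
    37656499429965850))) (.node (.leaf (nat_lit 5517610305736058784625109368843)) (.leaf (nat_lit
    13314368789052325890)))) (.node (.node (.leaf (nat_lit 0)) (.leaf (nat_lit 0))) (.leaf (nat_lit
    0)))) (.node (.node (.node (.leaf (nat_lit 0)) (.leaf (nat_lit 0))) (.leaf (nat_lit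
    98887248326418432006))) (.node (.node (.leaf (nat_lit 255365060513961397714975)) (.leaf
    (nat_lit 94158423367119732738))) (.leaf (nat_lit 0))))) (.node (.node (.node (.node (.leaf
    (nat_lit 16143505674398269467)) (.leaf (nat_lit 162241675701231222863))) (.leaf (nat_lit
    90020224104000585767))) (.node (.node (.leaf (nat_lit 0)) (.leaf (nat_lit 0))) (.leaf (nat_lit
    30969819465646106)))) (.node (.node (.node (.leaf (nat_lit 141691752089011181846536)) (.leaf
    (nat_lit 0))) (.leaf (nat_lit 95997047279685140524))) (.node (.node (.leaf (nat_lit 0)) (.leaf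
    (nat_lit 47250802430263361538))) (.leaf (nat_lit 593937481507978824908824)))))))) (.node (.node
    (.node (.node (.node (.node (.node (.leaf (nat_lit 0)) (.leaf (nat_lit 134917298384911138851)))
    (.node (.leaf (nat_lit 62124522511320416302)) (.leaf (nat_lit 26931037884865773570)))) (.node
    (.node (.leaf (nat_lit 29116759033996574723)) (.leaf (nat_lit 0))) (.leaf (nat_lit 0)))) (.node
    (.node (.node (.leaf (nat_lit 19602639830284173333)) (.leaf (nat_lit 40823848832204805)))
    (.leaf (nat_lit 0))) (.node (.node (.leaf (nat_lit 13795653998215194)) (.leaf (nat_lit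
    200581912896429293603))) (.leaf (nat_lit 0))))) (.node (.node (.node (.node (.leaf (nat_lit
    38373697549353951166481)) (.leaf (nat_lit 157988852625794334774))) (.node (.leaf (nat_lit 0))
    (.leaf (nat_lit 42340616532787202)))) (.node (.node (.leaf (nat_lit 0)) (.leaf (nat_lit
    722073768982250728456201))) (.leaf (nat_lit 0)))) (.node (.node (.node (.leaf (nat_lit 0))
    (.leaf (nat_lit 172395024697312608263))) (.leaf (nat_lit 0))) (.node (.node (.leaf (nat_lit 0))
    (.leaf (nat_lit 871483689236482001993730))) (.leaf (nat_lit 33996431379529754)))))) (.node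
    (.node (.node (.node (.node (.leaf (nat_lit 5333089113673498654)) (.leaf (nat_lit
    133477096765666820131))) (.node (.leaf (nat_lit 1330144324434473194279469066)) (.leaf (nat_lit
    910881398740651667095554)))) (.node (.node (.leaf (nat_lit 34449549033262481411)) (.leaf
    (nat_lit 0))) (.leaf (nat_lit 0)))) (.node (.node (.node (.leaf (nat_lit 0)) (.leaf (nat_lit
    2877947255116071973763219466))) (.leaf (nat_lit 87780334694188646406))) (.node (.node (.leaf
    (nat_lit 251231980736006634864671)) (.leaf (nat_lit 205121277738675798039))) (.leaf (nat_lit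
    0))))) (.node (.node (.node (.node (.leaf (nat_lit 62291055482107527954477)) (.leaf (nat_lit
    510473041313793828978724))) (.leaf (nat_lit 89011646425758629926))) (.node (.node (.leaf
    (nat_lit 51888736376816074779)) (.leaf (nat_lit 0))) (.leaf (nat_lit
    515158494427138211708959)))) (.node (.node (.node (.leaf (nat_lit 556188243397200619713658890))
    (.leaf (nat_lit 0))) (.leaf (nat_lit 107459060102049497135))) (.node (.node (.leaf (nat_lit 0))
    (.leaf (nat_lit 215720921051387068418))) (.leaf (nat_lit 126269208166196772910))))))) (.node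
    (.node (.node (.node (.node (.node (.leaf (nat_lit 1657764677977047056)) (.leaf (nat_lit 0)))
    (.node (.leaf (nat_lit 77120506288226369591)) (.leaf (nat_lit 921652927632176587210754))))
    (.node (.node (.leaf (nat_lit 37619731189771468806)) (.leaf (nat_lit
    3148652463535995659785404426))) (.leaf (nat_lit 0)))) (.node (.node (.node (.leaf (nat_lit
    83548191316610224750628)) (.leaf (nat_lit 0))) (.leaf (nat_lit 0))) (.node (.node (.leaf
    (nat_lit 58807708376029659157)) (.leaf (nat_lit 202310380514284077085))) (.leaf (nat_lit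
    32377537946583066))))) (.node (.node (.node (.node (.leaf (nat_lit 0)) (.leaf (nat_lit 0)))
    (.leaf (nat_lit 354227434394803604029448))) (.node (.node (.leaf (nat_lit
    49726674175294373908)) (.leaf (nat_lit
    238937550006291676700079863865284862683854588306757845053))) (.leaf (nat_lit 0)))) (.node
    (.node (.node (.leaf (nat_lit 27962992683552800774)) (.leaf (nat_lit
    732440626883383726964786))) (.leaf (nat_lit 0))) (.node (.node (.leaf (nat_lit
    52756014527282348061)) (.leaf (nat_lit 684663494819426903261186))) (.leaf (nat_lit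
    138950623282625445911)))))) (.node (.node (.node (.node (.node (.leaf (nat_lit
    6485729289332523037)) (.leaf (nat_lit 127857097140766703651))) (.node (.leaf (nat_lit 0))
    (.leaf (nat_lit 59849324300999952957442)))) (.node (.node (.leaf (nat_lit 0)) (.leaf (nat_lit
    0))) (.leaf (nat_lit 116895333465903529987)))) (.node (.node (.node (.leaf (nat_lit 0)) (.leaf
    (nat_lit 174348918290787794991))) (.leaf (nat_lit 79134056865773846572))) (.node (.node (.leaf
    (nat_lit 194565607309732244357156)) (.leaf (nat_lit 179186559214353055746))) (.leaf (nat_lit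
    125402669445890113582))))) (.node (.node (.node (.node (.leaf (nat_lit 4117615211577370))
    (.leaf (nat_lit 553803856725162579984417))) (.leaf (nat_lit 6259912406870233667031234117643)))
    (.node (.node (.leaf (nat_lit 0)) (.leaf (nat_lit 0))) (.leaf (nat_lit
    127994807132444885012)))) (.node (.node (.node (.leaf (nat_lit 0)) (.leaf (nat_lit
    750449404231817229500496))) (.leaf (nat_lit 449619669727379284295725))) (.node (.node (.leaf
    (nat_lit 68176902859050385443)) (.leaf (nat_lit 124136317348189765634))) (.leaf (nat_lit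
    146590083141029003285))))))))) (.node (.node (.node (.node (.node (.node (.node (.node (.leaf
    (nat_lit 1)) (.leaf (nat_lit 521341908094397008052257))) (.node (.leaf (nat_lit 0)) (.leaf
    (nat_lit 41198440091331264514)))) (.node (.node (.leaf (nat_lit 34448950589699325959)) (.leaf
    (nat_lit 177873654150814957575))) (.leaf (nat_lit 0)))) (.node (.node (.node (.leaf (nat_lit
    19170083134054268956)) (.leaf (nat_lit 0))) (.leaf (nat_lit 86338408448006488067))) (.node
    (.node (.leaf (nat_lit 51889281957921751075)) (.leaf (nat_lit 0))) (.leaf (nat_lit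
    129724435783038992404))))) (.node (.node (.node (.node (.leaf (nat_lit
    159599168807614432942555146)) (.leaf (nat_lit 542934265655370686136356))) (.node (.leaf
    (nat_lit 5725053384299043884395034705931)) (.leaf (nat_lit 2846081553661954)))) (.node (.node
    (.leaf (nat_lit 191597401958286383906847)) (.leaf (nat_lit 169374517787382448134))) (.leaf
    (nat_lit 0)))) (.node (.node (.node (.leaf (nat_lit 1921568317136542872636062302219)) (.leaf
    (nat_lit 0))) (.leaf (nat_lit 91672289437685055532))) (.node (.node (.leaf (nat_lit 0)) (.leaf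
    (nat_lit 47599468979290114))) (.leaf (nat_lit 0)))))) (.node (.node (.node (.node (.node (.leaf
    (nat_lit 1055853285343258)) (.leaf (nat_lit 0))) (.node (.leaf (nat_lit 19285756073869317))
    (.leaf (nat_lit 110021736695101288349698)))) (.node (.node (.leaf (nat_lit 0)) (.leaf (nat_lit
    774657949119105831534644))) (.leaf (nat_lit 475581371795381697118277)))) (.node (.node (.node
    (.leaf (nat_lit 0)) (.leaf (nat_lit 41809251768860677))) (.leaf (nat_lit
    83312693452143263788))) (.node (.node (.leaf (nat_lit 246778533194034997100568)) (.leaf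
    (nat_lit 0))) (.leaf (nat_lit 549064476819730358075416))))) (.node (.node (.node (.node (.leaf
    (nat_lit 38965434318294117253129)) (.leaf (nat_lit 508935609756141341638689))) (.leaf (nat_lit
    0))) (.node (.node (.leaf (nat_lit 51456408379004747796)) (.leaf (nat_lit 0))) (.leaf (nat_lit
    0)))) (.node (.node (.node (.leaf (nat_lit 0)) (.leaf (nat_lit 173693328267908677635))) (.leaf
    (nat_lit 79999768710386745351))) (.node (.node (.leaf (nat_lit 16963037760192538)) (.leaf
    (nat_lit 79027557860269817858))) (.leaf (nat_lit 0))))))) (.node (.node (.node (.node (.node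
    (.node (.leaf (nat_lit 2306564430575632397)) (.leaf (nat_lit 150626135480415223835))) (.node
    (.leaf (nat_lit 47280763787112808483)) (.leaf (nat_lit 903944556666920806645762)))) (.node
    (.node (.leaf (nat_lit 0)) (.leaf (nat_lit 0))) (.leaf (nat_lit 78559707966069735431)))) (.node
    (.node (.node (.leaf (nat_lit 21476295716613849115)) (.leaf (nat_lit 0))) (.leaf (nat_lit 0)))
    (.node (.node (.leaf (nat_lit 58230807784715386908)) (.leaf (nat_lit
    842526623055000667160608))) (.leaf (nat_lit 0))))) (.node (.node (.node (.node (.leaf (nat_lit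
    45166998774803329187844)) (.leaf (nat_lit 123617730734739095554))) (.leaf (nat_lit
    85913679484292366342))) (.node (.node (.leaf (nat_lit 200139325926604829622296)) (.leaf
    (nat_lit 231277830462483602846570089266841536200312798413213990973))) (.leaf (nat_lit
    362511253886318997143561)))) (.node (.node (.node (.leaf (nat_lit 30630935619464003597)) (.leaf
    (nat_lit 167207476163986522115))) (.leaf (nat_lit 1748362100445811409745674250))) (.node (.node
    (.leaf (nat_lit 0)) (.leaf (nat_lit 49358764893143042))) (.leaf (nat_lit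
    518125696777628806283300)))))) (.node (.node (.node (.node (.node (.leaf (nat_lit 0)) (.leaf
    (nat_lit 570342370449483515559969))) (.node (.leaf (nat_lit 19848843466244101)) (.leaf (nat_lit
    228910769611722653698)))) (.node (.node (.leaf (nat_lit 0)) (.leaf (nat_lit
    181046299771715911686))) (.leaf (nat_lit 0)))) (.node (.node (.node (.leaf (nat_lit
    432861277477607533506265098)) (.leaf (nat_lit 0))) (.leaf (nat_lit 381976383783419108392969)))
    (.node (.node (.leaf (nat_lit 193071704960026571702305)) (.leaf (nat_lit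
    138978352377467437058))) (.leaf (nat_lit 134272561628424896558))))) (.node (.node (.node (.node
    (.leaf (nat_lit 16863940920238866452)) (.leaf (nat_lit 157402927844334698542))) (.leaf (nat_lit
    1518624863921779869755965450))) (.node (.node (.leaf (nat_lit 46412552829879386147)) (.leaf
    (nat_lit 0))) (.leaf (nat_lit 0)))) (.node (.node (.node (.leaf (nat_lit
    582846312404724514713567242)) (.leaf (nat_lit 174558512115012009990))) (.leaf (nat_lit
    429798416597590502277129))) (.node (.node (.leaf (nat_lit 200154101481901211779105)) (.leaf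
    (nat_lit 25057084258518237186))) (.leaf (nat_lit 536697094912584464990241)))))))) (.node (.node
    (.node (.node (.node (.node (.node (.leaf (nat_lit 351959685136389)) (.leaf (nat_lit
    575647536993369720094753))) (.node (.leaf (nat_lit 61692176981452587037)) (.leaf (nat_lit
    68868592691937738754)))) (.node (.node (.leaf (nat_lit 38559118615617142833)) (.leaf (nat_lit
    3124466861864051071246467082))) (.leaf (nat_lit 90953367781269241859)))) (.node (.node (.node
    (.leaf (nat_lit 20179030248203157531)) (.leaf (nat_lit 0))) (.leaf (nat_lit 0))) (.node (.node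
    (.leaf (nat_lit 194842015718900555317281)) (.leaf (nat_lit 48267576911986714))) (.leaf (nat_lit
    0))))) (.node (.node (.node (.node (.leaf (nat_lit 11027345815428595751)) (.leaf (nat_lit
    144802435203162374146))) (.leaf (nat_lit 1419481137914077341240590346))) (.node (.node (.leaf
    (nat_lit 0)) (.leaf (nat_lit 683693445107999039553545))) (.leaf (nat_lit
    96431469512139931655)))) (.node (.node (.node (.leaf (nat_lit 119848212363532810059784)) (.leaf
    (nat_lit 12153912108716797279751400456203))) (.leaf (nat_lit 103427722468523180059))) (.node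
    (.node (.leaf (nat_lit 58231934148478697507)) (.leaf (nat_lit 809212524010181543329794)))
    (.leaf (nat_lit 547633209267399896072229)))))) (.node (.node (.node (.node (.node (.leaf
    (nat_lit 6485852357325422612)) (.leaf (nat_lit 0))) (.node (.leaf (nat_lit
    328251463532862113054728)) (.leaf (nat_lit 55604579349430274)))) (.node (.node (.leaf (nat_lit
    10452348375793669)) (.leaf (nat_lit 13095018613306658309034257809419))) (.leaf (nat_lit 0))))
    (.node (.node (.node (.leaf (nat_lit 0)) (.leaf (nat_lit 0))) (.leaf (nat_lit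
    24036814536966149))) (.node (.node (.leaf (nat_lit 210767606704768939196449)) (.leaf (nat_lit
    265860189201297669259646980841385803251378247763695042613))) (.leaf (nat_lit 0))))) (.node
    (.node (.node (.node (.leaf (nat_lit 15566974518990929941)) (.leaf (nat_lit
    146532978484222033977))) (.leaf (nat_lit 21678911851200517))) (.node (.node (.leaf (nat_lit 0))
    (.leaf (nat_lit 0))) (.leaf (nat_lit 0)))) (.node (.node (.node (.leaf (nat_lit
    33298825950615764998)) (.leaf (nat_lit 181485417674735550534))) (.leaf (nat_lit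
    81729326966466871299))) (.node (.node (.leaf (nat_lit 0)) (.leaf (nat_lit
    170180837050404765698))) (.leaf (nat_lit 0))))))) (.node (.node (.node (.node (.node (.node
    (.leaf (nat_lit 0)) (.leaf (nat_lit 0))) (.node (.leaf (nat_lit 73950147608561516598)) (.leaf
    (nat_lit 55041766834962434)))) (.node (.node (.leaf (nat_lit 36755145640202403884)) (.leaf
    (nat_lit 769344133622648789008436))) (.leaf (nat_lit 18953634842804229)))) (.node (.node (.node
    (.leaf (nat_lit 0)) (.leaf (nat_lit 697267717985629649502216))) (.leaf (nat_lit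
    93832961384062844931))) (.node (.node (.leaf (nat_lit 0)) (.leaf (nat_lit
    200939562236280766510))) (.leaf (nat_lit 0))))) (.node (.node (.node (.node (.leaf (nat_lit 0))
    (.leaf (nat_lit 0))) (.leaf (nat_lit 0))) (.node (.node (.leaf (nat_lit 12141610552918042))
    (.leaf (nat_lit 193018574203701624899))) (.leaf (nat_lit 0)))) (.node (.node (.node (.leaf
    (nat_lit 29260134972301443116)) (.leaf (nat_lit 0))) (.leaf (nat_lit
    431902867197136214425662))) (.node (.node (.leaf (nat_lit 0)) (.leaf (nat_lit
    215360245954320203778))) (.leaf (nat_lit 34770659364175898)))))) (.node (.node (.node (.node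
    (.node (.leaf (nat_lit 31878425635601005150240)) (.leaf (nat_lit 619917057466529711652897)))
    (.node (.leaf (nat_lit 5645807083469834210526584242187)) (.leaf (nat_lit
    230208122929394417666)))) (.node (.node (.leaf (nat_lit 0)) (.leaf (nat_lit
    166923715096443289606))) (.leaf (nat_lit 117327925355095457836)))) (.node (.node (.node (.leaf
    (nat_lit 452205861911411823412051978)) (.leaf (nat_lit 702004859934709465219081))) (.leaf
    (nat_lit 0))) (.node (.node (.leaf (nat_lit 187744629195318113861665)) (.leaf (nat_lit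
    169819106143002361858))) (.leaf (nat_lit 0))))) (.node (.node (.node (.node (.leaf (nat_lit
    72918972981007050080287)) (.leaf (nat_lit 555928701754227883769892))) (.leaf (nat_lit
    80141208992830652422))) (.node (.node (.leaf (nat_lit 45403992872672493603)) (.leaf (nat_lit
    202523632761586253851))) (.leaf (nat_lit 29421810172952651)))) (.node (.node (.node (.leaf
    (nat_lit 149085726069254430916648)) (.leaf (nat_lit 754284887466144310755409))) (.leaf (nat_lit
    451966797198857704046657))) (.node (.node (.leaf (nat_lit 58809486045813604375)) (.leaf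
    (nat_lit 132423112710351421442))) (.leaf (nat_lit 129728764500188004375))))))))))) (.node
    (.node (.node (.node (.node (.node (.node (.node (.node (.node (.leaf (nat_lit 1)) (.leaf
    (nat_lit 583333923539955451428897))) (.node (.leaf (nat_lit 50306725168069935139)) (.leaf
    (nat_lit 128099762711386324994)))) (.node (.node (.leaf (nat_lit 0)) (.leaf (nat_lit 0)))
    (.leaf (nat_lit 426859117478315718606857)))) (.node (.node (.node (.leaf (nat_lit
    18305374361873481749)) (.leaf (nat_lit 590984783072655944450081))) (.leaf (nat_lit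
    6299547044884246211685607931915))) (.node (.node (.leaf (nat_lit 0)) (.leaf (nat_lit
    829536727745944195694624))) (.leaf (nat_lit 128938469644182945827))))) (.node (.node (.node
    (.node (.leaf (nat_lit 0)) (.leaf (nat_lit 508346321555512688377889))) (.node (.leaf (nat_lit
    0)) (.leaf (nat_lit 3847274130174057652722925570)))) (.node (.node (.leaf (nat_lit
    187740158949401741754392)) (.leaf (nat_lit 173120844131335340076))) (.leaf (nat_lit
    119286253144185198905688973408590672544048760810311057480)))) (.node (.node (.node (.leaf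
    (nat_lit 0)) (.leaf (nat_lit 0))) (.leaf (nat_lit 78989941720647663623))) (.node (.node (.leaf
    (nat_lit 61113956340529823779)) (.leaf (nat_lit 80107506981459394562))) (.leaf (nat_lit
    27346507745329178)))))) (.node (.node (.node (.node (.node (.leaf (nat_lit
    4324282737012965398)) (.leaf (nat_lit 152211895224948162587))) (.node (.leaf (nat_lit 0))
    (.leaf (nat_lit 3779527645980719804487892994)))) (.node (.node (.leaf (nat_lit
    9994839869489157)) (.leaf (nat_lit 762809149302178685648905))) (.leaf (nat_lit
    89512708644928684076)))) (.node (.node (.node (.leaf (nat_lit 21476401347039526947)) (.leaf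
    (nat_lit 170519838050278899718))) (.leaf (nat_lit 96795397565897179178))) (.node (.node (.leaf
    (nat_lit 206958215462185999794212)) (.leaf (nat_lit 0))) (.leaf (nat_lit 0))))) (.node (.node
    (.node (.node (.leaf (nat_lit 44873292338241393131524)) (.leaf (nat_lit
    580382732860100196958241))) (.leaf (nat_lit 0))) (.node (.node (.leaf (nat_lit
    50735902764419973140)) (.leaf (nat_lit 198422577110082322506))) (.leaf (nat_lit 0)))) (.node
    (.node (.node (.leaf (nat_lit 2209024341475359854774928670768)) (.leaf (nat_lit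
    40507936807714821))) (.leaf (nat_lit 79134936810083516422))) (.node (.node (.leaf (nat_lit
    186897383639929548177444)) (.leaf (nat_lit 877971828328330848108546))) (.leaf (nat_lit
    129946995310370947118))))))) (.node (.node (.node (.node (.node (.node (.leaf (nat_lit
    7674205857933699579912)) (.leaf (nat_lit 126558793467091419165))) (.node (.leaf (nat_lit 0))
    (.leaf (nat_lit 54232225629208578)))) (.node (.node (.leaf (nat_lit 157342949145827099279364))
    (.leaf (nat_lit 730964519716468337934340))) (.leaf (nat_lit 414460454869412941660169)))) (.node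
    (.node (.node (.leaf (nat_lit 0)) (.leaf (nat_lit 2822148021846327638398140426))) (.leaf
    (nat_lit 1581504357980719820172492810))) (.node (.node (.leaf (nat_lit
    198101616156642963095588)) (.leaf (nat_lit 0))) (.leaf (nat_lit 123528028156623781934)))))
    (.node (.node (.node (.node (.leaf (nat_lit 2639519396528133)) (.leaf (nat_lit
    126571882057803431938))) (.leaf (nat_lit 345962364674871069507601))) (.node (.node (.leaf
    (nat_lit 48141195905738145820)) (.leaf (nat_lit
    260002834318037021050964341185191500331225162667185209405))) (.leaf (nat_lit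
    102916758554439516163)))) (.node (.node (.node (.leaf (nat_lit 493363955474694585274662922))
    (.leaf (nat_lit 717086090201826158968851))) (.leaf (nat_lit 0))) (.node (.node (.leaf (nat_lit
    0)) (.leaf (nat_lit 46528982259333267458))) (.leaf (nat_lit 34313150857871386)))))) (.node
    (.node (.node (.node (.node (.leaf (nat_lit 6485834765139378199)) (.leaf (nat_lit 0))) (.node
    (.leaf (nat_lit 1347073418988803180930072586)) (.leaf (nat_lit 55745342607589378)))) (.node
    (.node (.leaf (nat_lit 173571113628948404371465)) (.leaf (nat_lit 781152788687088391553076)))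
    (.leaf (nat_lit 117696198893554040902)))) (.node (.node (.node (.leaf (nat_lit
    67023512386092413485092)) (.leaf (nat_lit 0))) (.leaf (nat_lit 1656467796276159524903387146)))
    (.node (.node (.leaf (nat_lit 62122569005575372828)) (.leaf (nat_lit 89979082758301089794)))
    (.leaf (nat_lit 535829381674672612180004))))) (.node (.node (.node (.node (.leaf (nat_lit
    3800878553366554)) (.leaf (nat_lit 638552749024400327835704))) (.leaf (nat_lit
    90020171327442452518))) (.node (.node (.leaf (nat_lit 216079042769320860188696)) (.leaf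
    (nat_lit 0))) (.leaf (nat_lit 0)))) (.node (.node (.node (.leaf (nat_lit 8411130808631301))
    (.leaf (nat_lit 3054329679807663017564635146))) (.leaf (nat_lit 0))) (.node (.node (.leaf
    (nat_lit 71566475995193212944)) (.leaf (nat_lit 37162689512052293634))) (.leaf (nat_lit
    138086776776668938263)))))))) (.node (.node (.node (.node (.node (.node (.node (.leaf (nat_lit
    1)) (.leaf (nat_lit 148608346805233713180))) (.node (.leaf (nat_lit 0)) (.leaf (nat_lit
    45089551019782897666)))) (.node (.node (.leaf (nat_lit 0)) (.leaf (nat_lit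
    172685612967560151043))) (.leaf (nat_lit 111932665288437465155)))) (.node (.node (.node (.leaf
    (nat_lit 19602587053726040084)) (.leaf (nat_lit 0))) (.leaf (nat_lit 0))) (.node (.node (.leaf
    (nat_lit 0)) (.leaf (nat_lit 204038284872947793949))) (.leaf (nat_lit 0))))) (.node (.node
    (.node (.node (.leaf (nat_lit 162037390625664846541422602)) (.leaf (nat_lit
    647390969984353420181582))) (.node (.leaf (nat_lit 340649485892123946647569)) (.leaf (nat_lit
    231433344921324683266)))) (.node (.node (.leaf (nat_lit 11508111466692634)) (.leaf (nat_lit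
    182056935838804279302))) (.leaf (nat_lit 434521793928200404074505)))) (.node (.node (.node
    (.leaf (nat_lit 113944103801312833175569)) (.leaf (nat_lit 0))) (.leaf (nat_lit
    346568220106305193639945))) (.node (.node (.leaf (nat_lit 231428897344035049701409)) (.leaf
    (nat_lit 778221489123395169943554))) (.leaf (nat_lit 0)))))) (.node (.node (.node (.node (.node
    (.leaf (nat_lit 4323895769049530397)) (.leaf (nat_lit 123244953596653142045))) (.node (.leaf
    (nat_lit 5437804135564940044289106640907)) (.leaf (nat_lit 223073707377679335426)))) (.node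
    (.node (.leaf (nat_lit 0)) (.leaf (nat_lit 757227352282315486396420))) (.leaf (nat_lit
    94268685833421914156)))) (.node (.node (.node (.leaf (nat_lit 94175966459544570429476)) (.leaf
    (nat_lit 11777467088438254821150434918411))) (.leaf (nat_lit 0))) (.node (.node (.leaf (nat_lit
    61113375600821862427)) (.leaf (nat_lit 0))) (.leaf (nat_lit 0))))) (.node (.node (.node (.node
    (.leaf (nat_lit 3677664531578892)) (.leaf (nat_lit 131173682019293134883))) (.leaf (nat_lit
    83167100005043601411))) (.node (.node (.leaf (nat_lit 12563917507264538)) (.leaf (nat_lit 0)))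
    (.leaf (nat_lit 125399924351902613532)))) (.node (.node (.node (.leaf (nat_lit
    133428043300573863477257)) (.leaf (nat_lit 169225792647699038215))) (.leaf (nat_lit
    86485057761276264492))) (.node (.node (.leaf (nat_lit 227295962860288425066529)) (.leaf
    (nat_lit 128963542705479286786))) (.leaf (nat_lit 0))))))) (.node (.node (.node (.node (.node
    (.node (.leaf (nat_lit 862227569704975)) (.leaf (nat_lit 617895191781418996072479))) (.node
    (.leaf (nat_lit 76976390421545680950)) (.leaf (nat_lit 54830445854064642)))) (.node (.node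
    (.leaf (nat_lit 0)) (.leaf (nat_lit 745685670392723123994633))) (.leaf (nat_lit
    467919416309221398151233)))) (.node (.node (.node (.leaf (nat_lit 88860995701925256364063))
    (.leaf (nat_lit 0))) (.leaf (nat_lit 0))) (.node (.node (.leaf (nat_lit 58807655599471525908))
    (.leaf (nat_lit 44819602936561690))) (.leaf (nat_lit 0))))) (.node (.node (.node (.node (.leaf
    (nat_lit 51663352150459435712555)) (.leaf (nat_lit 126272885886562795555))) (.leaf (nat_lit
    21080597137063941))) (.node (.node (.leaf (nat_lit 0)) (.leaf (nat_lit 190280209682630115395)))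
    (.leaf (nat_lit 0)))) (.node (.node (.node (.leaf (nat_lit 7425762231713797)) (.leaf (nat_lit
    731849465783543197335617))) (.leaf (nat_lit 81440498275601022982))) (.node (.node (.leaf
    (nat_lit 0)) (.leaf (nat_lit 50414459264565250))) (.leaf (nat_lit 134915433200873570350))))))
    (.node (.node (.node (.node (.node (.leaf (nat_lit 7782924311689625628)) (.leaf (nat_lit
    147600930683717091357))) (.node (.leaf (nat_lit 0)) (.leaf (nat_lit 55921496396267522))))
    (.node (.node (.leaf (nat_lit 150546694826827792515081)) (.leaf (nat_lit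
    187396779883767201859))) (.leaf (nat_lit 0)))) (.node (.node (.node (.leaf (nat_lit
    105088369081345135345681)) (.leaf (nat_lit 170232874517680816172))) (.leaf (nat_lit 0))) (.node
    (.node (.leaf (nat_lit 57943316581025251357)) (.leaf (nat_lit 187040836904357658626))) (.leaf
    (nat_lit 0))))) (.node (.node (.node (.node (.leaf (nat_lit 0)) (.leaf (nat_lit 0))) (.leaf
    (nat_lit 373119927484378469629960))) (.node (.node (.leaf (nat_lit 50303874065699635246))
    (.leaf (nat_lit 200291887997041967127))) (.leaf (nat_lit 26149620619018315)))) (.node (.node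
    (.node (.leaf (nat_lit 34740329271368286214)) (.leaf (nat_lit 183071071634223988800))) (.leaf
    (nat_lit 26764247618945036))) (.node (.node (.leaf (nat_lit 60250532330506223645)) (.leaf
    (nat_lit 64264604240131429498882))) (.leaf (nat_lit 0))))))))) (.node (.node (.node (.node
    (.node (.node (.node (.node (.leaf (nat_lit 1)) (.leaf (nat_lit 0))) (.node (.leaf (nat_lit
    277481699699915118346273)) (.leaf (nat_lit 88468461776717937377282)))) (.node (.node (.leaf
    (nat_lit 0)) (.leaf (nat_lit 45082214416908293))) (.leaf (nat_lit 456106581112490245226562))))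
    (.node (.node (.node (.leaf (nat_lit 0)) (.leaf (nat_lit 0))) (.leaf (nat_lit 0))) (.node
    (.node (.leaf (nat_lit 55636364808824225820)) (.leaf (nat_lit 821874550686114767962145)))
    (.leaf (nat_lit 27205254860898379))))) (.node (.node (.node (.node (.leaf (nat_lit
    38964064361715402539016)) (.leaf (nat_lit 123822681226869932067))) (.node (.leaf (nat_lit
    1397716930521337512795111434)) (.leaf (nat_lit 3479443200933890)))) (.node (.node (.leaf
    (nat_lit 46411532070771949596)) (.leaf (nat_lit 0))) (.leaf (nat_lit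
    459952947576087469359175)))) (.node (.node (.node (.leaf (nat_lit 469134366025693117978837002))
    (.leaf (nat_lit 175719366827941494790))) (.leaf (nat_lit 0))) (.node (.node (.leaf (nat_lit
    49728997254385303575)) (.leaf (nat_lit 183438169330896011266))) (.leaf (nat_lit
    127420774754650619950)))))) (.node (.node (.node (.node (.node (.leaf (nat_lit 0)) (.leaf
    (nat_lit 508101623430489689030692))) (.node (.leaf (nat_lit 0)) (.leaf (nat_lit
    55323035653242882)))) (.node (.node (.leaf (nat_lit 25658381780197244931)) (.leaf (nat_lit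
    777313847937936944005165))) (.leaf (nat_lit 400868590578445481934857)))) (.node (.node (.node
    (.leaf (nat_lit 91509184604407605755937)) (.leaf (nat_lit 0))) (.leaf (nat_lit
    93544836621156941827))) (.node (.node (.leaf (nat_lit 45837183205427576855)) (.leaf (nat_lit
    840773098161709781352481))) (.leaf (nat_lit 127996003761873158167))))) (.node (.node (.node
    (.node (.leaf (nat_lit 10810856567239540743)) (.leaf (nat_lit 135497172820171096110))) (.leaf
    (nat_lit 0))) (.node (.node (.leaf (nat_lit 0)) (.leaf (nat_lit 198999301298499813446))) (.leaf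
    (nat_lit 512206294869730098675743)))) (.node (.node (.node (.leaf (nat_lit 0)) (.leaf (nat_lit
    0))) (.leaf (nat_lit 102481702865848172550))) (.node (.node (.leaf (nat_lit 0)) (.leaf (nat_lit
    25921070651559575554))) (.leaf (nat_lit 133474668459877138478))))))) (.node (.node (.node
    (.node (.node (.node (.leaf (nat_lit 721455721611276)) (.leaf (nat_lit 0))) (.node (.leaf
    (nat_lit 56504100639595495453)) (.leaf (nat_lit 9781574612600160258)))) (.node (.node (.leaf
    (nat_lit 110408813138114429321225)) (.leaf (nat_lit 743653718298421824323588))) (.leaf (nat_lit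
    0)))) (.node (.node (.node (.leaf (nat_lit 0)) (.leaf (nat_lit 0))) (.leaf (nat_lit
    386738894912544575848500))) (.node (.node (.leaf (nat_lit 58230719823785164827)) (.leaf
    (nat_lit 203389344425810526237))) (.leaf (nat_lit 123672055418129154071))))) (.node (.node
    (.node (.node (.leaf (nat_lit 0)) (.leaf (nat_lit 36636427517296642))) (.leaf (nat_lit
    324147213988121750536201))) (.node (.node (.leaf (nat_lit 48862106140601942037)) (.leaf
    (nat_lit 759311268615739821785161))) (.leaf (nat_lit 0)))) (.node (.node (.node (.leaf (nat_lit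
    30630847658533781551)) (.leaf (nat_lit 0))) (.leaf (nat_lit 426846432104424853995528))) (.node
    (.node (.leaf (nat_lit 57511674944757628963)) (.leaf (nat_lit 875004783798582503538690)))
    (.leaf (nat_lit 133906521305456508957)))))) (.node (.node (.node (.node (.node (.leaf (nat_lit
    7423199261388636194)) (.leaf (nat_lit 0))) (.node (.leaf (nat_lit 0)) (.leaf (nat_lit
    15548154217112993794)))) (.node (.node (.leaf (nat_lit 148491251956861538402308)) (.leaf
    (nat_lit 0))) (.leaf (nat_lit 461723895472718201749508)))) (.node (.node (.node (.leaf (nat_lit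
    105678734591901999300616)) (.leaf (nat_lit 0))) (.leaf (nat_lit 407953434646876094988296)))
    (.node (.node (.leaf (nat_lit 58231546931407159342)) (.leaf (nat_lit 127449102009587924994)))
    (.leaf (nat_lit 136355617193572106261))))) (.node (.node (.node (.node (.leaf (nat_lit 0))
    (.leaf (nat_lit 0))) (.leaf (nat_lit 21925262585364485))) (.node (.node (.leaf (nat_lit
    53330169818450690076)) (.leaf (nat_lit 0))) (.leaf (nat_lit 31075398351716378)))) (.node (.node
    (.node (.leaf (nat_lit 2377194340308012760200821211147)) (.leaf (nat_lit 0))) (.leaf (nat_lit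
    95852932108789153799))) (.node (.node (.leaf (nat_lit 61115223433191555118)) (.leaf (nat_lit
    31686345973288861698))) (.leaf (nat_lit 0)))))))) (.node (.node (.node (.node (.node (.node
    (.node (.leaf (nat_lit 0)) (.leaf (nat_lit 0))) (.node (.leaf (nat_lit 0)) (.leaf (nat_lit
    60077565540705697794)))) (.node (.node (.leaf (nat_lit 38559101023431098381)) (.leaf (nat_lit
    45398942485184517))) (.leaf (nat_lit 0)))) (.node (.node (.node (.leaf (nat_lit
    4786281490022426)) (.leaf (nat_lit 2810230286458791296007208970))) (.leaf (nat_lit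
    94057120636388704316))) (.node (.node (.leaf (nat_lit 55636857475932815406)) (.leaf (nat_lit
    0))) (.leaf (nat_lit 0))))) (.node (.node (.node (.node (.leaf (nat_lit 11027380999800684582))
    (.leaf (nat_lit 114177905793708523522))) (.leaf (nat_lit 346552723957794073739272))) (.node
    (.node (.leaf (nat_lit 194824861876788872347672)) (.leaf (nat_lit 0))) (.leaf (nat_lit 0))))
    (.node (.node (.node (.leaf (nat_lit 26953939964748038150)) (.leaf (nat_lit
    2967265764956858270590763018))) (.leaf (nat_lit
    136220373589377065465136492359625238473006172715564728381))) (.node (.node (.leaf (nat_lit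
    47135293365056372765)) (.leaf (nat_lit 52120768166887426))) (.leaf (nat_lit
    123241821388673318935)))))) (.node (.node (.node (.node (.node (.leaf (nat_lit 0)) (.leaf
    (nat_lit 141259422509239042083))) (.node (.leaf (nat_lit 19532106808033285)) (.leaf (nat_lit
    929766685420852454096898)))) (.node (.node (.leaf (nat_lit 0)) (.leaf (nat_lit
    3197024257319599277412253706))) (.leaf (nat_lit 102195302695520370691)))) (.node (.node (.node
    (.leaf (nat_lit 63761750941799905755169)) (.leaf (nat_lit 166773230291478839299))) (.leaf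
    (nat_lit 0))) (.node (.node (.leaf (nat_lit 55493182367385976855)) (.leaf (nat_lit
    208081391756247236687))) (.leaf (nat_lit 33011019852939290))))) (.node (.node (.node (.node
    (.leaf (nat_lit 15567009703363018772)) (.leaf (nat_lit 571259242641020971909176))) (.leaf
    (nat_lit 0))) (.node (.node (.leaf (nat_lit 214034120008999800930335)) (.leaf (nat_lit
    48214516886011930))) (.leaf (nat_lit 30793854655528986)))) (.node (.node (.node (.leaf (nat_lit
    139638690339013930516525)) (.leaf (nat_lit
    240647640212762632552738964756179269253296335889722310717))) (.leaf (nat_lit 0))) (.node (.node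
    (.leaf (nat_lit 228810115979970104000548)) (.leaf (nat_lit 217162354943993249794))) (.leaf
    (nat_lit 35298553794527258))))))) (.node (.node (.node (.node (.node (.node (.leaf (nat_lit
    10923211225807781625875)) (.leaf (nat_lit 135494251890222497827))) (.node (.leaf (nat_lit
    238262267025399830806586)) (.leaf (nat_lit 215434168663676223490)))) (.node (.node (.leaf
    (nat_lit 26811162478596259843)) (.leaf (nat_lit 772590328252018995757101))) (.leaf (nat_lit
    0)))) (.node (.node (.node (.leaf (nat_lit 19602939060655685655)) (.leaf (nat_lit 0))) (.leaf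
    (nat_lit 0))) (.node (.node (.leaf (nat_lit 203695155521032187805729)) (.leaf (nat_lit 0)))
    (.leaf (nat_lit 519547956690788207034401))))) (.node (.node (.node (.node (.leaf (nat_lit
    47229647404181966028809)) (.leaf (nat_lit 160727726645951266870))) (.leaf (nat_lit
    86634466505134374918))) (.node (.node (.leaf (nat_lit 0)) (.leaf (nat_lit
    195108173937503305792))) (.leaf (nat_lit 0)))) (.node (.node (.node (.leaf (nat_lit 0)) (.leaf
    (nat_lit 169801655162597736451))) (.leaf (nat_lit 105442590840821317645))) (.node (.node (.leaf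
    (nat_lit 185384455640084002373665)) (.leaf (nat_lit 172558034460135849986))) (.leaf (nat_lit
    0)))))) (.node (.node (.node (.node (.node (.leaf (nat_lit 33359496174394186924063)) (.leaf
    (nat_lit 146304492168309571630))) (.node (.leaf (nat_lit 1378372346087533222889324554)) (.leaf
    (nat_lit 44797216385153653538818)))) (.node (.node (.leaf (nat_lit 45402796062855594011))
    (.leaf (nat_lit 0))) (.leaf (nat_lit 0)))) (.node (.node (.node (.leaf (nat_lit
    110402037929115973320712)) (.leaf (nat_lit 170088759355374764039))) (.leaf (nat_lit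
    6924251189476472552542660067376))) (.node (.node (.leaf (nat_lit 52755240213398355991)) (.leaf
    (nat_lit 171332333119790579714))) (.leaf (nat_lit 131455788845822574615))))) (.node (.node
    (.node (.node (.leaf (nat_lit 16143294645475147811)) (.leaf (nat_lit 40295971581722650)))
    (.leaf (nat_lit 22347543769907205))) (.node (.node (.leaf (nat_lit 49727413330576080925))
    (.leaf (nat_lit 0))) (.leaf (nat_lit 0)))) (.node (.node (.node (.leaf (nat_lit
    36252853256499429415)) (.leaf (nat_lit 169226496506939506691))) (.leaf (nat_lit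
    82162059687636434988))) (.node (.node (.leaf (nat_lit 71779923341384810542)) (.leaf (nat_lit
    895686395470912602505218))) (.leaf (nat_lit 0)))))))))) (.node (.node (.node (.node (.node
    (.node (.node (.node (.node (.leaf (nat_lit 1)) (.leaf (nat_lit 135061343161293144099))) (.node
    (.leaf (nat_lit 46415755844690051118)) (.leaf (nat_lit 27939739240985985026)))) (.node (.node
    (.leaf (nat_lit 34593065743415443500)) (.leaf (nat_lit 178017769313121009708))) (.leaf (nat_lit
    97870720792560599046)))) (.node (.node (.node (.leaf (nat_lit 74978955743297664188440)) (.leaf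
    (nat_lit 0))) (.leaf (nat_lit 6310087824687116550397487349771))) (.node (.node (.leaf (nat_lit
    13549303264051226)) (.leaf (nat_lit 0))) (.leaf (nat_lit 514540466242137278906404))))) (.node
    (.node (.node (.node (.leaf (nat_lit 2287555416555525)) (.leaf (nat_lit
    540818355803159047438369))) (.node (.leaf (nat_lit 20306351972548613)) (.leaf (nat_lit
    8054765650985549826)))) (.node (.node (.leaf (nat_lit 11191400578285594)) (.leaf (nat_lit
    47299362434449413))) (.leaf (nat_lit 115609747680017973322)))) (.node (.node (.node (.leaf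
    (nat_lit 6792254555553797)) (.leaf (nat_lit 42829847667539973))) (.leaf (nat_lit
    1697581311622266347181113354))) (.node (.node (.leaf (nat_lit 0)) (.leaf (nat_lit
    866754837447759555198978))) (.leaf (nat_lit 558531553216602080280612)))))) (.node (.node (.node
    (.node (.node (.leaf (nat_lit 17712838323120178987032)) (.leaf (nat_lit
    132323964086107963427))) (.node (.leaf (nat_lit 19180177187799045)) (.leaf (nat_lit
    55147302771359746)))) (.node (.node (.leaf (nat_lit 119852537280056671862793)) (.leaf (nat_lit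
    12986053286986673754864112500747))) (.leaf (nat_lit 0)))) (.node (.node (.node (.leaf (nat_lit
    16144315344453042222)) (.leaf (nat_lit 699039686456563965624328))) (.leaf (nat_lit 0))) (.node
    (.node (.leaf (nat_lit 60248737197385252884)) (.leaf (nat_lit 205408223825116725294))) (.leaf
    (nat_lit 29281390512177227))))) (.node (.node (.node (.node (.leaf (nat_lit 3308177085038597))
    (.leaf (nat_lit 593956797570922351689761))) (.leaf (nat_lit 359541105705532027830280))) (.node
    (.node (.leaf (nat_lit 0)) (.leaf (nat_lit 48390352847110149))) (.leaf (nat_lit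
    124679453921689927707)))) (.node (.node (.node (.leaf (nat_lit 7777691851948037)) (.leaf
    (nat_lit 169657786316666109955))) (.leaf (nat_lit 414193201362728896430117))) (.node (.node
    (.leaf (nat_lit 51170993826361966638)) (.leaf (nat_lit 64543909427749781506))) (.leaf (nat_lit
    549980263766980229857356))))))) (.node (.node (.node (.node (.node (.node (.leaf (nat_lit
    31432661749923613474357258)) (.leaf (nat_lit
    183163386861897763358603500106099434701634578368103776309))) (.node (.leaf (nat_lit
    284563880611536691265569)) (.leaf (nat_lit 54826197547742092591106)))) (.node (.node (.leaf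
    (nat_lit 0)) (.leaf (nat_lit 0))) (.leaf (nat_lit 107238595183023161347)))) (.node (.node
    (.node (.leaf (nat_lit 19170347119924150318)) (.leaf (nat_lit 2824740938933931284564869130)))
    (.leaf (nat_lit 23174565492555788))) (.node (.node (.leaf (nat_lit 207816991710561830174753))
    (.leaf (nat_lit 0))) (.leaf (nat_lit 32096002840330266))))) (.node (.node (.node (.node (.leaf
    (nat_lit 193451453516825424382197770)) (.leaf (nat_lit 158277311429781684226))) (.leaf (nat_lit
    0))) (.node (.node (.leaf (nat_lit 0)) (.leaf (nat_lit 193522590063291203648))) (.leaf (nat_lit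
    364590835909473159348228)))) (.node (.node (.node (.leaf (nat_lit 0)) (.leaf (nat_lit 0)))
    (.leaf (nat_lit 0))) (.node (.node (.leaf (nat_lit 0)) (.leaf (nat_lit 125432087137189298178)))
    (.leaf (nat_lit 516623433671145370681377)))))) (.node (.node (.node (.node (.node (.leaf
    (nat_lit 17711180805072109174817)) (.leaf (nat_lit 144574142246677577757))) (.node (.leaf
    (nat_lit 327661247907730347524113)) (.leaf (nat_lit 55815960459870210)))) (.node (.node (.leaf
    (nat_lit 33008537967301689347)) (.leaf (nat_lit 173264009221105713159))) (.leaf (nat_lit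
    100466061227638063107)))) (.node (.node (.node (.leaf (nat_lit 0)) (.leaf (nat_lit 0))) (.leaf
    (nat_lit 0))) (.node (.node (.leaf (nat_lit 213453920038162522177572)) (.leaf (nat_lit
    167441047489249214466))) (.leaf (nat_lit 29985215392907339))))) (.node (.node (.node (.node
    (.leaf (nat_lit 16143452897840136220)) (.leaf (nat_lit 0))) (.leaf (nat_lit
    369319825989193280258088))) (.node (.node (.leaf (nat_lit 12880662755409946)) (.leaf (nat_lit
    49023808983662618))) (.leaf (nat_lit 0)))) (.node (.node (.node (.leaf (nat_lit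
    105687023221249556086793)) (.leaf (nat_lit 171243792394753343491))) (.leaf (nat_lit 0))) (.node
    (.node (.leaf (nat_lit 224088758549776313876516)) (.leaf (nat_lit 45305229915017379842)))
    (.leaf (nat_lit 0)))))))) (.node (.node (.node (.node (.node (.node (.node (.leaf (nat_lit
    1441310300627468291)) (.leaf (nat_lit 609629032506984447082527))) (.node (.leaf (nat_lit
    57080420559921283095)) (.leaf (nat_lit 11571152996663298)))) (.node (.node (.leaf (nat_lit
    33152019484492628012)) (.leaf (nat_lit 176432854165316894723))) (.leaf (nat_lit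
    84468113923341746183)))) (.node (.node (.node (.leaf (nat_lit 80292050575681598521368)) (.leaf
    (nat_lit 2807637959811148380994076682))) (.leaf (nat_lit 0))) (.node (.node (.leaf (nat_lit
    51168917183904546851)) (.leaf (nat_lit 834849966816670098128928))) (.leaf (nat_lit
    31849643516231706))))) (.node (.node (.node (.node (.leaf (nat_lit 0)) (.leaf (nat_lit
    620740780226672085472514883056044363446612592337596311273525))) (.node (.leaf (nat_lit 0))
    (.leaf (nat_lit 7406496588841025538)))) (.node (.node (.leaf (nat_lit 47564699934702895124))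
    (.leaf (nat_lit 0))) (.leaf (nat_lit 103925424081942544387)))) (.node (.node (.node (.leaf
    (nat_lit 0)) (.leaf (nat_lit 0))) (.leaf (nat_lit 93689972482440888364))) (.node (.node (.leaf
    (nat_lit 66014189488947003419)) (.leaf (nat_lit 129827424189649453058))) (.leaf (nat_lit
    0)))))) (.node (.node (.node (.node (.node (.leaf (nat_lit 23322017615874732851231)) (.leaf
    (nat_lit 544701116875777742471204))) (.node (.leaf (nat_lit 0)) (.leaf (nat_lit
    55534202015318018)))) (.node (.node (.leaf (nat_lit 27964400754221056044)) (.leaf (nat_lit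
    173119612489333669894))) (.leaf (nat_lit 0)))) (.node (.node (.node (.leaf (nat_lit
    20179646232412749870)) (.leaf (nat_lit 701401456432673640939537))) (.leaf (nat_lit 0))) (.node
    (.node (.leaf (nat_lit 219355868983529197273124)) (.leaf (nat_lit 817732536822417011769377)))
    (.leaf (nat_lit 179522914671860353122143256858946066748461647755276517453))))) (.node (.node
    (.node (.node (.leaf (nat_lit 55204623348497016684563)) (.leaf (nat_lit
    162667054283043831887))) (.leaf (nat_lit 89011699202316763175))) (.node (.node (.leaf (nat_lit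
    51888789153374208028)) (.leaf (nat_lit 48742265287475226))) (.leaf (nat_lit 0)))) (.node (.node
    (.node (.leaf (nat_lit 2278140998850237001916804890635)) (.leaf (nat_lit
    176143427245636255747))) (.leaf (nat_lit 107459148062979719181))) (.node (.node (.leaf (nat_lit
    17139002570309658)) (.leaf (nat_lit 173207185571124019202))) (.leaf (nat_lit 0))))))) (.node
    (.node (.node (.node (.node (.node (.leaf (nat_lit 5903246703609568821265)) (.leaf (nat_lit
    0))) (.node (.leaf (nat_lit 268956718009335956111416)) (.leaf (nat_lit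
    912684278253092612603906)))) (.node (.node (.leaf (nat_lit 127525806213169924014089)) (.leaf
    (nat_lit 12896887745969017715141024022539))) (.leaf (nat_lit 81298002135576936455)))) (.node
    (.node (.node (.leaf (nat_lit 0)) (.leaf (nat_lit 0))) (.leaf (nat_lit 23403332630609925)))
    (.node (.node (.leaf (nat_lit 45405066253719240750)) (.leaf (nat_lit
    274661907790265735572023776831089220152661049258000842805))) (.leaf (nat_lit
    126986880708683956259))))) (.node (.node (.node (.node (.leaf (nat_lit 9513397593372295174))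
    (.leaf (nat_lit 123390722879713902627))) (.leaf (nat_lit 322360758352048577314825))) (.node
    (.node (.leaf (nat_lit 49726726951852507157)) (.leaf (nat_lit 172626168760462671942))) (.leaf
    (nat_lit 0)))) (.node (.node (.node (.leaf (nat_lit 25657079305594929159)) (.leaf (nat_lit
    733031283209775385673780))) (.leaf (nat_lit 91096462184467857452))) (.node (.node (.leaf
    (nat_lit 0)) (.leaf (nat_lit 52718945442070530))) (.leaf (nat_lit
    580358010946903251091480)))))) (.node (.node (.node (.node (.node (.leaf (nat_lit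
    7782977088247758878)) (.leaf (nat_lit 573037478028711181942820))) (.node (.leaf (nat_lit
    20024808276361221)) (.leaf (nat_lit 56097564285599746)))) (.node (.node (.leaf (nat_lit 0))
    (.leaf (nat_lit 186235115088466083884))) (.leaf (nat_lit 99601546081172914220)))) (.node (.node
    (.node (.leaf (nat_lit 0)) (.leaf (nat_lit 0))) (.leaf (nat_lit 100683851455780814895))) (.node
    (.node (.leaf (nat_lit 0)) (.leaf (nat_lit 178538041245968826370))) (.leaf (nat_lit
    552042048320587555930188))))) (.node (.node (.node (.node (.leaf (nat_lit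
    17440384114715983899)) (.leaf (nat_lit 676909576828001055932474))) (.leaf (nat_lit 0))) (.node
    (.node (.leaf (nat_lit 13232575195775002)) (.leaf (nat_lit 44784160866435098))) (.leaf (nat_lit
    524267079561270117269528)))) (.node (.node (.node (.leaf (nat_lit 31854630819240017923)) (.leaf
    (nat_lit 0))) (.leaf (nat_lit 406222839497304582651923))) (.node (.node (.leaf (nat_lit
    203429270089499253407780)) (.leaf (nat_lit 145105112389008949250))) (.leaf (nat_lit
    136069516081817124910))))))))) (.node (.node (.node (.node (.node (.node (.node (.node (.leaf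
    (nat_lit 1)) (.leaf (nat_lit 0))) (.node (.leaf (nat_lit 45839295126746365981)) (.leaf (nat_lit
    39541115449933758466)))) (.node (.node (.leaf (nat_lit 114540451324203393875977)) (.leaf
    (nat_lit 3105118144350574439823638538))) (.leaf (nat_lit 91529722920326856707)))) (.node (.node
    (.node (.leaf (nat_lit 72330264443329467121700)) (.leaf (nat_lit 40718269946134533))) (.leaf
    (nat_lit 0))) (.node (.node (.leaf (nat_lit 229385558724350342070303)) (.leaf (nat_lit
    44837040503783450))) (.leaf (nat_lit 129724488559597125653))))) (.node (.node (.node (.node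
    (.leaf (nat_lit 653707312447712171329237417995)) (.leaf (nat_lit 0))) (.node (.leaf (nat_lit
    1400279144730983138974826506)) (.leaf (nat_lit 2670176873086978)))) (.node (.node (.leaf
    (nat_lit 0)) (.leaf (nat_lit 755132856096628825915401))) (.leaf (nat_lit
    78993390957343473667)))) (.node (.node (.node (.leaf (nat_lit 471597386322023871284576266))
    (.leaf (nat_lit 0))) (.leaf (nat_lit 0))) (.node (.node (.leaf (nat_lit 47279408518772490286))
    (.leaf (nat_lit 197993856197604868098))) (.leaf (nat_lit 135058985292967116846)))))) (.node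
    (.node (.node (.node (.node (.leaf (nat_lit 5333212258975809563)) (.leaf (nat_lit
    543159866019359230263329))) (.node (.leaf (nat_lit 324118456006015434620936)) (.leaf (nat_lit
    50350317265058201602)))) (.node (.node (.leaf (nat_lit 34593558642452267014)) (.leaf (nat_lit
    0))) (.leaf (nat_lit 0)))) (.node (.node (.node (.leaf (nat_lit 15567854626509357085)) (.leaf
    (nat_lit 701991814308221761617928))) (.leaf (nat_lit 0))) (.node (.node (.leaf (nat_lit
    216078899622149693374497)) (.leaf (nat_lit 842265270742121860825124))) (.leaf (nat_lit 0)))))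
    (.node (.node (.node (.node (.leaf (nat_lit 236982820502284658901581834)) (.leaf (nat_lit 0)))
    (.leaf (nat_lit 21573298605391877))) (.node (.node (.leaf (nat_lit 48141688684515885102))
    (.leaf (nat_lit 693742021169387751604233))) (.leaf (nat_lit 29386428232368154)))) (.node (.node
    (.node (.leaf (nat_lit 8059201188397061)) (.leaf (nat_lit 169369907810005090348))) (.leaf
    (nat_lit 106886645307723153472))) (.node (.node (.leaf (nat_lit 0)) (.leaf (nat_lit
    184736101038928625666))) (.leaf (nat_lit 35052211650297882))))))) (.node (.node (.node (.node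
    (.node (.node (.leaf (nat_lit 9447688048516207476750)) (.leaf (nat_lit 150626188256973357084)))
    (.node (.leaf (nat_lit 287255455521485554450468)) (.leaf (nat_lit 215650253759737692162))))
    (.node (.node (.leaf (nat_lit 27819863190471376899)) (.leaf (nat_lit 176289266845901586438)))
    (.leaf (nat_lit 0)))) (.node (.node (.node (.leaf (nat_lit 21476278124427804700)) (.leaf
    (nat_lit 0))) (.leaf (nat_lit 78489496460644777987))) (.node (.node (.leaf (nat_lit
    210498548961265343266852)) (.leaf (nat_lit 834291593030759553957907))) (.leaf (nat_lit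
    32236774688423962))))) (.node (.node (.node (.node (.leaf (nat_lit 12468673703946944553))
    (.leaf (nat_lit 32185647397732354))) (.leaf (nat_lit 0))) (.node (.node (.leaf (nat_lit 0))
    (.leaf (nat_lit 757841650131891623559250))) (.leaf (nat_lit 0)))) (.node (.node (.node (.leaf
    (nat_lit 2109964953912530166336486506544)) (.leaf (nat_lit 176863228949440954412))) (.leaf
    (nat_lit 7161296000309687243515848163339))) (.node (.node (.leaf (nat_lit
    53332475253815967790)) (.leaf (nat_lit 52296681437396994))) (.leaf (nat_lit 0)))))) (.node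
    (.node (.node (.node (.node (.leaf (nat_lit 1583764895563802)) (.leaf (nat_lit 0))) (.node
    (.leaf (nat_lit 0)) (.leaf (nat_lit 13098198605393756162)))) (.node (.node (.leaf (nat_lit
    32576227621805948934)) (.leaf (nat_lit 712038161915649871577097))) (.leaf (nat_lit
    85622267258928824327)))) (.node (.node (.node (.leaf (nat_lit 1772993746443584529613791297547))
    (.leaf (nat_lit 42407532123258885))) (.leaf (nat_lit 1670979039191137099312332810))) (.node
    (.node (.leaf (nat_lit 0)) (.leaf (nat_lit 128674150171306819586))) (.leaf (nat_lit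
    558512741434547690012696))))) (.node (.node (.node (.node (.leaf (nat_lit
    16863993696796999701)) (.leaf (nat_lit 0))) (.leaf (nat_lit 0))) (.node (.node (.leaf (nat_lit
    219938519563620678107167)) (.leaf (nat_lit
    267666622076044389325772757658949884571763289598418813005))) (.leaf (nat_lit 0)))) (.node
    (.node (.node (.leaf (nat_lit 2387333658725737560655201173515)) (.leaf (nat_lit
    724429975815753086271497))) (.leaf (nat_lit 1825749294780087692951879690))) (.node (.node
    (.leaf (nat_lit 0)) (.leaf (nat_lit 24192393482250420226))) (.leaf (nat_lit 0)))))))) (.node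
    (.node (.node (.node (.node (.node (.node (.leaf (nat_lit 1873691074996928518)) (.leaf (nat_lit
    0))) (.node (.leaf (nat_lit 48145314117950046243)) (.leaf (nat_lit 77515521650279514114))))
    (.node (.node (.leaf (nat_lit 159713575855829868085298)) (.leaf (nat_lit 0))) (.leaf (nat_lit
    112796159538356224068)))) (.node (.node (.node (.leaf (nat_lit 20179083024761290780)) (.leaf
    (nat_lit 0))) (.leaf (nat_lit 90518065638864519174))) (.node (.node (.leaf (nat_lit 0)) (.leaf
    (nat_lit 0))) (.leaf (nat_lit 31990415364325402))))) (.node (.node (.node (.node (.leaf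
    (nat_lit 45758735455481917341736)) (.leaf (nat_lit 140695135008512475138))) (.leaf (nat_lit
    5814188694791358637964421103627))) (.node (.node (.leaf (nat_lit 11613716122566682)) (.leaf
    (nat_lit 0))) (.leaf (nat_lit 478210601564552701411337)))) (.node (.node (.node (.leaf (nat_lit
    490896802098726674823970826)) (.leaf (nat_lit 43304939769954316))) (.leaf (nat_lit
    423639879179647970443296))) (.node (.node (.leaf (nat_lit 271306939207643868430367)) (.leaf
    (nat_lit 183582460157364469762))) (.leaf (nat_lit 0)))))) (.node (.node (.node (.node (.node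
    (.leaf (nat_lit 6485905133883555861)) (.leaf (nat_lit 144718257408983629870))) (.node (.leaf
    (nat_lit 1344517109178764866286321674)) (.leaf (nat_lit 63322233360819093506)))) (.node (.node
    (.leaf (nat_lit 25802708151815045126)) (.leaf (nat_lit 46683464124203020))) (.leaf (nat_lit
    28576706637987845)))) (.node (.node (.node (.leaf (nat_lit 19603185514469064733)) (.leaf
    (nat_lit 166485316591855796268))) (.leaf (nat_lit 88356936218340163591))) (.node (.node (.leaf
    (nat_lit 0)) (.leaf (nat_lit
    184721369347506530485667004855496547037134784014946563990493710880583228630062169847286906021024261207999905875)))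
    (.leaf (nat_lit 534336344192025845039137))))) (.node (.node (.node (.node (.leaf (nat_lit
    63762686669643032297496)) (.leaf (nat_lit 660999696561819716157498))) (.leaf (nat_lit 0)))
    (.node (.node (.leaf (nat_lit 52753744216159617044)) (.leaf (nat_lit 45681259275485259)))
    (.leaf (nat_lit 0)))) (.node (.node (.node (.leaf (nat_lit 0)) (.leaf (nat_lit 0))) (.leaf
    (nat_lit 87782200050024906796))) (.node (.node (.leaf (nat_lit 45262482324563623959)) (.leaf
    (nat_lit 48979996443052015618))) (.leaf (nat_lit 145004393765240242197))))))) (.node (.node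
    (.node (.node (.node (.node (.leaf (nat_lit 4324300329199009812)) (.leaf (nat_lit
    506587395772724329840673))) (.node (.leaf (nat_lit 0)) (.leaf (nat_lit
    364438248928891621343234)))) (.node (.node (.leaf (nat_lit 157056881888121036472324)) (.leaf
    (nat_lit 0))) (.leaf (nat_lit 78489567989030125575)))) (.node (.node (.node (.leaf (nat_lit
    5454939178532890)) (.leaf (nat_lit 0))) (.leaf (nat_lit 368721749120157894311940))) (.node
    (.node (.leaf (nat_lit 14358784340262938)) (.leaf (nat_lit 0))) (.leaf (nat_lit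
    133472187360349454363))))) (.node (.node (.node (.node (.leaf (nat_lit 12251832491777916931))
    (.leaf (nat_lit 523112364535271727038497))) (.leaf (nat_lit 19092731653652539))) (.node (.node
    (.leaf (nat_lit 50303117369771491355)) (.leaf (nat_lit 0))) (.leaf (nat_lit 0)))) (.node (.node
    (.node (.leaf (nat_lit 32072879234493906991)) (.leaf (nat_lit 43780066232107013))) (.leaf
    (nat_lit 433378750804552805777471))) (.node (.node (.leaf (nat_lit 16716687026028570)) (.leaf
    (nat_lit 84719861777834377218))) (.leaf (nat_lit 0)))))) (.node (.node (.node (.node (.node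
    (.leaf (nat_lit 22733740157166931935268)) (.leaf (nat_lit 0))) (.node (.leaf (nat_lit
    1380931608097463154231279626)) (.leaf (nat_lit 37714098883216571367426)))) (.node (.node (.leaf
    (nat_lit 45835036099736698900)) (.leaf (nat_lit 185946884738084175879))) (.leaf (nat_lit
    457590816381013313454084)))) (.node (.node (.node (.leaf (nat_lit
    1852240047272794203482241761291)) (.leaf (nat_lit 2928570101249857569950072842))) (.leaf
    (nat_lit 24529541775097861))) (.node (.node (.leaf (nat_lit 0)) (.leaf (nat_lit
    174791133376328957954))) (.leaf (nat_lit 123817754263726260270))))) (.node (.node (.node (.node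
    (.leaf (nat_lit 0)) (.leaf (nat_lit 165844555411717554233))) (.leaf (nat_lit
    375482191695311337160712))) (.node (.node (.leaf (nat_lit 223163534977520730636320)) (.leaf
    (nat_lit 202379429612580175901))) (.leaf (nat_lit 0)))) (.node (.node (.node (.leaf (nat_lit
    0)) (.leaf (nat_lit 0))) (.leaf (nat_lit 0))) (.node (.node (.leaf (nat_lit
    266261251197957025562657)) (.leaf (nat_lit 174865090423948509186))) (.leaf (nat_lit
    566787045557393254776908))))))))))))

/-- Certificate data. -/
def tM_rel : Trie :=
    (.node (.node (.node (.node (.node (.node (.node (.leaf (nat_lit 0)) (.leaf (nat_lit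
    43084810759))) (.leaf (nat_lit 168823312))) (.node (.node (.leaf (nat_lit 60415806992)) (.leaf
    (nat_lit 60297842183))) (.leaf (nat_lit 60398899472)))) (.node (.node (.node (.leaf (nat_lit
    12103268371460)) (.leaf (nat_lit 151521544))) (.leaf (nat_lit 151062785))) (.node (.leaf
    (nat_lit 460551)) (.leaf (nat_lit 43101456907))))) (.node (.node (.node (.node (.leaf (nat_lit
    185207817)) (.leaf (nat_lit 235407879))) (.leaf (nat_lit 167971331))) (.node (.leaf (nat_lit
    135333649)) (.leaf (nat_lit 151718412)))) (.node (.node (.node (.leaf (nat_lit 60163231249))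
    (.leaf (nat_lit 43134814732))) (.leaf (nat_lit 134809609))) (.node (.leaf (nat_lit 118556689))
    (.leaf (nat_lit 17415343631)))))) (.node (.node (.node (.node (.node (.leaf (nat_lit
    51708103177)) (.leaf (nat_lit 51317257))) (.leaf (nat_lit 30182868750))) (.node (.leaf (nat_lit
    134416134)) (.leaf (nat_lit 13053724943)))) (.node (.node (.node (.leaf (nat_lit 131601))
    (.leaf (nat_lit 34494875658))) (.leaf (nat_lit 202247182))) (.node (.leaf (nat_lit 117508098))
    (.leaf (nat_lit 67766543))))) (.node (.node (.node (.node (.leaf (nat_lit 47295368198)) (.leaf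
    (nat_lit 223664515627432950260800963414791))) (.leaf (nat_lit 51640992518))) (.node (.leaf
    (nat_lit 34410399491)) (.leaf (nat_lit 43134880012)))) (.node (.node (.node (.leaf (nat_lit
    67701263)) (.leaf (nat_lit 43185015304))) (.leaf (nat_lit 294673596155395))) (.node (.leaf
    (nat_lit 13002672144)) (.leaf (nat_lit 151456007))))))) (.node (.node (.node (.node (.node
    (.node (.leaf (nat_lit 201919242)) (.leaf (nat_lit 168234504))) (.leaf (nat_lit 118360074)))
    (.node (.node (.leaf (nat_lit 68870670863)) (.leaf (nat_lit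
    847034794969837104281419012138225422157149297937887486979139634956))) (.leaf (nat_lit
    43017441283)))) (.node (.node (.node (.leaf (nat_lit 3098441031158786)) (.leaf (nat_lit
    526344))) (.leaf (nat_lit 38739182341))) (.node (.leaf (nat_lit 117835779)) (.leaf (nat_lit
    789516))))) (.node (.node (.node (.node (.leaf (nat_lit 185469710)) (.leaf (nat_lit
    43084549639))) (.leaf (nat_lit 167905793))) (.node (.leaf (nat_lit 134874894)) (.leaf (nat_lit
    235605515)))) (.node (.node (.node (.leaf (nat_lit 263184)) (.leaf (nat_lit 168560907))) (.leaf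
    (nat_lit 235212293))) (.node (.leaf (nat_lit 30115627781)) (.leaf (nat_lit 60281458436))))))
    (.node (.node (.node (.node (.node (.leaf (nat_lit 723723)) (.leaf (nat_lit 60247902728)))
    (.leaf (nat_lit 60281455375))) (.node (.leaf (nat_lit 134350593)) (.leaf (nat_lit
    142850556739731352929587012765451)))) (.node (.node (.node (.leaf (nat_lit 235015681)) (.leaf
    (nat_lit 163212505204573814217941900331020))) (.leaf (nat_lit 73064976656))) (.node (.leaf
    (nat_lit 118032137)) (.leaf (nat_lit 244026464092275411549155850980360))))) (.node (.node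
    (.node (.node (.leaf (nat_lit 47413005322)) (.leaf (nat_lit 60247641608))) (.leaf (nat_lit
    151259395))) (.node (.leaf (nat_lit 197392)) (.leaf (nat_lit 235671052)))) (.node (.node (.node
    (.leaf (nat_lit 17381526277)) (.leaf (nat_lit 60297775624))) (.leaf (nat_lit 235998737)))
    (.node (.leaf (nat_lit 34528429834)) (.leaf (nat_lit 60180860425))))))))

/-- Certificate data. -/
def tM_rc : Trie :=
    (.node (.node (.node (.node (.node (.node (.node (.leaf (nat_lit 80)) (.leaf (nat_lit 262198)))
    (.leaf (nat_lit 131104))) (.node (.node (.leaf (nat_lit 131133)) (.leaf (nat_lit 393272)))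
    (.leaf (nat_lit 393277)))) (.node (.node (.node (.leaf (nat_lit 524353)) (.leaf (nat_lit 20)))
    (.leaf (nat_lit 131101))) (.node (.leaf (nat_lit 3)) (.leaf (nat_lit 262217))))) (.node (.node
    (.node (.node (.leaf (nat_lit 131142)) (.leaf (nat_lit 262168))) (.leaf (nat_lit 131081)))
    (.node (.leaf (nat_lit 131094)) (.leaf (nat_lit 262214)))) (.node (.node (.node (.leaf (nat_lit
    393274)) (.leaf (nat_lit 262216))) (.leaf (nat_lit 131092))) (.node (.leaf (nat_lit 393238))
    (.leaf (nat_lit 131122)))))) (.node (.node (.node (.node (.node (.leaf (nat_lit 73)) (.leaf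
    (nat_lit 11))) (.leaf (nat_lit 53))) (.node (.leaf (nat_lit 131079)) (.leaf (nat_lit 49))))
    (.node (.node (.node (.leaf (nat_lit 262148)) (.leaf (nat_lit 262196))) (.leaf (nat_lit
    131147))) (.node (.leaf (nat_lit 19)) (.leaf (nat_lit 131084))))) (.node (.node (.node (.node
    (.leaf (nat_lit 393283)) (.leaf (nat_lit 76))) (.leaf (nat_lit 67))) (.node (.leaf (nat_lit
    131111)) (.leaf (nat_lit 524361)))) (.node (.node (.node (.leaf (nat_lit 131082)) (.leaf
    (nat_lit 262199))) (.leaf (nat_lit 524350))) (.node (.leaf (nat_lit 43)) (.leaf (nat_lit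
    131093))))))) (.node (.node (.node (.node (.node (.node (.leaf (nat_lit 393286)) (.leaf
    (nat_lit 24))) (.leaf (nat_lit 393240))) (.node (.node (.leaf (nat_lit 262191)) (.leaf (nat_lit
    393294))) (.leaf (nat_lit 524333)))) (.node (.node (.node (.leaf (nat_lit 655423)) (.leaf
    (nat_lit 2))) (.leaf (nat_lit 393257))) (.node (.leaf (nat_lit 393223)) (.leaf (nat_lit 69)))))
    (.node (.node (.node (.node (.leaf (nat_lit 74)) (.leaf (nat_lit 524343))) (.leaf (nat_lit
    262170))) (.node (.leaf (nat_lit 131096)) (.leaf (nat_lit 131146)))) (.node (.node (.node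
    (.leaf (nat_lit 262144)) (.leaf (nat_lit 70))) (.leaf (nat_lit 131089))) (.node (.leaf (nat_lit
    393255)) (.leaf (nat_lit 50)))))) (.node (.node (.node (.node (.node (.leaf (nat_lit 68))
    (.leaf (nat_lit 56))) (.leaf (nat_lit 393267))) (.node (.leaf (nat_lit 262163)) (.leaf (nat_lit
    131148)))) (.node (.node (.node (.leaf (nat_lit 262174)) (.leaf (nat_lit 77))) (.leaf (nat_lit
    131109))) (.node (.leaf (nat_lit 21)) (.leaf (nat_lit 131149))))) (.node (.node (.node (.node
    (.leaf (nat_lit 393289)) (.leaf (nat_lit 131129))) (.leaf (nat_lit 262158))) (.node (.leaf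
    (nat_lit 1)) (.leaf (nat_lit 75)))) (.node (.node (.node (.leaf (nat_lit 524354)) (.leaf
    (nat_lit 54))) (.leaf (nat_lit 34))) (.node (.leaf (nat_lit 393271)) (.leaf (nat_lit
    131123))))))))

/-- Certificate data. -/
def tM_lv : Trie :=
    (.node (.node (.node (.leaf (nat_lit 0)) (.leaf (nat_lit 4))) (.node (.leaf (nat_lit 2)) (.leaf
    (nat_lit 6)))) (.node (.node (.leaf (nat_lit 1)) (.leaf (nat_lit 5))) (.leaf (nat_lit 3))))

/-- Certificate data. -/
def tM_tb : Trie :=
    (.node (.node (.node (.node (.node (.node (.node (.leaf (nat_lit 0)) (.leaf (nat_lit 4143)))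
    (.leaf (nat_lit 12370))) (.node (.leaf (nat_lit 8226)) (.leaf (nat_lit 16510)))) (.node (.node
    (.node (.leaf (nat_lit 4144)) (.leaf (nat_lit 27))) (.leaf (nat_lit 12390))) (.node (.leaf
    (nat_lit 16461)) (.leaf (nat_lit 17))))) (.node (.node (.node (.node (.leaf (nat_lit 16464))
    (.leaf (nat_lit 20577))) (.leaf (nat_lit 4119))) (.node (.leaf (nat_lit 24699)) (.leaf (nat_lit
    24704)))) (.node (.node (.node (.leaf (nat_lit 20581)) (.leaf (nat_lit 19596))) (.leaf (nat_lit
    4128))) (.node (.leaf (nat_lit 9)) (.leaf (nat_lit 16473)))))) (.node (.node (.node (.node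
    (.node (.leaf (nat_lit 8232)) (.leaf (nat_lit 12355))) (.leaf (nat_lit 20596))) (.node (.leaf
    (nat_lit 16471)) (.leaf (nat_lit 4149)))) (.node (.node (.node (.leaf (nat_lit 12359)) (.leaf
    (nat_lit 23695))) (.leaf (nat_lit 13))) (.node (.leaf (nat_lit 24687)) (.leaf (nat_lit
    8249))))) (.node (.node (.node (.node (.leaf (nat_lit 24690)) (.leaf (nat_lit 4116))) (.leaf
    (nat_lit 20583))) (.node (.leaf (nat_lit 12348)) (.leaf (nat_lit 16489)))) (.node (.node (.leaf
    (nat_lit 4)) (.leaf (nat_lit 24703))) (.node (.leaf (nat_lit 8223)) (.leaf (nat_lit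
    24701))))))) (.node (.node (.node (.node (.node (.node (.leaf (nat_lit 4141)) (.leaf (nat_lit
    8235))) (.leaf (nat_lit 24693))) (.node (.leaf (nat_lit 12350)) (.leaf (nat_lit 15)))) (.node
    (.node (.node (.leaf (nat_lit 8230)) (.leaf (nat_lit 15512))) (.leaf (nat_lit 16504))) (.node
    (.leaf (nat_lit 4171)) (.leaf (nat_lit 4147))))) (.node (.node (.node (.node (.leaf (nat_lit
    20575)) (.leaf (nat_lit 24695))) (.leaf (nat_lit 8229))) (.node (.leaf (nat_lit 6)) (.leaf
    (nat_lit 20584)))) (.node (.node (.leaf (nat_lit 24689)) (.leaf (nat_lit 12357))) (.node (.leaf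
    (nat_lit 4121)) (.leaf (nat_lit 20587)))))) (.node (.node (.node (.node (.node (.leaf (nat_lit
    12353)) (.leaf (nat_lit 16469))) (.leaf (nat_lit 11))) (.node (.leaf (nat_lit 20572)) (.leaf
    (nat_lit 8251)))) (.node (.node (.node (.leaf (nat_lit 16463)) (.leaf (nat_lit 27786))) (.leaf
    (nat_lit 8225))) (.node (.leaf (nat_lit 8301)) (.leaf (nat_lit 12361))))) (.node (.node (.node
    (.node (.leaf (nat_lit 2)) (.leaf (nat_lit 8221))) (.leaf (nat_lit 24697))) (.node (.leaf
    (nat_lit 20570)) (.leaf (nat_lit 12417)))) (.node (.node (.leaf (nat_lit 4151)) (.leaf (nat_lit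
    20579))) (.node (.leaf (nat_lit 16467)) (.leaf (nat_lit 19))))))))

/-- Certificate data. -/
def tM_C : TC.Cert := ⟨9, 511, 12, 4095, 1486373390087298562220836320735856039100928, 247806, tM_par, tM_fact, tM_just, tM_rel, 82⟩

/-- Certificate data. -/
def tM_rs : List (List ℕ) := [[4, 4, 16], [8, 8, 8], [2, 2, 17], [4, 8, 5, 7], [4, 10, 4, 10], [4, 15, 10, 9], [4, 15, 9, 10], [4, 9, 3, 9], [6, 14, 6, 14], [8, 2, 7, 1], [8, 9, 8, 9], [8, 17, 7, 17], [8, 14, 7, 10], [2, 10, 1, 10], [2, 9, 2, 9], [2, 14, 1, 14], [10, 16, 10, 16], [17, 14, 17, 14], [4, 4, 17, 16, 17], [4, 6, 8, 4, 7], [4, 6, 9, 6, 9], [4, 8, 6, 7, 16], [4, 10, 3, 10, 16], [4, 10, 15, 16, 9], [4, 10, 16, 9, 15], [4, 15, 14, 9, 14], [8, 8, 10, 8, 14], [8, 10, 7, 10, 14], [8, 10, 14, 7, 14], [2, 2, 14, 17, 14], [17, 16, 14, 16, 14], [11, 1, 12, 1, 3, 6, 6], [11, 3, 12, 1, 4, 4], [11, 5, 12, 4, 5], [11, 11, 11], [11, 9, 12, 10], [11, 10, 12, 10, 9], [14, 11, 14, 11], [7, 11, 7, 11, 7, 11, 7, 11, 7, 11, 7, 11, 7, 11], [7, 11, 8, 12, 7, 11, 8, 12, 7, 11, 8, 12, 7, 11, 8, 12, 7, 11, 8, 12,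 7, 11, 8, 12, 7, 11, 8, 12]]

/-- Certificate data. -/
def tM_gl : List ℕ := [1, 1795, 3589, 5383, 7177, 8970, 10766, 12559, 14352, 16145, 17931]

theorem tM_h1_0 : allR tM_C.factChk 0 699 = true := by decide +kernel

theorem tM_h1_1 : allR tM_C.factChk 699 747 = true := by decide +kernel

theorem tM_h1_2 : allR tM_C.factChk 1446 167 = true := by decide +kernel

theorem tM_h1 : allB tM_C.factChk 1613 = true :=
  allB_of_allR (a := 1613)
    (allR_append (allR_append (tM_h1_0) tM_h1_1) tM_h1_2)

theorem tM_h2 : tM_C.finChk 1613 7 tM_lv tM_tb tM_gl = true := by decide +kernel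

theorem tM_h3 : TC.relChk tM_C.ivc tM_rs tM_C.rel tM_rc tM_C.nrel = true := by decide +kernel

/-- Certificate data. -/
def tP_par : Trie :=
    (.node (.node (.node (.node (.node (.node (.leaf (nat_lit 0)) (.leaf (nat_lit 4620))) (.leaf
    (nat_lit 1804))) (.node (.leaf (nat_lit 1035)) (.leaf (nat_lit 3595)))) (.node (.node (.leaf
    (nat_lit 525)) (.leaf (nat_lit 2828))) (.node (.leaf (nat_lit 1281)) (.leaf (nat_lit 4109)))))
    (.node (.node (.node (.leaf (nat_lit 12)) (.leaf (nat_lit 2317))) (.node (.leaf (nat_lit 1039))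
    (.leaf (nat_lit 3585)))) (.node (.node (.leaf (nat_lit 780)) (.leaf (nat_lit 2831))) (.node
    (.leaf (nat_lit 1549)) (.leaf (nat_lit 4364)))))) (.node (.node (.node (.node (.node (.leaf
    (nat_lit 11)) (.leaf (nat_lit 4865))) (.leaf (nat_lit 2061))) (.node (.leaf (nat_lit 1036))
    (.leaf (nat_lit 3596)))) (.node (.node (.leaf (nat_lit 779)) (.leaf (nat_lit 2817))) (.node
    (.leaf (nat_lit 1295)) (.leaf (nat_lit 4363))))) (.node (.node (.node (.leaf (nat_lit 269))
    (.leaf (nat_lit 2827))) (.node (.leaf (nat_lit 1293)) (.leaf (nat_lit 3599)))) (.node (.node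
    (.leaf (nat_lit 783)) (.leaf (nat_lit 3341))) (.node (.leaf (nat_lit 1537)) (.leaf (nat_lit
    4619)))))))

/-- Certificate data. -/
def tP_fact : Trie :=
    (.node (.node (.node (.node (.node (.node (.node (.node (.leaf (nat_lit 13)) (.leaf (nat_lit
    366089))) (.node (.leaf (nat_lit 166416)) (.leaf (nat_lit 83213)))) (.node (.node (.leaf
    (nat_lit 66574)) (.leaf (nat_lit 482569))) (.leaf (nat_lit 215042)))) (.node (.node (.node
    (.leaf (nat_lit 33296)) (.leaf (nat_lit 252429))) (.leaf (nat_lit 216336))) (.node (.node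
    (.leaf (nat_lit 116490)) (.leaf (nat_lit 516108))) (.leaf (nat_lit 184590))))) (.node (.node
    (.node (.node (.leaf (nat_lit 16650)) (.leaf (nat_lit 382729))) (.node (.leaf (nat_lit 197889))
    (.leaf (nat_lit 139264)))) (.node (.node (.leaf (nat_lit 83470)) (.leaf (nat_lit 498434)))
    (.leaf (nat_lit 266250)))) (.node (.node (.node (.leaf (nat_lit 49930)) (.leaf (nat_lit
    302082))) (.leaf (nat_lit 249616))) (.node (.node (.leaf (nat_lit 149769)) (.leaf (nat_lit
    385295))) (.leaf (nat_lit 316169)))))) (.node (.node (.node (.node (.node (.leaf (nat_lit 9))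
    (.leaf (nat_lit 284418))) (.node (.leaf (nat_lit 181517)) (.leaf (nat_lit 237568)))) (.node
    (.node (.leaf (nat_lit 83216)) (.leaf (nat_lit 318990))) (.leaf (nat_lit 200716)))) (.node
    (.node (.node (.leaf (nat_lit 16655)) (.leaf (nat_lit 449296))) (.leaf (nat_lit 232970)))
    (.node (.node (.leaf (nat_lit 133129)) (.leaf (nat_lit 529922))) (.leaf (nat_lit 299529)))))
    (.node (.node (.node (.node (.leaf (nat_lit 32780)) (.leaf (nat_lit 413196))) (.node (.leaf
    (nat_lit 199689)) (.leaf (nat_lit 266253)))) (.node (.node (.leaf (nat_lit 115471)) (.leaf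
    (nat_lit 512523))) (.leaf (nat_lit 280589)))) (.node (.node (.node (.leaf (nat_lit 66562))
    (.leaf (nat_lit 464139))) (.leaf (nat_lit 249609))) (.node (.node (.leaf (nat_lit 149775))
    (.leaf (nat_lit 368908))) (.leaf (nat_lit 346881))))))) (.node (.node (.node (.node (.node
    (.node (.leaf (nat_lit 14)) (.leaf (nat_lit 366090))) (.node (.leaf (nat_lit 166413)) (.leaf
    (nat_lit 201984)))) (.node (.node (.leaf (nat_lit 83210)) (.leaf (nat_lit 495884))) (.leaf
    (nat_lit 134159)))) (.node (.node (.node (.leaf (nat_lit 33295)) (.leaf (nat_lit 445967)))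
    (.leaf (nat_lit 230925))) (.node (.node (.leaf (nat_lit 132107)) (.leaf (nat_lit 532490)))
    (.leaf (nat_lit 299536))))) (.node (.node (.node (.node (.leaf (nat_lit 16656)) (.leaf (nat_lit
    396811))) (.node (.leaf (nat_lit 199696)) (.leaf (nat_lit 152064)))) (.node (.node (.leaf
    (nat_lit 99850)) (.leaf (nat_lit 315663))) (.leaf (nat_lit 151554)))) (.node (.node (.node
    (.leaf (nat_lit 49934)) (.leaf (nat_lit 465929))) (.leaf (nat_lit 102145))) (.node (.node
    (.leaf (nat_lit 149776)) (.leaf (nat_lit 319745))) (.leaf (nat_lit 330508)))))) (.node (.node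
    (.node (.node (.node (.leaf (nat_lit 16)) (.leaf (nat_lit 382736))) (.node (.leaf (nat_lit
    183050)) (.leaf (nat_lit 199693)))) (.node (.node (.leaf (nat_lit 83468)) (.leaf (nat_lit
    433679))) (.leaf (nat_lit 217102)))) (.node (.node (.node (.leaf (nat_lit 49922)) (.leaf
    (nat_lit 449293))) (.leaf (nat_lit 247297))) (.node (.node (.leaf (nat_lit 148492)) (.leaf
    (nat_lit 301071))) (.leaf (nat_lit 314123))))) (.node (.node (.node (.node (.leaf (nat_lit
    33289)) (.leaf (nat_lit 416016))) (.node (.leaf (nat_lit 214287)) (.leaf (nat_lit 149773))))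
    (.node (.node (.leaf (nat_lit 116489)) (.leaf (nat_lit 515849))) (.leaf (nat_lit 282890))))
    (.node (.node (.node (.leaf (nat_lit 66570)) (.leaf (nat_lit 479499))) (.leaf (nat_lit
    167691))) (.node (.node (.leaf (nat_lit 166402)) (.leaf (nat_lit 84736))) (.leaf (nat_lit
    349456)))))))) (.node (.node (.node (.node (.node (.node (.node (.leaf (nat_lit 1)) (.leaf
    (nat_lit 366096))) (.node (.leaf (nat_lit 166410)) (.leaf (nat_lit 102656)))) (.node (.node
    (.leaf (nat_lit 82699)) (.leaf (nat_lit 482576))) (.leaf (nat_lit 215041)))) (.node (.node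
    (.node (.leaf (nat_lit 33290)) (.leaf (nat_lit 236033))) (.leaf (nat_lit 216330))) (.node
    (.node (.leaf (nat_lit 116493)) (.leaf (nat_lit 401422))) (.leaf (nat_lit 297229))))) (.node
    (.node (.node (.node (.leaf (nat_lit 16649)) (.leaf (nat_lit 349966))) (.node (.leaf (nat_lit
    199690)) (.leaf (nat_lit 219648)))) (.node (.node (.leaf (nat_lit 99856)) (.leaf (nat_lit
    499213))) (.leaf (nat_lit 266255)))) (.node (.node (.node (.leaf (nat_lit 49929)) (.leaf
    (nat_lit 302081))) (.leaf (nat_lit 200462))) (.node (.node (.leaf (nat_lit 133390)) (.leaf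
    (nat_lit 549136))) (.leaf (nat_lit 316176)))))) (.node (.node (.node (.node (.node (.leaf
    (nat_lit 10)) (.leaf (nat_lit 284417))) (.node (.leaf (nat_lit 183056)) (.leaf (nat_lit
    134656)))) (.node (.node (.leaf (nat_lit 99084)) (.leaf (nat_lit 499210))) (.leaf (nat_lit
    266249)))) (.node (.node (.node (.leaf (nat_lit 49421)) (.leaf (nat_lit 449290))) (.leaf
    (nat_lit 232969))) (.node (.node (.leaf (nat_lit 133136)) (.leaf (nat_lit 529165))) (.leaf
    (nat_lit 233998))))) (.node (.node (.node (.node (.leaf (nat_lit 16908)) (.leaf (nat_lit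
    399628))) (.node (.leaf (nat_lit 117772)) (.leaf (nat_lit 249101)))) (.node (.node (.leaf
    (nat_lit 116482)) (.leaf (nat_lit 515850))) (.leaf (nat_lit 282896)))) (.node (.node (.node
    (.leaf (nat_lit 66576)) (.leaf (nat_lit 383499))) (.leaf (nat_lit 216844))) (.node (.node
    (.leaf (nat_lit 164879)) (.leaf (nat_lit 54272))) (.leaf (nat_lit 201997))))))) (.node (.node
    (.node (.node (.node (.node (.leaf (nat_lit 15)) (.leaf (nat_lit 380173))) (.node (.leaf
    (nat_lit 117262)) (.leaf (nat_lit 89600)))) (.node (.node (.leaf (nat_lit 83209)) (.leaf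
    (nat_lit 482828))) (.leaf (nat_lit 263948)))) (.node (.node (.node (.leaf (nat_lit 33282))
    (.leaf (nat_lit 449289))) (.leaf (nat_lit 232976))) (.node (.node (.leaf (nat_lit 133130))
    (.leaf (nat_lit 368642))) (.leaf (nat_lit 299530))))) (.node (.node (.node (.node (.leaf
    (nat_lit 16642)) (.leaf (nat_lit 399376))) (.node (.leaf (nat_lit 84993)) (.leaf (nat_lit
    100365)))) (.node (.node (.leaf (nat_lit 99855)) (.leaf (nat_lit 480257))) (.leaf (nat_lit
    264450)))) (.node (.node (.node (.leaf (nat_lit 66061)) (.leaf (nat_lit 433166))) (.leaf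
    (nat_lit 249615))) (.node (.node (.leaf (nat_lit 149770)) (.leaf (nat_lit 549129))) (.leaf
    (nat_lit 316428)))))) (.node (.node (.node (.node (.node (.leaf (nat_lit 16395)) (.leaf
    (nat_lit 382730))) (.node (.leaf (nat_lit 183049)) (.leaf (nat_lit 269312)))) (.node (.node
    (.leaf (nat_lit 99849)) (.leaf (nat_lit 450050))) (.leaf (nat_lit 266256)))) (.node (.node
    (.node (.leaf (nat_lit 49936)) (.leaf (nat_lit 462861))) (.leaf (nat_lit 249610))) (.node
    (.node (.leaf (nat_lit 133388)) (.leaf (nat_lit 545537))) (.leaf (nat_lit 316170))))) (.node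
    (.node (.node (.node (.leaf (nat_lit 16910)) (.leaf (nat_lit 429569))) (.leaf (nat_lit
    216329))) (.node (.node (.leaf (nat_lit 116496)) (.leaf (nat_lit 528908))) (.leaf (nat_lit
    282889)))) (.node (.node (.node (.leaf (nat_lit 66569)) (.leaf (nat_lit 482570))) (.leaf
    (nat_lit 167180))) (.node (.node (.leaf (nat_lit 166409)) (.leaf (nat_lit 103168))) (.leaf
    (nat_lit 363279)))))))))

/-- Certificate data. -/
def tP_just : Trie :=
    (.node (.node (.node (.node (.node (.node (.node (.node (.leaf (nat_lit 1)) (.leaf (nat_lit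
    286294131880427541))) (.node (.leaf (nat_lit 137490059288051734)) (.leaf (nat_lit
    302902568681474)))) (.node (.node (.leaf (nat_lit 2141874286172833508754817810451)) (.leaf
    (nat_lit 184247251700998733828))) (.leaf (nat_lit 56443692050471140524038)))) (.node (.node
    (.node (.leaf (nat_lit 13837314360516804618)) (.leaf (nat_lit 204151954631491624))) (.leaf
    (nat_lit 175801588475166742))) (.node (.node (.leaf (nat_lit 54862958795019255831)) (.leaf
    (nat_lit 757971533561863))) (.leaf (nat_lit 5392876392958501266897024581651))))) (.node (.node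
    (.node (.node (.leaf (nat_lit 15782454329802755)) (.leaf (nat_lit 295336549866995730))) (.node
    (.leaf (nat_lit 0)) (.leaf (nat_lit 868098789998594)))) (.node (.node (.leaf (nat_lit
    74426264206901257)) (.leaf (nat_lit 49027501404816237398458406))) (.leaf (nat_lit
    116041215602038407179)))) (.node (.node (.node (.leaf (nat_lit 47334160259547153)) (.leaf
    (nat_lit 254927470321664015))) (.leaf (nat_lit 193838045936680987))) (.node (.node (.leaf
    (nat_lit 121731798509223944)) (.leaf (nat_lit 301366718310318131))) (.leaf (nat_lit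
    138040143258719617028)))))) (.node (.node (.node (.node (.node (.leaf (nat_lit 1)) (.leaf
    (nat_lit 243619920942923791))) (.node (.leaf (nat_lit 0)) (.leaf (nat_lit
    185489170679136258)))) (.node (.node (.leaf (nat_lit 19505753244828604628997)) (.leaf (nat_lit
    266206355088670729))) (.leaf (nat_lit 341703303233543)))) (.node (.node (.node (.leaf (nat_lit
    2123017360310233849004046)) (.leaf (nat_lit 329131268107337750))) (.leaf (nat_lit
    184830812322201617))) (.node (.node (.leaf (nat_lit 59488182052147429380)) (.leaf (nat_lit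
    52959476812533007305277478))) (.leaf (nat_lit 254702843532083218))))) (.node (.node (.node
    (.node (.leaf (nat_lit 0)) (.leaf (nat_lit 0))) (.node (.leaf (nat_lit
    42587929745012327514141)) (.leaf (nat_lit 668017738514434)))) (.node (.node (.leaf (nat_lit 0))
    (.leaf (nat_lit 0))) (.leaf (nat_lit 0)))) (.node (.node (.node (.leaf (nat_lit
    60884593099866127)) (.leaf (nat_lit 219397813158567432498371442266609497769843228716))) (.leaf
    (nat_lit 50869396455513146064925))) (.node (.node (.leaf (nat_lit 31910056001262615592972))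
    (.leaf (nat_lit 75104603143141176180766))) (.leaf (nat_lit 0))))))) (.node (.node (.node (.node
    (.node (.node (.leaf (nat_lit 1)) (.leaf (nat_lit 149589624580420665367))) (.node (.leaf
    (nat_lit 36039215092276543160344)) (.leaf (nat_lit 162966284869500930)))) (.node (.node (.leaf
    (nat_lit 74421831800651779)) (.leaf (nat_lit 0))) (.leaf (nat_lit
    29221782649333132766347300)))) (.node (.node (.node (.leaf (nat_lit 7091053851688994930700))
    (.leaf (nat_lit 0))) (.leaf (nat_lit 0))) (.node (.node (.leaf (nat_lit 0)) (.leaf (nat_lit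
    203884342602130259979))) (.leaf (nat_lit 254716037671616528))))) (.node (.node (.node (.node
    (.leaf (nat_lit 4133225874467087253509)) (.leaf (nat_lit 0))) (.node (.leaf (nat_lit
    162290738053447707)) (.leaf (nat_lit 125856002200502274)))) (.node (.node (.leaf (nat_lit
    44467562278407110667)) (.leaf (nat_lit 13019230214535626934129766432816))) (.leaf (nat_lit
    17713414690374956830031909)))) (.node (.node (.node (.leaf (nat_lit
    1665110211871422859638907338771)) (.leaf (nat_lit 340469474962636818))) (.leaf (nat_lit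
    44469836489360146460))) (.node (.node (.leaf (nat_lit 62322063355937030154)) (.leaf (nat_lit
    136201760375423893532))) (.leaf (nat_lit 0)))))) (.node (.node (.node (.node (.node (.leaf
    (nat_lit 1)) (.leaf (nat_lit 295345345960017936))) (.node (.leaf (nat_lit 153283504438968337))
    (.leaf (nat_lit 551426556297218)))) (.node (.node (.leaf (nat_lit 145457657544711)) (.leaf
    (nat_lit 93126966028677356519436))) (.leaf (nat_lit 215344605045129225)))) (.node (.node (.node
    (.leaf (nat_lit 47338558306058255)) (.leaf (nat_lit 86277826193137944821784))) (.leaf (nat_lit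
    0))) (.node (.node (.leaf (nat_lit 0)) (.leaf (nat_lit 9332029442938190134529701183538)))
    (.leaf (nat_lit 0))))) (.node (.node (.node (.node (.leaf (nat_lit 27045894394413064)) (.leaf
    (nat_lit 83688000832467563249707))) (.node (.leaf (nat_lit 0)) (.leaf (nat_lit
    500917740896258)))) (.node (.node (.leaf (nat_lit 99191724240470037)) (.leaf (nat_lit
    200419700073377824772))) (.leaf (nat_lit 243430607374450705)))) (.node (.node (.node (.leaf
    (nat_lit 60871398960332817)) (.leaf (nat_lit 0))) (.leaf (nat_lit 20428751232753710225817633)))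
    (.node (.node (.leaf (nat_lit 137485661241540628)) (.leaf (nat_lit 75141672614428674))) (.leaf
    (nat_lit 279529910576545819)))))))) (.node (.node (.node (.node (.node (.node (.node (.leaf
    (nat_lit 1)) (.leaf (nat_lit 286285335787405334))) (.node (.leaf (nat_lit
    74500931504476258327)) (.leaf (nat_lit 92034483364233218)))) (.node (.node (.leaf (nat_lit 0))
    (.leaf (nat_lit 93420375443211114840069))) (.leaf (nat_lit 47021542420234786635811)))) (.node
    (.node (.node (.leaf (nat_lit 15585863304122466315)) (.leaf (nat_lit 162306969829879578652)))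
    (.leaf (nat_lit 92985973913233391639))) (.node (.node (.leaf (nat_lit 25997273264216225415192))
    (.leaf (nat_lit 311264453264080905))) (.leaf (nat_lit 0))))) (.node (.node (.node (.node (.leaf
    (nat_lit 9815619641534578692)) (.leaf (nat_lit 73326051312916410728490))) (.node (.leaf
    (nat_lit 162281941960425498)) (.leaf (nat_lit 176499434761420802)))) (.node (.node (.leaf
    (nat_lit 42708860444430565386)) (.leaf (nat_lit 377839822196375599))) (.leaf (nat_lit
    58494153906637836189708)))) (.node (.node (.node (.leaf (nat_lit 47329762213036050)) (.leaf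
    (nat_lit 254920873251897385))) (.leaf (nat_lit 162306251475320863))) (.node (.node (.leaf
    (nat_lit 112733395347505161)) (.leaf (nat_lit 412615304808693787))) (.leaf (nat_lit
    69784279898720972374055)))))) (.node (.node (.node (.node (.node (.leaf (nat_lit 1)) (.leaf
    (nat_lit 243624318989434921))) (.node (.leaf (nat_lit 153274708345946128)) (.leaf (nat_lit
    245172010454548482)))) (.node (.node (.leaf (nat_lit 0)) (.leaf (nat_lit
    188864776160529350667))) (.leaf (nat_lit 223142341509316616)))) (.node (.node (.node (.leaf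
    (nat_lit 0)) (.leaf (nat_lit 171537979100270690327))) (.leaf (nat_lit 184822016229179410)))
    (.node (.node (.leaf (nat_lit 29547713087287431856133)) (.leaf (nat_lit
    14170041738132496661404791078961))) (.leaf (nat_lit 6503313137574795770966573580307))))) (.node
    (.node (.node (.node (.leaf (nat_lit 30893699891207)) (.leaf (nat_lit 608137304473607))) (.node
    (.leaf (nat_lit 26011802116561060560926)) (.leaf (nat_lit 635049569550338)))) (.node (.node
    (.leaf (nat_lit 99178530100936724)) (.leaf (nat_lit 387823422136320003))) (.leaf (nat_lit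
    243421811281428496)))) (.node (.node (.node (.leaf (nat_lit 60875797006843920)) (.leaf (nat_lit
    41631678245552433555439661))) (.leaf (nat_lit 46087079411214178385950))) (.node (.node (.leaf
    (nat_lit 0)) (.leaf (nat_lit
    668837649110819681515930470418464811044510314930712874285915573049580090839216599041179700)))
    (.leaf (nat_lit 170313221566300200))))))) (.node (.node (.node (.node (.node (.node (.leaf
    (nat_lit 1)) (.leaf (nat_lit 0))) (.node (.leaf (nat_lit 3490146182754527955603901906969))
    (.leaf (nat_lit 90913428180500482)))) (.node (.node (.leaf (nat_lit 39850209342690426884))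
    (.leaf (nat_lit 696287213256711))) (.leaf (nat_lit 0)))) (.node (.node (.node (.leaf (nat_lit
    4691384037924146694717453)) (.leaf (nat_lit 329140064200359957))) (.leaf (nat_lit
    184835210368712720))) (.node (.node (.leaf (nat_lit 112728962941255683)) (.leaf (nat_lit
    38457067381949285009850414))) (.leaf (nat_lit 254711639625105425))))) (.node (.node (.node
    (.node (.leaf (nat_lit 4136122830333441015814)) (.leaf (nat_lit 81595971994579219316775)))
    (.node (.leaf (nat_lit 38099474904976195612)) (.leaf (nat_lit 364535349379074)))) (.node (.node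
    (.leaf (nat_lit 21868096158803788365836)) (.leaf (nat_lit 94929030920860317581347))) (.leaf
    (nat_lit 29948477746396937836691494)))) (.node (.node (.node (.leaf (nat_lit 0)) (.leaf
    (nat_lit 84547447624804231086122))) (.leaf (nat_lit 50869396473105332109344))) (.node (.node
    (.leaf (nat_lit 64105583366375735307)) (.leaf (nat_lit 108238989306406770114589))) (.leaf
    (nat_lit 520021755428871)))))) (.node (.node (.node (.node (.node (.leaf (nat_lit 0)) (.leaf
    (nat_lit 295340947913506833))) (.node (.leaf (nat_lit 153279106392457234)) (.leaf (nat_lit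
    227160446623481858)))) (.node (.node (.leaf (nat_lit 83424667368620040)) (.leaf (nat_lit
    44210681757816624358228014))) (.leaf (nat_lit 114241886813415538698)))) (.node (.node (.node
    (.leaf (nat_lit 47325364166524944)) (.leaf (nat_lit 0))) (.leaf (nat_lit 193842443983192090)))
    (.node (.node (.leaf (nat_lit 220370477121543)) (.leaf (nat_lit 0))) (.leaf (nat_lit
    266027856247848963))))) (.node (.node (.node (.node (.leaf (nat_lit 15773701186453513)) (.leaf
    (nat_lit 0))) (.leaf (nat_lit 175797190428655637))) (.node (.node (.leaf (nat_lit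
    99182928147447830)) (.leaf (nat_lit 0))) (.leaf (nat_lit 243426209327939602)))) (.node (.node
    (.node (.leaf (nat_lit 60862602867310610)) (.leaf (nat_lit 356276114253086723))) (.leaf
    (nat_lit 19549521182024295829078050))) (.node (.node (.leaf (nat_lit 137498855381073941))
    (.leaf (nat_lit 84148884754071554))) (.leaf (nat_lit 0)))))))))

/-- Certificate data. -/
def tP_rel : Trie :=
    (.node (.node (.node (.node (.node (.node (.leaf (nat_lit 0)) (.leaf (nat_lit
    3113825554075659))) (.node (.leaf (nat_lit 218696969)) (.leaf (nat_lit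
    259195120740736110095)))) (.node (.node (.leaf (nat_lit 47261486096)) (.leaf (nat_lit
    14298165149966))) (.leaf (nat_lit 34210058)))) (.node (.node (.node (.leaf (nat_lit
    9964526439169)) (.leaf (nat_lit 2824649851866113))) (.leaf (nat_lit 252710672))) (.node (.node
    (.leaf (nat_lit 3097363179309839)) (.leaf (nat_lit 3098462623239937))) (.leaf (nat_lit
    17630875094795))))) (.node (.node (.node (.node (.leaf (nat_lit 51708103177)) (.leaf (nat_lit
    579494436602127))) (.node (.leaf (nat_lit 251727617)) (.leaf (nat_lit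
    7199890810152006865455685780246122875989034407124498882859521171852045)))) (.node (.node (.leaf
    (nat_lit 12099074919439)) (.leaf (nat_lit 67541378743890121353485205287797260))) (.leaf
    (nat_lit 8792312578)))) (.node (.node (.node (.leaf (nat_lit 185207817)) (.leaf (nat_lit
    34406925))) (.leaf (nat_lit 16548761505549))) (.node (.node (.leaf (nat_lit 218762512)) (.leaf
    (nat_lit 19170994638019300879))) (.leaf (nat_lit 2263464608015)))))) (.node (.node (.node
    (.node (.node (.leaf (nat_lit 201919242)) (.leaf (nat_lit 13258749643010))) (.node (.leaf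
    (nat_lit 240820716857010556174)) (.leaf (nat_lit 34537999)))) (.node (.node (.leaf (nat_lit
    47429782282)) (.leaf (nat_lit 12163532983056))) (.leaf (nat_lit 34603280)))) (.node (.node
    (.node (.leaf (nat_lit 723723)) (.leaf (nat_lit 13254538431248))) (.leaf (nat_lit
    64593268746))) (.node (.node (.leaf (nat_lit 218172673)) (.leaf (nat_lit 17629453))) (.leaf
    (nat_lit 34472206))))) (.node (.node (.node (.node (.leaf (nat_lit 13262875855632)) (.leaf
    (nat_lit 3107267357118465))) (.leaf (nat_lit 252251913))) (.node (.node (.leaf (nat_lit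
    3111686810701313)) (.leaf (nat_lit 3941753682923020))) (.leaf (nat_lit 2237694804233)))) (.node
    (.node (.node (.leaf (nat_lit 185469710)) (.leaf (nat_lit 218238210))) (.leaf (nat_lit
    276776047803448037134))) (.node (.node (.leaf (nat_lit 219155722)) (.leaf (nat_lit
    259195122957156420109))) (.leaf (nat_lit 565209308597772)))))))

/-- Certificate data. -/
def tP_rc : Trie :=
    (.node (.node (.node (.node (.node (.node (.leaf (nat_lit 72)) (.leaf (nat_lit 524338))) (.node
    (.leaf (nat_lit 16)) (.leaf (nat_lit 786498)))) (.node (.node (.leaf (nat_lit 131107)) (.leaf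
    (nat_lit 131097))) (.leaf (nat_lit 131072)))) (.node (.node (.node (.leaf (nat_lit 655403))
    (.leaf (nat_lit 262203))) (.leaf (nat_lit 131086))) (.node (.node (.leaf (nat_lit 131137))
    (.leaf (nat_lit 786489))) (.leaf (nat_lit 393258))))) (.node (.node (.node (.node (.leaf
    (nat_lit 262183)) (.leaf (nat_lit 655423))) (.node (.leaf (nat_lit 131075)) (.leaf (nat_lit
    71)))) (.node (.node (.leaf (nat_lit 131115)) (.leaf (nat_lit 262213))) (.leaf (nat_lit
    131106)))) (.node (.node (.node (.leaf (nat_lit 393246)) (.leaf (nat_lit 131076))) (.leaf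
    (nat_lit 131098))) (.node (.node (.leaf (nat_lit 262154)) (.leaf (nat_lit 67))) (.leaf (nat_lit
    262165)))))) (.node (.node (.node (.node (.node (.leaf (nat_lit 131102)) (.leaf (nat_lit 42)))
    (.node (.leaf (nat_lit 655427)) (.leaf (nat_lit 131074)))) (.node (.node (.leaf (nat_lit 37))
    (.leaf (nat_lit 45))) (.leaf (nat_lit 131078)))) (.node (.node (.node (.leaf (nat_lit 29))
    (.leaf (nat_lit 131118))) (.leaf (nat_lit 524307))) (.node (.node (.leaf (nat_lit 131077))
    (.leaf (nat_lit 5))) (.leaf (nat_lit 131080))))) (.node (.node (.node (.node (.leaf (nat_lit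
    262185)) (.leaf (nat_lit 786487))) (.leaf (nat_lit 131084))) (.node (.node (.leaf (nat_lit
    786493)) (.leaf (nat_lit 131125))) (.leaf (nat_lit 262167)))) (.node (.node (.node (.leaf
    (nat_lit 33)) (.leaf (nat_lit 4))) (.leaf (nat_lit 131139))) (.node (.node (.leaf (nat_lit 10))
    (.leaf (nat_lit 786499))) (.leaf (nat_lit 262192)))))))

/-- Certificate data. -/
def tP_lv : Trie :=
    (.node (.node (.node (.node (.leaf (nat_lit 0)) (.leaf (nat_lit 8))) (.node (.leaf (nat_lit 4))
    (.leaf (nat_lit 13)))) (.node (.node (.leaf (nat_lit 2)) (.leaf (nat_lit 10))) (.node (.leaf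
    (nat_lit 6)) (.leaf (nat_lit 16))))) (.node (.node (.node (.leaf (nat_lit 1)) (.leaf (nat_lit
    9))) (.node (.leaf (nat_lit 5)) (.leaf (nat_lit 15)))) (.node (.node (.leaf (nat_lit 3)) (.leaf
    (nat_lit 12))) (.leaf (nat_lit 7)))))

/-- Certificate data. -/
def tP_tb : Trie :=
    (.node (.node (.node (.node (.node (.node (.node (.leaf (nat_lit 1)) (.leaf (nat_lit 2111)))
    (.node (.leaf (nat_lit 542)) (.leaf (nat_lit 3155)))) (.node (.node (.leaf (nat_lit 535))
    (.leaf (nat_lit 2629))) (.node (.leaf (nat_lit 3672)) (.leaf (nat_lit 5787))))) (.node (.node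
    (.node (.leaf (nat_lit 3478)) (.leaf (nat_lit 6303))) (.node (.leaf (nat_lit 3718)) (.leaf
    (nat_lit 7375)))) (.node (.node (.leaf (nat_lit 7381)) (.leaf (nat_lit 6831))) (.leaf (nat_lit
    4292))))) (.node (.node (.node (.node (.leaf (nat_lit 1079)) (.leaf (nat_lit 4201))) (.node
    (.leaf (nat_lit 2640)) (.leaf (nat_lit 5249)))) (.node (.node (.leaf (nat_lit 5776)) (.leaf
    (nat_lit 4727))) (.node (.leaf (nat_lit 1625)) (.leaf (nat_lit 7369))))) (.node (.node (.node
    (.leaf (nat_lit 7066)) (.leaf (nat_lit 529))) (.node (.leaf (nat_lit 6348)) (.leaf (nat_lit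
    2626)))) (.node (.node (.leaf (nat_lit 3252)) (.leaf (nat_lit 1057))) (.leaf (nat_lit 9))))))
    (.node (.node (.node (.node (.node (.leaf (nat_lit 2102)) (.leaf (nat_lit 3151))) (.node (.leaf
    (nat_lit 2113)) (.leaf (nat_lit 4203)))) (.node (.node (.leaf (nat_lit 1581)) (.leaf (nat_lit
    3681))) (.node (.leaf (nat_lit 6300)) (.leaf (nat_lit 2157))))) (.node (.node (.node (.leaf
    (nat_lit 5253)) (.leaf (nat_lit 7371))) (.node (.leaf (nat_lit 7373)) (.leaf (nat_lit 1051))))
    (.node (.node (.leaf (nat_lit 2710)) (.leaf (nat_lit 13))) (.leaf (nat_lit 6839))))) (.node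
    (.node (.node (.node (.leaf (nat_lit 4503)) (.leaf (nat_lit 5247))) (.node (.leaf (nat_lit
    4723)) (.leaf (nat_lit 6305)))) (.node (.node (.leaf (nat_lit 3675)) (.leaf (nat_lit 5779)))
    (.node (.leaf (nat_lit 4729)) (.leaf (nat_lit 5308))))) (.node (.node (.node (.leaf (nat_lit
    7577)) (.leaf (nat_lit 1585))) (.node (.leaf (nat_lit 553)) (.leaf (nat_lit 3149)))) (.node
    (.node (.leaf (nat_lit 5)) (.leaf (nat_lit 2107))) (.leaf (nat_lit 1053))))))) (.node (.node
    (.node (.node (.node (.node (.leaf (nat_lit 1578)) (.leaf (nat_lit 2631))) (.node (.leaf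
    (nat_lit 1589)) (.leaf (nat_lit 3679)))) (.node (.node (.leaf (nat_lit 1063)) (.leaf (nat_lit
    3157))) (.node (.leaf (nat_lit 5242)) (.leaf (nat_lit 4719))))) (.node (.node (.node (.leaf
    (nat_lit 5021)) (.leaf (nat_lit 6841))) (.node (.leaf (nat_lit 6835)) (.leaf (nat_lit 526))))
    (.node (.node (.leaf (nat_lit 5245)) (.leaf (nat_lit 7377))) (.leaf (nat_lit 2717))))) (.node
    (.node (.node (.node (.leaf (nat_lit 2945)) (.leaf (nat_lit 4721))) (.node (.leaf (nat_lit
    5255)) (.leaf (nat_lit 5781)))) (.node (.node (.leaf (nat_lit 6828)) (.leaf (nat_lit 5251)))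
    (.node (.leaf (nat_lit 5829)) (.leaf (nat_lit 6843))))) (.node (.node (.node (.leaf (nat_lit
    6555)) (.leaf (nat_lit 1059))) (.node (.leaf (nat_lit 7)) (.leaf (nat_lit 4196)))) (.node
    (.node (.leaf (nat_lit 4823)) (.leaf (nat_lit 1583))) (.leaf (nat_lit 531)))))) (.node (.node
    (.node (.node (.node (.leaf (nat_lit 555)) (.leaf (nat_lit 3677))) (.node (.leaf (nat_lit
    3153)) (.leaf (nat_lit 4725)))) (.node (.node (.leaf (nat_lit 2105)) (.leaf (nat_lit 4199)))
    (.node (.leaf (nat_lit 3159)) (.leaf (nat_lit 6335))))) (.node (.node (.node (.leaf (nat_lit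
    6029)) (.leaf (nat_lit 11))) (.node (.leaf (nat_lit 5810)) (.leaf (nat_lit 25)))) (.node (.node
    (.leaf (nat_lit 4289)) (.leaf (nat_lit 533))) (.leaf (nat_lit 7379))))) (.node (.node (.node
    (.node (.leaf (nat_lit 3683)) (.leaf (nat_lit 5785))) (.node (.leaf (nat_lit 4210)) (.leaf
    (nat_lit 6833)))) (.node (.node (.leaf (nat_lit 6338)) (.leaf (nat_lit 6307))) (.node (.leaf
    (nat_lit 2171)) (.leaf (nat_lit 3783))))) (.node (.node (.node (.leaf (nat_lit 2)) (.leaf
    (nat_lit 2109))) (.node (.leaf (nat_lit 1061)) (.leaf (nat_lit 1611)))) (.node (.node (.leaf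
    (nat_lit 1055)) (.leaf (nat_lit 2633))) (.leaf (nat_lit 1587))))))))

/-- Certificate data. -/
def tP_C : TC.Cert := ⟨6, 63, 9, 511, 1486373390087298562220836320735856039100928, 124422, tP_par, tP_fact, tP_just, tP_rel, 51⟩

/-- Certificate data. -/
def tP_rs : List (List ℕ) := [[2, 10, 1, 10], [2, 15, 2, 15], [2, 13, 2, 13], [2, 16, 1, 16], [2, 14, 1, 14], [10, 13, 16, 13], [15, 9, 15, 9], [15, 16, 15, 16], [9, 13, 9, 13], [10, 15, 10, 15, 16], [2, 2, 2, 15, 1, 15], [2, 2, 2, 9, 1, 9], [2, 13, 14, 2, 14, 13], [15, 13, 15, 13, 15, 13], [12, 12, 12], [12, 10, 11, 9], [12, 14, 12, 14], [2, 2, 11, 16, 12], [12, 12, 9, 12, 10], [12, 10, 9, 11, 10], [2, 2, 12, 16, 11, 16], [2, 9, 16, 11, 15, 12], [12, 16, 12, 16, 12, 16], [12, 16, 11, 14, 16, 14], [2, 2, 12, 14, 16, 12, 14], [2, 2, 16, 11, 11, 16, 11], [2, 2, 11, 16, 14, 11, 14], [2, 12, 10, 12, 15, 12, 16], [2, 12, 1, 9, 11, 1, 15], [2, 12, 9, 11, 2, 10, 9], [2, 12, 14, 16, 12, 2, 14], [2, 15, 1, 15, 11, 16, 12], [2, 9, 16, 12, 12, 15, 12], [2, 10, 13, 14, 13, 14, 15, 14, 15], [11, 13, 1, 11, 13, 1,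 11, 13, 1, 11, 13, 1, 11, 13, 1], [2, 12, 15, 13, 12, 13, 2, 12, 15, 13, 12, 13, 2, 12, 15, 13, 12, 13, 2, 12, 15, 13, 12, 13, 2, 12, 15, 13, 12, 13]]

/-- Certificate data. -/
def tP_gl : List ℕ := [13, 3841, 7694, 11535, 15369, 19210, 23056, 26891]

theorem tP_h1 : allB tP_C.factChk 207 = true := by decide +kernel

theorem tP_h2 : tP_C.finChk 207 15 tP_lv tP_tb tP_gl = true := by decide +kernel

theorem tP_h3 : TC.relChk tP_C.ivc tP_rs tP_C.rel tP_rc tP_C.nrel = true := by decide +kernel

/-- Certificate data. -/
def tS_par : Trie :=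
    (.node (.node (.node (.node (.node (.node (.leaf (nat_lit 0)) (.leaf (nat_lit 4360))) (.leaf
    (nat_lit 2316))) (.node (.leaf (nat_lit 1037)) (.leaf (nat_lit 3336)))) (.node (.node (.leaf
    (nat_lit 268)) (.leaf (nat_lit 2824))) (.node (.leaf (nat_lit 1804)) (.leaf (nat_lit 3848)))))
    (.node (.node (.node (.node (.leaf (nat_lit 8)) (.leaf (nat_lit 4616))) (.leaf (nat_lit 2572)))
    (.node (.leaf (nat_lit 1549)) (.leaf (nat_lit 3592)))) (.node (.node (.leaf (nat_lit 524))
    (.leaf (nat_lit 3080))) (.node (.leaf (nat_lit 2060)) (.leaf (nat_lit 4104)))))) (.node (.node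
    (.node (.node (.node (.leaf (nat_lit 7)) (.leaf (nat_lit 4615))) (.leaf (nat_lit 2571))) (.node
    (.leaf (nat_lit 1293)) (.leaf (nat_lit 3591)))) (.node (.node (.leaf (nat_lit 523)) (.leaf
    (nat_lit 3079))) (.node (.leaf (nat_lit 2059)) (.leaf (nat_lit 4103))))) (.node (.node (.node
    (.leaf (nat_lit 267)) (.leaf (nat_lit 2823))) (.node (.leaf (nat_lit 1803)) (.leaf (nat_lit
    3847)))) (.node (.node (.leaf (nat_lit 781)) (.leaf (nat_lit 3335))) (.node (.leaf (nat_lit
    2315)) (.leaf (nat_lit 4359)))))))

/-- Certificate data. -/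
def tS_fact : Trie :=
    (.node (.node (.node (.node (.node (.node (.node (.node (.leaf (nat_lit 9)) (.leaf (nat_lit
    433164))) (.leaf (nat_lit 232970))) (.node (.node (.leaf (nat_lit 115469)) (.leaf (nat_lit
    533002))) (.leaf (nat_lit 380167)))) (.node (.node (.node (.leaf (nat_lit 65804)) (.leaf
    (nat_lit 352013))) (.leaf (nat_lit 297484))) (.node (.leaf (nat_lit 166409)) (.leaf (nat_lit
    399882))))) (.node (.node (.node (.node (.leaf (nat_lit 16650)) (.leaf (nat_lit 482824)))
    (.leaf (nat_lit 266249))) (.node (.leaf (nat_lit 148749)) (.leaf (nat_lit 416013)))) (.node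
    (.node (.node (.leaf (nat_lit 66824)) (.leaf (nat_lit 549133))) (.leaf (nat_lit 330504)))
    (.node (.leaf (nat_lit 183310)) (.leaf (nat_lit 448268)))))) (.node (.node (.node (.node (.node
    (.leaf (nat_lit 14)) (.leaf (nat_lit 480010))) (.leaf (nat_lit 184073))) (.node (.leaf (nat_lit
    116744)) (.leaf (nat_lit 382984)))) (.node (.node (.node (.leaf (nat_lit 50184)) (.leaf
    (nat_lit 516104))) (.leaf (nat_lit 299530))) (.node (.leaf (nat_lit 183053)) (.leaf (nat_lit
    334601))))) (.node (.node (.node (.node (.leaf (nat_lit 33293)) (.leaf (nat_lit 496654)))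
    (.leaf (nat_lit 281099))) (.node (.leaf (nat_lit 149770)) (.leaf (nat_lit 429576)))) (.node
    (.node (.node (.leaf (nat_lit 99849)) (.leaf (nat_lit 561672))) (.leaf (nat_lit 363528)))
    (.node (.leaf (nat_lit 231436)) (.leaf (nat_lit 318473))))))) (.node (.node (.node (.node
    (.node (.node (.leaf (nat_lit 11)) (.leaf (nat_lit 384269))) (.leaf (nat_lit 248075))) (.node
    (.node (.leaf (nat_lit 116490)) (.leaf (nat_lit 549388))) (.leaf (nat_lit 317195)))) (.node
    (.node (.node (.leaf (nat_lit 66569)) (.leaf (nat_lit 515852))) (.leaf (nat_lit 299529)))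
    (.node (.leaf (nat_lit 166414)) (.leaf (nat_lit 431371))))) (.node (.node (.node (.node (.leaf
    (nat_lit 16904)) (.leaf (nat_lit 400909))) (.leaf (nat_lit 265226))) (.node (.leaf (nat_lit
    133384)) (.leaf (nat_lit 383242)))) (.node (.node (.node (.leaf (nat_lit 98828)) (.leaf
    (nat_lit 516362))) (.leaf (nat_lit 332813))) (.node (.leaf (nat_lit 216330)) (.leaf (nat_lit
    462600)))))) (.node (.node (.node (.node (.node (.leaf (nat_lit 16653)) (.leaf (nat_lit
    481291))) (.leaf (nat_lit 264460))) (.node (.leaf (nat_lit 133134)) (.leaf (nat_lit 366604))))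
    (.node (.node (.node (.leaf (nat_lit 50442)) (.leaf (nat_lit 368653))) (.leaf (nat_lit
    314119))) (.node (.leaf (nat_lit 183308)) (.leaf (nat_lit 318222))))) (.node (.node (.node
    (.node (.leaf (nat_lit 33294)) (.leaf (nat_lit 417292))) (.leaf (nat_lit 282889))) (.node
    (.leaf (nat_lit 165389)) (.leaf (nat_lit 416265)))) (.node (.node (.node (.leaf (nat_lit
    99338)) (.leaf (nat_lit 549385))) (.leaf (nat_lit 349705))) (.node (.leaf (nat_lit 232969))
    (.leaf (nat_lit 464398)))))))) (.node (.node (.node (.node (.node (.node (.node (.leaf (nat_lit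
    10)) (.leaf (nat_lit 479239))) (.leaf (nat_lit 232973))) (.node (.node (.leaf (nat_lit 116494))
    (.leaf (nat_lit 565262))) (.leaf (nat_lit 382734)))) (.node (.node (.node (.leaf (nat_lit
    50188)) (.leaf (nat_lit 515854))) (.leaf (nat_lit 283148))) (.node (.leaf (nat_lit 166410))
    (.leaf (nat_lit 432142))))) (.node (.node (.node (.node (.leaf (nat_lit 32776)) (.leaf (nat_lit
    482825))) (.leaf (nat_lit 249870))) (.node (.leaf (nat_lit 116999)) (.leaf (nat_lit 416014))))
    (.node (.node (.node (.leaf (nat_lit 82697)) (.leaf (nat_lit 549134))) (.leaf (nat_lit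
    316424))) (.node (.leaf (nat_lit 215051)) (.leaf (nat_lit 318220)))))) (.node (.node (.node
    (.node (.node (.leaf (nat_lit 16391)) (.leaf (nat_lit 480780))) (.leaf (nat_lit 249613)))
    (.node (.leaf (nat_lit 133129)) (.leaf (nat_lit 382985)))) (.node (.node (.node (.leaf (nat_lit
    82443)) (.leaf (nat_lit 516105))) (.leaf (nat_lit 299533))) (.node (.leaf (nat_lit 198412))
    (.leaf (nat_lit 449293))))) (.node (.node (.node (.node (.leaf (nat_lit 33290)) (.leaf (nat_lit
    496652))) (.leaf (nat_lit 282890))) (.node (.leaf (nat_lit 149774)) (.leaf (nat_lit 416264))))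
    (.node (.node (.node (.leaf (nat_lit 83470)) (.leaf (nat_lit 549384))) (.leaf (nat_lit
    349704))) (.node (.leaf (nat_lit 216588)) (.leaf (nat_lit 465933))))))) (.node (.node (.node
    (.node (.node (.node (.leaf (nat_lit 13)) (.leaf (nat_lit 351502))) (.leaf (nat_lit 184074)))
    (.node (.node (.leaf (nat_lit 132109)) (.leaf (nat_lit 565260))) (.leaf (nat_lit 396552))))
    (.node (.node (.node (.leaf (nat_lit 50190)) (.leaf (nat_lit 528648))) (.leaf (nat_lit
    283150))) (.node (.leaf (nat_lit 182027)) (.leaf (nat_lit 446215))))) (.node (.node (.node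
    (.node (.leaf (nat_lit 16905)) (.leaf (nat_lit 466442))) (.leaf (nat_lit 217101))) (.node
    (.leaf (nat_lit 117001)) (.leaf (nat_lit 414731)))) (.node (.node (.node (.leaf (nat_lit
    83468)) (.leaf (nat_lit 548875))) (.leaf (nat_lit 347143))) (.node (.leaf (nat_lit 216329))
    (.leaf (nat_lit 449544)))))) (.node (.node (.node (.node (.node (.leaf (nat_lit 16654)) (.leaf
    (nat_lit 495624))) (.leaf (nat_lit 249868))) (.node (.leaf (nat_lit 133130)) (.leaf (nat_lit
    413191)))) (.node (.node (.node (.leaf (nat_lit 82696)) (.leaf (nat_lit 545287))) (.leaf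
    (nat_lit 316173))) (.node (.leaf (nat_lit 199689)) (.leaf (nat_lit 447754))))) (.node (.node
    (.node (.node (.leaf (nat_lit 49419)) (.leaf (nat_lit 512263))) (.leaf (nat_lit 200973)))
    (.node (.leaf (nat_lit 166407)) (.leaf (nat_lit 432653)))) (.node (.node (.node (.leaf (nat_lit
    99847)) (.leaf (nat_lit 565773))) (.leaf (nat_lit 333322))) (.node (.leaf (nat_lit 216590))
    (.leaf (nat_lit 464140)))))))))

/-- Certificate data. -/
def tS_just : Trie :=
    (.node (.node (.node (.node (.node (.node (.node (.node (.leaf (nat_lit 1)) (.leaf (nat_lit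
    502472519057418))) (.leaf (nat_lit 138745697272004622))) (.node (.node (.leaf (nat_lit 0))
    (.leaf (nat_lit 331380954797113353))) (.leaf (nat_lit 0)))) (.node (.node (.node (.leaf
    (nat_lit 0)) (.leaf (nat_lit 205262461375545347))) (.leaf (nat_lit 0))) (.node (.leaf (nat_lit
    103708535187243028)) (.leaf (nat_lit 223206190493138953))))) (.node (.node (.node (.node (.leaf
    (nat_lit 5774747266510487557)) (.leaf (nat_lit 568511936200710))) (.leaf (nat_lit
    157822305618296843))) (.node (.leaf (nat_lit 0)) (.leaf (nat_lit 232224341914484739)))) (.node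
    (.node (.node (.leaf (nat_lit 90361817071622)) (.leaf (nat_lit 340399106218459139))) (.leaf
    (nat_lit 0))) (.node (.leaf (nat_lit 114989584617766924)) (.leaf (nat_lit
    262808383122505765)))))) (.node (.node (.node (.node (.node (.leaf (nat_lit 1)) (.leaf (nat_lit
    296638259965132838))) (.leaf (nat_lit 77394555880662630425))) (.node (.leaf (nat_lit
    72145859911024659)) (.leaf (nat_lit 423067163688966)))) (.node (.node (.node (.leaf (nat_lit
    8860207416734143283213)) (.leaf (nat_lit 630187666571270))) (.leaf (nat_lit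
    183865428228112398))) (.node (.leaf (nat_lit 2071345033061066194003525173313560)) (.leaf
    (nat_lit 198458442904698915))))) (.node (.node (.node (.node (.leaf (nat_lit
    20281673090531336)) (.leaf (nat_lit 307951981211877380))) (.leaf (nat_lit 0))) (.node (.leaf
    (nat_lit 93595179990319113)) (.leaf (nat_lit 0)))) (.node (.node (.node (.leaf (nat_lit
    58606396417179659)) (.leaf (nat_lit 0))) (.leaf (nat_lit 0))) (.node (.leaf (nat_lit 0)) (.leaf
    (nat_lit 193954903406870535))))))) (.node (.node (.node (.node (.node (.node (.leaf (nat_lit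
    1)) (.leaf (nat_lit 216503747998842883))) (.leaf (nat_lit 0))) (.node (.node (.leaf (nat_lit
    1299263799609737204732874317168658)) (.leaf (nat_lit 346334355884539943))) (.leaf (nat_lit
    50824320006093531316255)))) (.node (.node (.node (.leaf (nat_lit 36066322148425739)) (.leaf
    (nat_lit 84500029087919485812777))) (.leaf (nat_lit 180362379887050763))) (.node (.leaf
    (nat_lit 7127095013339042393352503319)) (.leaf (nat_lit 253779090555994146))))) (.node (.node
    (.node (.node (.leaf (nat_lit 22071837065222)) (.leaf (nat_lit 223259198979506184))) (.leaf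
    (nat_lit 161305416721170446))) (.node (.leaf (nat_lit 78918894487797779)) (.leaf (nat_lit
    110822612393577938949)))) (.node (.node (.node (.leaf (nat_lit 0)) (.leaf (nat_lit
    165055047479620534277))) (.leaf (nat_lit 198390041255542792))) (.node (.leaf (nat_lit
    128518010045661198)) (.leaf (nat_lit 0)))))) (.node (.node (.node (.node (.node (.leaf (nat_lit
    11274439476051971)) (.leaf (nat_lit 296616222487937064))) (.leaf (nat_lit 0))) (.node (.leaf
    (nat_lit 82340536018731012)) (.leaf (nat_lit 54368400711280748724256)))) (.node (.node (.node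
    (.leaf (nat_lit 33825560400691214)) (.leaf (nat_lit 207514295548968968))) (.leaf (nat_lit 0)))
    (.node (.leaf (nat_lit 224759933698058)) (.leaf (nat_lit 193950445230817284))))) (.node (.node
    (.node (.node (.leaf (nat_lit 23679168315326468)) (.leaf (nat_lit 471806452563978))) (.leaf
    (nat_lit 89522771753303277593))) (.node (.leaf (nat_lit 0)) (.leaf (nat_lit
    232211190724624391)))) (.node (.node (.node (.leaf (nat_lit 62034592068206606)) (.leaf (nat_lit
    340385955028598791))) (.leaf (nat_lit 205158669195870215))) (.node (.leaf (nat_lit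
    135282231349542923)) (.leaf (nat_lit 278621443389063172)))))))) (.node (.node (.node (.node
    (.node (.node (.node (.leaf (nat_lit 1)) (.leaf (nat_lit 0))) (.leaf (nat_lit
    2436664616579092400042549000601626))) (.node (.node (.leaf (nat_lit
    1300097786156890707453132382208017)) (.leaf (nat_lit 355339240151908356))) (.leaf (nat_lit
    216430896763568132)))) (.node (.node (.node (.leaf (nat_lit 66112431718410)) (.leaf (nat_lit
    322349454617411588))) (.leaf (nat_lit 334943024709642))) (.node (.leaf (nat_lit
    7127243170658660998831341590)) (.leaf (nat_lit 247041330545623044))))) (.node (.node (.node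
    (.node (.leaf (nat_lit 0)) (.leaf (nat_lit 290802198273785863))) (.leaf (nat_lit
    148819504410066956))) (.node (.leaf (nat_lit 72161296023486485)) (.leaf (nat_lit
    232219943867973636)))) (.node (.node (.node (.leaf (nat_lit 55248436366344199)) (.leaf (nat_lit
    340394708171948036))) (.leaf (nat_lit 378992209297414))) (.node (.leaf (nat_lit 0)) (.leaf
    (nat_lit 432043645337610)))))) (.node (.node (.node (.node (.node (.leaf (nat_lit 0)) (.leaf
    (nat_lit 296673508761731111))) (.leaf (nat_lit 154477569771765787))) (.node (.leaf (nat_lit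
    78894662282313748)) (.leaf (nat_lit 216435320579883015)))) (.node (.node (.node (.leaf (nat_lit
    0)) (.leaf (nat_lit 322353887023661063))) (.leaf (nat_lit 12945059972497649828738039838)))
    (.node (.leaf (nat_lit 0)) (.leaf (nat_lit 259263634943967235))))) (.node (.node (.node (.node
    (.leaf (nat_lit 20286071137042441)) (.leaf (nat_lit 310208234906648613))) (.leaf (nat_lit
    171350748226060302))) (.node (.leaf (nat_lit 95873376673005572)) (.leaf (nat_lit
    453930798678022)))) (.node (.node (.node (.leaf (nat_lit 47351795395264524)) (.leaf (nat_lit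
    665449348071430))) (.leaf (nat_lit 401016801591302))) (.node (.leaf (nat_lit 251208342306826))
    (.leaf (nat_lit 275026293769306120))))))) (.node (.node (.node (.node (.node (.node (.leaf
    (nat_lit 1)) (.leaf (nat_lit 205242549907161092))) (.leaf (nat_lit 115031477728772110))) (.node
    (.node (.leaf (nat_lit 0)) (.leaf (nat_lit 716013998047242))) (.leaf (nat_lit 0)))) (.node
    (.node (.node (.leaf (nat_lit 33810124288229388)) (.leaf (nat_lit 0))) (.leaf (nat_lit
    171359578678820876))) (.node (.leaf (nat_lit 0)) (.leaf (nat_lit 0))))) (.node (.node (.node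
    (.node (.leaf (nat_lit 11261279696257031)) (.leaf (nat_lit 275041798601244681))) (.leaf
    (nat_lit 5001528027040481589048533057564))) (.node (.leaf (nat_lit 72170092116508692)) (.leaf
    (nat_lit 123014023641917816865)))) (.node (.node (.node (.leaf (nat_lit 92586610130954)) (.leaf
    (nat_lit 348548664928698402))) (.leaf (nat_lit 0))) (.node (.leaf (nat_lit
    67574434825639297049)) (.leaf (nat_lit 506827615895558)))))) (.node (.node (.node (.node (.node
    (.leaf (nat_lit 11265643383029764)) (.leaf (nat_lit 0))) (.leaf (nat_lit 290876660252682)))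
    (.node (.leaf (nat_lit 42156094154820812805)) (.leaf (nat_lit 0)))) (.node (.node (.node (.leaf
    (nat_lit 50753624242061327)) (.leaf (nat_lit 0))) (.leaf (nat_lit 193886424448303107))) (.node
    (.leaf (nat_lit 119497582291648523)) (.leaf (nat_lit 262753304461901860))))) (.node (.node
    (.node (.node (.leaf (nat_lit 0)) (.leaf (nat_lit 0))) (.leaf (nat_lit
    4486779973976771789239160930333))) (.node (.leaf (nat_lit 103719530303520789)) (.leaf (nat_lit
    243483383932583944)))) (.node (.node (.node (.leaf (nat_lit 66536108636438544)) (.leaf (nat_lit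
    351658148236558344))) (.leaf (nat_lit 198405468778070025))) (.node (.leaf (nat_lit
    128522433861976076)) (.leaf (nat_lit 280882262634070053)))))))))

/-- Certificate data. -/
def tS_rel : Trie :=
    (.node (.node (.node (.node (.node (.node (.leaf (nat_lit 0)) (.leaf (nat_lit 151718412)))
    (.leaf (nat_lit 61649814998097622404362))) (.node (.leaf (nat_lit 723723)) (.leaf (nat_lit
    52186634447145308851213)))) (.node (.node (.node (.leaf (nat_lit 460551)) (.leaf (nat_lit
    235539978))) (.leaf (nat_lit 939577809079766282))) (.node (.leaf (nat_lit 201919242)) (.leaf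
    (nat_lit 1012480940461329933))))) (.node (.node (.node (.node (.leaf (nat_lit 134874894))
    (.leaf (nat_lit 151652618))) (.leaf (nat_lit 218696969))) (.node (.leaf (nat_lit 185469710))
    (.leaf (nat_lit 203853763732264783373)))) (.node (.node (.node (.leaf (nat_lit 118294541))
    (.leaf (nat_lit 235671052))) (.leaf (nat_lit 56835358631862389771021))) (.node (.leaf (nat_lit
    168234504)) (.leaf (nat_lit 7748256008203)))))) (.node (.node (.node (.node (.node (.leaf
    (nat_lit 135071501)) (.leaf (nat_lit 134809609))) (.leaf (nat_lit 218631431))) (.node (.leaf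
    (nat_lit 185207817)) (.leaf (nat_lit 151849229)))) (.node (.node (.node (.leaf (nat_lit
    118032137)) (.leaf (nat_lit 235605515))) (.leaf (nat_lit 940703726166740238))) (.node (.leaf
    (nat_lit 235407879)) (.leaf (nat_lit 8847767570188))))) (.node (.node (.node (.node (.leaf
    (nat_lit 34528429834)) (.leaf (nat_lit 168560907))) (.leaf (nat_lit 218565896))) (.node (.leaf
    (nat_lit 12129189432071)) (.leaf (nat_lit 222301632597796195853)))) (.node (.node (.node (.leaf
    (nat_lit 118360074)) (.leaf (nat_lit 8847750792971))) (.leaf (nat_lit 51708103177))) (.node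
    (.leaf (nat_lit 61557653339721108622606)) (.leaf (nat_lit 43134814732)))))))

/-- Certificate data. -/
def tS_rc : Trie :=
    (.node (.node (.node (.node (.node (.node (.leaf (nat_lit 40)) (.leaf (nat_lit 22))) (.leaf
    (nat_lit 262183))) (.node (.leaf (nat_lit 21)) (.leaf (nat_lit 917536)))) (.node (.node (.node
    (.leaf (nat_lit 1)) (.leaf (nat_lit 10))) (.leaf (nat_lit 16))) (.node (.leaf (nat_lit 131094))
    (.leaf (nat_lit 18))))) (.node (.node (.node (.node (.leaf (nat_lit 131078)) (.leaf (nat_lit
    8))) (.leaf (nat_lit 12))) (.node (.leaf (nat_lit 25)) (.leaf (nat_lit 31)))) (.node (.node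
    (.node (.leaf (nat_lit 393220)) (.leaf (nat_lit 24))) (.leaf (nat_lit 655395))) (.node (.leaf
    (nat_lit 6)) (.leaf (nat_lit 655388)))))) (.node (.node (.node (.node (.node (.leaf (nat_lit
    131076)) (.leaf (nat_lit 131074))) (.leaf (nat_lit 262148))) (.node (.leaf (nat_lit 393238))
    (.leaf (nat_lit 131084)))) (.node (.node (.node (.leaf (nat_lit 3)) (.leaf (nat_lit 131097)))
    (.leaf (nat_lit 131090))) (.node (.leaf (nat_lit 262150)) (.leaf (nat_lit 393244))))) (.node
    (.node (.node (.node (.leaf (nat_lit 393231)) (.leaf (nat_lit 262166))) (.leaf (nat_lit 4)))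
    (.node (.leaf (nat_lit 393245)) (.leaf (nat_lit 524319)))) (.node (.node (.node (.leaf (nat_lit
    393222)) (.leaf (nat_lit 262173))) (.leaf (nat_lit 262171))) (.node (.leaf (nat_lit 393252))
    (.leaf (nat_lit 26)))))))

/-- Certificate data. -/
def tS_lv : Trie :=
    (.node (.node (.node (.node (.node (.node (.leaf (nat_lit 0)) (.leaf (nat_lit 32))) (.leaf
    (nat_lit 16))) (.node (.leaf (nat_lit 8)) (.leaf (nat_lit 24)))) (.node (.node (.leaf (nat_lit
    4)) (.leaf (nat_lit 20))) (.node (.leaf (nat_lit 12)) (.leaf (nat_lit 28))))) (.node (.node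
    (.node (.node (.leaf (nat_lit 2)) (.leaf (nat_lit 34))) (.leaf (nat_lit 18))) (.node (.leaf
    (nat_lit 10)) (.leaf (nat_lit 26)))) (.node (.node (.leaf (nat_lit 6)) (.leaf (nat_lit 22)))
    (.node (.leaf (nat_lit 14)) (.leaf (nat_lit 30)))))) (.node (.node (.node (.node (.node (.leaf
    (nat_lit 1)) (.leaf (nat_lit 33))) (.leaf (nat_lit 17))) (.node (.leaf (nat_lit 9)) (.leaf
    (nat_lit 25)))) (.node (.node (.leaf (nat_lit 5)) (.leaf (nat_lit 21))) (.node (.leaf (nat_lit
    13)) (.leaf (nat_lit 29))))) (.node (.node (.node (.leaf (nat_lit 3)) (.leaf (nat_lit 19)))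
    (.node (.leaf (nat_lit 11)) (.leaf (nat_lit 27)))) (.node (.node (.leaf (nat_lit 7)) (.leaf
    (nat_lit 23))) (.node (.leaf (nat_lit 15)) (.leaf (nat_lit 31)))))))

/-- Certificate data. -/
def tS_tb : Trie :=
    (.node (.node (.node (.node (.node (.node (.node (.node (.leaf (nat_lit 522)) (.leaf (nat_lit
    9924))) (.node (.leaf (nat_lit 15635)) (.leaf (nat_lit 9383)))) (.node (.node (.leaf (nat_lit
    8999)) (.leaf (nat_lit 10421))) (.leaf (nat_lit 12512)))) (.node (.node (.node (.leaf (nat_lit
    15106)) (.leaf (nat_lit 4166))) (.node (.leaf (nat_lit 5219)) (.leaf (nat_lit 17203)))) (.node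
    (.node (.leaf (nat_lit 6775)) (.leaf (nat_lit 527))) (.leaf (nat_lit 5734))))) (.node (.node
    (.node (.node (.leaf (nat_lit 4693)) (.leaf (nat_lit 16165))) (.node (.leaf (nat_lit 1051))
    (.leaf (nat_lit 13011)))) (.node (.node (.leaf (nat_lit 1587)) (.leaf (nat_lit 14587))) (.leaf
    (nat_lit 16704)))) (.node (.node (.node (.leaf (nat_lit 6855)) (.leaf (nat_lit 8863))) (.leaf
    (nat_lit 9385))) (.node (.node (.leaf (nat_lit 11453)) (.leaf (nat_lit 4699))) (.leaf (nat_lit
    8335)))))) (.node (.node (.node (.node (.node (.leaf (nat_lit 2609)) (.leaf (nat_lit 12017)))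
    (.node (.leaf (nat_lit 17725)) (.leaf (nat_lit 15111)))) (.node (.node (.leaf (nat_lit 1047))
    (.leaf (nat_lit 15637))) (.leaf (nat_lit 14614)))) (.node (.node (.node (.leaf (nat_lit 5809))
    (.leaf (nat_lit 2119))) (.leaf (nat_lit 7297))) (.node (.node (.leaf (nat_lit 8861)) (.leaf
    (nat_lit 3131))) (.leaf (nat_lit 6253))))) (.node (.node (.node (.node (.leaf (nat_lit 10934))
    (.leaf (nat_lit 7))) (.node (.leaf (nat_lit 2109)) (.leaf (nat_lit 11014)))) (.node (.node
    (.leaf (nat_lit 3670)) (.leaf (nat_lit 11564))) (.leaf (nat_lit 2083)))) (.node (.node (.node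
    (.leaf (nat_lit 7925)) (.leaf (nat_lit 6806))) (.leaf (nat_lit 10430))) (.node (.node (.leaf
    (nat_lit 13533)) (.leaf (nat_lit 7295))) (.leaf (nat_lit 14067))))))) (.node (.node (.node
    (.node (.node (.node (.leaf (nat_lit 19)) (.leaf (nat_lit 15645))) (.node (.leaf (nat_lit
    16683)) (.leaf (nat_lit 14061)))) (.node (.node (.leaf (nat_lit 9529)) (.leaf (nat_lit 16685)))
    (.leaf (nat_lit 15639)))) (.node (.node (.node (.leaf (nat_lit 17198)) (.leaf (nat_lit 5212)))
    (.leaf (nat_lit 8340))) (.node (.node (.leaf (nat_lit 5768)) (.leaf (nat_lit 2087))) (.leaf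
    (nat_lit 7812))))) (.node (.node (.node (.node (.leaf (nat_lit 5214)) (.leaf (nat_lit 17733)))
    (.node (.leaf (nat_lit 3132)) (.leaf (nat_lit 9964)))) (.node (.node (.leaf (nat_lit 4695))
    (.leaf (nat_lit 12564))) (.leaf (nat_lit 1566)))) (.node (.node (.node (.leaf (nat_lit 7385))
    (.leaf (nat_lit 7299))) (.leaf (nat_lit 11455))) (.node (.node (.leaf (nat_lit 12491)) (.leaf
    (nat_lit 6257))) (.leaf (nat_lit 9379)))))) (.node (.node (.node (.node (.node (.leaf (nat_lit
    3134)) (.leaf (nat_lit 11531))) (.node (.leaf (nat_lit 3)) (.leaf (nat_lit 11971)))) (.node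
    (.node (.leaf (nat_lit 2610)) (.leaf (nat_lit 13535))) (.leaf (nat_lit 17729)))) (.node (.node
    (.node (.leaf (nat_lit 6329)) (.leaf (nat_lit 3165))) (.leaf (nat_lit 6293))) (.node (.node
    (.leaf (nat_lit 14585)) (.leaf (nat_lit 3651))) (.leaf (nat_lit 7291))))) (.node (.node (.node
    (.node (.leaf (nat_lit 13006)) (.leaf (nat_lit 1049))) (.node (.leaf (nat_lit 4175)) (.leaf
    (nat_lit 16163)))) (.node (.node (.leaf (nat_lit 7817)) (.leaf (nat_lit 17727))) (.leaf
    (nat_lit 3127)))) (.node (.node (.node (.leaf (nat_lit 8463)) (.leaf (nat_lit 9387))) (.leaf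
    (nat_lit 13537))) (.node (.node (.leaf (nat_lit 10472)) (.leaf (nat_lit 8339))) (.leaf (nat_lit
    13540)))))))) (.node (.node (.node (.node (.node (.node (.node (.leaf (nat_lit 1045)) (.leaf
    (nat_lit 15116))) (.node (.leaf (nat_lit 15122)) (.leaf (nat_lit 8870)))) (.node (.node (.leaf
    (nat_lit 17723)) (.leaf (nat_lit 16161))) (.leaf (nat_lit 10991)))) (.node (.node (.node (.leaf
    (nat_lit 16158)) (.leaf (nat_lit 4688))) (.node (.leaf (nat_lit 7815)) (.leaf (nat_lit
    16707)))) (.node (.node (.leaf (nat_lit 7293)) (.leaf (nat_lit 1053))) (.leaf (nat_lit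
    6770))))) (.node (.node (.node (.node (.leaf (nat_lit 3666)) (.leaf (nat_lit 17206))) (.node
    (.leaf (nat_lit 2605)) (.leaf (nat_lit 12515)))) (.node (.node (.leaf (nat_lit 3129)) (.leaf
    (nat_lit 12036))) (.leaf (nat_lit 4)))) (.node (.node (.node (.leaf (nat_lit 13531)) (.leaf
    (nat_lit 8343))) (.leaf (nat_lit 15112))) (.node (.node (.leaf (nat_lit 10940)) (.leaf (nat_lit
    5221))) (.leaf (nat_lit 4749)))))) (.node (.node (.node (.node (.node (.leaf (nat_lit 1583))
    (.leaf (nat_lit 11007))) (.node (.leaf (nat_lit 17212)) (.leaf (nat_lit 14588)))) (.node (.node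
    (.leaf (nat_lit 534)) (.leaf (nat_lit 13009))) (.leaf (nat_lit 17205)))) (.node (.node (.node
    (.leaf (nat_lit 11451)) (.leaf (nat_lit 2641))) (.leaf (nat_lit 5766))) (.node (.node (.leaf
    (nat_lit 9381)) (.leaf (nat_lit 2618))) (.leaf (nat_lit 3691))))) (.node (.node (.node (.node
    (.leaf (nat_lit 11968)) (.leaf (nat_lit 525))) (.node (.leaf (nat_lit 3653)) (.leaf (nat_lit
    10521)))) (.node (.node (.leaf (nat_lit 5217)) (.leaf (nat_lit 17201))) (.leaf (nat_lit 545))))
    (.node (.node (.node (.leaf (nat_lit 15633)) (.leaf (nat_lit 6302))) (.leaf (nat_lit 13013)))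
    (.node (.node (.leaf (nat_lit 13020)) (.leaf (nat_lit 6782))) (.leaf (nat_lit 13014)))))))
    (.node (.node (.node (.node (.node (.node (.leaf (nat_lit 2089)) (.leaf (nat_lit 14593)))
    (.node (.leaf (nat_lit 16170)) (.leaf (nat_lit 15640)))) (.node (.node (.leaf (nat_lit 1))
    (.leaf (nat_lit 15109))) (.leaf (nat_lit 9993)))) (.node (.node (.node (.leaf (nat_lit 10419))
    (.leaf (nat_lit 1601))) (.leaf (nat_lit 6773))) (.node (.node (.leaf (nat_lit 8337)) (.leaf
    (nat_lit 1574))) (.leaf (nat_lit 8856))))) (.node (.node (.node (.node (.leaf (nat_lit 9900))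
    (.leaf (nat_lit 16711))) (.node (.leaf (nat_lit 1580)) (.leaf (nat_lit 11517)))) (.node (.node
    (.leaf (nat_lit 4171)) (.leaf (nat_lit 11040))) (.leaf (nat_lit 2602)))) (.node (.node (.node
    (.leaf (nat_lit 14583)) (.leaf (nat_lit 7819))) (.leaf (nat_lit 14062))) (.node (.node (.leaf
    (nat_lit 11978)) (.leaf (nat_lit 5744))) (.leaf (nat_lit 5281)))))) (.node (.node (.node (.node
    (.node (.leaf (nat_lit 4169)) (.leaf (nat_lit 10523))) (.node (.leaf (nat_lit 529)) (.leaf
    (nat_lit 13538)))) (.node (.node (.leaf (nat_lit 2085)) (.leaf (nat_lit 14059))) (.leaf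
    (nat_lit 16180)))) (.node (.node (.node (.leaf (nat_lit 12489)) (.leaf (nat_lit 5737))) (.leaf
    (nat_lit 8859))) (.node (.node (.leaf (nat_lit 14057)) (.leaf (nat_lit 4173))) (.leaf (nat_lit
    4217))))) (.node (.node (.node (.node (.leaf (nat_lit 14054)) (.leaf (nat_lit 3648))) (.node
    (.leaf (nat_lit 4697)) (.leaf (nat_lit 17730)))) (.node (.node (.leaf (nat_lit 6255)) (.leaf
    (nat_lit 9))) (.leaf (nat_lit 1077)))) (.node (.node (.node (.leaf (nat_lit 16681)) (.leaf
    (nat_lit 9903))) (.leaf (nat_lit 11988))) (.node (.node (.leaf (nat_lit 9976)) (.leaf (nat_lit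
    7826))) (.leaf (nat_lit 12493)))))))))

/-- Certificate data. -/
def tS_C : TC.Cert := ⟨6, 63, 9, 511, 1486373390087298562220836320735856039100928, 32256, tS_par, tS_fact, tS_just, tS_rel, 40⟩

/-- Certificate data. -/
def tS_rs : List (List ℕ) := [[8, 8, 8], [8, 9, 8, 9], [8, 13, 7, 13], [8, 14, 7, 10], [10, 9, 10, 9], [10, 14, 10, 14], [9, 13, 9, 13], [8, 10, 7, 10, 14], [10, 13, 10, 13, 10, 13, 10, 13], [13, 14, 13, 14, 13, 14, 13, 14], [12, 12, 12], [12, 10, 11, 9], [12, 14, 12, 14], [12, 10, 9, 11, 10], [8, 12, 8, 12, 7, 11], [12, 13, 10, 14, 13, 11, 13, 14, 13], [12, 10, 13, 10, 11, 13, 11, 13, 12, 13], [12, 9, 13, 12, 13, 11, 9, 13, 11, 13], [12, 9, 13, 14, 13, 9, 11, 13, 14, 13], [12, 13, 10, 13, 14, 12, 13, 10, 13, 14]]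

/-- Certificate data. -/
def tS_gl : List ℕ := [7, 8969, 17930, 26891, 35853, 44814]

theorem tS_h1 : allB tS_C.factChk 164 = true := by decide +kernel

theorem tS_h2 : tS_C.finChk 164 35 tS_lv tS_tb tS_gl = true := by decide +kernel

theorem tS_h3 : TC.relChk tS_C.ivc tS_rs tS_C.rel tS_rc tS_C.nrel = true := by decide +kernel

end Cfsg.Agent.H7.HS
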