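import Cfsg.Agent.H4.TC

/-!
# Coset enumeration certificate for the Higman–Sims group
-/

set_option autoImplicit false
set_option maxRecDepth 100000

namespace Cfsg.Agent.H7.HS

open Cfsg.Agent.H4

/-- Certificate data. -/
def tK_par : Trie :=
    (.node (.node (.node (.node (.node (.node (.node (.node (.node (.node (.node (.leaf (nat_lit
    0)) (.leaf (nat_lit 200715))) (.leaf (nat_lit 64781))) (.node (.leaf (nat_lit 36879)) (.leaf
    (nat_lit 116749)))) (.node (.node (.leaf (nat_lit 17671)) (.leaf (nat_lit 85260))) (.node
    (.leaf (nat_lit 50443)) (.leaf (nat_lit 161293))))) (.node (.node (.node (.node (.leaf (nat_lit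
    7437)) (.leaf (nat_lit 217355))) (.leaf (nat_lit 72968))) (.node (.leaf (nat_lit 43016)) (.leaf
    (nat_lit 137997)))) (.node (.node (.leaf (nat_lit 27399)) (.leaf (nat_lit 98568))) (.node
    (.leaf (nat_lit 57871)) (.leaf (nat_lit 185355)))))) (.node (.node (.node (.node (.node (.leaf
    (nat_lit 3852)) (.leaf (nat_lit 208655))) (.leaf (nat_lit 68623))) (.node (.leaf (nat_lit
    39943)) (.leaf (nat_lit 125703)))) (.node (.node (.leaf (nat_lit 22798)) (.leaf (nat_lit
    92173))) (.node (.leaf (nat_lit 54028)) (.leaf (nat_lit 172303))))) (.node (.node (.node (.leaf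
    (nat_lit 12039)) (.leaf (nat_lit 78092))) (.node (.leaf (nat_lit 47115)) (.leaf (nat_lit
    147208)))) (.node (.node (.leaf (nat_lit 32780)) (.leaf (nat_lit 105224))) (.node (.leaf
    (nat_lit 61703)) (.leaf (nat_lit 193292))))))) (.node (.node (.node (.node (.node (.node (.leaf
    (nat_lit 1803)) (.leaf (nat_lit 204811))) (.leaf (nat_lit 66575))) (.node (.leaf (nat_lit
    38155)) (.leaf (nat_lit 122631)))) (.node (.node (.leaf (nat_lit 20748)) (.leaf (nat_lit
    88075))) (.node (.leaf (nat_lit 52237)) (.leaf (nat_lit 168459))))) (.node (.node (.node (.leaf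
    (nat_lit 9735)) (.leaf (nat_lit 75532))) (.node (.leaf (nat_lit 45071)) (.leaf (nat_lit
    141325)))) (.node (.node (.leaf (nat_lit 30479)) (.leaf (nat_lit 101647))) (.node (.leaf
    (nat_lit 59916)) (.leaf (nat_lit 189711)))))) (.node (.node (.node (.node (.node (.leaf
    (nat_lit 5389)) (.leaf (nat_lit 213260))) (.leaf (nat_lit 70152))) (.node (.leaf (nat_lit
    41231)) (.leaf (nat_lit 130829)))) (.node (.node (.leaf (nat_lit 25355)) (.leaf (nat_lit
    94988))) (.node (.leaf (nat_lit 56075)) (.leaf (nat_lit 180235))))) (.node (.node (.node (.leaf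
    (nat_lit 14605)) (.leaf (nat_lit 80651))) (.node (.leaf (nat_lit 48655)) (.leaf (nat_lit
    154383)))) (.node (.node (.leaf (nat_lit 34827)) (.leaf (nat_lit 110861))) (.node (.leaf
    (nat_lit 62984)) (.leaf (nat_lit 196876)))))))) (.node (.node (.node (.node (.node (.node
    (.node (.leaf (nat_lit 519)) (.leaf (nat_lit 203019))) (.leaf (nat_lit 65291))) (.node (.leaf
    (nat_lit 37384)) (.leaf (nat_lit 120333)))) (.node (.node (.leaf (nat_lit 19469)) (.leaf
    (nat_lit 86027))) (.node (.leaf (nat_lit 51212)) (.leaf (nat_lit 166663))))) (.node (.node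
    (.node (.node (.leaf (nat_lit 8205)) (.leaf (nat_lit 224015))) (.leaf (nat_lit 74504))) (.node
    (.leaf (nat_lit 43791)) (.leaf (nat_lit 139533)))) (.node (.node (.leaf (nat_lit 29453)) (.leaf
    (nat_lit 100615))) (.node (.leaf (nat_lit 58891)) (.leaf (nat_lit 187661)))))) (.node (.node
    (.node (.node (.node (.leaf (nat_lit 4616)) (.leaf (nat_lit 211724))) (.leaf (nat_lit 69387)))
    (.node (.leaf (nat_lit 40712)) (.leaf (nat_lit 126735)))) (.node (.node (.leaf (nat_lit 23819))
    (.leaf (nat_lit 93959))) (.node (.leaf (nat_lit 55303)) (.leaf (nat_lit 177419))))) (.node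
    (.node (.node (.leaf (nat_lit 13071)) (.leaf (nat_lit 79623))) (.node (.leaf (nat_lit 48139))
    (.leaf (nat_lit 152327)))) (.node (.node (.leaf (nat_lit 33803)) (.leaf (nat_lit 107535)))
    (.node (.leaf (nat_lit 62477)) (.leaf (nat_lit 195597))))))) (.node (.node (.node (.node (.node
    (.node (.leaf (nat_lit 3079)) (.leaf (nat_lit 207115))) (.leaf (nat_lit 67596))) (.node (.leaf
    (nat_lit 38924)) (.leaf (nat_lit 123663)))) (.node (.node (.leaf (nat_lit 21511)) (.leaf
    (nat_lit 89868))) (.node (.leaf (nat_lit 53255)) (.leaf (nat_lit 169997))))) (.node (.node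
    (.node (.leaf (nat_lit 10760)) (.leaf (nat_lit 76556))) (.node (.leaf (nat_lit 45839)) (.leaf
    (nat_lit 142861)))) (.node (.node (.leaf (nat_lit 31247)) (.leaf (nat_lit 103176))) (.node
    (.leaf (nat_lit 60943)) (.leaf (nat_lit 190735)))))) (.node (.node (.node (.node (.node (.leaf
    (nat_lit 5900)) (.leaf (nat_lit 215565))) (.leaf (nat_lit 71693))) (.node (.leaf (nat_lit
    42255)) (.leaf (nat_lit 135687)))) (.node (.node (.leaf (nat_lit 26127)) (.leaf (nat_lit
    97543))) (.node (.leaf (nat_lit 56843)) (.leaf (nat_lit 182539))))) (.node (.node (.node (.leaf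
    (nat_lit 15624)) (.leaf (nat_lit 82957))) (.node (.leaf (nat_lit 49675)) (.leaf (nat_lit
    155915)))) (.node (.node (.leaf (nat_lit 35855)) (.leaf (nat_lit 112909))) (.node (.leaf
    (nat_lit 63757)) (.leaf (nat_lit 199180))))))))) (.node (.node (.node (.node (.node (.node
    (.node (.node (.leaf (nat_lit 263)) (.leaf (nat_lit 201995))) (.leaf (nat_lit 65032))) (.node
    (.leaf (nat_lit 37128)) (.leaf (nat_lit 118797)))) (.node (.node (.leaf (nat_lit 18439)) (.leaf
    (nat_lit 85775))) (.node (.leaf (nat_lit 50957)) (.leaf (nat_lit 164104))))) (.node (.node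
    (.node (.node (.leaf (nat_lit 7692)) (.leaf (nat_lit 220431))) (.leaf (nat_lit 73995))) (.node
    (.leaf (nat_lit 43532)) (.leaf (nat_lit 139019)))) (.node (.node (.leaf (nat_lit 28684)) (.leaf
    (nat_lit 99336))) (.node (.leaf (nat_lit 58380)) (.leaf (nat_lit 186379)))))) (.node (.node
    (.node (.node (.node (.leaf (nat_lit 4359)) (.leaf (nat_lit 210703))) (.leaf (nat_lit 68879)))
    (.node (.leaf (nat_lit 40207)) (.leaf (nat_lit 126223)))) (.node (.node (.leaf (nat_lit 23053))
    (.leaf (nat_lit 93197))) (.node (.leaf (nat_lit 54539)) (.leaf (nat_lit 173071))))) (.node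
    (.node (.node (.leaf (nat_lit 12303)) (.leaf (nat_lit 79117))) (.node (.leaf (nat_lit 47879))
    (.leaf (nat_lit 149767)))) (.node (.node (.leaf (nat_lit 33039)) (.leaf (nat_lit 106765)))
    (.node (.leaf (nat_lit 61960)) (.leaf (nat_lit 193804))))))) (.node (.node (.node (.node (.node
    (.node (.leaf (nat_lit 2575)) (.leaf (nat_lit 206091))) (.leaf (nat_lit 67080))) (.node (.leaf
    (nat_lit 38408)) (.leaf (nat_lit 123151)))) (.node (.node (.leaf (nat_lit 20999)) (.leaf
    (nat_lit 88843))) (.node (.leaf (nat_lit 52487)) (.leaf (nat_lit 168716))))) (.node (.node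
    (.node (.leaf (nat_lit 10509)) (.leaf (nat_lit 76295))) (.node (.leaf (nat_lit 45579)) (.leaf
    (nat_lit 142091)))) (.node (.node (.leaf (nat_lit 30983)) (.leaf (nat_lit 102408))) (.node
    (.leaf (nat_lit 60683)) (.leaf (nat_lit 190223)))))) (.node (.node (.node (.node (.node (.leaf
    (nat_lit 5639)) (.leaf (nat_lit 213775))) (.leaf (nat_lit 70919))) (.node (.leaf (nat_lit
    41487)) (.leaf (nat_lit 132360)))) (.node (.node (.leaf (nat_lit 25608)) (.leaf (nat_lit
    96775))) (.node (.leaf (nat_lit 56335)) (.leaf (nat_lit 181259))))) (.node (.node (.node (.leaf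
    (nat_lit 15117)) (.leaf (nat_lit 82187))) (.node (.leaf (nat_lit 49163)) (.leaf (nat_lit
    154895)))) (.node (.node (.leaf (nat_lit 35339)) (.leaf (nat_lit 111627))) (.node (.leaf
    (nat_lit 63501)) (.leaf (nat_lit 198923)))))))) (.node (.node (.node (.node (.node (.node
    (.node (.leaf (nat_lit 779)) (.leaf (nat_lit 203787))) (.leaf (nat_lit 66315))) (.node (.leaf
    (nat_lit 37899)) (.leaf (nat_lit 121863)))) (.node (.node (.leaf (nat_lit 20491)) (.leaf
    (nat_lit 87303))) (.node (.leaf (nat_lit 51725)) (.leaf (nat_lit 167436))))) (.node (.node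
    (.node (.leaf (nat_lit 8719)) (.leaf (nat_lit 74763))) (.node (.leaf (nat_lit 44807)) (.leaf
    (nat_lit 139791)))) (.node (.node (.leaf (nat_lit 30219)) (.leaf (nat_lit 101383))) (.node
    (.leaf (nat_lit 59407)) (.leaf (nat_lit 189452)))))) (.node (.node (.node (.node (.node (.leaf
    (nat_lit 4872)) (.leaf (nat_lit 212492))) (.leaf (nat_lit 69640))) (.node (.leaf (nat_lit
    40968)) (.leaf (nat_lit 128007)))) (.node (.node (.leaf (nat_lit 24335)) (.leaf (nat_lit
    94471))) (.node (.leaf (nat_lit 55567)) (.leaf (nat_lit 178443))))) (.node (.node (.node (.leaf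
    (nat_lit 14087)) (.leaf (nat_lit 80135))) (.node (.leaf (nat_lit 48396)) (.leaf (nat_lit
    153869)))) (.node (.node (.leaf (nat_lit 34060)) (.leaf (nat_lit 109325))) (.node (.leaf
    (nat_lit 62727)) (.leaf (nat_lit 196364))))))) (.node (.node (.node (.node (.node (.node (.leaf
    (nat_lit 3595)) (.leaf (nat_lit 207887))) (.leaf (nat_lit 68363))) (.node (.leaf (nat_lit
    39183)) (.leaf (nat_lit 124935)))) (.node (.node (.leaf (nat_lit 22287)) (.leaf (nat_lit
    90637))) (.node (.leaf (nat_lit 53519)) (.leaf (nat_lit 172044))))) (.node (.node (.node (.leaf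
    (nat_lit 11532)) (.leaf (nat_lit 77327))) (.node (.leaf (nat_lit 46347)) (.leaf (nat_lit
    143629)))) (.node (.node (.leaf (nat_lit 31751)) (.leaf (nat_lit 104715))) (.node (.leaf
    (nat_lit 61453)) (.leaf (nat_lit 192780)))))) (.node (.node (.node (.node (.node (.leaf
    (nat_lit 6927)) (.leaf (nat_lit 216331))) (.leaf (nat_lit 72461))) (.node (.leaf (nat_lit
    42763)) (.leaf (nat_lit 136973)))) (.node (.node (.leaf (nat_lit 26631)) (.leaf (nat_lit
    97807))) (.node (.leaf (nat_lit 57607)) (.leaf (nat_lit 183563))))) (.node (.node (.node (.leaf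
    (nat_lit 16399)) (.leaf (nat_lit 83725))) (.node (.leaf (nat_lit 49928)) (.leaf (nat_lit
    156175)))) (.node (.node (.leaf (nat_lit 36360)) (.leaf (nat_lit 114955))) (.node (.leaf
    (nat_lit 64266)) (.leaf (nat_lit 199691)))))))))) (.node (.node (.node (.node (.node (.node
    (.node (.node (.node (.leaf (nat_lit 270)) (.leaf (nat_lit 200971))) (.leaf (nat_lit 65037)))
    (.node (.leaf (nat_lit 37133)) (.leaf (nat_lit 117517)))) (.node (.node (.leaf (nat_lit 17679))
    (.leaf (nat_lit 85767))) (.node (.leaf (nat_lit 50695)) (.leaf (nat_lit 163853))))) (.node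
    (.node (.node (.node (.leaf (nat_lit 7432)) (.leaf (nat_lit 218378))) (.leaf (nat_lit 73738)))
    (.node (.leaf (nat_lit 43272)) (.leaf (nat_lit 138509)))) (.node (.node (.leaf (nat_lit 28167))
    (.leaf (nat_lit 98831))) (.node (.leaf (nat_lit 58376)) (.leaf (nat_lit 186123)))))) (.node
    (.node (.node (.node (.node (.leaf (nat_lit 4103)) (.leaf (nat_lit 210188))) (.leaf (nat_lit
    68877))) (.node (.leaf (nat_lit 39947)) (.leaf (nat_lit 125711)))) (.node (.node (.leaf
    (nat_lit 22792)) (.leaf (nat_lit 92683))) (.node (.leaf (nat_lit 54284)) (.leaf (nat_lit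
    172812))))) (.node (.node (.node (.leaf (nat_lit 12295)) (.leaf (nat_lit 78605))) (.node (.leaf
    (nat_lit 47375)) (.leaf (nat_lit 148749)))) (.node (.node (.leaf (nat_lit 33035)) (.leaf
    (nat_lit 105480))) (.node (.leaf (nat_lit 61965)) (.leaf (nat_lit 193549))))))) (.node (.node
    (.node (.node (.node (.node (.leaf (nat_lit 2571)) (.leaf (nat_lit 205067))) (.leaf (nat_lit
    67085))) (.node (.leaf (nat_lit 38159)) (.leaf (nat_lit 122639)))) (.node (.node (.leaf
    (nat_lit 21006)) (.leaf (nat_lit 88333))) (.node (.leaf (nat_lit 52232)) (.leaf (nat_lit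
    168463))))) (.node (.node (.node (.leaf (nat_lit 9743)) (.leaf (nat_lit 75791))) (.node (.leaf
    (nat_lit 45575)) (.leaf (nat_lit 141837)))) (.node (.node (.leaf (nat_lit 30732)) (.leaf
    (nat_lit 102157))) (.node (.leaf (nat_lit 60679)) (.leaf (nat_lit 190219)))))) (.node (.node
    (.node (.node (.node (.leaf (nat_lit 5384)) (.leaf (nat_lit 213519))) (.leaf (nat_lit 70156)))
    (.node (.leaf (nat_lit 41483)) (.leaf (nat_lit 131592)))) (.node (.node (.leaf (nat_lit 25359))
    (.leaf (nat_lit 95757))) (.node (.leaf (nat_lit 56331)) (.leaf (nat_lit 181003))))) (.node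
    (.node (.node (.leaf (nat_lit 14861)) (.leaf (nat_lit 80909))) (.node (.leaf (nat_lit 48908))
    (.leaf (nat_lit 154891)))) (.node (.node (.leaf (nat_lit 35083)) (.leaf (nat_lit 111119)))
    (.node (.leaf (nat_lit 63239)) (.leaf (nat_lit 198667)))))))) (.node (.node (.node (.node
    (.node (.node (.node (.leaf (nat_lit 775)) (.leaf (nat_lit 203275))) (.leaf (nat_lit 65543)))
    (.node (.leaf (nat_lit 37640)) (.leaf (nat_lit 121101)))) (.node (.node (.leaf (nat_lit 19981))
    (.leaf (nat_lit 86539))) (.node (.leaf (nat_lit 51463)) (.leaf (nat_lit 167180))))) (.node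
    (.node (.node (.node (.leaf (nat_lit 8200)) (.leaf (nat_lit 227084))) (.leaf (nat_lit 74759)))
    (.node (.leaf (nat_lit 44559)) (.leaf (nat_lit 139787)))) (.node (.node (.leaf (nat_lit 29708))
    (.leaf (nat_lit 100623))) (.node (.leaf (nat_lit 58895)) (.leaf (nat_lit 187912)))))) (.node
    (.node (.node (.node (.node (.leaf (nat_lit 4877)) (.leaf (nat_lit 211980))) (.leaf (nat_lit
    69641))) (.node (.leaf (nat_lit 40716)) (.leaf (nat_lit 127240)))) (.node (.node (.leaf
    (nat_lit 24327)) (.leaf (nat_lit 94219))) (.node (.leaf (nat_lit 55307)) (.leaf (nat_lit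
    178187))))) (.node (.node (.node (.leaf (nat_lit 13836)) (.leaf (nat_lit 79883))) (.node (.leaf
    (nat_lit 48143)) (.leaf (nat_lit 153357)))) (.node (.node (.leaf (nat_lit 33807)) (.leaf
    (nat_lit 108044))) (.node (.leaf (nat_lit 62472)) (.leaf (nat_lit 196108))))))) (.node (.node
    (.node (.node (.node (.node (.leaf (nat_lit 3335)) (.leaf (nat_lit 207371))) (.leaf (nat_lit
    67852))) (.node (.leaf (nat_lit 39179)) (.leaf (nat_lit 124168)))) (.node (.node (.leaf
    (nat_lit 22283)) (.leaf (nat_lit 90375))) (.node (.leaf (nat_lit 53259)) (.leaf (nat_lit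
    170248))))) (.node (.node (.node (.leaf (nat_lit 11279)) (.leaf (nat_lit 77067))) (.node (.leaf
    (nat_lit 46092)) (.leaf (nat_lit 143116)))) (.node (.node (.leaf (nat_lit 31500)) (.leaf
    (nat_lit 103949))) (.node (.leaf (nat_lit 61196)) (.leaf (nat_lit 191495)))))) (.node (.node
    (.node (.node (.node (.leaf (nat_lit 6415)) (.leaf (nat_lit 216074))) (.leaf (nat_lit 71948)))
    (.node (.leaf (nat_lit 42508)) (.leaf (nat_lit 136461)))) (.node (.node (.leaf (nat_lit 26380))
    (.leaf (nat_lit 97547))) (.node (.leaf (nat_lit 57359)) (.leaf (nat_lit 183307))))) (.node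
    (.node (.node (.leaf (nat_lit 16391)) (.leaf (nat_lit 83212))) (.node (.leaf (nat_lit 49933))
    (.leaf (nat_lit 155919)))) (.node (.node (.leaf (nat_lit 36366)) (.leaf (nat_lit 114701)))
    (.node (.leaf (nat_lit 64007)) (.leaf (nat_lit 199435))))))))) (.node (.node (.node (.node
    (.node (.node (.node (.node (.leaf (nat_lit 267)) (.leaf (nat_lit 202251))) (.leaf (nat_lit
    65287))) (.node (.leaf (nat_lit 37132)) (.leaf (nat_lit 119053)))) (.node (.node (.leaf
    (nat_lit 18447)) (.leaf (nat_lit 86023))) (.node (.leaf (nat_lit 50952)) (.leaf (nat_lit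
    165128))))) (.node (.node (.node (.node (.leaf (nat_lit 7943)) (.leaf (nat_lit 222735))) (.leaf
    (nat_lit 74248))) (.node (.leaf (nat_lit 43787)) (.leaf (nat_lit 139023)))) (.node (.node
    (.leaf (nat_lit 29195)) (.leaf (nat_lit 100109))) (.node (.leaf (nat_lit 58636)) (.leaf
    (nat_lit 186887)))))) (.node (.node (.node (.node (.node (.leaf (nat_lit 4621)) (.leaf (nat_lit
    211215))) (.leaf (nat_lit 69131))) (.node (.leaf (nat_lit 40718)) (.leaf (nat_lit 126472))))
    (.node (.node (.leaf (nat_lit 23565)) (.leaf (nat_lit 93703))) (.node (.leaf (nat_lit 54543))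
    (.leaf (nat_lit 177163))))) (.node (.node (.node (.leaf (nat_lit 13063)) (.leaf (nat_lit
    79368))) (.node (.leaf (nat_lit 47883)) (.leaf (nat_lit 150791)))) (.node (.node (.leaf
    (nat_lit 33288)) (.leaf (nat_lit 107275))) (.node (.leaf (nat_lit 62215)) (.leaf (nat_lit
    194060))))))) (.node (.node (.node (.node (.node (.node (.leaf (nat_lit 2828)) (.leaf (nat_lit
    206347))) (.leaf (nat_lit 67340))) (.node (.leaf (nat_lit 38668)) (.leaf (nat_lit 123400))))
    (.node (.node (.leaf (nat_lit 21004)) (.leaf (nat_lit 89357))) (.node (.leaf (nat_lit 52751))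
    (.leaf (nat_lit 168973))))) (.node (.node (.node (.leaf (nat_lit 10504)) (.leaf (nat_lit
    76303))) (.node (.leaf (nat_lit 45835)) (.leaf (nat_lit 142095)))) (.node (.node (.leaf
    (nat_lit 31243)) (.leaf (nat_lit 102671))) (.node (.leaf (nat_lit 60939)) (.leaf (nat_lit
    190731)))))) (.node (.node (.node (.node (.node (.leaf (nat_lit 5896)) (.leaf (nat_lit
    215308))) (.leaf (nat_lit 71175))) (.node (.leaf (nat_lit 42251)) (.leaf (nat_lit 134157))))
    (.node (.node (.leaf (nat_lit 26123)) (.leaf (nat_lit 96783))) (.node (.leaf (nat_lit 56588))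
    (.leaf (nat_lit 182283))))) (.node (.node (.node (.leaf (nat_lit 15373)) (.leaf (nat_lit
    82443))) (.node (.leaf (nat_lit 49419)) (.leaf (nat_lit 155405)))) (.node (.node (.leaf
    (nat_lit 35595)) (.leaf (nat_lit 112141))) (.node (.leaf (nat_lit 63496)) (.leaf (nat_lit
    198927)))))))) (.node (.node (.node (.node (.node (.node (.node (.leaf (nat_lit 1799)) (.leaf
    (nat_lit 204043))) (.leaf (nat_lit 66574))) (.node (.leaf (nat_lit 37903)) (.leaf (nat_lit
    121871)))) (.node (.node (.leaf (nat_lit 20495)) (.leaf (nat_lit 87821))) (.node (.leaf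
    (nat_lit 51720)) (.leaf (nat_lit 167949))))) (.node (.node (.node (.leaf (nat_lit 9231)) (.leaf
    (nat_lit 75015))) (.node (.leaf (nat_lit 44811)) (.leaf (nat_lit 140813)))) (.node (.node
    (.leaf (nat_lit 30475)) (.leaf (nat_lit 101387))) (.node (.leaf (nat_lit 59912)) (.leaf
    (nat_lit 189707)))))) (.node (.node (.node (.node (.node (.leaf (nat_lit 5131)) (.leaf (nat_lit
    212748))) (.leaf (nat_lit 69898))) (.node (.leaf (nat_lit 41227)) (.leaf (nat_lit 129032))))
    (.node (.node (.leaf (nat_lit 25100)) (.leaf (nat_lit 94727))) (.node (.leaf (nat_lit 56071))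
    (.leaf (nat_lit 179979))))) (.node (.node (.node (.leaf (nat_lit 14349)) (.leaf (nat_lit
    80391))) (.node (.leaf (nat_lit 48651)) (.leaf (nat_lit 154379)))) (.node (.node (.leaf
    (nat_lit 34311)) (.leaf (nat_lit 109581))) (.node (.leaf (nat_lit 62989)) (.leaf (nat_lit
    196620))))))) (.node (.node (.node (.node (.node (.node (.leaf (nat_lit 3599)) (.leaf (nat_lit
    208396))) (.leaf (nat_lit 68617))) (.node (.leaf (nat_lit 39695)) (.leaf (nat_lit 124943))))
    (.node (.node (.leaf (nat_lit 22540)) (.leaf (nat_lit 90893))) (.node (.leaf (nat_lit 54024))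
    (.leaf (nat_lit 172299))))) (.node (.node (.node (.leaf (nat_lit 11784)) (.leaf (nat_lit
    77583))) (.node (.leaf (nat_lit 47111)) (.leaf (nat_lit 144135)))) (.node (.node (.leaf
    (nat_lit 32013)) (.leaf (nat_lit 105229))) (.node (.leaf (nat_lit 61448)) (.leaf (nat_lit
    193037)))))) (.node (.node (.node (.node (.node (.leaf (nat_lit 7175)) (.leaf (nat_lit
    216847))) (.leaf (nat_lit 72716))) (.node (.leaf (nat_lit 42767)) (.leaf (nat_lit 137485))))
    (.node (.node (.leaf (nat_lit 26893)) (.leaf (nat_lit 98317))) (.node (.leaf (nat_lit 57611))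
    (.leaf (nat_lit 185099))))) (.node (.node (.node (.leaf (nat_lit 17165)) (.leaf (nat_lit
    84232))) (.node (.leaf (nat_lit 50183)) (.leaf (nat_lit 160781)))) (.node (.node (.leaf
    (nat_lit 36364)) (.leaf (nat_lit 115981))) (.node (.leaf (nat_lit 64523)) (.leaf (nat_lit
    199947))))))))))) (.node (.node (.node (.node (.node (.node (.node (.node (.node (.node (.leaf
    (nat_lit 15)) (.leaf (nat_lit 200716))) (.leaf (nat_lit 64776))) (.node (.leaf (nat_lit 37134))
    (.leaf (nat_lit 117005)))) (.node (.node (.leaf (nat_lit 17672)) (.leaf (nat_lit 85773)))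
    (.node (.leaf (nat_lit 50701)) (.leaf (nat_lit 163080))))) (.node (.node (.node (.node (.leaf
    (nat_lit 7431)) (.leaf (nat_lit 217356))) (.leaf (nat_lit 73229))) (.node (.leaf (nat_lit
    43271)) (.leaf (nat_lit 138253)))) (.node (.node (.leaf (nat_lit 27400)) (.leaf (nat_lit
    98575))) (.node (.leaf (nat_lit 58375)) (.leaf (nat_lit 185356)))))) (.node (.node (.node
    (.node (.node (.leaf (nat_lit 3855)) (.leaf (nat_lit 209679))) (.leaf (nat_lit 68874))) (.node
    (.leaf (nat_lit 39944)) (.leaf (nat_lit 125704)))) (.node (.node (.leaf (nat_lit 22791)) (.leaf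
    (nat_lit 92429))) (.node (.leaf (nat_lit 54283)) (.leaf (nat_lit 172557))))) (.node (.node
    (.node (.leaf (nat_lit 12040)) (.leaf (nat_lit 78349))) (.node (.leaf (nat_lit 47116)) (.leaf
    (nat_lit 148493)))) (.node (.node (.leaf (nat_lit 32783)) (.leaf (nat_lit 105485))) (.node
    (.leaf (nat_lit 61704)) (.leaf (nat_lit 193295))))))) (.node (.node (.node (.node (.node (.node
    (.leaf (nat_lit 1804)) (.leaf (nat_lit 204812))) (.leaf (nat_lit 66823))) (.node (.leaf
    (nat_lit 38156)) (.leaf (nat_lit 122632)))) (.node (.node (.leaf (nat_lit 20751)) (.leaf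
    (nat_lit 88076))) (.node (.leaf (nat_lit 52231)) (.leaf (nat_lit 168460))))) (.node (.node
    (.node (.leaf (nat_lit 9736)) (.leaf (nat_lit 75790))) (.node (.leaf (nat_lit 45327)) (.leaf
    (nat_lit 141581)))) (.node (.node (.leaf (nat_lit 30731)) (.leaf (nat_lit 101903))) (.node
    (.leaf (nat_lit 60175)) (.leaf (nat_lit 189965)))))) (.node (.node (.node (.node (.node (.leaf
    (nat_lit 5383)) (.leaf (nat_lit 213516))) (.leaf (nat_lit 70155))) (.node (.leaf (nat_lit
    41486)) (.leaf (nat_lit 131591)))) (.node (.node (.leaf (nat_lit 25356)) (.leaf (nat_lit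
    95245))) (.node (.leaf (nat_lit 56076)) (.leaf (nat_lit 180236))))) (.node (.node (.node (.leaf
    (nat_lit 14604)) (.leaf (nat_lit 80652))) (.node (.leaf (nat_lit 48907)) (.leaf (nat_lit
    154637)))) (.node (.node (.leaf (nat_lit 34828)) (.leaf (nat_lit 111117))) (.node (.leaf
    (nat_lit 63245)) (.leaf (nat_lit 197640)))))))) (.node (.node (.node (.node (.node (.node
    (.node (.leaf (nat_lit 520)) (.leaf (nat_lit 203020))) (.leaf (nat_lit 65549))) (.node (.leaf
    (nat_lit 37639)) (.leaf (nat_lit 120589)))) (.node (.node (.leaf (nat_lit 19725)) (.leaf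
    (nat_lit 86285))) (.node (.leaf (nat_lit 51469)) (.leaf (nat_lit 167179))))) (.node (.node
    (.node (.node (.leaf (nat_lit 8199)) (.leaf (nat_lit 224268))) (.leaf (nat_lit 74765))) (.node
    (.leaf (nat_lit 44303)) (.leaf (nat_lit 139784)))) (.node (.node (.leaf (nat_lit 29707)) (.leaf
    (nat_lit 100616))) (.node (.leaf (nat_lit 58892)) (.leaf (nat_lit 187911)))))) (.node (.node
    (.node (.node (.node (.leaf (nat_lit 4623)) (.leaf (nat_lit 211979))) (.leaf (nat_lit 69388)))
    (.node (.leaf (nat_lit 40715)) (.leaf (nat_lit 127239)))) (.node (.node (.leaf (nat_lit 23823))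
    (.leaf (nat_lit 93960))) (.node (.leaf (nat_lit 55304)) (.leaf (nat_lit 177420))))) (.node
    (.node (.node (.leaf (nat_lit 13835)) (.leaf (nat_lit 79624))) (.node (.leaf (nat_lit 48140))
    (.leaf (nat_lit 152328)))) (.node (.node (.leaf (nat_lit 33804)) (.leaf (nat_lit 107789)))
    (.node (.leaf (nat_lit 62471)) (.leaf (nat_lit 196107))))))) (.node (.node (.node (.node (.node
    (.node (.leaf (nat_lit 3080)) (.leaf (nat_lit 207116))) (.leaf (nat_lit 67851))) (.node (.leaf
    (nat_lit 38927)) (.leaf (nat_lit 124167)))) (.node (.node (.leaf (nat_lit 21512)) (.leaf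
    (nat_lit 90381))) (.node (.leaf (nat_lit 53256)) (.leaf (nat_lit 170247))))) (.node (.node
    (.node (.leaf (nat_lit 10767)) (.leaf (nat_lit 76812))) (.node (.leaf (nat_lit 46091)) (.leaf
    (nat_lit 143115)))) (.node (.node (.leaf (nat_lit 31499)) (.leaf (nat_lit 103183))) (.node
    (.leaf (nat_lit 61195)) (.leaf (nat_lit 190989)))))) (.node (.node (.node (.node (.node (.leaf
    (nat_lit 6159)) (.leaf (nat_lit 215818))) (.leaf (nat_lit 71943))) (.node (.leaf (nat_lit
    42507)) (.leaf (nat_lit 135688)))) (.node (.node (.leaf (nat_lit 26379)) (.leaf (nat_lit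
    97544))) (.node (.leaf (nat_lit 57103)) (.leaf (nat_lit 182540))))) (.node (.node (.node (.leaf
    (nat_lit 15631)) (.leaf (nat_lit 83207))) (.node (.leaf (nat_lit 49679)) (.leaf (nat_lit
    155916)))) (.node (.node (.leaf (nat_lit 36111)) (.leaf (nat_lit 114445))) (.node (.leaf
    (nat_lit 63752)) (.leaf (nat_lit 199183))))))))) (.node (.node (.node (.node (.node (.node
    (.node (.node (.leaf (nat_lit 264)) (.leaf (nat_lit 201996))) (.leaf (nat_lit 65293))) (.node
    (.leaf (nat_lit 37131)) (.leaf (nat_lit 118792)))) (.node (.node (.leaf (nat_lit 18440)) (.leaf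
    (nat_lit 86029))) (.node (.leaf (nat_lit 50951)) (.leaf (nat_lit 165127))))) (.node (.node
    (.node (.node (.leaf (nat_lit 7949)) (.leaf (nat_lit 222223))) (.leaf (nat_lit 73996))) (.node
    (.leaf (nat_lit 43535)) (.leaf (nat_lit 139020)))) (.node (.node (.leaf (nat_lit 28941)) (.leaf
    (nat_lit 99343))) (.node (.leaf (nat_lit 58635)) (.leaf (nat_lit 186380)))))) (.node (.node
    (.node (.node (.node (.leaf (nat_lit 4360)) (.leaf (nat_lit 210959))) (.leaf (nat_lit 69133)))
    (.node (.leaf (nat_lit 40463)) (.leaf (nat_lit 126471)))) (.node (.node (.leaf (nat_lit 23309))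
    (.leaf (nat_lit 93452))) (.node (.leaf (nat_lit 54540)) (.leaf (nat_lit 173325))))) (.node
    (.node (.node (.leaf (nat_lit 12559)) (.leaf (nat_lit 79367))) (.node (.leaf (nat_lit 47880))
    (.leaf (nat_lit 149768)))) (.node (.node (.leaf (nat_lit 33287)) (.leaf (nat_lit 107021)))
    (.node (.leaf (nat_lit 62221)) (.leaf (nat_lit 194059))))))) (.node (.node (.node (.node (.node
    (.node (.leaf (nat_lit 2827)) (.leaf (nat_lit 206092))) (.leaf (nat_lit 67339))) (.node (.leaf
    (nat_lit 38667)) (.leaf (nat_lit 123399)))) (.node (.node (.leaf (nat_lit 21000)) (.leaf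
    (nat_lit 89101))) (.node (.leaf (nat_lit 52488)) (.leaf (nat_lit 168719))))) (.node (.node
    (.node (.leaf (nat_lit 10503)) (.leaf (nat_lit 76296))) (.node (.leaf (nat_lit 45580)) (.leaf
    (nat_lit 142092)))) (.node (.node (.leaf (nat_lit 30984)) (.leaf (nat_lit 102415))) (.node
    (.leaf (nat_lit 60684)) (.leaf (nat_lit 190477)))))) (.node (.node (.node (.node (.node (.leaf
    (nat_lit 5640)) (.leaf (nat_lit 215307))) (.leaf (nat_lit 71181))) (.node (.leaf (nat_lit
    41995)) (.leaf (nat_lit 133383)))) (.node (.node (.leaf (nat_lit 25869)) (.leaf (nat_lit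
    96776))) (.node (.leaf (nat_lit 56587)) (.leaf (nat_lit 181260))))) (.node (.node (.node (.leaf
    (nat_lit 15116)) (.leaf (nat_lit 82188))) (.node (.leaf (nat_lit 49167)) (.leaf (nat_lit
    155149)))) (.node (.node (.leaf (nat_lit 35340)) (.leaf (nat_lit 111885))) (.node (.leaf
    (nat_lit 63495)) (.leaf (nat_lit 198924)))))))) (.node (.node (.node (.node (.node (.node
    (.node (.leaf (nat_lit 780)) (.leaf (nat_lit 203788))) (.leaf (nat_lit 66316))) (.node (.leaf
    (nat_lit 37900)) (.leaf (nat_lit 121864)))) (.node (.node (.leaf (nat_lit 20492)) (.leaf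
    (nat_lit 87565))) (.node (.leaf (nat_lit 51719)) (.leaf (nat_lit 167439))))) (.node (.node
    (.node (.leaf (nat_lit 8975)) (.leaf (nat_lit 75021))) (.node (.leaf (nat_lit 44808)) (.leaf
    (nat_lit 140301)))) (.node (.node (.leaf (nat_lit 30220)) (.leaf (nat_lit 101384))) (.node
    (.leaf (nat_lit 59911)) (.leaf (nat_lit 189455)))))) (.node (.node (.node (.node (.node (.leaf
    (nat_lit 5127)) (.leaf (nat_lit 212747))) (.leaf (nat_lit 69647))) (.node (.leaf (nat_lit
    41226)) (.leaf (nat_lit 128008)))) (.node (.node (.leaf (nat_lit 25099)) (.leaf (nat_lit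
    94472))) (.node (.leaf (nat_lit 55823)) (.leaf (nat_lit 178444))))) (.node (.node (.node (.leaf
    (nat_lit 14088)) (.leaf (nat_lit 80136))) (.node (.leaf (nat_lit 48399)) (.leaf (nat_lit
    154125)))) (.node (.node (.leaf (nat_lit 34063)) (.leaf (nat_lit 109319))) (.node (.leaf
    (nat_lit 62728)) (.leaf (nat_lit 196367))))))) (.node (.node (.node (.node (.node (.node (.leaf
    (nat_lit 3596)) (.leaf (nat_lit 208395))) (.leaf (nat_lit 68364))) (.node (.leaf (nat_lit
    39439)) (.leaf (nat_lit 124936)))) (.node (.node (.leaf (nat_lit 22539)) (.leaf (nat_lit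
    90632))) (.node (.leaf (nat_lit 54023)) (.leaf (nat_lit 172047))))) (.node (.node (.node (.leaf
    (nat_lit 11789)) (.leaf (nat_lit 77581))) (.node (.leaf (nat_lit 46607)) (.leaf (nat_lit
    143885)))) (.node (.node (.leaf (nat_lit 31752)) (.leaf (nat_lit 104716))) (.node (.leaf
    (nat_lit 61447)) (.leaf (nat_lit 192783)))))) (.node (.node (.node (.node (.node (.leaf
    (nat_lit 7181)) (.leaf (nat_lit 216332))) (.leaf (nat_lit 72712))) (.node (.leaf (nat_lit
    42764)) (.leaf (nat_lit 137229)))) (.node (.node (.leaf (nat_lit 26632)) (.leaf (nat_lit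
    98063))) (.node (.leaf (nat_lit 57608)) (.leaf (nat_lit 183564))))) (.node (.node (.node (.leaf
    (nat_lit 16911)) (.leaf (nat_lit 84237))) (.node (.leaf (nat_lit 50189)) (.leaf (nat_lit
    156429)))) (.node (.node (.leaf (nat_lit 36363)) (.leaf (nat_lit 115725))) (.node (.leaf
    (nat_lit 64268)) (.leaf (nat_lit 199692)))))))))) (.node (.node (.node (.node (.node (.node
    (.node (.node (.node (.leaf (nat_lit 269)) (.leaf (nat_lit 200972))) (.leaf (nat_lit 65031)))
    (.node (.leaf (nat_lit 37127)) (.leaf (nat_lit 117773)))) (.node (.node (.leaf (nat_lit 17935))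
    (.leaf (nat_lit 85768))) (.node (.leaf (nat_lit 50696)) (.leaf (nat_lit 164103))))) (.node
    (.node (.node (.node (.leaf (nat_lit 7691)) (.leaf (nat_lit 219148))) (.leaf (nat_lit 73743)))
    (.node (.leaf (nat_lit 43531)) (.leaf (nat_lit 138765)))) (.node (.node (.leaf (nat_lit 28683))
    (.leaf (nat_lit 99335))) (.node (.leaf (nat_lit 58379)) (.leaf (nat_lit 186124)))))) (.node
    (.node (.node (.node (.node (.leaf (nat_lit 4104)) (.leaf (nat_lit 210191))) (.leaf (nat_lit
    68872))) (.node (.leaf (nat_lit 39948)) (.leaf (nat_lit 125967)))) (.node (.node (.leaf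
    (nat_lit 22796)) (.leaf (nat_lit 92941))) (.node (.leaf (nat_lit 54287)) (.leaf (nat_lit
    173068))))) (.node (.node (.node (.leaf (nat_lit 12296)) (.leaf (nat_lit 78859))) (.node (.leaf
    (nat_lit 47631)) (.leaf (nat_lit 149256)))) (.node (.node (.leaf (nat_lit 33036)) (.leaf
    (nat_lit 106509))) (.node (.leaf (nat_lit 61959)) (.leaf (nat_lit 193803))))))) (.node (.node
    (.node (.node (.node (.node (.leaf (nat_lit 2572)) (.leaf (nat_lit 205068))) (.leaf (nat_lit
    67079))) (.node (.leaf (nat_lit 38407)) (.leaf (nat_lit 122895)))) (.node (.node (.leaf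
    (nat_lit 21005)) (.leaf (nat_lit 88589))) (.node (.leaf (nat_lit 52493)) (.leaf (nat_lit
    168715))))) (.node (.node (.node (.leaf (nat_lit 10255)) (.leaf (nat_lit 76301))) (.node (.leaf
    (nat_lit 45576)) (.leaf (nat_lit 142088)))) (.node (.node (.leaf (nat_lit 30735)) (.leaf
    (nat_lit 102407))) (.node (.leaf (nat_lit 60680)) (.leaf (nat_lit 190220)))))) (.node (.node
    (.node (.node (.node (.leaf (nat_lit 5645)) (.leaf (nat_lit 213772))) (.leaf (nat_lit 70925)))
    (.node (.leaf (nat_lit 41484)) (.leaf (nat_lit 132359)))) (.node (.node (.leaf (nat_lit 25607))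
    (.leaf (nat_lit 96269))) (.node (.leaf (nat_lit 56332)) (.leaf (nat_lit 181004))))) (.node
    (.node (.node (.leaf (nat_lit 14860)) (.leaf (nat_lit 81165))) (.node (.leaf (nat_lit 48911))
    (.leaf (nat_lit 154892)))) (.node (.node (.leaf (nat_lit 35084)) (.leaf (nat_lit 111373)))
    (.node (.leaf (nat_lit 63240)) (.leaf (nat_lit 198668)))))))) (.node (.node (.node (.node
    (.node (.node (.node (.leaf (nat_lit 776)) (.leaf (nat_lit 203276))) (.leaf (nat_lit 66060)))
    (.node (.leaf (nat_lit 37898)) (.leaf (nat_lit 121357)))) (.node (.node (.leaf (nat_lit 20237))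
    (.leaf (nat_lit 87309))) (.node (.leaf (nat_lit 51464)) (.leaf (nat_lit 167183))))) (.node
    (.node (.node (.node (.leaf (nat_lit 8460)) (.leaf (nat_lit 228876))) (.leaf (nat_lit 74760)))
    (.node (.leaf (nat_lit 44813)) (.leaf (nat_lit 139788)))) (.node (.node (.leaf (nat_lit 29965))
    (.leaf (nat_lit 101135))) (.node (.leaf (nat_lit 59147)) (.leaf (nat_lit 188680)))))) (.node
    (.node (.node (.node (.node (.leaf (nat_lit 4871)) (.leaf (nat_lit 212236))) (.leaf (nat_lit
    69645))) (.node (.leaf (nat_lit 40967)) (.leaf (nat_lit 127247)))) (.node (.node (.leaf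
    (nat_lit 24328)) (.leaf (nat_lit 94220))) (.node (.leaf (nat_lit 55308)) (.leaf (nat_lit
    178188))))) (.node (.node (.node (.leaf (nat_lit 14093)) (.leaf (nat_lit 79884))) (.node (.leaf
    (nat_lit 48395)) (.leaf (nat_lit 153613)))) (.node (.node (.leaf (nat_lit 34059)) (.leaf
    (nat_lit 108301))) (.node (.leaf (nat_lit 62733)) (.leaf (nat_lit 196363))))))) (.node (.node
    (.node (.node (.node (.node (.leaf (nat_lit 3336)) (.leaf (nat_lit 207372))) (.leaf (nat_lit
    68107))) (.node (.leaf (nat_lit 39180)) (.leaf (nat_lit 124175)))) (.node (.node (.leaf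
    (nat_lit 22284)) (.leaf (nat_lit 90376))) (.node (.leaf (nat_lit 53260)) (.leaf (nat_lit
    171016))))) (.node (.node (.node (.leaf (nat_lit 11531)) (.leaf (nat_lit 77325))) (.node (.leaf
    (nat_lit 46095)) (.leaf (nat_lit 143119)))) (.node (.node (.leaf (nat_lit 31503)) (.leaf
    (nat_lit 103943))) (.node (.leaf (nat_lit 61199)) (.leaf (nat_lit 192007)))))) (.node (.node
    (.node (.node (.node (.leaf (nat_lit 6671)) (.leaf (nat_lit 216077))) (.leaf (nat_lit 72205)))
    (.node (.leaf (nat_lit 42511)) (.leaf (nat_lit 136717)))) (.node (.node (.leaf (nat_lit 26383))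
    (.leaf (nat_lit 97551))) (.node (.leaf (nat_lit 57613)) (.leaf (nat_lit 183308))))) (.node
    (.node (.node (.leaf (nat_lit 16392)) (.leaf (nat_lit 83469))) (.node (.leaf (nat_lit 49927))
    (.leaf (nat_lit 156172)))) (.node (.node (.leaf (nat_lit 36359)) (.leaf (nat_lit 114695)))
    (.node (.leaf (nat_lit 64012)) (.leaf (nat_lit 199436))))))))) (.node (.node (.node (.node
    (.node (.node (.node (.node (.leaf (nat_lit 525)) (.leaf (nat_lit 202252))) (.leaf (nat_lit
    65288))) (.node (.leaf (nat_lit 37383)) (.leaf (nat_lit 120077)))) (.node (.node (.leaf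
    (nat_lit 19213)) (.leaf (nat_lit 86024))) (.node (.leaf (nat_lit 51211)) (.leaf (nat_lit
    166413))))) (.node (.node (.node (.node (.leaf (nat_lit 7944)) (.leaf (nat_lit 224012))) (.leaf
    (nat_lit 74509))) (.node (.leaf (nat_lit 43788)) (.leaf (nat_lit 139277)))) (.node (.node
    (.leaf (nat_lit 29196)) (.leaf (nat_lit 100365))) (.node (.leaf (nat_lit 58639)) (.leaf
    (nat_lit 187405)))))) (.node (.node (.node (.node (.node (.leaf (nat_lit 4615)) (.leaf (nat_lit
    211468))) (.leaf (nat_lit 69132))) (.node (.leaf (nat_lit 40711)) (.leaf (nat_lit 126479))))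
    (.node (.node (.leaf (nat_lit 23816)) (.leaf (nat_lit 93704))) (.node (.leaf (nat_lit 54799))
    (.leaf (nat_lit 177164))))) (.node (.node (.node (.leaf (nat_lit 13064)) (.leaf (nat_lit
    79375))) (.node (.leaf (nat_lit 47884)) (.leaf (nat_lit 151565)))) (.node (.node (.leaf
    (nat_lit 33549)) (.leaf (nat_lit 107533))) (.node (.leaf (nat_lit 62216)) (.leaf (nat_lit
    195079))))))) (.node (.node (.node (.node (.node (.node (.leaf (nat_lit 2831)) (.leaf (nat_lit
    206348))) (.leaf (nat_lit 67595))) (.node (.leaf (nat_lit 38923)) (.leaf (nat_lit 123407))))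
    (.node (.node (.leaf (nat_lit 21261)) (.leaf (nat_lit 89351))) (.node (.leaf (nat_lit 53262))
    (.leaf (nat_lit 169479))))) (.node (.node (.node (.leaf (nat_lit 10759)) (.leaf (nat_lit
    76555))) (.node (.leaf (nat_lit 45836)) (.leaf (nat_lit 142605)))) (.node (.node (.leaf
    (nat_lit 31244)) (.leaf (nat_lit 103175))) (.node (.leaf (nat_lit 60940)) (.leaf (nat_lit
    190732)))))) (.node (.node (.node (.node (.node (.leaf (nat_lit 5899)) (.leaf (nat_lit
    215561))) (.leaf (nat_lit 71437))) (.node (.leaf (nat_lit 42252)) (.leaf (nat_lit 134413))))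
    (.node (.node (.leaf (nat_lit 26124)) (.leaf (nat_lit 97295))) (.node (.leaf (nat_lit 56591))
    (.leaf (nat_lit 182284))))) (.node (.node (.node (.leaf (nat_lit 15623)) (.leaf (nat_lit
    82701))) (.node (.leaf (nat_lit 49423)) (.leaf (nat_lit 155661)))) (.node (.node (.leaf
    (nat_lit 35596)) (.leaf (nat_lit 112653))) (.node (.leaf (nat_lit 63499)) (.leaf (nat_lit
    199179)))))))) (.node (.node (.node (.node (.node (.node (.node (.leaf (nat_lit 1800)) (.leaf
    (nat_lit 204044))) (.leaf (nat_lit 66571))) (.node (.leaf (nat_lit 38158)) (.leaf (nat_lit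
    122383)))) (.node (.node (.leaf (nat_lit 20747)) (.leaf (nat_lit 88071))) (.node (.leaf
    (nat_lit 51979)) (.leaf (nat_lit 168205))))) (.node (.node (.node (.leaf (nat_lit 9487)) (.leaf
    (nat_lit 75276))) (.node (.leaf (nat_lit 44812)) (.leaf (nat_lit 141069)))) (.node (.node
    (.leaf (nat_lit 30476)) (.leaf (nat_lit 101391))) (.node (.leaf (nat_lit 59915)) (.leaf
    (nat_lit 189708)))))) (.node (.node (.node (.node (.node (.leaf (nat_lit 5132)) (.leaf (nat_lit
    213003))) (.leaf (nat_lit 69901))) (.node (.leaf (nat_lit 41228)) (.leaf (nat_lit 130573))))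
    (.node (.node (.leaf (nat_lit 25103)) (.leaf (nat_lit 94728))) (.node (.leaf (nat_lit 56072))
    (.leaf (nat_lit 179980))))) (.node (.node (.node (.leaf (nat_lit 14343)) (.leaf (nat_lit
    80392))) (.node (.leaf (nat_lit 48652)) (.leaf (nat_lit 154380)))) (.node (.node (.leaf
    (nat_lit 34312)) (.leaf (nat_lit 109575))) (.node (.leaf (nat_lit 62983)) (.leaf (nat_lit
    196875))))))) (.node (.node (.node (.node (.node (.node (.leaf (nat_lit 3851)) (.leaf (nat_lit
    208399))) (.leaf (nat_lit 68621))) (.node (.leaf (nat_lit 39950)) (.leaf (nat_lit 125455))))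
    (.node (.node (.leaf (nat_lit 22543)) (.leaf (nat_lit 91917))) (.node (.leaf (nat_lit 54027))
    (.leaf (nat_lit 172300))))) (.node (.node (.node (.leaf (nat_lit 12045)) (.leaf (nat_lit
    77836))) (.node (.leaf (nat_lit 47112)) (.leaf (nat_lit 144647)))) (.node (.node (.leaf
    (nat_lit 32779)) (.leaf (nat_lit 105223))) (.node (.leaf (nat_lit 61709)) (.leaf (nat_lit
    193291)))))) (.node (.node (.node (.node (.node (.leaf (nat_lit 7176)) (.leaf (nat_lit
    217100))) (.leaf (nat_lit 72973))) (.node (.leaf (nat_lit 43015)) (.leaf (nat_lit 137741))))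
    (.node (.node (.leaf (nat_lit 27149)) (.leaf (nat_lit 98567))) (.node (.leaf (nat_lit 57612))
    (.leaf (nat_lit 185100))))) (.node (.node (.node (.leaf (nat_lit 17421)) (.leaf (nat_lit
    84493))) (.node (.leaf (nat_lit 50184)) (.leaf (nat_lit 161037)))) (.node (.node (.leaf
    (nat_lit 36623)) (.leaf (nat_lit 116237))) (.node (.leaf (nat_lit 64524)) (.leaf (nat_lit
    199948))))))))))))

/-- Certificate data. -/
def tK_fact : Trie :=
    (.node (.node (.node (.node (.node (.node (.node (.node (.node (.node (.node (.node (.node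
    (.leaf (nat_lit 7)) (.leaf (nat_lit 495169804))) (.leaf (nat_lit 249171469))) (.node (.leaf
    (nat_lit 129038092)) (.leaf (nat_lit 355130121)))) (.node (.node (.node (.leaf (nat_lit
    63462668)) (.leaf (nat_lit 544476940))) (.leaf (nat_lit 327315724))) (.node (.leaf (nat_lit
    185701898)) (.leaf (nat_lit 428999176))))) (.node (.node (.node (.node (.leaf (nat_lit
    33037320)) (.leaf (nat_lit 523480072))) (.leaf (nat_lit 301612815))) (.node (.leaf (nat_lit
    173061388)) (.leaf (nat_lit 407043594)))) (.node (.node (.node (.leaf (nat_lit 98068239))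
    (.leaf (nat_lit 563355916))) (.leaf (nat_lit 354511885))) (.node (.leaf (nat_lit 244386575))
    (.leaf (nat_lit 464728587)))))) (.node (.node (.node (.node (.node (.leaf (nat_lit 15211785))
    (.leaf (nat_lit 485740302))) (.leaf (nat_lit 288450311))) (.node (.leaf (nat_lit 152119562))
    (.leaf (nat_lit 394978314)))) (.node (.node (.node (.leaf (nat_lit 79730698)) (.leaf (nat_lit
    553394188))) (.leaf (nat_lit 339904520))) (.node (.leaf (nat_lit 197768967)) (.leaf (nat_lit
    448408845))))) (.node (.node (.node (.node (.leaf (nat_lit 48770573)) (.leaf (nat_lit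
    466876937))) (.leaf (nat_lit 307386127))) (.node (.leaf (nat_lit 193017866)) (.leaf (nat_lit
    417537288)))) (.node (.node (.node (.leaf (nat_lit 113302281)) (.leaf (nat_lit 571697676)))
    (.leaf (nat_lit 366574863))) (.node (.leaf (nat_lit 260148492)) (.leaf (nat_lit
    479367695))))))) (.node (.node (.node (.node (.node (.node (.leaf (nat_lit 6816524)) (.leaf
    (nat_lit 497796110))) (.leaf (nat_lit 281680396))) (.node (.leaf (nat_lit 142152457)) (.leaf
    (nat_lit 289596943)))) (.node (.node (.node (.leaf (nat_lit 70288905)) (.leaf (nat_lit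
    549191951))) (.leaf (nat_lit 333079563))) (.node (.leaf (nat_lit 180463629)) (.leaf (nat_lit
    437990666))))) (.node (.node (.node (.node (.leaf (nat_lit 21515020)) (.leaf (nat_lit
    528709135))) (.leaf (nat_lit 246041615))) (.node (.leaf (nat_lit 178348041)) (.leaf (nat_lit
    412789256)))) (.node (.node (.node (.leaf (nat_lit 105434122)) (.leaf (nat_lit 568019981)))
    (.leaf (nat_lit 359236876))) (.node (.leaf (nat_lit 253293063)) (.leaf (nat_lit 472023304))))))
    (.node (.node (.node (.node (.node (.leaf (nat_lit 24129292)) (.leaf (nat_lit 517664263)))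
    (.leaf (nat_lit 295769351))) (.node (.leaf (nat_lit 146357257)) (.leaf (nat_lit 401196045))))
    (.node (.node (.node (.leaf (nat_lit 50375181)) (.leaf (nat_lit 558639628))) (.leaf (nat_lit
    274896647))) (.node (.leaf (nat_lit 236569612)) (.leaf (nat_lit 444818958))))) (.node (.node
    (.node (.node (.leaf (nat_lit 55601679)) (.leaf (nat_lit 502531342))) (.leaf (nat_lit
    320962827))) (.node (.leaf (nat_lit 171016202)) (.leaf (nat_lit 422236938)))) (.node (.node
    (.node (.leaf (nat_lit 113830151)) (.leaf (nat_lit 572803593))) (.leaf (nat_lit 375491591)))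
    (.node (.leaf (nat_lit 267451403)) (.leaf (nat_lit 486187276)))))))) (.node (.node (.node
    (.node (.node (.node (.node (.leaf (nat_lit 3670541)) (.leaf (nat_lit 501402891))) (.leaf
    (nat_lit 233444364))) (.node (.leaf (nat_lit 136906252)) (.leaf (nat_lit 386008847)))) (.node
    (.node (.node (.leaf (nat_lit 36732941)) (.leaf (nat_lit 547081223))) (.leaf (nat_lit
    330421768))) (.node (.leaf (nat_lit 217650959)) (.leaf (nat_lit 351484936))))) (.node (.node
    (.node (.node (.leaf (nat_lit 32523790)) (.leaf (nat_lit 525568015))) (.leaf (nat_lit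
    188892175))) (.node (.leaf (nat_lit 162092047)) (.leaf (nat_lit 369803527)))) (.node (.node
    (.node (.leaf (nat_lit 94945799)) (.leaf (nat_lit 565401869))) (.leaf (nat_lit 356690185)))
    (.node (.leaf (nat_lit 171563528)) (.leaf (nat_lit 468928778)))))) (.node (.node (.node (.node
    (.node (.leaf (nat_lit 17835018)) (.leaf (nat_lit 482596104))) (.leaf (nat_lit 291574031)))
    (.node (.leaf (nat_lit 160997900)) (.leaf (nat_lit 398571789)))) (.node (.node (.node (.leaf
    (nat_lit 85492237)) (.leaf (nat_lit 436479243))) (.leaf (nat_lit 236097294))) (.node (.leaf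
    (nat_lit 233384975)) (.leaf (nat_lit 352542473))))) (.node (.node (.node (.node (.leaf (nat_lit
    43541769)) (.leaf (nat_lit 493092874))) (.leaf (nat_lit 248667657))) (.node (.leaf (nat_lit
    196133131)) (.leaf (nat_lit 258679053)))) (.node (.node (.node (.leaf (nat_lit 112779789))
    (.leaf (nat_lit 573824778))) (.leaf (nat_lit 370852872))) (.node (.leaf (nat_lit 199882763))
    (.leaf (nat_lit 482554892))))))) (.node (.node (.node (.node (.node (.node (.leaf (nat_lit
    9442062)) (.leaf (nat_lit 508261898))) (.leaf (nat_lit 285281295))) (.node (.leaf (nat_lit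
    131144713)) (.leaf (nat_lit 392345100)))) (.node (.node (.node (.leaf (nat_lit 73436428))
    (.leaf (nat_lit 534518797))) (.leaf (nat_lit 336757512))) (.node (.leaf (nat_lit 226024200))
    (.leaf (nat_lit 352013832))))) (.node (.node (.node (.node (.leaf (nat_lit 44050701)) (.leaf
    (nat_lit 486274313))) (.leaf (nat_lit 187322639))) (.node (.leaf (nat_lit 158951438)) (.leaf
    (nat_lit 415412232)))) (.node (.node (.node (.leaf (nat_lit 110655503)) (.leaf (nat_lit
    570118156))) (.leaf (nat_lit 321040905))) (.node (.leaf (nat_lit 256502280)) (.leaf (nat_lit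
    461080846)))))) (.node (.node (.node (.node (.node (.leaf (nat_lit 27793676)) (.leaf (nat_lit
    461627406))) (.leaf (nat_lit 224541196))) (.node (.leaf (nat_lit 168378888)) (.leaf (nat_lit
    404420622)))) (.node (.node (.node (.leaf (nat_lit 75542792)) (.leaf (nat_lit 561225482)))
    (.leaf (nat_lit 347774217))) (.node (.leaf (nat_lit 215075599)) (.leaf (nat_lit 403926280)))))
    (.node (.node (.node (.node (.leaf (nat_lit 59798030)) (.leaf (nat_lit 536611087))) (.leaf
    (nat_lit 324692751))) (.node (.leaf (nat_lit 206620935)) (.leaf (nat_lit 424800520)))) (.node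
    (.node (.leaf (nat_lit 103870473)) (.leaf (nat_lit 379245576))) (.node (.leaf (nat_lit
    272184332)) (.leaf (nat_lit 489862155))))))))) (.node (.node (.node (.node (.node (.node (.node
    (.node (.leaf (nat_lit 1573642)) (.leaf (nat_lit 498317068))) (.leaf (nat_lit 276930062)))
    (.node (.leaf (nat_lit 133205516)) (.leaf (nat_lit 384420871)))) (.node (.node (.node (.leaf
    (nat_lit 65553159)) (.leaf (nat_lit 546029839))) (.leaf (nat_lit 329373448))) (.node (.leaf
    (nat_lit 215011339)) (.leaf (nat_lit 431698442))))) (.node (.node (.node (.node (.leaf (nat_lit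
    21512970)) (.leaf (nat_lit 524509198))) (.leaf (nat_lit 298467852))) (.node (.leaf (nat_lit
    175681292)) (.leaf (nat_lit 250285069)))) (.node (.node (.node (.leaf (nat_lit 100166157))
    (.leaf (nat_lit 564372231))) (.leaf (nat_lit 356085256))) (.node (.leaf (nat_lit 246476299))
    (.leaf (nat_lit 439581194)))))) (.node (.node (.node (.node (.node (.leaf (nat_lit 17305359))
    (.leaf (nat_lit 512995079))) (.leaf (nat_lit 142747918))) (.node (.leaf (nat_lit 157869325))
    (.leaf (nat_lit 396554761)))) (.node (.node (.node (.leaf (nat_lit 81829641)) (.leaf (nat_lit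
    555460360))) (.leaf (nat_lit 190482959))) (.node (.leaf (nat_lit 182565390)) (.leaf (nat_lit
    450578951))))) (.node (.node (.node (.node (.leaf (nat_lit 50356488)) (.leaf (nat_lit
    535497740))) (.leaf (nat_lit 315698443))) (.node (.leaf (nat_lit 194605837)) (.leaf (nat_lit
    380837641)))) (.node (.node (.node (.leaf (nat_lit 82370317)) (.leaf (nat_lit 572760842)))
    (.leaf (nat_lit 202555149))) (.node (.leaf (nat_lit 262207501)) (.leaf (nat_lit
    476812552))))))) (.node (.node (.node (.node (.node (.node (.leaf (nat_lit 8390411)) (.leaf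
    (nat_lit 507173901))) (.leaf (nat_lit 181017609))) (.node (.leaf (nat_lit 142677768)) (.leaf
    (nat_lit 307423756)))) (.node (.node (.node (.leaf (nat_lit 71856650)) (.leaf (nat_lit
    504633866))) (.leaf (nat_lit 335142667))) (.node (.leaf (nat_lit 223938058)) (.leaf (nat_lit
    345720841))))) (.node (.node (.node (.node (.leaf (nat_lit 41428239)) (.leaf (nat_lit
    450621965))) (.leaf (nat_lit 309944328))) (.node (.leaf (nat_lit 177300494)) (.leaf (nat_lit
    413843210)))) (.node (.node (.node (.leaf (nat_lit 92851981)) (.leaf (nat_lit 568605964)))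
    (.leaf (nat_lit 360284940))) (.node (.leaf (nat_lit 254926090)) (.leaf (nat_lit 473117707))))))
    (.node (.node (.node (.node (.node (.leaf (nat_lit 23081484)) (.leaf (nat_lit 518744843)))
    (.leaf (nat_lit 291125000))) (.node (.leaf (nat_lit 144260878)) (.leaf (nat_lit 291176462))))
    (.node (.node (.node (.leaf (nat_lit 75017482)) (.leaf (nat_lit 467938316))) (.leaf (nat_lit
    342006286))) (.node (.leaf (nat_lit 218744842)) (.leaf (nat_lit 354118153))))) (.node (.node
    (.node (.node (.leaf (nat_lit 58210311)) (.leaf (nat_lit 520357639))) (.leaf (nat_lit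
    212494347))) (.node (.leaf (nat_lit 204523272)) (.leaf (nat_lit 374548237)))) (.node (.node
    (.leaf (nat_lit 123787783)) (.leaf (nat_lit 377671693))) (.node (.leaf (nat_lit 269026574))
    (.leaf (nat_lit 447455753)))))))) (.node (.node (.node (.node (.node (.node (.node (.leaf
    (nat_lit 4719628)) (.leaf (nat_lit 485736199))) (.leaf (nat_lit 280584967))) (.node (.leaf
    (nat_lit 137956110)) (.leaf (nat_lit 312140553)))) (.node (.node (.node (.leaf (nat_lit
    68702983)) (.leaf (nat_lit 548142861))) (.leaf (nat_lit 331959306))) (.node (.leaf (nat_lit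
    220255499)) (.leaf (nat_lit 395001863))))) (.node (.node (.node (.node (.leaf (nat_lit
    33572875)) (.leaf (nat_lit 527630348))) (.leaf (nat_lit 272254986))) (.node (.leaf (nat_lit
    181999880)) (.leaf (nat_lit 411242760)))) (.node (.node (.node (.leaf (nat_lit 103859982))
    (.leaf (nat_lit 566971146))) (.leaf (nat_lit 358263567))) (.node (.leaf (nat_lit 251195661))
    (.leaf (nat_lit 468418825)))))) (.node (.node (.node (.node (.node (.leaf (nat_lit 22030857))
    (.leaf (nat_lit 516614669))) (.leaf (nat_lit 293671432))) (.node (.leaf (nat_lit 163657741))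
    (.leaf (nat_lit 386595342)))) (.node (.node (.node (.leaf (nat_lit 49325837)) (.leaf (nat_lit
    557541647))) (.leaf (nat_lit 345648910))) (.node (.leaf (nat_lit 135381004)) (.leaf (nat_lit
    334193160))))) (.node (.node (.node (.node (.leaf (nat_lit 46688269)) (.leaf (nat_lit
    538644748))) (.leaf (nat_lit 160587790))) (.node (.leaf (nat_lit 187791375)) (.leaf (nat_lit
    421204999)))) (.node (.node (.node (.leaf (nat_lit 111207945)) (.leaf (nat_lit 574861064)))
    (.leaf (nat_lit 373393671))) (.node (.leaf (nat_lit 265924879)) (.leaf (nat_lit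
    481532680))))))) (.node (.node (.node (.node (.node (.node (.leaf (nat_lit 13110280)) (.leaf
    (nat_lit 509319950))) (.leaf (nat_lit 286855947))) (.node (.leaf (nat_lit 152083467)) (.leaf
    (nat_lit 391311111)))) (.node (.node (.node (.leaf (nat_lit 65049358)) (.leaf (nat_lit
    552827658))) (.leaf (nat_lit 312116491))) (.node (.leaf (nat_lit 227597323)) (.leaf (nat_lit
    445332750))))) (.node (.node (.node (.node (.leaf (nat_lit 46684425)) (.leaf (nat_lit
    488896269))) (.leaf (nat_lit 313076232))) (.node (.leaf (nat_lit 191448328)) (.leaf (nat_lit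
    416933135)))) (.node (.node (.node (.leaf (nat_lit 113277455)) (.leaf (nat_lit 470040591)))
    (.leaf (nat_lit 347256331))) (.node (.leaf (nat_lit 207219978)) (.leaf (nat_lit 477270029))))))
    (.node (.node (.node (.node (.node (.leaf (nat_lit 29890575)) (.leaf (nat_lit 487842574)))
    (.leaf (nat_lit 151665933))) (.node (.leaf (nat_lit 154223885)) (.leaf (nat_lit 263390476))))
    (.node (.node (.node (.leaf (nat_lit 95467272)) (.leaf (nat_lit 562264330))) (.leaf (nat_lit
    352413709))) (.node (.leaf (nat_lit 242817551)) (.leaf (nat_lit 462576907))))) (.node (.node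
    (.node (.node (.leaf (nat_lit 61369359)) (.leaf (nat_lit 543404041))) (.leaf (nat_lit
    326266382))) (.node (.leaf (nat_lit 209767437)) (.leaf (nat_lit 425849863)))) (.node (.node
    (.leaf (nat_lit 127453711)) (.leaf (nat_lit 211998477))) (.node (.leaf (nat_lit 265947913))
    (.leaf (nat_lit 493009163)))))))))) (.node (.node (.node (.node (.node (.node (.node (.node
    (.node (.leaf (nat_lit 524554)) (.leaf (nat_lit 497206283))) (.leaf (nat_lit 159518472)))
    (.node (.leaf (nat_lit 106494219)) (.leaf (nat_lit 344120329)))) (.node (.node (.node (.leaf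
    (nat_lit 34634509)) (.leaf (nat_lit 501485578))) (.leaf (nat_lit 328889097))) (.node (.leaf
    (nat_lit 213441293)) (.leaf (nat_lit 430573831))))) (.node (.node (.node (.node (.leaf (nat_lit
    34086151)) (.leaf (nat_lit 523985930))) (.leaf (nat_lit 302587405))) (.node (.leaf (nat_lit
    136399881)) (.leaf (nat_lit 408086282)))) (.node (.node (.node (.leaf (nat_lit 98614537))
    (.leaf (nat_lit 563834634))) (.leaf (nat_lit 355075087))) (.node (.leaf (nat_lit 245471753))
    (.leaf (nat_lit 465268239)))))) (.node (.node (.node (.node (.node (.leaf (nat_lit 14688010))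
    (.leaf (nat_lit 462147847))) (.leaf (nat_lit 286926858))) (.node (.leaf (nat_lit 156838920))
    (.leaf (nat_lit 395948813)))) (.node (.node (.node (.leaf (nat_lit 80780044)) (.leaf (nat_lit
    531898892))) (.leaf (nat_lit 308971790))) (.node (.leaf (nat_lit 133806345)) (.leaf (nat_lit
    397105423))))) (.node (.node (.node (.node (.leaf (nat_lit 49831690)) (.leaf (nat_lit
    534464007))) (.leaf (nat_lit 315173900))) (.node (.leaf (nat_lit 193557004)) (.leaf (nat_lit
    418583048)))) (.node (.node (.node (.leaf (nat_lit 66117128)) (.leaf (nat_lit 572257288)))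
    (.leaf (nat_lit 367705357))) (.node (.leaf (nat_lit 261220618)) (.leaf (nat_lit
    480416524))))))) (.node (.node (.node (.node (.node (.node (.leaf (nat_lit 7343630)) (.leaf
    (nat_lit 448513543))) (.leaf (nat_lit 248650510))) (.node (.leaf (nat_lit 144758030)) (.leaf
    (nat_lit 390223114)))) (.node (.node (.node (.leaf (nat_lit 57706254)) (.leaf (nat_lit
    541858057))) (.leaf (nat_lit 304774664))) (.node (.leaf (nat_lit 223401995)) (.leaf (nat_lit
    440016909))))) (.node (.node (.node (.node (.leaf (nat_lit 39865609)) (.leaf (nat_lit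
    529229582))) (.leaf (nat_lit 309466378))) (.node (.leaf (nat_lit 185661963)) (.leaf (nat_lit
    413339402)))) (.node (.node (.node (.leaf (nat_lit 91278855)) (.leaf (nat_lit 568544523)))
    (.leaf (nat_lit 359760655))) (.node (.leaf (nat_lit 253853454)) (.leaf (nat_lit 451118350))))))
    (.node (.node (.node (.node (.node (.leaf (nat_lit 25701130)) (.leaf (nat_lit 518189324)))
    (.leaf (nat_lit 296356106))) (.node (.leaf (nat_lit 147406345)) (.leaf (nat_lit 401797390))))
    (.node (.node (.node (.leaf (nat_lit 90201871)) (.leaf (nat_lit 559627532))) (.leaf (nat_lit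
    348282634))) (.node (.leaf (nat_lit 238126856)) (.leaf (nat_lit 457402632))))) (.node (.node
    (.node (.node (.leaf (nat_lit 57161480)) (.leaf (nat_lit 498337289))) (.leaf (nat_lit
    211969547))) (.node (.leaf (nat_lit 202950152)) (.leaf (nat_lit 422756367)))) (.node (.node
    (.node (.leaf (nat_lit 81324808)) (.leaf (nat_lit 574901004))) (.leaf (nat_lit 308989450)))
    (.node (.leaf (nat_lit 268522503)) (.leaf (nat_lit 427532551)))))))) (.node (.node (.node
    (.node (.node (.node (.node (.leaf (nat_lit 4196364)) (.leaf (nat_lit 492551437))) (.leaf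
    (nat_lit 279582220))) (.node (.leaf (nat_lit 77662477)) (.leaf (nat_lit 387030024)))) (.node
    (.node (.node (.leaf (nat_lit 67658510)) (.leaf (nat_lit 547611399))) (.leaf (nat_lit
    331511823))) (.node (.leaf (nat_lit 218703112)) (.leaf (nat_lit 378748424))))) (.node (.node
    (.node (.node (.leaf (nat_lit 37237775)) (.leaf (nat_lit 462679054))) (.leaf (nat_lit
    184698381))) (.node (.leaf (nat_lit 143742985)) (.leaf (nat_lit 410701835)))) (.node (.node
    (.node (.leaf (nat_lit 66635016)) (.leaf (nat_lit 565924619))) (.leaf (nat_lit 357739017)))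
    (.node (.leaf (nat_lit 206167050)) (.leaf (nat_lit 469923341)))))) (.node (.node (.node (.node
    (.node (.leaf (nat_lit 20451847)) (.leaf (nat_lit 463721992))) (.leaf (nat_lit 220343815)))
    (.node (.leaf (nat_lit 153695499)) (.leaf (nat_lit 269678862)))) (.node (.node (.node (.leaf
    (nat_lit 87055373)) (.leaf (nat_lit 527181324))) (.leaf (nat_lit 309497871))) (.node (.leaf
    (nat_lit 233946892)) (.leaf (nat_lit 432234508))))) (.node (.node (.node (.node (.leaf (nat_lit
    54014728)) (.leaf (nat_lit 537655815))) (.leaf (nat_lit 306339593))) (.node (.leaf (nat_lit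
    196668686)) (.leaf (nat_lit 420610572)))) (.node (.node (.node (.leaf (nat_lit 119570703))
    (.leaf (nat_lit 475809550))) (.leaf (nat_lit 361940494))) (.node (.leaf (nat_lit 265353735))
    (.leaf (nat_lit 442210575))))))) (.node (.node (.node (.node (.node (.node (.leaf (nat_lit
    11015694)) (.leaf (nat_lit 508770062))) (.leaf (nat_lit 284303628))) (.node (.leaf (nat_lit
    149995788)) (.leaf (nat_lit 392808204)))) (.node (.node (.node (.leaf (nat_lit 73437197))
    (.leaf (nat_lit 552315400))) (.leaf (nat_lit 337754892))) (.node (.leaf (nat_lit 184659976))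
    (.leaf (nat_lit 376655880))))) (.node (.node (.node (.node (.leaf (nat_lit 45623815)) (.leaf
    (nat_lit 531852810))) (.leaf (nat_lit 236081676))) (.node (.leaf (nat_lit 141650446)) (.leaf
    (nat_lit 255006989)))) (.node (.node (.node (.leaf (nat_lit 81319431)) (.leaf (nat_lit
    570126349))) (.leaf (nat_lit 362459404))) (.node (.leaf (nat_lit 258012423)) (.leaf (nat_lit
    475696399)))))) (.node (.node (.node (.node (.node (.leaf (nat_lit 28323087)) (.leaf (nat_lit
    507240967))) (.leaf (nat_lit 255998732))) (.node (.leaf (nat_lit 169952265)) (.leaf (nat_lit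
    305857550)))) (.node (.node (.node (.leaf (nat_lit 94921997)) (.leaf (nat_lit 561756936)))
    (.leaf (nat_lit 351418378))) (.node (.leaf (nat_lit 242280968)) (.leaf (nat_lit 461065743)))))
    (.node (.node (.node (.node (.leaf (nat_lit 60847119)) (.leaf (nat_lit 542378764))) (.leaf
    (nat_lit 325662984))) (.node (.leaf (nat_lit 209242891)) (.leaf (nat_lit 382413577)))) (.node
    (.node (.leaf (nat_lit 126912779)) (.leaf (nat_lit 366662920))) (.node (.leaf (nat_lit
    260704524)) (.leaf (nat_lit 487827720))))))))) (.node (.node (.node (.node (.node (.node (.node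
    (.node (.leaf (nat_lit 1050123)) (.leaf (nat_lit 476297480))) (.leaf (nat_lit 277437707)))
    (.node (.leaf (nat_lit 79233551)) (.leaf (nat_lit 385479946)))) (.node (.node (.node (.leaf
    (nat_lit 66092558)) (.leaf (nat_lit 535564813))) (.leaf (nat_lit 329898248))) (.node (.leaf
    (nat_lit 154770702)) (.leaf (nat_lit 361970184))))) (.node (.node (.node (.node (.leaf (nat_lit
    35665930)) (.leaf (nat_lit 525027343))) (.leaf (nat_lit 303659271))) (.node (.leaf (nat_lit
    177254919)) (.leaf (nat_lit 363531530)))) (.node (.node (.node (.leaf (nat_lit 79740942))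
    (.leaf (nat_lit 521942281))) (.leaf (nat_lit 356609799))) (.node (.leaf (nat_lit 154785802))
    (.leaf (nat_lit 468345613)))))) (.node (.node (.node (.node (.node (.leaf (nat_lit 17834510))
    (.leaf (nat_lit 451138319))) (.leaf (nat_lit 290562568))) (.node (.leaf (nat_lit 99168522))
    (.leaf (nat_lit 264435208)))) (.node (.node (.node (.leaf (nat_lit 84451848)) (.leaf (nat_lit
    556005643))) (.leaf (nat_lit 247630860))) (.node (.leaf (nat_lit 232841479)) (.leaf (nat_lit
    451620876))))) (.node (.node (.node (.node (.leaf (nat_lit 51916808)) (.leaf (nat_lit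
    533462535))) (.leaf (nat_lit 296377095))) (.node (.leaf (nat_lit 195123463)) (.leaf (nat_lit
    376119305)))) (.node (.node (.node (.leaf (nat_lit 110682377)) (.leaf (nat_lit 573323021)))
    (.leaf (nat_lit 370326538))) (.node (.leaf (nat_lit 196736779)) (.leaf (nat_lit
    347838221))))))) (.node (.node (.node (.node (.node (.node (.leaf (nat_lit 8392974)) (.leaf
    (nat_lit 404473864))) (.leaf (nat_lit 220863759))) (.node (.leaf (nat_lit 147888395)) (.leaf
    (nat_lit 391806218)))) (.node (.node (.node (.leaf (nat_lit 72896269)) (.leaf (nat_lit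
    550771468))) (.leaf (nat_lit 335676175))) (.node (.leaf (nat_lit 224992010)) (.leaf (nat_lit
    442638863))))) (.node (.node (.node (.node (.leaf (nat_lit 42477064)) (.leaf (nat_lit
    530778379))) (.leaf (nat_lit 310978574))) (.node (.leaf (nat_lit 187759881)) (.leaf (nat_lit
    414835215)))) (.node (.node (.node (.leaf (nat_lit 110131212)) (.leaf (nat_lit 569593615)))
    (.leaf (nat_lit 327856143))) (.node (.leaf (nat_lit 255915021)) (.leaf (nat_lit 473654283))))))
    (.node (.node (.node (.node (.node (.leaf (nat_lit 27272970)) (.leaf (nat_lit 519256076)))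
    (.leaf (nat_lit 298391815))) (.node (.leaf (nat_lit 167818254)) (.leaf (nat_lit 403886606))))
    (.node (.node (.node (.leaf (nat_lit 92300043)) (.leaf (nat_lit 530853130))) (.leaf (nat_lit
    349810188))) (.node (.leaf (nat_lit 240237834)) (.leaf (nat_lit 458965518))))) (.node (.node
    (.node (.node (.leaf (nat_lit 50884873)) (.leaf (nat_lit 505677833))) (.leaf (nat_lit
    258107660))) (.node (.leaf (nat_lit 195135241)) (.leaf (nat_lit 423807755)))) (.node (.node
    (.leaf (nat_lit 115404301)) (.leaf (nat_lit 378638093))) (.node (.leaf (nat_lit 270140424))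
    (.leaf (nat_lit 460563465)))))))) (.node (.node (.node (.node (.node (.node (.node (.leaf
    (nat_lit 5245705)) (.leaf (nat_lit 505075468))) (.leaf (nat_lit 281091592))) (.node (.leaf
    (nat_lit 140054280)) (.leaf (nat_lit 388637194)))) (.node (.node (.node (.leaf (nat_lit
    69239818)) (.leaf (nat_lit 503584269))) (.leaf (nat_lit 332547594))) (.node (.leaf (nat_lit
    221339406)) (.leaf (nat_lit 437394701))))) (.node (.node (.node (.node (.leaf (nat_lit
    38291976)) (.leaf (nat_lit 514060041))) (.leaf (nat_lit 307845900))) (.node (.leaf (nat_lit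
    178871566)) (.leaf (nat_lit 412257036)))) (.node (.node (.node (.leaf (nat_lit 105433612))
    (.leaf (nat_lit 566985231))) (.leaf (nat_lit 358737679))) (.node (.leaf (nat_lit 252244232))
    (.leaf (nat_lit 455836169)))))) (.node (.node (.node (.node (.node (.leaf (nat_lit 23075339))
    (.leaf (nat_lit 517139463))) (.leaf (nat_lit 294244615))) (.node (.leaf (nat_lit 164706826))
    (.leaf (nat_lit 249232140)))) (.node (.node (.node (.leaf (nat_lit 88628495)) (.leaf (nat_lit
    558578699))) (.leaf (nat_lit 269653263))) (.node (.leaf (nat_lit 214024713)) (.leaf (nat_lit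
    455756040))))) (.node (.node (.node (.node (.leaf (nat_lit 55077135)) (.leaf (nat_lit
    503055374))) (.leaf (nat_lit 320418827))) (.node (.leaf (nat_lit 198802440)) (.leaf (nat_lit
    421729292)))) (.node (.node (.node (.leaf (nat_lit 82372616)) (.leaf (nat_lit 552880393)))
    (.leaf (nat_lit 350407179))) (.node (.leaf (nat_lit 266926860)) (.leaf (nat_lit
    475241481))))))) (.node (.node (.node (.node (.node (.node (.leaf (nat_lit 13638408)) (.leaf
    (nat_lit 510846219))) (.leaf (nat_lit 287903245))) (.node (.leaf (nat_lit 154181390)) (.leaf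
    (nat_lit 278065161)))) (.node (.node (.node (.leaf (nat_lit 52467214)) (.leaf (nat_lit
    463740682))) (.leaf (nat_lit 339326732))) (.node (.leaf (nat_lit 227652874)) (.leaf (nat_lit
    291721997))))) (.node (.node (.node (.node (.leaf (nat_lit 40917768)) (.leaf (nat_lit
    533400079))) (.leaf (nat_lit 313628428))) (.node (.leaf (nat_lit 191983372)) (.leaf (nat_lit
    416993037)))) (.node (.node (.node (.leaf (nat_lit 114326284)) (.leaf (nat_lit 571180559)))
    (.leaf (nat_lit 200980749))) (.node (.leaf (nat_lit 207220489)) (.leaf (nat_lit 478319115))))))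
    (.node (.node (.node (.node (.node (.leaf (nat_lit 31988749)) (.leaf (nat_lit 522909195)))
    (.leaf (nat_lit 277495305))) (.node (.leaf (nat_lit 150554633)) (.leaf (nat_lit 401278729))))
    (.node (.node (.node (.leaf (nat_lit 82884877)) (.leaf (nat_lit 562824199))) (.leaf (nat_lit
    271753738))) (.node (.leaf (nat_lit 243857418)) (.leaf (nat_lit 333673735))))) (.node (.node
    (.node (.node (.leaf (nat_lit 62420746)) (.leaf (nat_lit 543906567))) (.leaf (nat_lit
    326755340))) (.node (.leaf (nat_lit 203526926)) (.leaf (nat_lit 397618697)))) (.node (.node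
    (.leaf (nat_lit 105444622)) (.leaf (nat_lit 382309135))) (.node (.leaf (nat_lit 274861324))
    (.leaf (nat_lit 490974729))))))))))) (.node (.node (.node (.node (.node (.node (.node (.node
    (.node (.node (.leaf (nat_lit 13)) (.leaf (nat_lit 496681740))) (.leaf (nat_lit 177868554)))
    (.node (.leaf (nat_lit 129549327)) (.leaf (nat_lit 383363340)))) (.node (.node (.node (.leaf
    (nat_lit 45644298)) (.leaf (nat_lit 544951047))) (.leaf (nat_lit 297431561))) (.node (.leaf
    (nat_lit 197760778)) (.leaf (nat_lit 271790861))))) (.node (.node (.node (.node (.leaf (nat_lit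
    33570825)) (.leaf (nat_lit 489416455))) (.leaf (nat_lit 279068682))) (.node (.leaf (nat_lit
    173612042)) (.leaf (nat_lit 407544074)))) (.node (.node (.node (.leaf (nat_lit 84458509))
    (.leaf (nat_lit 563823372))) (.leaf (nat_lit 271754508))) (.node (.leaf (nat_lit 132240141))
    (.leaf (nat_lit 320042760)))))) (.node (.node (.node (.node (.node (.leaf (nat_lit 10493450))
    (.leaf (nat_lit 511894799))) (.leaf (nat_lit 288499468))) (.node (.leaf (nat_lit 156803079))
    (.leaf (nat_lit 395457038)))) (.node (.node (.node (.leaf (nat_lit 80255246)) (.leaf (nat_lit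
    554426631))) (.leaf (nat_lit 340429065))) (.node (.leaf (nat_lit 196196362)) (.leaf (nat_lit
    321083400))))) (.node (.node (.node (.node (.leaf (nat_lit 47209992)) (.leaf (nat_lit
    533986060))) (.leaf (nat_lit 314665994))) (.node (.leaf (nat_lit 164720910)) (.leaf (nat_lit
    418057486)))) (.node (.node (.node (.leaf (nat_lit 115399944)) (.leaf (nat_lit 479478540)))
    (.leaf (nat_lit 327334919))) (.node (.leaf (nat_lit 260695310)) (.leaf (nat_lit
    450073358))))))) (.node (.node (.node (.node (.node (.node (.leaf (nat_lit 6819082)) (.leaf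
    (nat_lit 497272078))) (.leaf (nat_lit 282179087))) (.node (.leaf (nat_lit 144249864)) (.leaf
    (nat_lit 390177807)))) (.node (.node (.node (.leaf (nat_lit 70798093)) (.leaf (nat_lit
    549696521))) (.leaf (nat_lit 333569804))) (.node (.leaf (nat_lit 222406920)) (.leaf (nat_lit
    438519052))))) (.node (.node (.node (.node (.leaf (nat_lit 39339023)) (.leaf (nat_lit
    477884680))) (.leaf (nat_lit 309404935))) (.node (.leaf (nat_lit 185160970)) (.leaf (nat_lit
    370348812)))) (.node (.node (.node (.leaf (nat_lit 107007246)) (.leaf (nat_lit 568036618)))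
    (.leaf (nat_lit 359837198))) (.node (.leaf (nat_lit 250209036)) (.leaf (nat_lit 471565324))))))
    (.node (.node (.node (.node (.node (.leaf (nat_lit 25178126)) (.leaf (nat_lit 429644558)))
    (.leaf (nat_lit 161100810))) (.node (.leaf (nat_lit 166280457)) (.leaf (nat_lit 366673164))))
    (.node (.node (.node (.leaf (nat_lit 89172744)) (.leaf (nat_lit 559155720))) (.leaf (nat_lit
    348217100))) (.node (.leaf (nat_lit 237612296)) (.leaf (nat_lit 457331463))))) (.node (.node
    (.node (.node (.leaf (nat_lit 56120334)) (.leaf (nat_lit 539733773))) (.leaf (nat_lit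
    321516303))) (.node (.leaf (nat_lit 201901581)) (.leaf (nat_lit 373499401)))) (.node (.node
    (.node (.leaf (nat_lit 109111818)) (.leaf (nat_lit 575938055))) (.leaf (nat_lit 375573768)))
    (.node (.leaf (nat_lit 267517708)) (.leaf (nat_lit 447455246)))))))) (.node (.node (.node
    (.node (.node (.node (.node (.leaf (nat_lit 3671822)) (.leaf (nat_lit 501927180))) (.leaf
    (nat_lit 279541255))) (.node (.leaf (nat_lit 137955336)) (.leaf (nat_lit 386588943)))) (.node
    (.node (.node (.leaf (nat_lit 67141896)) (.leaf (nat_lit 499389450))) (.leaf (nat_lit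
    321025806))) (.node (.leaf (nat_lit 156344329)) (.leaf (nat_lit 345718024))))) (.node (.node
    (.node (.node (.leaf (nat_lit 37232392)) (.leaf (nat_lit 526074127))) (.leaf (nat_lit
    289031439))) (.node (.leaf (nat_lit 142693898)) (.leaf (nat_lit 370347785)))) (.node (.node
    (.node (.leaf (nat_lit 102264843)) (.leaf (nat_lit 535574279))) (.leaf (nat_lit 357167116)))
    (.node (.leaf (nat_lit 249110794)) (.leaf (nat_lit 331054856)))))) (.node (.node (.node (.node
    (.node (.leaf (nat_lit 13116685)) (.leaf (nat_lit 457430284))) (.leaf (nat_lit 154807564)))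
    (.node (.leaf (nat_lit 135345159)) (.leaf (nat_lit 351991820)))) (.node (.node (.node (.leaf
    (nat_lit 86530829)) (.leaf (nat_lit 521938439))) (.leaf (nat_lit 245010188))) (.node (.leaf
    (nat_lit 136953351)) (.leaf (nat_lit 453132040))))) (.node (.node (.node (.node (.leaf (nat_lit
    53490439)) (.leaf (nat_lit 537133324))) (.leaf (nat_lit 248667656))) (.node (.leaf (nat_lit
    184645135)) (.leaf (nat_lit 420604687)))) (.node (.node (.node (.leaf (nat_lit 92332814))
    (.leaf (nat_lit 558122510))) (.leaf (nat_lit 361416201))) (.node (.leaf (nat_lit 228194570))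
    (.leaf (nat_lit 349411597))))))) (.node (.node (.node (.node (.node (.node (.leaf (nat_lit
    9442569)) (.leaf (nat_lit 508283400))) (.leaf (nat_lit 285805834))) (.node (.leaf (nat_lit
    137436430)) (.leaf (nat_lit 337308937)))) (.node (.node (.node (.leaf (nat_lit 74993931))
    (.leaf (nat_lit 551801867))) (.leaf (nat_lit 263881737))) (.node (.leaf (nat_lit 226057739))
    (.leaf (nat_lit 305876744))))) (.node (.node (.node (.node (.leaf (nat_lit 45099272)) (.leaf
    (nat_lit 513537287))) (.leaf (nat_lit 311538695))) (.node (.leaf (nat_lit 158427406)) (.leaf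
    (nat_lit 410720268)))) (.node (.node (.node (.leaf (nat_lit 111704328)) (.leaf (nat_lit
    570153994))) (.leaf (nat_lit 354071304))) (.node (.leaf (nat_lit 257488141)) (.leaf (nat_lit
    474712588)))))) (.node (.node (.node (.node (.node (.leaf (nat_lit 23606793)) (.leaf (nat_lit
    520861703))) (.leaf (nat_lit 298963981))) (.node (.leaf (nat_lit 168877326)) (.leaf (nat_lit
    404920586)))) (.node (.node (.node (.leaf (nat_lit 78164745)) (.leaf (nat_lit 561725451)))
    (.leaf (nat_lit 350865932))) (.node (.leaf (nat_lit 237095950)) (.leaf (nat_lit 460479243)))))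
    (.node (.node (.node (.node (.leaf (nat_lit 60317962)) (.leaf (nat_lit 504629769))) (.leaf
    (nat_lit 325217294))) (.node (.leaf (nat_lit 207719434)) (.leaf (nat_lit 416492042)))) (.node
    (.node (.leaf (nat_lit 102822153)) (.leaf (nat_lit 364041485))) (.node (.leaf (nat_lit
    272745229)) (.leaf (nat_lit 442738439))))))))) (.node (.node (.node (.node (.node (.node (.node
    (.node (.leaf (nat_lit 2621704)) (.leaf (nat_lit 491501582))) (.leaf (nat_lit 233967879)))
    (.node (.leaf (nat_lit 101777419)) (.leaf (nat_lit 336256526)))) (.node (.node (.node (.leaf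
    (nat_lit 44596494)) (.leaf (nat_lit 500437514))) (.leaf (nat_lit 329413900))) (.node (.leaf
    (nat_lit 172596233)) (.leaf (nat_lit 432224520))))) (.node (.node (.node (.node (.leaf (nat_lit
    35659276)) (.leaf (nat_lit 511961354))) (.leaf (nat_lit 303123471))) (.node (.leaf (nat_lit
    176730383)) (.leaf (nat_lit 409590792)))) (.node (.node (.node (.leaf (nat_lit 100187914))
    (.leaf (nat_lit 564873483))) (.leaf (nat_lit 323659530))) (.node (.leaf (nat_lit 246535948))
    (.leaf (nat_lit 439581454)))))) (.node (.node (.node (.node (.node (.leaf (nat_lit 17307405))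
    (.leaf (nat_lit 513468172))) (.leaf (nat_lit 239741192))) (.node (.leaf (nat_lit 158412556))
    (.leaf (nat_lit 396997901)))) (.node (.node (.node (.leaf (nat_lit 56139791)) (.leaf (nat_lit
    555955983))) (.leaf (nat_lit 285379591))) (.node (.leaf (nat_lit 232371208)) (.leaf (nat_lit
    451555853))))) (.node (.node (.node (.node (.leaf (nat_lit 44589327)) (.leaf (nat_lit
    465829127))) (.leaf (nat_lit 315699721))) (.node (.leaf (nat_lit 193032968)) (.leaf (nat_lit
    412819212)))) (.node (.node (.node (.leaf (nat_lit 90759182)) (.leaf (nat_lit 566510857)))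
    (.leaf (nat_lit 369721615))) (.node (.leaf (nat_lit 262796808)) (.leaf (nat_lit
    481525002))))))) (.node (.node (.node (.node (.node (.node (.leaf (nat_lit 8392717)) (.leaf
    (nat_lit 507204879))) (.leaf (nat_lit 279584014))) (.node (.leaf (nat_lit 140580872)) (.leaf
    (nat_lit 391228424)))) (.node (.node (.node (.leaf (nat_lit 61901320)) (.leaf (nat_lit
    531896839))) (.leaf (nat_lit 307920905))) (.node (.leaf (nat_lit 147434508)) (.leaf (nat_lit
    287000845))))) (.node (.node (.node (.node (.leaf (nat_lit 31477518)) (.leaf (nat_lit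
    476836622))) (.leaf (nat_lit 310454028))) (.node (.leaf (nat_lit 186737928)) (.leaf (nat_lit
    363009545)))) (.node (.node (.node (.leaf (nat_lit 90755337)) (.leaf (nat_lit 569089032)))
    (.leaf (nat_lit 327856137))) (.node (.leaf (nat_lit 204072713)) (.leaf (nat_lit 455313161))))))
    (.node (.node (.node (.node (.node (.leaf (nat_lit 26751758)) (.leaf (nat_lit 477355528)))
    (.leaf (nat_lit 284833800))) (.node (.leaf (nat_lit 167329800)) (.leaf (nat_lit 345702666))))
    (.node (.node (.node (.leaf (nat_lit 90746380)) (.leaf (nat_lit 560203272))) (.leaf (nat_lit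
    349346568))) (.node (.leaf (nat_lit 205637896)) (.leaf (nat_lit 354118407))))) (.node (.node
    (.node (.node (.leaf (nat_lit 33058575)) (.leaf (nat_lit 541268235))) (.leaf (nat_lit
    323119369))) (.node (.leaf (nat_lit 199329291)) (.leaf (nat_lit 423825159)))) (.node (.node
    (.leaf (nat_lit 122744073)) (.leaf (nat_lit 375050506))) (.node (.leaf (nat_lit 269549069))
    (.leaf (nat_lit 439591692)))))))) (.node (.node (.node (.node (.node (.node (.node (.leaf
    (nat_lit 5245454)) (.leaf (nat_lit 503562508))) (.leaf (nat_lit 280631308))) (.node (.leaf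
    (nat_lit 140578060)) (.leaf (nat_lit 388079885)))) (.node (.node (.node (.leaf (nat_lit
    60326670)) (.leaf (nat_lit 504108558))) (.leaf (nat_lit 332481804))) (.node (.leaf (nat_lit
    166307080)) (.leaf (nat_lit 402342151))))) (.node (.node (.node (.node (.leaf (nat_lit
    38282508)) (.leaf (nat_lit 527687687))) (.leaf (nat_lit 221399564))) (.node (.leaf (nat_lit
    145316874)) (.leaf (nat_lit 411744526)))) (.node (.node (.node (.leaf (nat_lit 104908810))
    (.leaf (nat_lit 565983500))) (.leaf (nat_lit 358788110))) (.node (.leaf (nat_lit 251719943))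
    (.leaf (nat_lit 470514955)))))) (.node (.node (.node (.node (.node (.leaf (nat_lit 23073544))
    (.leaf (nat_lit 516643343))) (.leaf (nat_lit 293744652))) (.node (.leaf (nat_lit 163133709))
    (.leaf (nat_lit 347798286)))) (.node (.node (.node (.leaf (nat_lit 78686218)) (.leaf (nat_lit
    491005959))) (.leaf (nat_lit 346164233))) (.node (.leaf (nat_lit 235493386)) (.leaf (nat_lit
    444293900))))) (.node (.node (.node (.node (.leaf (nat_lit 48261390)) (.leaf (nat_lit
    538706186))) (.leaf (nat_lit 318878479))) (.node (.leaf (nat_lit 176257291)) (.leaf (nat_lit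
    377693193)))) (.node (.node (.node (.leaf (nat_lit 101771017)) (.leaf (nat_lit 554453006)))
    (.leaf (nat_lit 373475592))) (.node (.leaf (nat_lit 265419790)) (.leaf (nat_lit
    484134668))))))) (.node (.node (.node (.node (.node (.node (.leaf (nat_lit 13638157)) (.leaf
    (nat_lit 481545231))) (.leaf (nat_lit 287426058))) (.node (.leaf (nat_lit 153132303)) (.leaf
    (nat_lit 393901071)))) (.node (.node (.node (.leaf (nat_lit 78139912)) (.leaf (nat_lit
    474750729))) (.leaf (nat_lit 338802443))) (.node (.leaf (nat_lit 209302279)) (.leaf (nat_lit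
    291197449))))) (.node (.node (.node (.node (.leaf (nat_lit 47201291)) (.leaf (nat_lit
    465827854))) (.leaf (nat_lit 246568207))) (.node (.leaf (nat_lit 163147278)) (.leaf (nat_lit
    416980748)))) (.node (.node (.node (.leaf (nat_lit 82893070)) (.leaf (nat_lit 510411022)))
    (.leaf (nat_lit 200456205))) (.node (.leaf (nat_lit 206171657)) (.leaf (nat_lit 477333516))))))
    (.node (.node (.node (.node (.node (.leaf (nat_lit 29899534)) (.leaf (nat_lit 442754062)))
    (.leaf (nat_lit 300525580))) (.node (.leaf (nat_lit 171525897)) (.leaf (nat_lit 405962511))))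
    (.node (.node (.node (.leaf (nat_lit 95467786)) (.leaf (nat_lit 562774540))) (.leaf (nat_lit
    352938253))) (.node (.leaf (nat_lit 176279566)) (.leaf (nat_lit 463625487))))) (.node (.node
    (.node (.node (.leaf (nat_lit 61896206)) (.leaf (nat_lit 543427852))) (.leaf (nat_lit
    326711816))) (.node (.leaf (nat_lit 210816008)) (.leaf (nat_lit 425929992)))) (.node (.node
    (.leaf (nat_lit 127988239)) (.leaf (nat_lit 381343752))) (.node (.leaf (nat_lit 274793227))
    (.leaf (nat_lit 493533452)))))))))) (.node (.node (.node (.node (.node (.node (.node (.node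
    (.node (.leaf (nat_lit 524811)) (.leaf (nat_lit 497267980))) (.leaf (nat_lit 191500301)))
    (.node (.leaf (nat_lit 131632647)) (.leaf (nat_lit 383966476)))) (.node (.node (.node (.leaf
    (nat_lit 65043465)) (.leaf (nat_lit 545526028))) (.leaf (nat_lit 273314572))) (.node (.leaf
    (nat_lit 214014216)) (.leaf (nat_lit 431098893))))) (.node (.node (.node (.node (.leaf (nat_lit
    34095625)) (.leaf (nat_lit 404482055))) (.leaf (nat_lit 303112202))) (.node (.leaf (nat_lit
    135875849)) (.leaf (nat_lit 408614414)))) (.node (.node (.node (.leaf (nat_lit 60866056))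
    (.leaf (nat_lit 449590024))) (.leaf (nat_lit 321562126))) (.node (.leaf (nat_lit 245486860))
    (.leaf (nat_lit 466247948)))))) (.node (.node (.node (.node (.node (.leaf (nat_lit 16785417))
    (.leaf (nat_lit 512454924))) (.leaf (nat_lit 225060872))) (.node (.leaf (nat_lit 157851914))
    (.leaf (nat_lit 396473355)))) (.node (.node (.node (.leaf (nat_lit 80780554)) (.leaf (nat_lit
    479470093))) (.leaf (nat_lit 306350606))) (.node (.leaf (nat_lit 231792655)) (.leaf (nat_lit
    449534476))))) (.node (.node (.node (.node (.leaf (nat_lit 50351116)) (.leaf (nat_lit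
    503577609))) (.leaf (nat_lit 315174666))) (.node (.leaf (nat_lit 194066957)) (.leaf (nat_lit
    418579980)))) (.node (.node (.node (.leaf (nat_lit 116949003)) (.leaf (nat_lit 572742927)))
    (.leaf (nat_lit 368195338))) (.node (.leaf (nat_lit 211940105)) (.leaf (nat_lit
    480467469))))))) (.node (.node (.node (.node (.node (.node (.leaf (nat_lit 7343881)) (.leaf
    (nat_lit 506683914))) (.leaf (nat_lit 283183883))) (.node (.leaf (nat_lit 134288905)) (.leaf
    (nat_lit 390702349)))) (.node (.node (.node (.leaf (nat_lit 71331854)) (.leaf (nat_lit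
    550217999))) (.leaf (nat_lit 334645260))) (.node (.leaf (nat_lit 223926284)) (.leaf (nat_lit
    435897359))))) (.node (.node (.node (.node (.leaf (nat_lit 40903695)) (.leaf (nat_lit
    481030666))) (.leaf (nat_lit 231362316))) (.node (.leaf (nat_lit 186209799)) (.leaf (nat_lit
    413786631)))) (.node (.node (.node (.leaf (nat_lit 108580617)) (.leaf (nat_lit 568547593)))
    (.leaf (nat_lit 326807309))) (.node (.leaf (nat_lit 254403850)) (.leaf (nat_lit 472614408))))))
    (.node (.node (.node (.node (.node (.leaf (nat_lit 25702920)) (.leaf (nat_lit 501996552)))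
    (.leaf (nat_lit 188888585))) (.node (.leaf (nat_lit 150552077)) (.leaf (nat_lit 317390606))))
    (.node (.node (.node (.leaf (nat_lit 90210828)) (.leaf (nat_lit 559647239))) (.leaf (nat_lit
    269654281))) (.node (.leaf (nat_lit 238637578)) (.leaf (nat_lit 429615372))))) (.node (.node
    (.node (.node (.leaf (nat_lit 57164047)) (.leaf (nat_lit 540743180))) (.leaf (nat_lit
    194668300))) (.node (.leaf (nat_lit 203523082)) (.leaf (nat_lit 423278090)))) (.node (.node
    (.node (.leaf (nat_lit 123268108)) (.leaf (nat_lit 576434184))) (.leaf (nat_lit 225103373)))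
    (.node (.leaf (nat_lit 268500495)) (.leaf (nat_lit 487272204)))))))) (.node (.node (.node
    (.node (.node (.node (.node (.leaf (nat_lit 4196617)) (.leaf (nat_lit 496745997))) (.leaf
    (nat_lit 181016071))) (.node (.leaf (nat_lit 78187021)) (.leaf (nat_lit 387060750)))) (.node
    (.node (.node (.leaf (nat_lit 68189708)) (.leaf (nat_lit 503059721))) (.leaf (nat_lit
    191527175))) (.node (.leaf (nat_lit 219233288)) (.leaf (nat_lit 397098759))))) (.node (.node
    (.node (.node (.leaf (nat_lit 37767177)) (.leaf (nat_lit 527105807))) (.leaf (nat_lit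
    172639756))) (.node (.leaf (nat_lit 180967948)) (.leaf (nat_lit 411242510)))) (.node (.node
    (.node (.leaf (nat_lit 103838219)) (.leaf (nat_lit 566489866))) (.leaf (nat_lit 357739276)))
    (.node (.leaf (nat_lit 250671112)) (.leaf (nat_lit 469984778)))))) (.node (.node (.node (.node
    (.node (.leaf (nat_lit 14166028)) (.leaf (nat_lit 428070671))) (.leaf (nat_lit 292631815)))
    (.node (.leaf (nat_lit 162608908)) (.leaf (nat_lit 382925321)))) (.node (.node (.node (.leaf
    (nat_lit 87074314)) (.leaf (nat_lit 557578250))) (.leaf (nat_lit 345069837))) (.node (.leaf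
    (nat_lit 234938895)) (.leaf (nat_lit 453717770))))) (.node (.node (.node (.node (.leaf (nat_lit
    54028042)) (.leaf (nat_lit 538134024))) (.leaf (nat_lit 268066575))) (.node (.leaf (nat_lit
    134313995)) (.leaf (nat_lit 420665610)))) (.node (.node (.node (.leaf (nat_lit 111731977))
    (.leaf (nat_lit 574343951))) (.leaf (nat_lit 328910602))) (.node (.leaf (nat_lit 265353999))
    (.leaf (nat_lit 349936141))))))) (.node (.node (.node (.node (.node (.node (.leaf (nat_lit
    10491657)) (.leaf (nat_lit 468437768))) (.leaf (nat_lit 286330125))) (.node (.leaf (nat_lit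
    151034887)) (.leaf (nat_lit 393408015)))) (.node (.node (.node (.leaf (nat_lit 76571660))
    (.leaf (nat_lit 445914383))) (.leaf (nat_lit 338251789))) (.node (.leaf (nat_lit 226603276))
    (.leaf (nat_lit 372986119))))) (.node (.node (.node (.node (.leaf (nat_lit 45635592)) (.leaf
    (nat_lit 466351886))) (.leaf (nat_lit 267539465))) (.node (.leaf (nat_lit 190409740)) (.leaf
    (nat_lit 415963656)))) (.node (.node (.node (.leaf (nat_lit 81319689)) (.leaf (nat_lit
    570671624))) (.leaf (nat_lit 363428360))) (.node (.leaf (nat_lit 210889740)) (.leaf (nat_lit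
    476220940)))))) (.node (.node (.node (.node (.node (.leaf (nat_lit 29366028)) (.leaf (nat_lit
    521373710))) (.leaf (nat_lit 297942027))) (.node (.leaf (nat_lit 170437135)) (.leaf (nat_lit
    339412234)))) (.node (.node (.node (.leaf (nat_lit 95970828)) (.leaf (nat_lit 562249996)))
    (.leaf (nat_lit 351444495))) (.node (.leaf (nat_lit 242291214)) (.leaf (nat_lit 394490119)))))
    (.node (.node (.node (.node (.leaf (nat_lit 57177358)) (.leaf (nat_lit 539757327))) (.leaf
    (nat_lit 325710351))) (.node (.leaf (nat_lit 209273609)) (.leaf (nat_lit 425376525)))) (.node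
    (.node (.leaf (nat_lit 126939916)) (.leaf (nat_lit 367187467))) (.node (.leaf (nat_lit
    190974478)) (.leaf (nat_lit 492484620))))))))) (.node (.node (.node (.node (.node (.node (.node
    (.node (.leaf (nat_lit 1050127)) (.leaf (nat_lit 500878348))) (.leaf (nat_lit 159519500)))
    (.node (.leaf (nat_lit 136352008)) (.leaf (nat_lit 385540104)))) (.node (.node (.node (.leaf
    (nat_lit 66617102)) (.leaf (nat_lit 502010633))) (.leaf (nat_lit 317879819))) (.node (.leaf
    (nat_lit 131702284)) (.leaf (nat_lit 361446152))))) (.node (.node (.node (.node (.leaf (nat_lit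
    36193548)) (.leaf (nat_lit 516155918))) (.leaf (nat_lit 304161035))) (.node (.leaf (nat_lit
    177296136)) (.leaf (nat_lit 410190604)))) (.node (.node (.node (.leaf (nat_lit 57196813))
    (.leaf (nat_lit 564934156))) (.leaf (nat_lit 356616971))) (.node (.leaf (nat_lit 246536458))
    (.leaf (nat_lit 468874253)))))) (.node (.node (.node (.node (.node (.leaf (nat_lit 18359053))
    (.leaf (nat_lit 514040840))) (.leaf (nat_lit 146418696))) (.node (.leaf (nat_lit 159972367))
    (.leaf (nat_lit 398111498)))) (.node (.node (.node (.leaf (nat_lit 83927817)) (.leaf (nat_lit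
    555492621))) (.leaf (nat_lit 343496711))) (.node (.leaf (nat_lit 232850444)) (.leaf (nat_lit
    295919117))))) (.node (.node (.node (.node (.leaf (nat_lit 51929866)) (.leaf (nat_lit
    491519753))) (.leaf (nat_lit 316780808))) (.node (.leaf (nat_lit 195632906)) (.leaf (nat_lit
    375595018)))) (.node (.node (.node (.leaf (nat_lit 92856846)) (.leaf (nat_lit 573793807)))
    (.leaf (nat_lit 370770951))) (.node (.leaf (nat_lit 263826191)) (.leaf (nat_lit
    398694408))))))) (.node (.node (.node (.node (.node (.node (.leaf (nat_lit 9439755)) (.leaf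
    (nat_lit 507758604))) (.leaf (nat_lit 284232712))) (.node (.leaf (nat_lit 147921678)) (.leaf
    (nat_lit 392276749)))) (.node (.node (.node (.leaf (nat_lit 72905231)) (.leaf (nat_lit
    551263239))) (.leaf (nat_lit 310542857))) (.node (.leaf (nat_lit 222932489)) (.leaf (nat_lit
    390810889))))) (.node (.node (.node (.node (.leaf (nat_lit 43001359)) (.leaf (nat_lit
    530792463))) (.leaf (nat_lit 174215435))) (.node (.leaf (nat_lit 187787020)) (.leaf (nat_lit
    414894602)))) (.node (.node (.node (.leaf (nat_lit 110145034)) (.leaf (nat_lit 569602826)))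
    (.leaf (nat_lit 331002122))) (.node (.leaf (nat_lit 256439303)) (.leaf (nat_lit 342067213))))))
    (.node (.node (.node (.node (.node (.leaf (nat_lit 27276552)) (.leaf (nat_lit 519820045)))
    (.leaf (nat_lit 298428426))) (.node (.leaf (nat_lit 139018510)) (.leaf (nat_lit 259195404))))
    (.node (.node (.node (.leaf (nat_lit 92824332)) (.leaf (nat_lit 466365709))) (.leaf (nat_lit
    306879502))) (.node (.leaf (nat_lit 197249802)) (.leaf (nat_lit 320039945))))) (.node (.node
    (.node (.node (.leaf (nat_lit 59272202)) (.leaf (nat_lit 541329676))) (.leaf (nat_lit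
    324168205))) (.node (.leaf (nat_lit 165775374)) (.leaf (nat_lit 261302541)))) (.node (.node
    (.leaf (nat_lit 124841737)) (.leaf (nat_lit 378659340))) (.node (.leaf (nat_lit 191497740))
    (.leaf (nat_lit 399746311)))))))) (.node (.node (.node (.node (.node (.node (.node (.leaf
    (nat_lit 6292235)) (.leaf (nat_lit 505114120))) (.leaf (nat_lit 248125705))) (.node (.leaf
    (nat_lit 143168780)) (.leaf (nat_lit 336782862)))) (.node (.node (.node (.leaf (nat_lit
    38831373)) (.leaf (nat_lit 503584526))) (.leaf (nat_lit 332503565))) (.node (.leaf (nat_lit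
    221839114)) (.leaf (nat_lit 437919245))))) (.node (.node (.node (.node (.leaf (nat_lit
    38807311)) (.leaf (nat_lit 528679180))) (.leaf (nat_lit 233982990))) (.node (.leaf (nat_lit
    183590664)) (.leaf (nat_lit 412271880)))) (.node (.node (.node (.leaf (nat_lit 89180937))
    (.leaf (nat_lit 458504716))) (.leaf (nat_lit 357215501))) (.node (.leaf (nat_lit 252281614))
    (.leaf (nat_lit 456885001)))))) (.node (.node (.node (.node (.node (.leaf (nat_lit 24122379))
    (.leaf (nat_lit 444324366))) (.leaf (nat_lit 294269448))) (.node (.leaf (nat_lit 163658510))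
    (.leaf (nat_lit 400699657)))) (.node (.node (.node (.leaf (nat_lit 49850636)) (.leaf (nat_lit
    510404872))) (.leaf (nat_lit 330994955))) (.node (.leaf (nat_lit 230802191)) (.leaf (nat_lit
    456281351))))) (.node (.node (.node (.node (.leaf (nat_lit 47737358)) (.leaf (nat_lit
    536085519))) (.leaf (nat_lit 320445447))) (.node (.leaf (nat_lit 200852488)) (.leaf (nat_lit
    422178311)))) (.node (.node (.node (.leaf (nat_lit 121694476)) (.leaf (nat_lit 575392015)))
    (.leaf (nat_lit 324717320))) (.node (.leaf (nat_lit 266955271)) (.leaf (nat_lit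
    485190667))))))) (.node (.node (.node (.node (.node (.node (.leaf (nat_lit 14162190)) (.leaf
    (nat_lit 498322951))) (.leaf (nat_lit 266478860))) (.node (.leaf (nat_lit 155229960)) (.leaf
    (nat_lit 394445068)))) (.node (.node (.node (.leaf (nat_lit 70817544)) (.leaf (nat_lit
    553894407))) (.leaf (nat_lit 197822475))) (.node (.leaf (nat_lit 130659848)) (.leaf (nat_lit
    447359756))))) (.node (.node (.node (.node (.leaf (nat_lit 48258057)) (.leaf (nat_lit
    533421579))) (.leaf (nat_lit 295851790))) (.node (.leaf (nat_lit 192507663)) (.leaf (nat_lit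
    363011086)))) (.node (.node (.node (.leaf (nat_lit 114334474)) (.leaf (nat_lit 554451465)))
    (.leaf (nat_lit 333625870))) (.node (.leaf (nat_lit 260109832)) (.leaf (nat_lit 478843404))))))
    (.node (.node (.node (.node (.node (.leaf (nat_lit 31991310)) (.leaf (nat_lit 492561671)))
    (.leaf (nat_lit 301017351))) (.node (.leaf (nat_lit 172535055)) (.leaf (nat_lit 371918604))))
    (.node (.node (.node (.leaf (nat_lit 97040910)) (.leaf (nat_lit 563298831))) (.leaf (nat_lit
    313172489))) (.node (.leaf (nat_lit 242340361)) (.leaf (nat_lit 464674573))))) (.node (.node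
    (.node (.node (.leaf (nat_lit 42498058)) (.leaf (nat_lit 502533642))) (.leaf (nat_lit
    324694030))) (.node (.leaf (nat_lit 211916040)) (.leaf (nat_lit 427949837)))) (.node (.node
    (.leaf (nat_lit 127989258)) (.leaf (nat_lit 302701071))) (.node (.leaf (nat_lit 226102794))
    (.leaf (nat_lit 495108107)))))))))))) (.node (.node (.node (.node (.node (.node (.node (.node
    (.node (.node (.node (.leaf (nat_lit 10)) (.leaf (nat_lit 438546952))) (.leaf (nat_lit
    276366347))) (.node (.leaf (nat_lit 129038094)) (.leaf (nat_lit 383386378)))) (.node (.node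
    (.node (.leaf (nat_lit 34109965)) (.leaf (nat_lit 536088334))) (.leaf (nat_lit 327837453)))
    (.node (.leaf (nat_lit 212933643)) (.leaf (nat_lit 270742029))))) (.node (.node (.node (.node
    (.leaf (nat_lit 19414796)) (.leaf (nat_lit 447997448))) (.leaf (nat_lit 302062856))) (.node
    (.leaf (nat_lit 135351049)) (.leaf (nat_lit 407492365)))) (.node (.node (.node (.leaf (nat_lit
    98087434)) (.leaf (nat_lit 516174349))) (.leaf (nat_lit 319988750))) (.node (.leaf (nat_lit
    244437768)) (.leaf (nat_lit 465199117)))))) (.node (.node (.node (.node (.node (.leaf (nat_lit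
    15732239)) (.leaf (nat_lit 511424775))) (.leaf (nat_lit 288497167))) (.node (.leaf (nat_lit
    156278540)) (.leaf (nat_lit 263385610)))) (.node (.node (.node (.leaf (nat_lit 79730952))
    (.leaf (nat_lit 528228621))) (.leaf (nat_lit 339891725))) (.node (.leaf (nat_lit 230743563))
    (.leaf (nat_lit 448933389))))) (.node (.node (.node (.node (.leaf (nat_lit 48782606)) (.leaf
    (nat_lit 533949711))) (.leaf (nat_lit 314202124))) (.node (.leaf (nat_lit 193511179)) (.leaf
    (nat_lit 257105165)))) (.node (.node (.node (.leaf (nat_lit 115375111)) (.leaf (nat_lit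
    571725071))) (.leaf (nat_lit 367099407))) (.node (.leaf (nat_lit 211415305)) (.leaf (nat_lit
    479418379))))))) (.node (.node (.node (.node (.node (.node (.leaf (nat_lit 6819081)) (.leaf
    (nat_lit 505660684))) (.leaf (nat_lit 282188298))) (.node (.leaf (nat_lit 144233482)) (.leaf
    (nat_lit 321054471)))) (.node (.node (.node (.leaf (nat_lit 65046026)) (.leaf (nat_lit
    549660939))) (.leaf (nat_lit 333609993))) (.node (.leaf (nat_lit 155297803)) (.leaf (nat_lit
    438443787))))) (.node (.node (.node (.node (.leaf (nat_lit 21515022)) (.leaf (nat_lit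
    505671687))) (.leaf (nat_lit 308880653))) (.node (.leaf (nat_lit 184639756)) (.leaf (nat_lit
    367727368)))) (.node (.node (.node (.leaf (nat_lit 107509260)) (.leaf (nat_lit 501496584)))
    (.leaf (nat_lit 359756295))) (.node (.leaf (nat_lit 250209038)) (.leaf (nat_lit 337347597))))))
    (.node (.node (.node (.node (.node (.leaf (nat_lit 19935241)) (.leaf (nat_lit 453237513)))
    (.leaf (nat_lit 159003657))) (.node (.leaf (nat_lit 166242060)) (.leaf (nat_lit 341507338))))
    (.node (.node (.node (.leaf (nat_lit 89172490)) (.leaf (nat_lit 488909326))) (.leaf (nat_lit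
    233477899))) (.node (.leaf (nat_lit 220316938)) (.leaf (nat_lit 392390407))))) (.node (.node
    (.node (.node (.leaf (nat_lit 44067594)) (.leaf (nat_lit 539720711))) (.leaf (nat_lit
    210396428))) (.node (.leaf (nat_lit 201410057)) (.leaf (nat_lit 422702600)))) (.node (.node
    (.node (.leaf (nat_lit 122717199)) (.leaf (nat_lit 575929098))) (.leaf (nat_lit 375573518)))
    (.node (.leaf (nat_lit 179437071)) (.leaf (nat_lit 428580623)))))))) (.node (.node (.node
    (.node (.node (.node (.node (.leaf (nat_lit 3671823)) (.leaf (nat_lit 501460495))) (.leaf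
    (nat_lit 279512843))) (.node (.leaf (nat_lit 120129290)) (.leaf (nat_lit 386505741)))) (.node
    (.node (.node (.leaf (nat_lit 67133962)) (.leaf (nat_lit 547094797))) (.leaf (nat_lit
    330908429))) (.node (.leaf (nat_lit 218157836)) (.leaf (nat_lit 434771981))))) (.node (.node
    (.node (.node (.leaf (nat_lit 36708875)) (.leaf (nat_lit 463203086))) (.leaf (nat_lit
    304235788))) (.node (.leaf (nat_lit 178345228)) (.leaf (nat_lit 377140743)))) (.node (.node
    (.node (.leaf (nat_lit 101761550)) (.leaf (nat_lit 565922313))) (.leaf (nat_lit 357213966)))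
    (.node (.leaf (nat_lit 247585545)) (.leaf (nat_lit 469398797)))))) (.node (.node (.node (.node
    (.node (.leaf (nat_lit 18883848)) (.leaf (nat_lit 514534670))) (.leaf (nat_lit 286927884)))
    (.node (.leaf (nat_lit 161522191)) (.leaf (nat_lit 398606090)))) (.node (.node (.node (.leaf
    (nat_lit 48800776)) (.leaf (nat_lit 510404109))) (.leaf (nat_lit 343523855))) (.node (.leaf
    (nat_lit 217693706)) (.leaf (nat_lit 430661390))))) (.node (.node (.node (.node (.leaf (nat_lit
    52977166)) (.leaf (nat_lit 537117965))) (.leaf (nat_lit 317839114))) (.node (.leaf (nat_lit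
    150042126)) (.leaf (nat_lit 420138254)))) (.node (.node (.node (.leaf (nat_lit 118547212))
    (.leaf (nat_lit 573849100))) (.leaf (nat_lit 371819535))) (.node (.leaf (nat_lit 229767432))
    (.leaf (nat_lit 483039495))))))) (.node (.node (.node (.node (.node (.node (.leaf (nat_lit
    11012875)) (.leaf (nat_lit 508270859))) (.leaf (nat_lit 174727180))) (.node (.leaf (nat_lit
    148945678)) (.leaf (nat_lit 392801031)))) (.node (.node (.node (.leaf (nat_lit 73960717))
    (.leaf (nat_lit 551765255))) (.leaf (nat_lit 177373963))) (.node (.leaf (nat_lit 222408457))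
    (.leaf (nat_lit 443758602))))) (.node (.node (.node (.node (.leaf (nat_lit 44574983)) (.leaf
    (nat_lit 531345671))) (.leaf (nat_lit 303714825))) (.node (.leaf (nat_lit 189316108)) (.leaf
    (nat_lit 415415309)))) (.node (.node (.node (.leaf (nat_lit 111180039)) (.leaf (nat_lit
    556547849))) (.leaf (nat_lit 206221836))) (.node (.leaf (nat_lit 208792074)) (.leaf (nat_lit
    474694669)))))) (.node (.node (.node (.node (.node (.leaf (nat_lit 28317448)) (.leaf (nat_lit
    520811279))) (.leaf (nat_lit 298975498))) (.node (.leaf (nat_lit 94454285)) (.leaf (nat_lit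
    404869133)))) (.node (.node (.node (.leaf (nat_lit 74494473)) (.leaf (nat_lit 561245447)))
    (.leaf (nat_lit 350897166))) (.node (.leaf (nat_lit 176278538)) (.leaf (nat_lit 460013834)))))
    (.node (.node (.node (.node (.leaf (nat_lit 52982540)) (.leaf (nat_lit 496241162))) (.leaf
    (nat_lit 325138695))) (.node (.leaf (nat_lit 206670600)) (.leaf (nat_lit 381364745)))) (.node
    (.node (.leaf (nat_lit 126388236)) (.leaf (nat_lit 369284106))) (.node (.leaf (nat_lit
    150603787)) (.leaf (nat_lit 490386444))))))))) (.node (.node (.node (.node (.node (.node (.node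
    (.node (.leaf (nat_lit 2097415)) (.leaf (nat_lit 461616903))) (.leaf (nat_lit 183635979)))
    (.node (.leaf (nat_lit 133730063)) (.leaf (nat_lit 321052175)))) (.node (.node (.node (.leaf
    (nat_lit 65563660)) (.leaf (nat_lit 546028301))) (.leaf (nat_lit 171078664))) (.node (.leaf
    (nat_lit 215063308)) (.leaf (nat_lit 278607885))))) (.node (.node (.node (.node (.leaf (nat_lit
    35141385)) (.leaf (nat_lit 427550732))) (.leaf (nat_lit 303168012))) (.node (.leaf (nat_lit
    176205839)) (.leaf (nat_lit 409126927)))) (.node (.node (.node (.leaf (nat_lit 58769160))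
    (.leaf (nat_lit 564358925))) (.leaf (nat_lit 321562377))) (.node (.leaf (nat_lit 246498312))
    (.leaf (nat_lit 467296780)))))) (.node (.node (.node (.node (.node (.leaf (nat_lit 17306632))
    (.leaf (nat_lit 512977935))) (.leaf (nat_lit 290031624))) (.node (.leaf (nat_lit 145829383))
    (.leaf (nat_lit 237171720)))) (.node (.node (.node (.leaf (nat_lit 57712652)) (.leaf (nat_lit
    442770184))) (.leaf (nat_lit 301632267))) (.node (.leaf (nat_lit 232317197)) (.leaf (nat_lit
    406019080))))) (.node (.node (.node (.node (.leaf (nat_lit 43540748)) (.leaf (nat_lit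
    498334990))) (.leaf (nat_lit 273832458))) (.node (.leaf (nat_lit 194605070)) (.leaf (nat_lit
    419082247)))) (.node (.node (.node (.leaf (nat_lit 116973580)) (.leaf (nat_lit 564413452)))
    (.leaf (nat_lit 368754696))) (.node (.leaf (nat_lit 242349323)) (.leaf (nat_lit
    350459400))))))) (.node (.node (.node (.node (.node (.node (.leaf (nat_lit 8392713)) (.leaf
    (nat_lit 477349641))) (.leaf (nat_lit 283254028))) (.node (.leaf (nat_lit 146348044)) (.leaf
    (nat_lit 316860942)))) (.node (.node (.node (.leaf (nat_lit 71862542)) (.leaf (nat_lit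
    550744585))) (.leaf (nat_lit 335629580))) (.node (.leaf (nat_lit 149531657)) (.leaf (nat_lit
    299583752))))) (.node (.node (.node (.node (.leaf (nat_lit 41433864)) (.leaf (nat_lit
    529789708))) (.leaf (nat_lit 309944591))) (.node (.leaf (nat_lit 186716943)) (.leaf (nat_lit
    414310920)))) (.node (.node (.node (.leaf (nat_lit 98095117)) (.leaf (nat_lit 514080014)))
    (.leaf (nat_lit 360805132))) (.node (.leaf (nat_lit 255390472)) (.leaf (nat_lit 391874311))))))
    (.node (.node (.node (.node (.node (.leaf (nat_lit 26751753)) (.leaf (nat_lit 519238157)))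
    (.leaf (nat_lit 295319308))) (.node (.leaf (nat_lit 167323407)) (.leaf (nat_lit 372965640))))
    (.node (.node (.node (.leaf (nat_lit 90746125)) (.leaf (nat_lit 450636814))) (.leaf (nat_lit
    347773450))) (.node (.leaf (nat_lit 239658508)) (.leaf (nat_lit 458443022))))) (.node (.node
    (.node (.node (.leaf (nat_lit 58219018)) (.leaf (nat_lit 494143245))) (.leaf (nat_lit
    323565320))) (.node (.leaf (nat_lit 202999306)) (.leaf (nat_lit 375072777)))) (.node (.node
    (.leaf (nat_lit 96005133)) (.leaf (nat_lit 378113551))) (.node (.leaf (nat_lit 134873355))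
    (.leaf (nat_lit 477340175)))))))) (.node (.node (.node (.node (.node (.node (.node (.leaf
    (nat_lit 5243655)) (.leaf (nat_lit 503501835))) (.leaf (nat_lit 179443465))) (.node (.leaf
    (nat_lit 140547083)) (.leaf (nat_lit 278061834)))) (.node (.node (.node (.leaf (nat_lit
    68705804)) (.leaf (nat_lit 548611595))) (.leaf (nat_lit 332004364))) (.node (.leaf (nat_lit
    220779788)) (.leaf (nat_lit 395001865))))) (.node (.node (.node (.node (.leaf (nat_lit
    34097422)) (.leaf (nat_lit 522448393))) (.leaf (nat_lit 306783245))) (.node (.leaf (nat_lit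
    182498571)) (.leaf (nat_lit 252383501)))) (.node (.node (.node (.leaf (nat_lit 66111495))
    (.leaf (nat_lit 562837769))) (.leaf (nat_lit 358707463))) (.node (.leaf (nat_lit 251256586))
    (.leaf (nat_lit 431194378)))))) (.node (.node (.node (.node (.node (.leaf (nat_lit 22549255))
    (.leaf (nat_lit 428071177))) (.leaf (nat_lit 225587213))) (.node (.leaf (nat_lit 164182282))
    (.leaf (nat_lit 355138311)))) (.node (.node (.node (.leaf (nat_lit 88104203)) (.leaf (nat_lit
    555493388))) (.leaf (nat_lit 307926027))) (.node (.leaf (nat_lit 214548745)) (.leaf (nat_lit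
    444293896))))) (.node (.node (.node (.node (.leaf (nat_lit 55064075)) (.leaf (nat_lit
    493617929))) (.leaf (nat_lit 318880264))) (.node (.leaf (nat_lit 110721293)) (.leaf (nat_lit
    421186316)))) (.node (.node (.node (.leaf (nat_lit 70838023)) (.leaf (nat_lit 574874378)))
    (.leaf (nat_lit 362989578))) (.node (.leaf (nat_lit 266402570)) (.leaf (nat_lit
    350984973))))))) (.node (.node (.node (.node (.node (.node (.leaf (nat_lit 12589321)) (.leaf
    (nat_lit 509797388))) (.leaf (nat_lit 220865545))) (.node (.leaf (nat_lit 152118028)) (.leaf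
    (nat_lit 304803598)))) (.node (.node (.node (.leaf (nat_lit 65049355)) (.leaf (nat_lit
    529276431))) (.leaf (nat_lit 263357961))) (.node (.leaf (nat_lit 228121612)) (.leaf (nat_lit
    388715015))))) (.node (.node (.node (.node (.leaf (nat_lit 45111817)) (.leaf (nat_lit
    532412428))) (.leaf (nat_lit 313150222))) (.node (.leaf (nat_lit 191938059)) (.leaf (nat_lit
    416987912)))) (.node (.node (.node (.leaf (nat_lit 113801995)) (.leaf (nat_lit 570704140)))
    (.leaf (nat_lit 327857928))) (.node (.leaf (nat_lit 211938572)) (.leaf (nat_lit 477318670))))))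
    (.node (.node (.node (.node (.node (.leaf (nat_lit 29899273)) (.leaf (nat_lit 522384652)))
    (.leaf (nat_lit 300503822))) (.node (.leaf (nat_lit 171485964)) (.leaf (nat_lit 404424201))))
    (.node (.node (.node (.leaf (nat_lit 74496010)) (.leaf (nat_lit 562286863))) (.leaf (nat_lit
    352488714))) (.node (.leaf (nat_lit 242864140)) (.leaf (nat_lit 463101196))))) (.node (.node
    (.node (.node (.leaf (nat_lit 60847625)) (.leaf (nat_lit 543405069))) (.leaf (nat_lit
    255487499))) (.node (.leaf (nat_lit 210291719)) (.leaf (nat_lit 425929740)))) (.node (.node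
    (.leaf (nat_lit 105968654)) (.leaf (nat_lit 370857738))) (.node (.leaf (nat_lit 274269711))
    (.leaf (nat_lit 447982599)))))))))) (.node (.node (.node (.node (.node (.node (.node (.node
    (.node (.leaf (nat_lit 1049098)) (.leaf (nat_lit 496219151))) (.leaf (nat_lit 226103055)))
    (.node (.leaf (nat_lit 83425805)) (.leaf (nat_lit 383894799)))) (.node (.node (.node (.leaf
    (nat_lit 64509966)) (.leaf (nat_lit 545525005))) (.leaf (nat_lit 302674702))) (.node (.leaf
    (nat_lit 186750989)) (.leaf (nat_lit 316355849))))) (.node (.node (.node (.node (.leaf (nat_lit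
    34610440)) (.leaf (nat_lit 524019468))) (.leaf (nat_lit 302660618))) (.node (.leaf (nat_lit
    174632712)) (.leaf (nat_lit 408541709)))) (.node (.node (.node (.leaf (nat_lit 99641613))
    (.leaf (nat_lit 563838223))) (.leaf (nat_lit 322086409))) (.node (.leaf (nat_lit 145347599))
    (.leaf (nat_lit 450590729)))))) (.node (.node (.node (.node (.node (.leaf (nat_lit 16781068))
    (.leaf (nat_lit 432787721))) (.leaf (nat_lit 289522952))) (.node (.leaf (nat_lit 85011466))
    (.leaf (nat_lit 396004878)))) (.node (.node (.node (.leaf (nat_lit 81811215)) (.leaf (nat_lit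
    554910986))) (.leaf (nat_lit 337283595))) (.node (.leaf (nat_lit 154253580)) (.leaf (nat_lit
    442671883))))) (.node (.node (.node (.node (.leaf (nat_lit 50343687)) (.leaf (nat_lit
    495189002))) (.leaf (nat_lit 161110281))) (.node (.leaf (nat_lit 164196878)) (.leaf (nat_lit
    418562314)))) (.node (.node (.node (.leaf (nat_lit 116433930)) (.leaf (nat_lit 572221199)))
    (.leaf (nat_lit 368148493))) (.node (.leaf (nat_lit 261682952)) (.leaf (nat_lit
    449549326))))))) (.node (.node (.node (.node (.node (.node (.leaf (nat_lit 7866120)) (.leaf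
    (nat_lit 383501837))) (.leaf (nat_lit 282677511))) (.node (.leaf (nat_lit 145790732)) (.leaf
    (nat_lit 225634316)))) (.node (.node (.node (.leaf (nat_lit 71337999)) (.leaf (nat_lit
    550221066))) (.leaf (nat_lit 316833290))) (.node (.leaf (nat_lit 223446799)) (.leaf (nat_lit
    439043855))))) (.node (.node (.node (.node (.leaf (nat_lit 40385038)) (.leaf (nat_lit
    431747340))) (.leaf (nat_lit 167923212))) (.node (.leaf (nat_lit 186213129)) (.leaf (nat_lit
    364581901)))) (.node (.node (.node (.leaf (nat_lit 108558092)) (.leaf (nat_lit 551828494)))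
    (.leaf (nat_lit 359837448))) (.node (.leaf (nat_lit 254341901)) (.leaf (nat_lit 466322703))))))
    (.node (.node (.node (.node (.node (.leaf (nat_lit 20459787)) (.leaf (nat_lit 509860873)))
    (.leaf (nat_lit 296818183))) (.node (.leaf (nat_lit 166789386)) (.leaf (nat_lit 372440839))))
    (.node (.node (.node (.leaf (nat_lit 90214922)) (.leaf (nat_lit 559666954))) (.leaf (nat_lit
    344627215))) (.node (.leaf (nat_lit 221366025)) (.leaf (nat_lit 440101134))))) (.node (.node
    (.node (.node (.leaf (nat_lit 52981002)) (.leaf (nat_lit 504628751))) (.leaf (nat_lit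
    322516495))) (.node (.leaf (nat_lit 200377099)) (.leaf (nat_lit 374548233)))) (.node (.node
    (.node (.leaf (nat_lit 91286285)) (.leaf (nat_lit 563366670))) (.leaf (nat_lit 376589577)))
    (.node (.leaf (nat_lit 268519436)) (.leaf (nat_lit 457941257)))))))) (.node (.node (.node
    (.node (.node (.node (.node (.leaf (nat_lit 4719112)) (.leaf (nat_lit 499367433))) (.leaf
    (nat_lit 280077578))) (.node (.leaf (nat_lit 139498248)) (.leaf (nat_lit 304800265)))) (.node
    (.node (.node (.leaf (nat_lit 63472137)) (.leaf (nat_lit 548087052))) (.leaf (nat_lit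
    331500811))) (.node (.leaf (nat_lit 218735116)) (.leaf (nat_lit 435370506))))) (.node (.node
    (.node (.node (.leaf (nat_lit 34621196)) (.leaf (nat_lit 526624015))) (.leaf (nat_lit
    305254415))) (.node (.leaf (nat_lit 140597514)) (.leaf (nat_lit 365629449)))) (.node (.node
    (.node (.leaf (nat_lit 103335182)) (.leaf (nat_lit 529807367))) (.leaf (nat_lit 357739021)))
    (.node (.leaf (nat_lit 250146823)) (.leaf (nat_lit 331579400)))))) (.node (.node (.node (.node
    (.node (.leaf (nat_lit 20976136)) (.leaf (nat_lit 515102476))) (.leaf (nat_lit 286928398)))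
    (.node (.leaf (nat_lit 162571531)) (.leaf (nat_lit 305854735)))) (.node (.node (.node (.leaf
    (nat_lit 71345672)) (.leaf (nat_lit 520890124))) (.leaf (nat_lit 344101132))) (.node (.leaf
    (nat_lit 153206542)) (.leaf (nat_lit 352018695))))) (.node (.node (.node (.node (.leaf (nat_lit
    53503753)) (.leaf (nat_lit 492044810))) (.leaf (nat_lit 318377224))) (.node (.leaf (nat_lit
    180451079)) (.leaf (nat_lit 391848460)))) (.node (.node (.node (.leaf (nat_lit 119584781))
    (.leaf (nat_lit 574328840))) (.leaf (nat_lit 372950793))) (.node (.leaf (nat_lit 154794509))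
    (.leaf (nat_lit 483105288))))))) (.node (.node (.node (.node (.node (.node (.leaf (nat_lit
    9967119)) (.leaf (nat_lit 456903180))) (.leaf (nat_lit 285807628))) (.node (.leaf (nat_lit
    133766923)) (.leaf (nat_lit 393325581)))) (.node (.node (.node (.leaf (nat_lit 76567054))
    (.leaf (nat_lit 467410184))) (.leaf (nat_lit 313689098))) (.node (.leaf (nat_lit 152154125))
    (.leaf (nat_lit 444809226))))) (.node (.node (.node (.node (.leaf (nat_lit 45635342)) (.leaf
    (nat_lit 532351499))) (.leaf (nat_lit 312027661))) (.node (.leaf (nat_lit 188836618)) (.leaf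
    (nat_lit 415946511)))) (.node (.node (.node (.leaf (nat_lit 112753164)) (.leaf (nat_lit
    528236554))) (.leaf (nat_lit 362904071))) (.node (.leaf (nat_lit 211938318)) (.leaf (nat_lit
    475744778)))))) (.node (.node (.node (.node (.node (.leaf (nat_lit 24131338)) (.leaf (nat_lit
    519299593))) (.leaf (nat_lit 293223431))) (.node (.leaf (nat_lit 130630666)) (.leaf (nat_lit
    344655112)))) (.node (.node (.node (.leaf (nat_lit 79213833)) (.leaf (nat_lit 449064719)))
    (.leaf (nat_lit 302685708))) (.node (.leaf (nat_lit 177851917)) (.leaf (nat_lit 343109644)))))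
    (.node (.node (.node (.node (.leaf (nat_lit 58225932)) (.leaf (nat_lit 475269895))) (.leaf
    (nat_lit 325217545))) (.node (.leaf (nat_lit 169447178)) (.leaf (nat_lit 425381639)))) (.node
    (.node (.leaf (nat_lit 126927625)) (.leaf (nat_lit 327865863))) (.node (.leaf (nat_lit
    188877319)) (.leaf (nat_lit 491960331))))))))) (.node (.node (.node (.node (.node (.node (.node
    (.node (.leaf (nat_lit 3147278)) (.leaf (nat_lit 490977807))) (.leaf (nat_lit 277939725)))
    (.node (.leaf (nat_lit 135313422)) (.leaf (nat_lit 385539343)))) (.node (.node (.node (.leaf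
    (nat_lit 49839881)) (.leaf (nat_lit 547037452))) (.leaf (nat_lit 329870351))) (.node (.leaf
    (nat_lit 217109256)) (.leaf (nat_lit 433722893))))) (.node (.node (.node (.node (.leaf (nat_lit
    31999241)) (.leaf (nat_lit 525532684))) (.leaf (nat_lit 293749518))) (.node (.leaf (nat_lit
    177285903)) (.leaf (nat_lit 410115087)))) (.node (.node (.node (.leaf (nat_lit 101214984))
    (.leaf (nat_lit 564884751))) (.leaf (nat_lit 356689418))) (.node (.leaf (nat_lit 172087304))
    (.leaf (nat_lit 468411406)))))) (.node (.node (.node (.node (.node (.leaf (nat_lit 17834760))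
    (.leaf (nat_lit 479974410))) (.leaf (nat_lit 291049485))) (.node (.leaf (nat_lit 159984393))
    (.leaf (nat_lit 398047245)))) (.node (.node (.node (.leaf (nat_lit 85481740)) (.leaf (nat_lit
    452207627))) (.leaf (nat_lit 316312846))) (.node (.leaf (nat_lit 228703245)) (.leaf (nat_lit
    319512071))))) (.node (.node (.node (.node (.leaf (nat_lit 41968393)) (.leaf (nat_lit
    536546572))) (.leaf (nat_lit 316747279))) (.node (.leaf (nat_lit 195608591)) (.leaf (nat_lit
    419635214)))) (.node (.node (.node (.leaf (nat_lit 118522123)) (.leaf (nat_lit 481051916)))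
    (.leaf (nat_lit 370328077))) (.node (.leaf (nat_lit 263836679)) (.leaf (nat_lit
    463181583))))))) (.node (.node (.node (.node (.node (.node (.leaf (nat_lit 6820111)) (.leaf
    (nat_lit 507718670))) (.leaf (nat_lit 146939400))) (.node (.leaf (nat_lit 148412684)) (.leaf
    (nat_lit 269675276)))) (.node (.node (.node (.leaf (nat_lit 72387337)) (.leaf (nat_lit
    542382862))) (.leaf (nat_lit 278036751))) (.node (.leaf (nat_lit 162114830)) (.leaf (nat_lit
    328944903))))) (.node (.node (.node (.node (.leaf (nat_lit 20992269)) (.leaf (nat_lit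
    518779913))) (.leaf (nat_lit 217207050))) (.node (.leaf (nat_lit 187244555)) (.leaf (nat_lit
    414898700)))) (.node (.node (.node (.leaf (nat_lit 75551241)) (.leaf (nat_lit 569622536)))
    (.leaf (nat_lit 345157896))) (.node (.leaf (nat_lit 255949322)) (.leaf (nat_lit 440109063))))))
    (.node (.node (.node (.node (.node (.leaf (nat_lit 20984844)) (.leaf (nat_lit 476307214)))
    (.leaf (nat_lit 275921161))) (.node (.leaf (nat_lit 139542793)) (.leaf (nat_lit 403868431))))
    (.node (.node (.node (.leaf (nat_lit 73445385)) (.leaf (nat_lit 560700937))) (.leaf (nat_lit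
    347249673))) (.node (.leaf (nat_lit 240707339)) (.leaf (nat_lit 335244295))))) (.node (.node
    (.node (.node (.leaf (nat_lit 59261959)) (.leaf (nat_lit 541310991))) (.leaf (nat_lit
    324168201))) (.node (.leaf (nat_lit 205096972)) (.leaf (nat_lit 424276231)))) (.node (.node
    (.leaf (nat_lit 125339144)) (.leaf (nat_lit 378717706))) (.node (.leaf (nat_lit 271122189))
    (.leaf (nat_lit 488850187)))))))) (.node (.node (.node (.node (.node (.node (.node (.leaf
    (nat_lit 5769994)) (.leaf (nat_lit 496747273))) (.leaf (nat_lit 219289615))) (.node (.leaf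
    (nat_lit 142126088)) (.leaf (nat_lit 389128971)))) (.node (.node (.node (.leaf (nat_lit
    69240072)) (.leaf (nat_lit 548673292))) (.leaf (nat_lit 332532487))) (.node (.leaf (nat_lit
    221828623)) (.leaf (nat_lit 398148104))))) (.node (.node (.node (.node (.leaf (nat_lit
    37243402)) (.leaf (nat_lit 528182791))) (.leaf (nat_lit 195709963))) (.node (.leaf (nat_lit
    131685902)) (.leaf (nat_lit 369824270)))) (.node (.node (.node (.leaf (nat_lit 66636551))
    (.leaf (nat_lit 446970377))) (.leaf (nat_lit 358788360))) (.node (.leaf (nat_lit 200401161))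
    (.leaf (nat_lit 471021324)))))) (.node (.node (.node (.node (.node (.leaf (nat_lit 17313031))
    (.leaf (nat_lit 472111625))) (.leaf (nat_lit 294720012))) (.node (.leaf (nat_lit 165231369))
    (.leaf (nat_lit 386071563)))) (.node (.node (.node (.leaf (nat_lit 88630285)) (.leaf (nat_lit
    558631176))) (.leaf (nat_lit 346716942))) (.node (.leaf (nat_lit 236512267)) (.leaf (nat_lit
    307979533))))) (.node (.node (.node (.node (.leaf (nat_lit 55077388)) (.leaf (nat_lit
    519832584))) (.leaf (nat_lit 278553354))) (.node (.leaf (nat_lit 199851274)) (.leaf (nat_lit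
    367731724)))) (.node (.node (.node (.leaf (nat_lit 121692173)) (.leaf (nat_lit 575399434)))
    (.leaf (nat_lit 374967055))) (.node (.leaf (nat_lit 226098446)) (.leaf (nat_lit
    485138447))))))) (.node (.node (.node (.node (.node (.node (.leaf (nat_lit 14162701)) (.leaf
    (nat_lit 475778569))) (.leaf (nat_lit 150611208))) (.node (.leaf (nat_lit 154705671)) (.leaf
    (nat_lit 394456079)))) (.node (.node (.node (.leaf (nat_lit 76584461)) (.leaf (nat_lit
    553856783))) (.leaf (nat_lit 337282831))) (.node (.leaf (nat_lit 229694732)) (.leaf (nat_lit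
    446381838))))) (.node (.node (.node (.node (.leaf (nat_lit 48246028)) (.leaf (nat_lit
    533461005))) (.leaf (nat_lit 314125067))) (.node (.leaf (nat_lit 162623246)) (.leaf (nat_lit
    379788297)))) (.node (.node (.node (.leaf (nat_lit 82893321)) (.leaf (nat_lit 571692298)))
    (.leaf (nat_lit 264419851))) (.node (.leaf (nat_lit 259624202)) (.leaf (nat_lit 478362383))))))
    (.node (.node (.node (.node (.node (.leaf (nat_lit 31991307)) (.leaf (nat_lit 522936079)))
    (.leaf (nat_lit 301075210))) (.node (.leaf (nat_lit 172020494)) (.leaf (nat_lit 406469391))))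
    (.node (.node (.node (.leaf (nat_lit 97040908)) (.leaf (nat_lit 531378445))) (.leaf (nat_lit
    353500680))) (.node (.leaf (nat_lit 243899150)) (.leaf (nat_lit 408646921))))) (.node (.node
    (.node (.node (.leaf (nat_lit 62421000)) (.leaf (nat_lit 441715975))) (.leaf (nat_lit
    327236363))) (.node (.leaf (nat_lit 206672906)) (.leaf (nat_lit 427425293)))) (.node (.node
    (.leaf (nat_lit 128501519)) (.leaf (nat_lit 306895116))) (.node (.leaf (nat_lit 275842062))
    (.leaf (nat_lit 494120716))))))))))) (.node (.node (.node (.node (.node (.node (.node (.node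
    (.node (.node (.leaf (nat_lit 524303)) (.leaf (nat_lit 496218894))) (.leaf (nat_lit
    276384520))) (.node (.leaf (nat_lit 130583823)) (.leaf (nat_lit 383883531)))) (.node (.node
    (.node (.leaf (nat_lit 63994632)) (.leaf (nat_lit 499912461))) (.leaf (nat_lit 299528718)))
    (.node (.leaf (nat_lit 213455367)) (.leaf (nat_lit 429601800))))) (.node (.node (.node (.node
    (.leaf (nat_lit 22036494)) (.leaf (nat_lit 400287501))) (.leaf (nat_lit 270680075))) (.node
    (.leaf (nat_lit 93408014)) (.leaf (nat_lit 408017165)))) (.node (.node (.node (.leaf (nat_lit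
    99117064)) (.leaf (nat_lit 554971913))) (.leaf (nat_lit 355113738))) (.node (.leaf (nat_lit
    245427467)) (.leaf (nat_lit 465270026)))))) (.node (.node (.node (.node (.node (.leaf (nat_lit
    15734535)) (.leaf (nat_lit 456380428))) (.leaf (nat_lit 288957191))) (.node (.leaf (nat_lit
    98642698)) (.leaf (nat_lit 344125960)))) (.node (.node (.node (.leaf (nat_lit 80779789)) (.leaf
    (nat_lit 554390028))) (.leaf (nat_lit 331516170))) (.node (.leaf (nat_lit 230758921)) (.leaf
    (nat_lit 449002250))))) (.node (.node (.node (.node (.leaf (nat_lit 49302796)) (.leaf (nat_lit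
    522976014))) (.leaf (nat_lit 314669063))) (.node (.leaf (nat_lit 192508173)) (.leaf (nat_lit
    418506767)))) (.node (.node (.node (.leaf (nat_lit 116423949)) (.leaf (nat_lit 533480206)))
    (.leaf (nat_lit 364559626))) (.node (.leaf (nat_lit 212464137)) (.leaf (nat_lit
    476767243))))))) (.node (.node (.node (.node (.node (.node (.leaf (nat_lit 7341831)) (.leaf
    (nat_lit 503039247))) (.leaf (nat_lit 282659339))) (.node (.leaf (nat_lit 138482701)) (.leaf
    (nat_lit 390183176)))) (.node (.node (.node (.leaf (nat_lit 70813450)) (.leaf (nat_lit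
    550185228))) (.leaf (nat_lit 334134543))) (.node (.leaf (nat_lit 222911246)) (.leaf (nat_lit
    354633228))))) (.node (.node (.node (.node (.leaf (nat_lit 30952458)) (.leaf (nat_lit
    405532941))) (.leaf (nat_lit 237653513))) (.node (.leaf (nat_lit 183067145)) (.leaf (nat_lit
    367203337)))) (.node (.node (.node (.leaf (nat_lit 73977358)) (.leaf (nat_lit 568020239)))
    (.leaf (nat_lit 359758859))) (.node (.leaf (nat_lit 253355016)) (.leaf (nat_lit 426476809))))))
    (.node (.node (.node (.node (.node (.leaf (nat_lit 20984073)) (.leaf (nat_lit 517683468)))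
    (.leaf (nat_lit 296293901))) (.node (.leaf (nat_lit 96025871)) (.leaf (nat_lit 401720589))))
    (.node (.node (.node (.leaf (nat_lit 89697034)) (.leaf (nat_lit 559140365))) (.leaf (nat_lit
    272275465))) (.node (.leaf (nat_lit 237618700)) (.leaf (nat_lit 312698893))))) (.node (.node
    (.node (.node (.leaf (nat_lit 47213582)) (.leaf (nat_lit 489948682))) (.leaf (nat_lit
    321545736))) (.node (.leaf (nat_lit 198803982)) (.leaf (nat_lit 414393866)))) (.node (.node
    (.node (.leaf (nat_lit 121694986)) (.leaf (nat_lit 575949069))) (.leaf (nat_lit 376540171)))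
    (.node (.leaf (nat_lit 268500237)) (.leaf (nat_lit 486767624)))))))) (.node (.node (.node
    (.node (.node (.node (.node (.leaf (nat_lit 4196366)) (.leaf (nat_lit 501988106))) (.leaf
    (nat_lit 271717647))) (.node (.leaf (nat_lit 138470926)) (.leaf (nat_lit 386588171)))) (.node
    (.node (.node (.leaf (nat_lit 37257485)) (.leaf (nat_lit 547622409))) (.leaf (nat_lit
    331432973))) (.node (.leaf (nat_lit 218682379)) (.leaf (nat_lit 435296525))))) (.node (.node
    (.node (.node (.leaf (nat_lit 32524041)) (.leaf (nat_lit 526117900))) (.leaf (nat_lit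
    187844104))) (.node (.leaf (nat_lit 179394316)) (.leaf (nat_lit 410717965)))) (.node (.node
    (.node (.leaf (nat_lit 102286348)) (.leaf (nat_lit 458503951))) (.leaf (nat_lit 357658635)))
    (.node (.leaf (nat_lit 249622541)) (.leaf (nat_lit 469458442)))))) (.node (.node (.node (.node
    (.node (.leaf (nat_lit 19407630)) (.leaf (nat_lit 510383625))) (.leaf (nat_lit 292132360)))
    (.node (.leaf (nat_lit 161545230)) (.leaf (nat_lit 305854729)))) (.node (.node (.node (.leaf
    (nat_lit 72393992)) (.leaf (nat_lit 557027594))) (.leaf (nat_lit 294293514))) (.node (.leaf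
    (nat_lit 223460877)) (.leaf (nat_lit 302211085))))) (.node (.node (.node (.node (.leaf (nat_lit
    53503502)) (.leaf (nat_lit 537133326))) (.leaf (nat_lit 318320652))) (.node (.leaf (nat_lit
    196657423)) (.leaf (nat_lit 420681480)))) (.node (.node (.node (.leaf (nat_lit 119071495))
    (.leaf (nat_lit 518801164))) (.leaf (nat_lit 372369420))) (.node (.leaf (nat_lit 264886542))
    (.leaf (nat_lit 483086090))))))) (.node (.node (.node (.node (.node (.node (.leaf (nat_lit
    11015692)) (.leaf (nat_lit 386124301))) (.leaf (nat_lit 181543177))) (.node (.leaf (nat_lit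
    149986063)) (.leaf (nat_lit 392822538)))) (.node (.node (.node (.leaf (nat_lit 75010060))
    (.leaf (nat_lit 552283659))) (.leaf (nat_lit 337756935))) (.node (.leaf (nat_lit 223457290))
    (.leaf (nat_lit 444737549))))) (.node (.node (.node (.node (.leaf (nat_lit 39867916)) (.leaf
    (nat_lit 438564361))) (.leaf (nat_lit 311541005))) (.node (.leaf (nat_lit 189840399)) (.leaf
    (nat_lit 415884551)))) (.node (.node (.node (.leaf (nat_lit 112228875)) (.leaf (nat_lit
    570145287))) (.leaf (nat_lit 362428174))) (.node (.leaf (nat_lit 257551114)) (.leaf (nat_lit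
    448498191)))))) (.node (.node (.node (.node (.node (.leaf (nat_lit 28325386)) (.leaf (nat_lit
    520829451))) (.leaf (nat_lit 299440653))) (.node (.leaf (nat_lit 169912844)) (.leaf (nat_lit
    404900108)))) (.node (.node (.node (.leaf (nat_lit 93893640)) (.leaf (nat_lit 516173578)))
    (.leaf (nat_lit 342531592))) (.node (.leaf (nat_lit 177327373)) (.leaf (nat_lit 460549900)))))
    (.node (.node (.node (.node (.leaf (nat_lit 50361103)) (.leaf (nat_lit 542357005))) (.leaf
    (nat_lit 250244107))) (.node (.leaf (nat_lit 208718344)) (.leaf (nat_lit 424854543)))) (.node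
    (.node (.leaf (nat_lit 126404362)) (.leaf (nat_lit 380261131))) (.node (.leaf (nat_lit
    273219597)) (.leaf (nat_lit 491435276))))))))) (.node (.node (.node (.node (.node (.node (.node
    (.node (.leaf (nat_lit 2098441)) (.leaf (nat_lit 499366156))) (.leaf (nat_lit 277478154)))
    (.node (.leaf (nat_lit 106496271)) (.leaf (nat_lit 385456903)))) (.node (.node (.node (.leaf
    (nat_lit 56131081)) (.leaf (nat_lit 546574345))) (.leaf (nat_lit 281703694))) (.node (.leaf
    (nat_lit 216089867)) (.leaf (nat_lit 433198349))))) (.node (.node (.node (.node (.leaf (nat_lit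
    24658953)) (.leaf (nat_lit 525056775))) (.leaf (nat_lit 216679181))) (.node (.leaf (nat_lit
    171528458)) (.leaf (nat_lit 368774409)))) (.node (.node (.node (.leaf (nat_lit 100690695))
    (.leaf (nat_lit 564932616))) (.leaf (nat_lit 356119052))) (.node (.leaf (nat_lit 247023112))
    (.leaf (nat_lit 467821071)))))) (.node (.node (.node (.node (.node (.leaf (nat_lit 17829895))
    (.leaf (nat_lit 478401294))) (.leaf (nat_lit 165816840))) (.node (.leaf (nat_lit 159949326))
    (.leaf (nat_lit 397058830)))) (.node (.node (.node (.leaf (nat_lit 84433159)) (.leaf (nat_lit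
    555963400))) (.leaf (nat_lit 341980687))) (.node (.leaf (nat_lit 232318735)) (.leaf (nat_lit
    451108104))))) (.node (.node (.node (.node (.leaf (nat_lit 42492425)) (.leaf (nat_lit
    536022283))) (.leaf (nat_lit 240802312))) (.node (.leaf (nat_lit 186217483)) (.leaf (nat_lit
    364584718)))) (.node (.node (.node (.leaf (nat_lit 117497607)) (.leaf (nat_lit 573296647)))
    (.leaf (nat_lit 370246159))) (.node (.leaf (nat_lit 239203855)) (.leaf (nat_lit
    481990151))))))) (.node (.node (.node (.node (.node (.node (.leaf (nat_lit 8392972)) (.leaf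
    (nat_lit 462145294))) (.leaf (nat_lit 283752455))) (.node (.leaf (nat_lit 147363855)) (.leaf
    (nat_lit 391751437)))) (.node (.node (.node (.leaf (nat_lit 60852746)) (.leaf (nat_lit
    505682445))) (.leaf (nat_lit 335685386))) (.node (.leaf (nat_lit 224975375)) (.leaf (nat_lit
    442114572))))) (.node (.node (.node (.node (.leaf (nat_lit 20467725)) (.leaf (nat_lit
    530276623))) (.leaf (nat_lit 302141454))) (.node (.leaf (nat_lit 187742987)) (.leaf (nat_lit
    414367758)))) (.node (.node (.node (.leaf (nat_lit 109629709)) (.leaf (nat_lit 569100815)))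
    (.leaf (nat_lit 360870154))) (.node (.leaf (nat_lit 255450638)) (.leaf (nat_lit 431195918))))))
    (.node (.node (.node (.node (.node (.leaf (nat_lit 27268615)) (.leaf (nat_lit 519253774)))
    (.leaf (nat_lit 296368142))) (.node (.leaf (nat_lit 142163981)) (.leaf (nat_lit 317391368))))
    (.node (.node (.node (.leaf (nat_lit 91775503)) (.leaf (nat_lit 560177423))) (.leaf (nat_lit
    349834254))) (.node (.leaf (nat_lit 219793929)) (.leaf (nat_lit 353069833))))) (.node (.node
    (.node (.node (.leaf (nat_lit 59259148)) (.leaf (nat_lit 541299720))) (.leaf (nat_lit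
    323582735))) (.node (.leaf (nat_lit 195135242)) (.leaf (nat_lit 423831565)))) (.node (.node
    (.leaf (nat_lit 124292621)) (.leaf (nat_lit 378196236))) (.node (.leaf (nat_lit 189924107))
    (.leaf (nat_lit 472097551)))))))) (.node (.node (.node (.node (.node (.node (.node (.leaf
    (nat_lit 5767944)) (.leaf (nat_lit 486261000))) (.leaf (nat_lit 239212558))) (.node (.leaf
    (nat_lit 135859722)) (.leaf (nat_lit 388604429)))) (.node (.node (.node (.leaf (nat_lit
    38306829)) (.leaf (nat_lit 527177223))) (.leaf (nat_lit 299006473))) (.node (.leaf (nat_lit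
    132228618)) (.leaf (nat_lit 345194761))))) (.node (.node (.node (.node (.leaf (nat_lit
    38285839)) (.leaf (nat_lit 528154891))) (.leaf (nat_lit 307383048))) (.node (.leaf (nat_lit
    183023119)) (.leaf (nat_lit 412213007)))) (.node (.node (.node (.leaf (nat_lit 105411595))
    (.leaf (nat_lit 566973196))) (.leaf (nat_lit 358711819))) (.node (.leaf (nat_lit 204070926))
    (.leaf (nat_lit 470974477)))))) (.node (.node (.node (.node (.node (.leaf (nat_lit 22555657))
    (.leaf (nat_lit 516644108))) (.leaf (nat_lit 294195723))) (.node (.leaf (nat_lit 164182540))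
    (.leaf (nat_lit 400173583)))) (.node (.node (.node (.leaf (nat_lit 88117769)) (.leaf (nat_lit
    558068493))) (.leaf (nat_lit 315790351))) (.node (.leaf (nat_lit 235987976)) (.leaf (nat_lit
    307454989))))) (.node (.node (.node (.node (.leaf (nat_lit 30959880)) (.leaf (nat_lit
    539170059))) (.leaf (nat_lit 295330055))) (.node (.leaf (nat_lit 198755079)) (.leaf (nat_lit
    421732106)))) (.node (.node (.node (.leaf (nat_lit 121156878)) (.leaf (nat_lit 575368204)))
    (.leaf (nat_lit 373994766))) (.node (.leaf (nat_lit 266404621)) (.leaf (nat_lit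
    484614156))))))) (.node (.node (.node (.node (.node (.node (.leaf (nat_lit 12589578)) (.leaf
    (nat_lit 449563914))) (.leaf (nat_lit 220865544))) (.node (.leaf (nat_lit 150021386)) (.leaf
    (nat_lit 240316172)))) (.node (.node (.node (.leaf (nat_lit 78664204)) (.leaf (nat_lit
    553370631))) (.leaf (nat_lit 338855688))) (.node (.leaf (nat_lit 180466702)) (.leaf (nat_lit
    297489160))))) (.node (.node (.node (.node (.leaf (nat_lit 47721739)) (.leaf (nat_lit
    532922631))) (.leaf (nat_lit 215111182))) (.node (.leaf (nat_lit 162622989)) (.leaf (nat_lit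
    398662412)))) (.node (.node (.node (.leaf (nat_lit 113809929)) (.leaf (nat_lit 571174664)))
    (.leaf (nat_lit 365526280))) (.node (.leaf (nat_lit 252833294)) (.leaf (nat_lit 404983560))))))
    (.node (.node (.node (.node (.node (.leaf (nat_lit 31464207)) (.leaf (nat_lit 519300111)))
    (.leaf (nat_lit 301014028))) (.node (.leaf (nat_lit 108611343)) (.leaf (nat_lit 393414158))))
    (.node (.node (.node (.leaf (nat_lit 95992072)) (.leaf (nat_lit 518795534))) (.leaf (nat_lit
    353462795))) (.node (.leaf (nat_lit 243854095)) (.leaf (nat_lit 352547852))))) (.node (.node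
    (.node (.node (.leaf (nat_lit 32536333)) (.leaf (nat_lit 489950478))) (.leaf (nat_lit
    326266633))) (.node (.leaf (nat_lit 211340557)) (.leaf (nat_lit 426899464)))) (.node (.node
    (.leaf (nat_lit 127989004)) (.leaf (nat_lit 371382282))) (.node (.leaf (nat_lit 183110663))
    (.leaf (nat_lit 493595402)))))))))) (.node (.node (.node (.node (.node (.node (.node (.node
    (.node (.leaf (nat_lit 1573641)) (.leaf (nat_lit 498255883))) (.leaf (nat_lit 219811848)))
    (.node (.leaf (nat_lit 131660808)) (.leaf (nat_lit 338877710)))) (.node (.node (.node (.leaf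
    (nat_lit 57179401)) (.leaf (nat_lit 545526030))) (.leaf (nat_lit 282752010))) (.node (.leaf
    (nat_lit 143759626)) (.leaf (nat_lit 431623437))))) (.node (.node (.node (.node (.leaf (nat_lit
    34612235)) (.leaf (nat_lit 451143689))) (.leaf (nat_lit 276972041))) (.node (.leaf (nat_lit
    175157003)) (.leaf (nat_lit 409066503)))) (.node (.node (.node (.leaf (nat_lit 99663370))
    (.leaf (nat_lit 439628809))) (.leaf (nat_lit 355568140))) (.node (.leaf (nat_lit 130143502))
    (.leaf (nat_lit 447445256)))))) (.node (.node (.node (.node (.node (.leaf (nat_lit 16784650))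
    (.leaf (nat_lit 512943883))) (.leaf (nat_lit 289548556))) (.node (.leaf (nat_lit 156839182))
    (.leaf (nat_lit 338883594)))) (.node (.node (.node (.leaf (nat_lit 82353676)) (.leaf (nat_lit
    555431183))) (.leaf (nat_lit 340937225))) (.node (.leaf (nat_lit 231806474)) (.leaf (nat_lit
    450506511))))) (.node (.node (.node (.node (.leaf (nat_lit 50353418)) (.leaf (nat_lit
    535012877))) (.leaf (nat_lit 315189519))) (.node (.leaf (nat_lit 194559759)) (.leaf (nat_lit
    371924494)))) (.node (.node (.node (.leaf (nat_lit 91283214)) (.leaf (nat_lit 572785415)))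
    (.leaf (nat_lit 361414159))) (.node (.leaf (nat_lit 261745166)) (.leaf (nat_lit
    480940815))))))) (.node (.node (.node (.node (.node (.node (.leaf (nat_lit 7868170)) (.leaf
    (nat_lit 477873676))) (.leaf (nat_lit 283215623))) (.node (.leaf (nat_lit 145805839)) (.leaf
    (nat_lit 390737674)))) (.node (.node (.node (.leaf (nat_lit 71338247)) (.leaf (nat_lit
    463739143))) (.leaf (nat_lit 335104525))) (.node (.leaf (nat_lit 175745801)) (.leaf (nat_lit
    300107783))))) (.node (.node (.node (.node (.leaf (nat_lit 40913934)) (.leaf (nat_lit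
    529780745))) (.leaf (nat_lit 155864846))) (.node (.leaf (nat_lit 186694407)) (.leaf (nat_lit
    253433101)))) (.node (.node (.node (.leaf (nat_lit 108563463)) (.leaf (nat_lit 468990991)))
    (.leaf (nat_lit 360344846))) (.node (.leaf (nat_lit 204596745)) (.leaf (nat_lit 339445261))))))
    (.node (.node (.node (.node (.node (.leaf (nat_lit 26225678)) (.leaf (nat_lit 518713615)))
    (.leaf (nat_lit 296825099))) (.node (.leaf (nat_lit 138493705)) (.leaf (nat_lit 398131207))))
    (.node (.node (.node (.leaf (nat_lit 68201486)) (.leaf (nat_lit 477899535))) (.leaf (nat_lit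
    349266183))) (.node (.leaf (nat_lit 159500046)) (.leaf (nat_lit 353069575))))) (.node (.node
    (.node (.node (.leaf (nat_lit 57699850)) (.leaf (nat_lit 495191822))) (.leaf (nat_lit
    321546250))) (.node (.leaf (nat_lit 198804746)) (.leaf (nat_lit 336275212)))) (.node (.node
    (.node (.leaf (nat_lit 123268110)) (.leaf (nat_lit 576445199))) (.leaf (nat_lit 377589007)))
    (.node (.leaf (nat_lit 217710856)) (.leaf (nat_lit 487760652)))))))) (.node (.node (.node
    (.node (.node (.node (.node (.leaf (nat_lit 4719886)) (.leaf (nat_lit 502513420))) (.leaf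
    (nat_lit 280561675))) (.node (.leaf (nat_lit 139521806)) (.leaf (nat_lit 387046156)))) (.node
    (.node (.node (.leaf (nat_lit 58229513)) (.leaf (nat_lit 548146954))) (.leaf (nat_lit
    219838733))) (.node (.leaf (nat_lit 216638218)) (.leaf (nat_lit 407584521))))) (.node (.node
    (.node (.node (.leaf (nat_lit 37767182)) (.leaf (nat_lit 527136778))) (.leaf (nat_lit
    306258696))) (.node (.leaf (nat_lit 181974031)) (.leaf (nat_lit 365105162)))) (.node (.node
    (.node (.leaf (nat_lit 104362508)) (.leaf (nat_lit 566453772))) (.leaf (nat_lit 322611982)))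
    (.node (.leaf (nat_lit 202497545)) (.leaf (nat_lit 470449416)))))) (.node (.node (.node (.node
    (.node (.leaf (nat_lit 17312012)) (.leaf (nat_lit 395040780))) (.leaf (nat_lit 292641295)))
    (.node (.leaf (nat_lit 163133199)) (.leaf (nat_lit 399653903)))) (.node (.node (.node (.leaf
    (nat_lit 86025992)) (.leaf (nat_lit 510928647))) (.leaf (nat_lit 345594381))) (.node (.leaf
    (nat_lit 234970378)) (.leaf (nat_lit 453718796))))) (.node (.node (.node (.node (.leaf (nat_lit
    54539023)) (.leaf (nat_lit 534512136))) (.leaf (nat_lit 296902668))) (.node (.leaf (nat_lit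
    197221385)) (.leaf (nat_lit 378217225)))) (.node (.node (.node (.leaf (nat_lit 120619528))
    (.leaf (nat_lit 574843663))) (.leaf (nat_lit 372913419))) (.node (.leaf (nat_lit 185727756))
    (.leaf (nat_lit 483615502))))))) (.node (.node (.node (.node (.node (.node (.leaf (nat_lit
    12585991)) (.leaf (nat_lit 387173133))) (.leaf (nat_lit 147989256))) (.node (.leaf (nat_lit
    151068936)) (.leaf (nat_lit 393397516)))) (.node (.node (.node (.leaf (nat_lit 77091341))
    (.leaf (nat_lit 552345100))) (.leaf (nat_lit 338310415))) (.node (.leaf (nat_lit 172601614))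
    (.leaf (nat_lit 403394825))))) (.node (.node (.node (.node (.leaf (nat_lit 23091213)) (.leaf
    (nat_lit 502527751))) (.leaf (nat_lit 307385354))) (.node (.leaf (nat_lit 191413519)) (.leaf
    (nat_lit 255531533)))) (.node (.node (.node (.leaf (nat_lit 112762378)) (.leaf (nat_lit
    553926664))) (.leaf (nat_lit 199406861))) (.node (.leaf (nat_lit 258075912)) (.leaf (nat_lit
    442207245)))))) (.node (.node (.node (.node (.node (.leaf (nat_lit 28850190)) (.leaf (nat_lit
    472637964))) (.leaf (nat_lit 238697736))) (.node (.leaf (nat_lit 170465546)) (.leaf (nat_lit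
    405418511)))) (.node (.node (.node (.leaf (nat_lit 95991561)) (.leaf (nat_lit 557068297)))
    (.leaf (nat_lit 341483273))) (.node (.leaf (nat_lit 242805259)) (.leaf (nat_lit 462112522)))))
    (.node (.node (.node (.node (.leaf (nat_lit 61370631)) (.leaf (nat_lit 503581706))) (.leaf
    (nat_lit 252341516))) (.node (.leaf (nat_lit 175199240)) (.leaf (nat_lit 334179084)))) (.node
    (.node (.leaf (nat_lit 126939918)) (.leaf (nat_lit 380817418))) (.node (.leaf (nat_lit
    274268684)) (.leaf (nat_lit 492022542))))))))) (.node (.node (.node (.node (.node (.node (.node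
    (.node (.leaf (nat_lit 2098444)) (.leaf (nat_lit 500415246))) (.leaf (nat_lit 278988296)))
    (.node (.leaf (nat_lit 136876299)) (.leaf (nat_lit 294838282)))) (.node (.node (.node (.leaf
    (nat_lit 67126535)) (.leaf (nat_lit 547098890))) (.leaf (nat_lit 229799438))) (.node (.leaf
    (nat_lit 152149769)) (.leaf (nat_lit 434247437))))) (.node (.node (.node (.node (.leaf (nat_lit
    36708103)) (.leaf (nat_lit 518253064))) (.leaf (nat_lit 304178952))) (.node (.leaf (nat_lit
    178303499)) (.leaf (nat_lit 410178826)))) (.node (.node (.node (.leaf (nat_lit 101237006))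
    (.leaf (nat_lit 526136839))) (.leaf (nat_lit 357134088))) (.node (.leaf (nat_lit 248573708))
    (.leaf (nat_lit 333151752)))))) (.node (.node (.node (.node (.node (.leaf (nat_lit 12592141))
    (.leaf (nat_lit 514517005))) (.leaf (nat_lit 239741962))) (.node (.leaf (nat_lit 158413322))
    (.leaf (nat_lit 252901132)))) (.node (.node (.node (.leaf (nat_lit 85499914)) (.leaf (nat_lit
    509879562))) (.leaf (nat_lit 293768969))) (.node (.leaf (nat_lit 232897800)) (.leaf (nat_lit
    452605191))))) (.node (.node (.node (.node (.leaf (nat_lit 43017225)) (.leaf (nat_lit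
    536574215))) (.leaf (nat_lit 317271821))) (.node (.leaf (nat_lit 118060302)) (.leaf (nat_lit
    419635464)))) (.node (.node (.node (.leaf (nat_lit 117498376)) (.leaf (nat_lit 573816584)))
    (.leaf (nat_lit 370852622))) (.node (.leaf (nat_lit 264370185)) (.leaf (nat_lit
    482553870))))))) (.node (.node (.node (.node (.node (.node (.leaf (nat_lit 9442060)) (.leaf
    (nat_lit 385599757))) (.leaf (nat_lit 284234763))) (.node (.leaf (nat_lit 112794383)) (.leaf
    (nat_lit 392337678)))) (.node (.node (.node (.leaf (nat_lit 73420811)) (.leaf (nat_lit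
    551266829))) (.leaf (nat_lit 304775690))) (.node (.leaf (nat_lit 225536522)) (.leaf (nat_lit
    443238414))))) (.node (.node (.node (.node (.leaf (nat_lit 40915724)) (.leaf (nat_lit
    531302668))) (.leaf (nat_lit 311043337))) (.node (.leaf (nat_lit 188284426)) (.leaf (nat_lit
    415359759)))) (.node (.node (.node (.leaf (nat_lit 110145549)) (.leaf (nat_lit 561266189)))
    (.leaf (nat_lit 361854477))) (.node (.leaf (nat_lit 210364683)) (.leaf (nat_lit 474176524))))))
    (.node (.node (.node (.node (.node (.leaf (nat_lit 26227978)) (.leaf (nat_lit 519823372)))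
    (.leaf (nat_lit 298449419))) (.node (.leaf (nat_lit 168362767)) (.leaf (nat_lit 366150415))))
    (.node (.node (.node (.leaf (nat_lit 92844297)) (.leaf (nat_lit 561200908))) (.leaf (nat_lit
    350839304))) (.node (.leaf (nat_lit 240719113)) (.leaf (nat_lit 459954701))))) (.node (.node
    (.node (.node (.leaf (nat_lit 58749447)) (.leaf (nat_lit 541836554))) (.leaf (nat_lit
    324168460))) (.node (.leaf (nat_lit 122259471)) (.leaf (nat_lit 424352010)))) (.node (.node
    (.leaf (nat_lit 125863947)) (.leaf (nat_lit 210424589))) (.node (.leaf (nat_lit 271714056))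
    (.leaf (nat_lit 472098060)))))))) (.node (.node (.node (.node (.node (.node (.node (.leaf
    (nat_lit 6294537)) (.leaf (nat_lit 499893007))) (.leaf (nat_lit 228202759))) (.node (.leaf
    (nat_lit 143693071)) (.leaf (nat_lit 389132551)))) (.node (.node (.node (.leaf (nat_lit
    69764366)) (.leaf (nat_lit 549184520))) (.leaf (nat_lit 328366858))) (.node (.leaf (nat_lit
    218212110)) (.leaf (nat_lit 298009352))))) (.node (.node (.node (.node (.leaf (nat_lit
    34097676)) (.leaf (nat_lit 480505865))) (.leaf (nat_lit 308427272))) (.node (.leaf (nat_lit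
    184094479)) (.leaf (nat_lit 412737551)))) (.node (.node (.node (.leaf (nat_lit 106482446))
    (.leaf (nat_lit 567496975))) (.leaf (nat_lit 359296782))) (.node (.leaf (nat_lit 198304265))
    (.leaf (nat_lit 464749326)))))) (.node (.node (.node (.node (.node (.leaf (nat_lit 24122639))
    (.leaf (nat_lit 517196556))) (.leaf (nat_lit 295245069))) (.node (.leaf (nat_lit 165717771))
    (.leaf (nat_lit 384498696)))) (.node (.node (.node (.leaf (nat_lit 88638990)) (.leaf (nat_lit
    452208911))) (.leaf (nat_lit 334140942))) (.node (.leaf (nat_lit 214024716)) (.leaf (nat_lit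
    401827337))))) (.node (.node (.node (.node (.leaf (nat_lit 55589127)) (.leaf (nat_lit
    539231500))) (.leaf (nat_lit 320943373))) (.node (.leaf (nat_lit 201377035)) (.leaf (nat_lit
    259728653)))) (.node (.node (.node (.leaf (nat_lit 121694478)) (.leaf (nat_lit 575895308)))
    (.leaf (nat_lit 375048973))) (.node (.leaf (nat_lit 266979853)) (.leaf (nat_lit
    402890255))))))) (.node (.node (.node (.node (.node (.node (.leaf (nat_lit 15207948)) (.leaf
    (nat_lit 510906124))) (.leaf (nat_lit 288427531))) (.node (.leaf (nat_lit 151070729)) (.leaf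
    (nat_lit 394899981)))) (.node (.node (.node (.leaf (nat_lit 79713287)) (.leaf (nat_lit
    553880074))) (.leaf (nat_lit 242911246))) (.node (.leaf (nat_lit 228701961)) (.leaf (nat_lit
    447884047))))) (.node (.node (.node (.node (.leaf (nat_lit 48254216)) (.leaf (nat_lit
    523500046))) (.leaf (nat_lit 314141449))) (.node (.leaf (nat_lit 163672073)) (.leaf (nat_lit
    417514255)))) (.node (.node (.node (.leaf (nat_lit 114335239)) (.leaf (nat_lit 567558668)))
    (.leaf (nat_lit 366109192))) (.node (.leaf (nat_lit 206696457)) (.leaf (nat_lit 466325769))))))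
    (.node (.node (.node (.node (.node (.leaf (nat_lit 17841675)) (.leaf (nat_lit 522970636)))
    (.leaf (nat_lit 277495309))) (.node (.leaf (nat_lit 173059599)) (.leaf (nat_lit 406967821))))
    (.node (.node (.node (.leaf (nat_lit 97565191)) (.leaf (nat_lit 563328776))) (.leaf (nat_lit
    353987341))) (.node (.leaf (nat_lit 235524622)) (.leaf (nat_lit 399209992))))) (.node (.node
    (.node (.node (.leaf (nat_lit 63454479)) (.leaf (nat_lit 544473103))) (.leaf (nat_lit
    327249423))) (.node (.leaf (nat_lit 212437774)) (.leaf (nat_lit 428474887)))) (.node (.node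
    (.leaf (nat_lit 105444879)) (.leaf (nat_lit 383358471))) (.node (.leaf (nat_lit 275856904))
    (.leaf (nat_lit 489926671))))))))))))) (.node (.node (.node (.node (.node (.node (.node (.node
    (.node (.node (.node (.node (.leaf (nat_lit 9)) (.leaf (nat_lit 496157451))) (.leaf (nat_lit
    275881487))) (.node (.leaf (nat_lit 107542281)) (.leaf (nat_lit 346217230)))) (.node (.node
    (.node (.leaf (nat_lit 63979527)) (.leaf (nat_lit 499912457))) (.leaf (nat_lit 324169998)))
    (.node (.leaf (nat_lit 212952846)) (.leaf (nat_lit 428552712))))) (.node (.node (.node (.node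
    (.leaf (nat_lit 32521992)) (.leaf (nat_lit 523474959))) (.leaf (nat_lit 262291214))) (.node
    (.leaf (nat_lit 173584141)) (.leaf (nat_lit 388171790)))) (.node (.node (.node (.leaf (nat_lit
    96516873)) (.leaf (nat_lit 445919756))) (.leaf (nat_lit 335193096))) (.node (.leaf (nat_lit
    244903176)) (.leaf (nat_lit 455833099)))))) (.node (.node (.node (.node (.node (.leaf (nat_lit
    14687502)) (.leaf (nat_lit 511390223))) (.leaf (nat_lit 285353481))) (.node (.leaf (nat_lit
    136915213)) (.leaf (nat_lit 395424271)))) (.node (.node (.node (.leaf (nat_lit 80237576))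
    (.leaf (nat_lit 554382095))) (.leaf (nat_lit 218269711))) (.node (.leaf (nat_lit 230268429))
    (.leaf (nat_lit 382949127))))) (.node (.node (.node (.node (.leaf (nat_lit 44064009)) (.leaf
    (nat_lit 509868557))) (.leaf (nat_lit 314649356))) (.node (.leaf (nat_lit 163672072)) (.leaf
    (nat_lit 379264265)))) (.node (.node (.node (.leaf (nat_lit 114856202)) (.leaf (nat_lit
    571724813))) (.leaf (nat_lit 271235852))) (.node (.leaf (nat_lit 260634381)) (.leaf (nat_lit
    461607434))))))) (.node (.node (.node (.node (.node (.node (.leaf (nat_lit 6294796)) (.leaf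
    (nat_lit 506124300))) (.leaf (nat_lit 247077385))) (.node (.leaf (nat_lit 137958157)) (.leaf
    (nat_lit 389653517)))) (.node (.node (.node (.leaf (nat_lit 65046029)) (.leaf (nat_lit
    549169165))) (.leaf (nat_lit 333530893))) (.node (.leaf (nat_lit 174172174)) (.leaf (nat_lit
    437992462))))) (.node (.node (.node (.node (.leaf (nat_lit 29379337)) (.leaf (nat_lit
    528733965))) (.leaf (nat_lit 242895885))) (.node (.leaf (nat_lit 185120780)) (.leaf (nat_lit
    412816141)))) (.node (.node (.node (.leaf (nat_lit 102288399)) (.leaf (nat_lit 556546823)))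
    (.leaf (nat_lit 200977676))) (.node (.leaf (nat_lit 199353097)) (.leaf (nat_lit 471565320))))))
    (.node (.node (.node (.node (.node (.leaf (nat_lit 25171213)) (.leaf (nat_lit 516676359)))
    (.leaf (nat_lit 160576519))) (.node (.leaf (nat_lit 152124431)) (.leaf (nat_lit 398130447))))
    (.node (.node (.node (.leaf (nat_lit 89172494)) (.leaf (nat_lit 553921033))) (.leaf (nat_lit
    279090956))) (.node (.leaf (nat_lit 237561099)) (.leaf (nat_lit 456806413))))) (.node (.node
    (.node (.node (.leaf (nat_lit 56112909)) (.leaf (nat_lit 539754250))) (.leaf (nat_lit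
    321467911))) (.node (.leaf (nat_lit 176783374)) (.leaf (nat_lit 422257935)))) (.node (.node
    (.node (.leaf (nat_lit 122218765)) (.leaf (nat_lit 552356366))) (.leaf (nat_lit 208325645)))
    (.node (.leaf (nat_lit 218234375)) (.leaf (nat_lit 485728012)))))))) (.node (.node (.node
    (.node (.node (.node (.node (.leaf (nat_lit 3671817)) (.leaf (nat_lit 500415497))) (.leaf
    (nat_lit 279027983))) (.node (.leaf (nat_lit 137925127)) (.leaf (nat_lit 385990924)))) (.node
    (.node (.node (.leaf (nat_lit 51413006)) (.leaf (nat_lit 547075855))) (.leaf (nat_lit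
    170030600))) (.node (.leaf (nat_lit 175218445)) (.leaf (nat_lit 342572041))))) (.node (.node
    (.node (.node (.leaf (nat_lit 36716810)) (.leaf (nat_lit 526057227))) (.leaf (nat_lit
    304685324))) (.node (.leaf (nat_lit 178827788)) (.leaf (nat_lit 369823245)))) (.node (.node
    (.node (.leaf (nat_lit 58245645)) (.leaf (nat_lit 453260815))) (.leaf (nat_lit 322087178)))
    (.node (.leaf (nat_lit 249097999)) (.leaf (nat_lit 468931086)))))) (.node (.node (.node (.node
    (.node (.leaf (nat_lit 19403016)) (.leaf (nat_lit 429643017))) (.leaf (nat_lit 291574540)))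
    (.node (.leaf (nat_lit 160510732)) (.leaf (nat_lit 271251465)))) (.node (.node (.node (.leaf
    (nat_lit 86006285)) (.leaf (nat_lit 557005071))) (.leaf (nat_lit 343528202))) (.node (.leaf
    (nat_lit 233890059)) (.leaf (nat_lit 296967949))))) (.node (.node (.node (.node (.leaf (nat_lit
    52967432)) (.leaf (nat_lit 537109256))) (.leaf (nat_lit 317802248))) (.node (.leaf (nat_lit
    150042123)) (.leaf (nat_lit 376119562)))) (.node (.node (.node (.leaf (nat_lit 119046412))
    (.leaf (nat_lit 573809165))) (.leaf (nat_lit 204653581))) (.node (.leaf (nat_lit 264829192))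
    (.leaf (nat_lit 473143308))))))) (.node (.node (.node (.node (.node (.node (.leaf (nat_lit
    10488335)) (.leaf (nat_lit 508270348))) (.leaf (nat_lit 274866186))) (.node (.leaf (nat_lit
    148937741)) (.leaf (nat_lit 392316682)))) (.node (.node (.node (.leaf (nat_lit 73960713))
    (.leaf (nat_lit 551793928))) (.leaf (nat_lit 337280526))) (.node (.leaf (nat_lit 225554184))
    (.leaf (nat_lit 440094217))))) (.node (.node (.node (.node (.leaf (nat_lit 43013132)) (.leaf
    (nat_lit 441709838))) (.leaf (nat_lit 311502863))) (.node (.leaf (nat_lit 134309895)) (.leaf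
    (nat_lit 415437578)))) (.node (.node (.node (.leaf (nat_lit 83415818)) (.leaf (nat_lit
    568082188))) (.leaf (nat_lit 361918988))) (.node (.leaf (nat_lit 210364937)) (.leaf (nat_lit
    397641999)))))) (.node (.node (.node (.node (.node (.leaf (nat_lit 22557964)) (.leaf (nat_lit
    520329999))) (.leaf (nat_lit 175258126))) (.node (.leaf (nat_lit 139018761)) (.leaf (nat_lit
    387646219)))) (.node (.node (.node (.leaf (nat_lit 93348623)) (.leaf (nat_lit 548679175)))
    (.leaf (nat_lit 270703882))) (.node (.leaf (nat_lit 241231887)) (.leaf (nat_lit 319515913)))))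
    (.node (.node (.node (.node (.leaf (nat_lit 60307980)) (.leaf (nat_lit 542317067))) (.leaf
    (nat_lit 324692749))) (.node (.leaf (nat_lit 207145224)) (.leaf (nat_lit 424356360)))) (.node
    (.node (.leaf (nat_lit 103870479)) (.leaf (nat_lit 210949133))) (.node (.leaf (nat_lit
    272695051)) (.leaf (nat_lit 478389768))))))))) (.node (.node (.node (.node (.node (.node (.node
    (.node (.leaf (nat_lit 1573646)) (.leaf (nat_lit 490452745))) (.leaf (nat_lit 276934411)))
    (.node (.leaf (nat_lit 132709900)) (.leaf (nat_lit 384932621)))) (.node (.node (.node (.leaf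
    (nat_lit 65557258)) (.leaf (nat_lit 476844295))) (.leaf (nat_lit 329364745))) (.node (.leaf
    (nat_lit 215535628)) (.leaf (nat_lit 432148999))))) (.node (.node (.node (.node (.leaf (nat_lit
    24658702)) (.leaf (nat_lit 524525836))) (.leaf (nat_lit 303133959))) (.node (.leaf (nat_lit
    175197964)) (.leaf (nat_lit 373492750)))) (.node (.node (.node (.leaf (nat_lit 59817735))
    (.leaf (nat_lit 564394506))) (.leaf (nat_lit 355641096))) (.node (.leaf (nat_lit 228185614))
    (.leaf (nat_lit 466843403)))))) (.node (.node (.node (.node (.node (.leaf (nat_lit 15737097))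
    (.leaf (nat_lit 467915273))) (.leaf (nat_lit 290038282))) (.node (.leaf (nat_lit 158376203))
    (.leaf (nat_lit 396549128)))) (.node (.node (.node (.leaf (nat_lit 83908878)) (.leaf (nat_lit
    555477770))) (.leaf (nat_lit 341398797))) (.node (.leaf (nat_lit 161069575)) (.leaf (nat_lit
    451031309))))) (.node (.node (.node (.node (.leaf (nat_lit 50877966)) (.leaf (nat_lit
    535035148))) (.leaf (nat_lit 295852555))) (.node (.leaf (nat_lit 165245706)) (.leaf (nat_lit
    419108872)))) (.node (.node (.node (.leaf (nat_lit 117473292)) (.leaf (nat_lit 572749068)))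
    (.leaf (nat_lit 369197320))) (.node (.leaf (nat_lit 262731783)) (.leaf (nat_lit
    481465357))))))) (.node (.node (.node (.node (.node (.node (.leaf (nat_lit 8392714)) (.leaf
    (nat_lit 401327879))) (.leaf (nat_lit 283708172))) (.node (.leaf (nat_lit 146839564)) (.leaf
    (nat_lit 268102153)))) (.node (.node (.node (.leaf (nat_lit 71862543)) (.leaf (nat_lit
    542906894))) (.leaf (nat_lit 333610763))) (.node (.leaf (nat_lit 224450831)) (.leaf (nat_lit
    441065992))))) (.node (.node (.node (.node (.leaf (nat_lit 40914697)) (.leaf (nat_lit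
    530253836))) (.leaf (nat_lit 309964807))) (.node (.leaf (nat_lit 186724362)) (.leaf (nat_lit
    413841423)))) (.node (.node (.node (.leaf (nat_lit 109082383)) (.leaf (nat_lit 559693065)))
    (.leaf (nat_lit 200453900))) (.node (.leaf (nat_lit 254927116)) (.leaf (nat_lit 473598477))))))
    (.node (.node (.node (.node (.node (.leaf (nat_lit 26744333)) (.leaf (nat_lit 518760455)))
    (.leaf (nat_lit 249706251))) (.node (.leaf (nat_lit 167293706)) (.leaf (nat_lit 403294477))))
    (.node (.node (.node (.leaf (nat_lit 73968903)) (.leaf (nat_lit 557591561))) (.leaf (nat_lit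
    349283084))) (.node (.leaf (nat_lit 239187976)) (.leaf (nat_lit 458445322))))) (.node (.node
    (.node (.node (.leaf (nat_lit 52981511)) (.leaf (nat_lit 540798471))) (.leaf (nat_lit
    253913103))) (.node (.leaf (nat_lit 204047880)) (.leaf (nat_lit 423751439)))) (.node (.node
    (.leaf (nat_lit 82897927)) (.leaf (nat_lit 375573519))) (.node (.leaf (nat_lit 149553420))
    (.leaf (nat_lit 487821575)))))))) (.node (.node (.node (.node (.node (.node (.node (.leaf
    (nat_lit 2623756)) (.leaf (nat_lit 503032077))) (.leaf (nat_lit 179443463))) (.node (.leaf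
    (nat_lit 140028935)) (.leaf (nat_lit 312140559)))) (.node (.node (.node (.leaf (nat_lit
    68703754)) (.leaf (nat_lit 462689543))) (.leaf (nat_lit 331992335))) (.node (.leaf (nat_lit
    162112519)) (.leaf (nat_lit 340475912))))) (.node (.node (.node (.node (.leaf (nat_lit
    38281223)) (.leaf (nat_lit 486796812))) (.leaf (nat_lit 306275340))) (.node (.leaf (nat_lit
    182013194)) (.leaf (nat_lit 365105417)))) (.node (.node (.node (.leaf (nat_lit 104887053))
    (.leaf (nat_lit 536099079))) (.leaf (nat_lit 358263565))) (.node (.leaf (nat_lit 199876361))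
    (.leaf (nat_lit 334725389)))))) (.node (.node (.node (.node (.node (.leaf (nat_lit 22030858))
    (.leaf (nat_lit 393468167))) (.leaf (nat_lit 213528584))) (.node (.leaf (nat_lit 164144651))
    (.leaf (nat_lit 400146439)))) (.node (.node (.node (.leaf (nat_lit 87598858)) (.leaf (nat_lit
    558054156))) (.leaf (nat_lit 346118923))) (.node (.leaf (nat_lit 235463687)) (.leaf (nat_lit
    454706952))))) (.node (.node (.node (.node (.leaf (nat_lit 46688266)) (.leaf (nat_lit
    538182412))) (.leaf (nat_lit 318859530))) (.node (.leaf (nat_lit 197706255)) (.leaf (nat_lit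
    421189133)))) (.node (.node (.node (.leaf (nat_lit 121144077)) (.leaf (nat_lit 574870023)))
    (.leaf (nat_lit 206751757))) (.node (.leaf (nat_lit 263846669)) (.leaf (nat_lit
    482056969))))))) (.node (.node (.node (.node (.node (.node (.leaf (nat_lit 12589320)) (.leaf
    (nat_lit 509319692))) (.leaf (nat_lit 287378703))) (.node (.leaf (nat_lit 152607756)) (.leaf
    (nat_lit 302182153)))) (.node (.node (.node (.leaf (nat_lit 77102859)) (.leaf (nat_lit
    552840455))) (.leaf (nat_lit 338776071))) (.node (.leaf (nat_lit 176796167)) (.leaf (nat_lit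
    445786637))))) (.node (.node (.node (.node (.leaf (nat_lit 47197199)) (.leaf (nat_lit
    532875788))) (.leaf (nat_lit 312628488))) (.node (.leaf (nat_lit 191450382)) (.leaf (nat_lit
    371923721)))) (.node (.node (.node (.leaf (nat_lit 91805706)) (.leaf (nat_lit 571166988)))
    (.leaf (nat_lit 364477455))) (.node (.leaf (nat_lit 258576910)) (.leaf (nat_lit 406556168))))))
    (.node (.node (.node (.node (.node (.leaf (nat_lit 30415119)) (.leaf (nat_lit 408675087)))
    (.leaf (nat_lit 187317514))) (.node (.leaf (nat_lit 170961675)) (.leaf (nat_lit 405917965))))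
    (.node (.node (.node (.leaf (nat_lit 96495119)) (.leaf (nat_lit 562302472))) (.leaf (nat_lit
    273326087))) (.node (.leaf (nat_lit 243329548)) (.leaf (nat_lit 447443469))))) (.node (.node
    (.node (.node (.leaf (nat_lit 61881357)) (.leaf (nat_lit 526126088))) (.leaf (nat_lit
    250768908))) (.node (.leaf (nat_lit 201953294)) (.leaf (nat_lit 262876173)))) (.node (.node
    (.leaf (nat_lit 127961611)) (.leaf (nat_lit 381343502))) (.node (.leaf (nat_lit 184683278))
    (.leaf (nat_lit 492022793)))))))))) (.node (.node (.node (.node (.node (.node (.node (.node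
    (.node (.leaf (nat_lit 1048846)) (.leaf (nat_lit 449557511))) (.leaf (nat_lit 174722829)))
    (.node (.leaf (nat_lit 131108366)) (.leaf (nat_lit 383894536)))) (.node (.node (.node (.leaf
    (nat_lit 46168842)) (.leaf (nat_lit 529797128))) (.leaf (nat_lit 297956111))) (.node (.leaf
    (nat_lit 213962759)) (.leaf (nat_lit 352531719))))) (.node (.node (.node (.node (.leaf (nat_lit
    18366732)) (.leaf (nat_lit 524000271))) (.leaf (nat_lit 300040457))) (.node (.leaf (nat_lit
    159468557)) (.leaf (nat_lit 319490574)))) (.node (.node (.node (.leaf (nat_lit 84983053))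
    (.leaf (nat_lit 563852296))) (.leaf (nat_lit 355560967))) (.node (.leaf (nat_lit 242865160))
    (.leaf (nat_lit 465723659)))))) (.node (.node (.node (.node (.node (.leaf (nat_lit 14688009))
    (.leaf (nat_lit 394514696))) (.leaf (nat_lit 143271950))) (.node (.leaf (nat_lit 111750157))
    (.leaf (nat_lit 378729223)))) (.node (.node (.node (.leaf (nat_lit 80780046)) (.leaf (nat_lit
    553394702))) (.leaf (nat_lit 340873739))) (.node (.leaf (nat_lit 231285770)) (.leaf (nat_lit
    403395599))))) (.node (.node (.node (.node (.leaf (nat_lit 49831694)) (.leaf (nat_lit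
    534973451))) (.leaf (nat_lit 273832204))) (.node (.leaf (nat_lit 194081289)) (.leaf (nat_lit
    418563335)))) (.node (.node (.node (.leaf (nat_lit 101244425)) (.leaf (nat_lit 572239367)))
    (.leaf (nat_lit 365607183))) (.node (.leaf (nat_lit 261197324)) (.leaf (nat_lit
    479958028))))))) (.node (.node (.node (.node (.node (.node (.leaf (nat_lit 7343626)) (.leaf
    (nat_lit 489408009))) (.leaf (nat_lit 282702345))) (.node (.leaf (nat_lit 145266443)) (.leaf
    (nat_lit 390241036)))) (.node (.node (.node (.leaf (nat_lit 71322637)) (.leaf (nat_lit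
    549722382))) (.leaf (nat_lit 320503305))) (.node (.leaf (nat_lit 136948233)) (.leaf (nat_lit
    341526279))))) (.node (.node (.node (.node (.leaf (nat_lit 40385546)) (.leaf (nat_lit
    529236492))) (.leaf (nat_lit 309470220))) (.node (.leaf (nat_lit 186169871)) (.leaf (nat_lit
    413318412)))) (.node (.node (.node (.leaf (nat_lit 108043021)) (.leaf (nat_lit 515128330)))
    (.leaf (nat_lit 360280584))) (.node (.leaf (nat_lit 253878284)) (.leaf (nat_lit 472600075))))))
    (.node (.node (.node (.node (.node (.leaf (nat_lit 25696267)) (.leaf (nat_lit 516152332)))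
    (.leaf (nat_lit 296325899))) (.node (.leaf (nat_lit 166779662)) (.leaf (nat_lit 402245133))))
    (.node (.node (.node (.leaf (nat_lit 78687241)) (.leaf (nat_lit 510405388))) (.leaf (nat_lit
    348240135))) (.node (.leaf (nat_lit 238609679)) (.leaf (nat_lit 313223437))))) (.node (.node
    (.node (.node (.leaf (nat_lit 56651016)) (.leaf (nat_lit 540248840))) (.leaf (nat_lit
    322037263))) (.node (.leaf (nat_lit 202474248)) (.leaf (nat_lit 423226895)))) (.node (.node
    (.node (.leaf (nat_lit 121694985)) (.leaf (nat_lit 565463817))) (.leaf (nat_lit 331533838)))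
    (.node (.leaf (nat_lit 217710606)) (.leaf (nat_lit 387686664)))))))) (.node (.node (.node
    (.node (.node (.node (.node (.leaf (nat_lit 2099215)) (.leaf (nat_lit 502453003))) (.leaf
    (nat_lit 238163465))) (.node (.leaf (nat_lit 124848394)) (.leaf (nat_lit 320528904)))) (.node
    (.node (.node (.leaf (nat_lit 68175119)) (.leaf (nat_lit 547621133))) (.leaf (nat_lit
    257587211))) (.node (.leaf (nat_lit 219206668)) (.leaf (nat_lit 408108553))))) (.node (.node
    (.node (.node (.leaf (nat_lit 37233676)) (.leaf (nat_lit 526600968))) (.leaf (nat_lit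
    305246222))) (.node (.leaf (nat_lit 180925451)) (.leaf (nat_lit 411164423)))) (.node (.node
    (.node (.leaf (nat_lit 89703689)) (.leaf (nat_lit 566446605))) (.leaf (nat_lit 357658895)))
    (.node (.leaf (nat_lit 198302734)) (.leaf (nat_lit 407076871)))))) (.node (.node (.node (.node
    (.node (.leaf (nat_lit 12592907)) (.leaf (nat_lit 515565836))) (.leaf (nat_lit 179973641)))
    (.node (.leaf (nat_lit 147928330)) (.leaf (nat_lit 399170059)))) (.node (.node (.node (.leaf
    (nat_lit 71869959)) (.leaf (nat_lit 557529612))) (.leaf (nat_lit 344545292))) (.node (.leaf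
    (nat_lit 152682249)) (.leaf (nat_lit 453657613))))) (.node (.node (.node (.node (.leaf (nat_lit
    53503752)) (.leaf (nat_lit 538120459))) (.leaf (nat_lit 312631054))) (.node (.leaf (nat_lit
    130119435)) (.leaf (nat_lit 382411272)))) (.node (.node (.node (.leaf (nat_lit 109110281))
    (.leaf (nat_lit 574354698))) (.leaf (nat_lit 372869133))) (.node (.leaf (nat_lit 221379079))
    (.leaf (nat_lit 483563784))))))) (.node (.node (.node (.node (.node (.node (.leaf (nat_lit
    11539210)) (.leaf (nat_lit 508781068))) (.leaf (nat_lit 285806855))) (.node (.leaf (nat_lit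
    150510606)) (.leaf (nat_lit 312667404)))) (.node (.node (.node (.leaf (nat_lit 76042511))
    (.leaf (nat_lit 552293897))) (.leaf (nat_lit 241337356))) (.node (.leaf (nat_lit 169455631))
    (.leaf (nat_lit 388190217))))) (.node (.node (.node (.node (.leaf (nat_lit 22566669)) (.leaf
    (nat_lit 430700044))) (.leaf (nat_lit 244994574))) (.node (.leaf (nat_lit 190364939)) (.leaf
    (nat_lit 415963406)))) (.node (.node (.node (.leaf (nat_lit 112234253)) (.leaf (nat_lit
    570642699))) (.leaf (nat_lit 198357772))) (.node (.leaf (nat_lit 208792585)) (.leaf (nat_lit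
    437488396)))))) (.node (.node (.node (.node (.node (.leaf (nat_lit 28841739)) (.leaf (nat_lit
    401334792))) (.leaf (nat_lit 299965197))) (.node (.leaf (nat_lit 169427982)) (.leaf (nat_lit
    405393416)))) (.node (.node (.node (.leaf (nat_lit 57718023)) (.leaf (nat_lit 525086472)))
    (.leaf (nat_lit 351406350))) (.node (.leaf (nat_lit 241815048)) (.leaf (nat_lit 461527823)))))
    (.node (.node (.node (.node (.leaf (nat_lit 61356812)) (.leaf (nat_lit 542884618))) (.leaf
    (nat_lit 325217544))) (.node (.leaf (nat_lit 130649867)) (.leaf (nat_lit 425375240)))) (.node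
    (.node (.leaf (nat_lit 125891082)) (.leaf (nat_lit 380735759))) (.node (.leaf (nat_lit
    273743879)) (.leaf (nat_lit 478914823))))))))) (.node (.node (.node (.node (.node (.node (.node
    (.node (.leaf (nat_lit 3147274)) (.leaf (nat_lit 500354059))) (.leaf (nat_lit 277462799)))
    (.node (.leaf (nat_lit 131138058)) (.leaf (nat_lit 385463308)))) (.node (.node (.node (.leaf
    (nat_lit 66601997)) (.leaf (nat_lit 546574351))) (.leaf (nat_lit 329859847))) (.node (.leaf
    (nat_lit 216608015)) (.leaf (nat_lit 389757449))))) (.node (.node (.node (.node (.leaf (nat_lit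
    36183821)) (.leaf (nat_lit 476834061))) (.leaf (nat_lit 214057738))) (.node (.leaf (nat_lit
    132207113)) (.leaf (nat_lit 409668879)))) (.node (.node (.node (.leaf (nat_lit 100712458))
    (.leaf (nat_lit 463746317))) (.leaf (nat_lit 323135502))) (.node (.leaf (nat_lit 247571214))
    (.leaf (nat_lit 386628872)))))) (.node (.node (.node (.node (.node (.leaf (nat_lit 18354184))
    (.leaf (nat_lit 513992463))) (.leaf (nat_lit 290537227))) (.node (.leaf (nat_lit 159949576))
    (.leaf (nat_lit 397566474)))) (.node (.node (.node (.leaf (nat_lit 84451849)) (.leaf (nat_lit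
    535045128))) (.leaf (nat_lit 342447629))) (.node (.leaf (nat_lit 217168905)) (.leaf (nat_lit
    452080391))))) (.node (.node (.node (.node (.leaf (nat_lit 51405576)) (.leaf (nat_lit
    536068365))) (.leaf (nat_lit 316284682))) (.node (.leaf (nat_lit 136934415)) (.leaf (nat_lit
    258154509)))) (.node (.node (.node (.leaf (nat_lit 118004746)) (.leaf (nat_lit 573276172)))
    (.leaf (nat_lit 370305800))) (.node (.leaf (nat_lit 245495566)) (.leaf (nat_lit
    482050570))))))) (.node (.node (.node (.node (.node (.node (.leaf (nat_lit 8917258)) (.leaf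
    (nat_lit 451659785))) (.leaf (nat_lit 284232713))) (.node (.leaf (nat_lit 141105672)) (.leaf
    (nat_lit 382921486)))) (.node (.node (.node (.leaf (nat_lit 60852999)) (.leaf (nat_lit
    542907145))) (.leaf (nat_lit 336154381))) (.node (.leaf (nat_lit 224976396)) (.leaf (nat_lit
    443163661))))) (.node (.node (.node (.node (.leaf (nat_lit 41963784)) (.leaf (nat_lit
    442233870))) (.leaf (nat_lit 247615752))) (.node (.leaf (nat_lit 152135176)) (.leaf (nat_lit
    364058377)))) (.node (.node (.node (.leaf (nat_lit 109629964)) (.leaf (nat_lit 556023305)))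
    (.leaf (nat_lit 361329677))) (.node (.leaf (nat_lit 209840137)) (.leaf (nat_lit 474123015))))))
    (.node (.node (.node (.node (.node (.leaf (nat_lit 27269900)) (.leaf (nat_lit 519762699)))
    (.leaf (nat_lit 182073607))) (.node (.leaf (nat_lit 168339719)) (.leaf (nat_lit 403878410))))
    (.node (.node (.node (.leaf (nat_lit 73445386)) (.leaf (nat_lit 560731400))) (.leaf (nat_lit
    350315021))) (.node (.leaf (nat_lit 240197902)) (.leaf (nat_lit 459430157))))) (.node (.node
    (.node (.node (.leaf (nat_lit 58224910)) (.leaf (nat_lit 496240653))) (.leaf (nat_lit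
    324089867))) (.node (.leaf (nat_lit 205572108)) (.leaf (nat_lit 421210123)))) (.node (.node
    (.leaf (nat_lit 115404302)) (.leaf (nat_lit 331010569))) (.node (.leaf (nat_lit 216663051))
    (.leaf (nat_lit 488850442)))))))) (.node (.node (.node (.node (.node (.node (.node (.leaf
    (nat_lit 2624269)) (.leaf (nat_lit 504611596))) (.leaf (nat_lit 181540872))) (.node (.leaf
    (nat_lit 120655626)) (.leaf (nat_lit 388669710)))) (.node (.node (.node (.leaf (nat_lit
    69748744)) (.leaf (nat_lit 549135884))) (.leaf (nat_lit 332531720))) (.node (.leaf (nat_lit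
    155297293)) (.leaf (nat_lit 402866695))))) (.node (.node (.node (.node (.leaf (nat_lit
    38291977)) (.leaf (nat_lit 528204552))) (.leaf (nat_lit 308356107))) (.node (.leaf (nat_lit
    183547911)) (.leaf (nat_lit 301666828)))) (.node (.node (.node (.leaf (nat_lit 106460429))
    (.leaf (nat_lit 567495690))) (.leaf (nat_lit 359231752))) (.node (.leaf (nat_lit 251781384))
    (.leaf (nat_lit 471032334)))))) (.node (.node (.node (.node (.node (.leaf (nat_lit 23598087))
    (.leaf (nat_lit 456907271))) (.leaf (nat_lit 281686287))) (.node (.leaf (nat_lit 165193231))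
    (.leaf (nat_lit 400670987)))) (.node (.node (.node (.leaf (nat_lit 77113609)) (.leaf (nat_lit
    474753290))) (.leaf (nat_lit 299537674))) (.node (.leaf (nat_lit 184140301)) (.leaf (nat_lit
    455304456))))) (.node (.node (.node (.node (.leaf (nat_lit 55588364)) (.leaf (nat_lit
    539229705))) (.leaf (nat_lit 272261899))) (.node (.leaf (nat_lit 199803917)) (.leaf (nat_lit
    377693191)))) (.node (.node (.node (.leaf (nat_lit 112781319)) (.leaf (nat_lit 564414734)))
    (.leaf (nat_lit 374490891))) (.node (.leaf (nat_lit 217185548)) (.leaf (nat_lit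
    438541326))))))) (.node (.node (.node (.node (.node (.node (.leaf (nat_lit 13638409)) (.leaf
    (nat_lit 486264334))) (.leaf (nat_lit 249177351))) (.node (.leaf (nat_lit 104932879)) (.leaf
    (nat_lit 394416906)))) (.node (.node (.node (.leaf (nat_lit 78675727)) (.leaf (nat_lit
    553344779))) (.leaf (nat_lit 338855692))) (.node (.leaf (nat_lit 229212168)) (.leaf (nat_lit
    437474058))))) (.node (.node (.node (.node (.leaf (nat_lit 47733519)) (.leaf (nat_lit
    519829769))) (.leaf (nat_lit 313677319))) (.node (.leaf (nat_lit 192507657)) (.leaf (nat_lit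
    417458183)))) (.node (.node (.node (.leaf (nat_lit 113826316)) (.leaf (nat_lit 571187981)))
    (.leaf (nat_lit 366050571))) (.node (.leaf (nat_lit 256503566)) (.leaf (nat_lit 450596874))))))
    (.node (.node (.node (.node (.node (.leaf (nat_lit 19938570)) (.leaf (nat_lit 485221641)))
    (.leaf (nat_lit 187842062))) (.node (.leaf (nat_lit 172038413)) (.leaf (nat_lit 406494986))))
    (.node (.node (.node (.leaf (nat_lit 97543948)) (.leaf (nat_lit 519844103))) (.leaf (nat_lit
    289055246))) (.node (.leaf (nat_lit 213504268)) (.leaf (nat_lit 408646920))))) (.node (.node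
    (.node (.node (.leaf (nat_lit 62930184)) (.leaf (nat_lit 543949583))) (.leaf (nat_lit
    251817740))) (.node (.leaf (nat_lit 211864839)) (.leaf (nat_lit 264973837)))) (.node (.node
    (.leaf (nat_lit 128503050)) (.leaf (nat_lit 374528270))) (.node (.leaf (nat_lit 234491143))
    (.leaf (nat_lit 494583564))))))))))) (.node (.node (.node (.node (.node (.node (.node (.node
    (.node (.node (.leaf (nat_lit 14)) (.leaf (nat_lit 496218892))) (.leaf (nat_lit 187305742)))
    (.node (.leaf (nat_lit 130059279)) (.leaf (nat_lit 313187084)))) (.node (.node (.node (.leaf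
    (nat_lit 64503816)) (.leaf (nat_lit 544977679))) (.leaf (nat_lit 328304908))) (.node (.leaf
    (nat_lit 196712201)) (.leaf (nat_lit 430048520))))) (.node (.node (.node (.node (.leaf (nat_lit
    33570826)) (.leaf (nat_lit 448521993))) (.leaf (nat_lit 302095627))) (.node (.leaf (nat_lit
    173585679)) (.leaf (nat_lit 286460174)))) (.node (.node (.node (.leaf (nat_lit 84458510))
    (.leaf (nat_lit 488911628))) (.leaf (nat_lit 285385998))) (.node (.leaf (nat_lit 244960523))
    (.leaf (nat_lit 354645769)))))) (.node (.node (.node (.node (.node (.leaf (nat_lit 15733774))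
    (.leaf (nat_lit 465817613))) (.leaf (nat_lit 275392265))) (.node (.leaf (nat_lit 111225613))
    (.leaf (nat_lit 395431435)))) (.node (.node (.node (.leaf (nat_lit 80762635)) (.leaf (nat_lit
    487858442))) (.leaf (nat_lit 333613327))) (.node (.leaf (nat_lit 153729038)) (.leaf (nat_lit
    343103497))))) (.node (.node (.node (.node (.leaf (nat_lit 44588553)) (.leaf (nat_lit
    488373001))) (.leaf (nat_lit 314665736))) (.node (.leaf (nat_lit 193556745)) (.leaf (nat_lit
    418041103)))) (.node (.node (.node (.leaf (nat_lit 115399945)) (.leaf (nat_lit 558121737)))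
    (.leaf (nat_lit 367623951))) (.node (.leaf (nat_lit 261158663)) (.leaf (nat_lit
    407081743))))))) (.node (.node (.node (.node (.node (.node (.leaf (nat_lit 6819085)) (.leaf
    (nat_lit 506162951))) (.leaf (nat_lit 229251591))) (.node (.leaf (nat_lit 140055561)) (.leaf
    (nat_lit 271771657)))) (.node (.node (.node (.leaf (nat_lit 57706249)) (.leaf (nat_lit
    495196173))) (.leaf (nat_lit 334055693))) (.node (.leaf (nat_lit 191473930)) (.leaf (nat_lit
    439492367))))) (.node (.node (.node (.node (.leaf (nat_lit 39854607)) (.leaf (nat_lit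
    508293385))) (.leaf (nat_lit 218779143))) (.node (.leaf (nat_lit 185645327)) (.leaf (nat_lit
    413262095)))) (.node (.node (.node (.leaf (nat_lit 108033803)) (.leaf (nat_lit 568080398)))
    (.leaf (nat_lit 325234186))) (.node (.leaf (nat_lit 253817352)) (.leaf (nat_lit 472548615))))))
    (.node (.node (.node (.node (.node (.leaf (nat_lit 25695495)) (.leaf (nat_lit 517702922)))
    (.leaf (nat_lit 295819791))) (.node (.leaf (nat_lit 166270986)) (.leaf (nat_lit 271252747))))
    (.node (.node (.node (.leaf (nat_lit 50899725)) (.leaf (nat_lit 559114255))) (.leaf (nat_lit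
    316839948))) (.node (.leaf (nat_lit 238085388)) (.leaf (nat_lit 427517961))))) (.node (.node
    (.node (.node (.leaf (nat_lit 56637191)) (.leaf (nat_lit 540218891))) (.leaf (nat_lit
    321992200))) (.node (.leaf (nat_lit 202425863)) (.leaf (nat_lit 260253197)))) (.node (.node
    (.node (.leaf (nat_lit 123241739)) (.leaf (nat_lit 575916047))) (.leaf (nat_lit 208850189)))
    (.node (.leaf (nat_lit 149552904)) (.leaf (nat_lit 402890764)))))))) (.node (.node (.node
    (.node (.node (.node (.node (.leaf (nat_lit 4194823)) (.leaf (nat_lit 501464332))) (.leaf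
    (nat_lit 179967239))) (.node (.leaf (nat_lit 78186506)) (.leaf (nat_lit 386550026)))) (.node
    (.node (.node (.leaf (nat_lit 62423305)) (.leaf (nat_lit 494670862))) (.leaf (nat_lit
    330928140))) (.node (.leaf (nat_lit 218178314)) (.leaf (nat_lit 293289225))))) (.node (.node
    (.node (.node (.leaf (nat_lit 36718344)) (.leaf (nat_lit 526581516))) (.leaf (nat_lit
    305209864))) (.node (.leaf (nat_lit 179876620)) (.leaf (nat_lit 410692359)))) (.node (.node
    (.node (.leaf (nat_lit 102789132)) (.leaf (nat_lit 510932746))) (.leaf (nat_lit 208316684)))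
    (.node (.leaf (nat_lit 233429774)) (.leaf (nat_lit 396066569)))))) (.node (.node (.node (.node
    (.node (.leaf (nat_lit 18359562)) (.leaf (nat_lit 515041547))) (.leaf (nat_lit 270675214)))
    (.node (.leaf (nat_lit 161547277)) (.leaf (nat_lit 399097613)))) (.node (.node (.node (.leaf
    (nat_lit 61908231)) (.leaf (nat_lit 520889870))) (.leaf (nat_lit 344021003))) (.node (.leaf
    (nat_lit 171032079)) (.leaf (nat_lit 428040200))))) (.node (.node (.node (.node (.leaf (nat_lit
    27289101)) (.leaf (nat_lit 492568841))) (.leaf (nat_lit 229269006))) (.node (.leaf (nat_lit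
    179926536)) (.leaf (nat_lit 377168393)))) (.node (.node (.node (.leaf (nat_lit 119066378))
    (.leaf (nat_lit 574319372))) (.leaf (nat_lit 372407055))) (.node (.leaf (nat_lit 264833548))
    (.leaf (nat_lit 477862158))))))) (.node (.node (.node (.node (.node (.node (.leaf (nat_lit
    11537164)) (.leaf (nat_lit 477874697))) (.leaf (nat_lit 148513031))) (.node (.leaf (nat_lit
    134814988)) (.leaf (nat_lit 278588686)))) (.node (.node (.node (.leaf (nat_lit 75518220))
    (.leaf (nat_lit 440671243))) (.leaf (nat_lit 337746440))) (.node (.leaf (nat_lit 226548491))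
    (.leaf (nat_lit 431705865))))) (.node (.node (.node (.node (.leaf (nat_lit 44586504)) (.leaf
    (nat_lit 531826959))) (.leaf (nat_lit 311542282))) (.node (.leaf (nat_lit 189357064)) (.leaf
    (nat_lit 377690126)))) (.node (.node (.node (.leaf (nat_lit 111203592)) (.leaf (nat_lit
    570152968))) (.leaf (nat_lit 346731273))) (.node (.leaf (nat_lit 207743753)) (.leaf (nat_lit
    460556814)))))) (.node (.node (.node (.node (.node (.leaf (nat_lit 23606797)) (.leaf (nat_lit
    513007882))) (.leaf (nat_lit 188365327))) (.node (.leaf (nat_lit 169388555)) (.leaf (nat_lit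
    404926991)))) (.node (.node (.node (.leaf (nat_lit 94397448)) (.leaf (nat_lit 556543755)))
    (.leaf (nat_lit 351363853))) (.node (.leaf (nat_lit 241756679)) (.leaf (nat_lit 461003532)))))
    (.node (.node (.node (.node (.leaf (nat_lit 60310280)) (.leaf (nat_lit 542357007))) (.leaf
    (nat_lit 253389836))) (.node (.leaf (nat_lit 208194055)) (.leaf (nat_lit 424876558)))) (.node
    (.node (.leaf (nat_lit 102297870)) (.leaf (nat_lit 338351371))) (.node (.leaf (nat_lit
    272745487)) (.leaf (nat_lit 490910987))))))))) (.node (.node (.node (.node (.node (.node (.node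
    (.node (.leaf (nat_lit 2098440)) (.leaf (nat_lit 499829004))) (.leaf (nat_lit 178393358)))
    (.node (.leaf (nat_lit 134779150)) (.leaf (nat_lit 385011467)))) (.node (.node (.node (.leaf
    (nat_lit 66077453)) (.leaf (nat_lit 502010382))) (.leaf (nat_lit 228226313))) (.node (.leaf
    (nat_lit 216079626)) (.leaf (nat_lit 279132429))))) (.node (.node (.node (.node (.leaf (nat_lit
    35144716)) (.leaf (nat_lit 518252814))) (.leaf (nat_lit 303636495))) (.node (.leaf (nat_lit
    176771337)) (.leaf (nat_lit 409144584)))) (.node (.node (.node (.leaf (nat_lit 100181518))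
    (.leaf (nat_lit 486814986))) (.leaf (nat_lit 356094991))) (.node (.leaf (nat_lit 227661582))
    (.leaf (nat_lit 430144271)))))) (.node (.node (.node (.node (.node (.leaf (nat_lit 17309966))
    (.leaf (nat_lit 513004300))) (.leaf (nat_lit 290525193))) (.node (.leaf (nat_lit 159424783))
    (.leaf (nat_lit 368243975)))) (.node (.node (.node (.leaf (nat_lit 83917069)) (.leaf (nat_lit
    520365066))) (.leaf (nat_lit 304253961))) (.node (.leaf (nat_lit 232355594)) (.leaf (nat_lit
    406019335))))) (.node (.node (.node (.node (.leaf (nat_lit 51392519)) (.leaf (nat_lit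
    493616399))) (.leaf (nat_lit 315698952))) (.node (.leaf (nat_lit 195084299)) (.leaf (nat_lit
    378216205)))) (.node (.node (.node (.leaf (nat_lit 117477386)) (.leaf (nat_lit 573313544)))
    (.leaf (nat_lit 262324491))) (.node (.leaf (nat_lit 263311883)) (.leaf (nat_lit
    481531404))))))) (.node (.node (.node (.node (.node (.node (.leaf (nat_lit 8914700)) (.leaf
    (nat_lit 507209740))) (.leaf (nat_lit 283728394))) (.node (.leaf (nat_lit 123803663)) (.leaf
    (nat_lit 391268367)))) (.node (.node (.node (.leaf (nat_lit 58755599)) (.leaf (nat_lit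
    549722639))) (.leaf (nat_lit 271745038))) (.node (.leaf (nat_lit 224481038)) (.leaf (nat_lit
    441590283))))) (.node (.node (.node (.node (.leaf (nat_lit 41952775)) (.leaf (nat_lit
    530304008))) (.leaf (nat_lit 292179980))) (.node (.leaf (nat_lit 183592201)) (.leaf (nat_lit
    253957645)))) (.node (.node (.node (.leaf (nat_lit 109612295)) (.leaf (nat_lit 569121543)))
    (.leaf (nat_lit 357740558))) (.node (.leaf (nat_lit 253880074)) (.leaf (nat_lit 473650954))))))
    (.node (.node (.node (.node (.node (.leaf (nat_lit 26751756)) (.leaf (nat_lit 519256330)))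
    (.leaf (nat_lit 297941001))) (.node (.leaf (nat_lit 137969673)) (.leaf (nat_lit 403819277))))
    (.node (.node (.node (.leaf (nat_lit 75017735)) (.leaf (nat_lit 560171783))) (.leaf (nat_lit
    270179081))) (.node (.leaf (nat_lit 240182799)) (.leaf (nat_lit 362507016))))) (.node (.node
    (.node (.node (.leaf (nat_lit 58734861)) (.leaf (nat_lit 497289226))) (.leaf (nat_lit
    323642894))) (.node (.leaf (nat_lit 205047819)) (.leaf (nat_lit 423830282)))) (.node (.node
    (.leaf (nat_lit 124314634)) (.leaf (nat_lit 367186183))) (.node (.leaf (nat_lit 270073351))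
    (.leaf (nat_lit 447980302)))))))) (.node (.node (.node (.node (.node (.node (.node (.leaf
    (nat_lit 5245450)) (.leaf (nat_lit 495698185))) (.leaf (nat_lit 143267849))) (.node (.leaf
    (nat_lit 141595663)) (.leaf (nat_lit 308995079)))) (.node (.node (.node (.leaf (nat_lit
    69224455)) (.leaf (nat_lit 548644361))) (.leaf (nat_lit 216168972))) (.node (.leaf (nat_lit
    221304079)) (.leaf (nat_lit 372457736))))) (.node (.node (.node (.node (.leaf (nat_lit
    33048844)) (.leaf (nat_lit 527688207))) (.leaf (nat_lit 307831816))) (.node (.leaf (nat_lit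
    132733967)) (.leaf (nat_lit 411743503)))) (.node (.node (.node (.leaf (nat_lit 104900366))
    (.leaf (nat_lit 567015687))) (.leaf (nat_lit 326282250))) (.node (.leaf (nat_lit 200925193))
    (.leaf (nat_lit 431194379)))))) (.node (.node (.node (.node (.node (.leaf (nat_lit 22555656))
    (.leaf (nat_lit 473159950))) (.leaf (nat_lit 293705743))) (.node (.leaf (nat_lit 164668940))
    (.leaf (nat_lit 400198666)))) (.node (.node (.node (.leaf (nat_lit 63481870)) (.leaf (nat_lit
    558095623))) (.leaf (nat_lit 185766920))) (.node (.leaf (nat_lit 235473167)) (.leaf (nat_lit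
    455231751))))) (.node (.node (.node (.node (.leaf (nat_lit 55070472)) (.leaf (nat_lit
    493617933))) (.leaf (nat_lit 319369741))) (.node (.leaf (nat_lit 198230797)) (.leaf (nat_lit
    421685767)))) (.node (.node (.node (.leaf (nat_lit 121156874)) (.leaf (nat_lit 468994060)))
    (.leaf (nat_lit 207276301))) (.node (.leaf (nat_lit 266404359)) (.leaf (nat_lit
    454793996))))))) (.node (.node (.node (.node (.node (.node (.leaf (nat_lit 13638158)) (.leaf
    (nat_lit 510321679))) (.leaf (nat_lit 287391756))) (.node (.leaf (nat_lit 153656847)) (.leaf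
    (nat_lit 393911564)))) (.node (.node (.node (.leaf (nat_lit 77632776)) (.leaf (nat_lit
    553381896))) (.leaf (nat_lit 339300360))) (.node (.leaf (nat_lit 228645903)) (.leaf (nat_lit
    446311176))))) (.node (.node (.node (.node (.leaf (nat_lit 44587531)) (.leaf (nat_lit
    532913928))) (.leaf (nat_lit 313600527))) (.node (.leaf (nat_lit 162622985)) (.leaf (nat_lit
    380312328)))) (.node (.node (.node (.leaf (nat_lit 113809928)) (.leaf (nat_lit 571184138)))
    (.leaf (nat_lit 365082638))) (.node (.leaf (nat_lit 259096842)) (.leaf (nat_lit 477794573))))))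
    (.node (.node (.node (.node (.node (.leaf (nat_lit 30423304)) (.leaf (nat_lit 463201287)))
    (.leaf (nat_lit 155335948))) (.node (.leaf (nat_lit 171001614)) (.leaf (nat_lit 405934604))))
    (.node (.node (.node (.leaf (nat_lit 97039880)) (.leaf (nat_lit 475803916))) (.leaf (nat_lit
    346726663))) (.node (.leaf (nat_lit 243385354)) (.leaf (nat_lit 439055374))))) (.node (.node
    (.node (.node (.leaf (nat_lit 62405895)) (.leaf (nat_lit 535563529))) (.leaf (nat_lit
    326266632))) (.node (.leaf (nat_lit 210342408)) (.leaf (nat_lit 263400717)))) (.node (.node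
    (.leaf (nat_lit 128485900)) (.leaf (nat_lit 212523021))) (.node (.leaf (nat_lit 160566287))
    (.leaf (nat_lit 493071628)))))))))) (.node (.node (.node (.node (.node (.node (.node (.node
    (.node (.leaf (nat_lit 1573133)) (.leaf (nat_lit 439072007))) (.leaf (nat_lit 276899336)))
    (.node (.leaf (nat_lit 132156936)) (.leaf (nat_lit 294837513)))) (.node (.node (.node (.leaf
    (nat_lit 65552911)) (.leaf (nat_lit 500961545))) (.leaf (nat_lit 329335051))) (.node (.leaf
    (nat_lit 187275533)) (.leaf (nat_lit 347289095))))) (.node (.node (.node (.node (.leaf (nat_lit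
    33047050)) (.leaf (nat_lit 507766792))) (.leaf (nat_lit 240271879))) (.node (.leaf (nat_lit
    174656015)) (.leaf (nat_lit 354618122)))) (.node (.node (.node (.leaf (nat_lit 86556169))
    (.leaf (nat_lit 564347663))) (.leaf (nat_lit 355567119))) (.node (.leaf (nat_lit 237098249))
    (.leaf (nat_lit 465795340)))))) (.node (.node (.node (.node (.node (.leaf (nat_lit 16261134))
    (.leaf (nat_lit 426496268))) (.leaf (nat_lit 290000652))) (.node (.leaf (nat_lit 157363465))
    (.leaf (nat_lit 385545227)))) (.node (.node (.node (.leaf (nat_lit 82860044)) (.leaf (nat_lit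
    554926351))) (.leaf (nat_lit 340895496))) (.node (.leaf (nat_lit 173128201)) (.leaf (nat_lit
    438524423))))) (.node (.node (.node (.node (.leaf (nat_lit 45113356)) (.leaf (nat_lit
    446954504))) (.leaf (nat_lit 315181576))) (.node (.leaf (nat_lit 164721167)) (.leaf (nat_lit
    278076940)))) (.node (.node (.node (.leaf (nat_lit 109633290)) (.leaf (nat_lit 552879117)))
    (.leaf (nat_lit 368176652))) (.node (.leaf (nat_lit 260174602)) (.leaf (nat_lit
    454792207))))))) (.node (.node (.node (.node (.node (.node (.leaf (nat_lit 4722445)) (.leaf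
    (nat_lit 506671372))) (.leaf (nat_lit 280108046))) (.node (.leaf (nat_lit 145298958)) (.leaf
    (nat_lit 328919304)))) (.node (.node (.node (.leaf (nat_lit 71847181)) (.leaf (nat_lit
    550243853))) (.leaf (nat_lit 186809868))) (.node (.leaf (nat_lit 223456012)) (.leaf (nat_lit
    440541453))))) (.node (.node (.node (.node (.leaf (nat_lit 29904394)) (.leaf (nat_lit
    509866510))) (.leaf (nat_lit 268586761))) (.node (.leaf (nat_lit 186171404)) (.leaf (nat_lit
    363533577)))) (.node (.node (.node (.leaf (nat_lit 73453326)) (.leaf (nat_lit 554974216)))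
    (.leaf (nat_lit 325758730))) (.node (.leaf (nat_lit 254866183)) (.leaf (nat_lit 425952777))))))
    (.node (.node (.node (.node (.node (.leaf (nat_lit 20460041)) (.leaf (nat_lit 518224397)))
    (.leaf (nat_lit 161101326))) (.node (.leaf (nat_lit 167290887)) (.leaf (nat_lit 402769933))))
    (.node (.node (.node (.leaf (nat_lit 66104332)) (.leaf (nat_lit 559670797))) (.leaf (nat_lit
    334141707))) (.node (.leaf (nat_lit 238624781)) (.leaf (nat_lit 458381069))))) (.node (.node
    (.node (.node (.leaf (nat_lit 57686029)) (.leaf (nat_lit 540280588))) (.leaf (nat_lit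
    323041031))) (.node (.leaf (nat_lit 203998983)) (.leaf (nat_lit 423295500)))) (.node (.node
    (.node (.leaf (nat_lit 123792393)) (.leaf (nat_lit 576426503))) (.leaf (nat_lit 377064463)))
    (.node (.leaf (nat_lit 269024520)) (.leaf (nat_lit 477339914)))))))) (.node (.node (.node
    (.node (.node (.node (.node (.leaf (nat_lit 2623754)) (.leaf (nat_lit 502977292))) (.leaf
    (nat_lit 239736335))) (.node (.leaf (nat_lit 115935754)) (.leaf (nat_lit 387058959)))) (.node
    (.node (.node (.leaf (nat_lit 68699663)) (.leaf (nat_lit 494146830))) (.leaf (nat_lit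
    267024649))) (.node (.leaf (nat_lit 219730959)) (.leaf (nat_lit 368262920))))) (.node (.node
    (.node (.node (.leaf (nat_lit 37767178)) (.leaf (nat_lit 478407945))) (.leaf (nat_lit
    305734413))) (.node (.leaf (nat_lit 150034952)) (.leaf (nat_lit 411242511)))) (.node (.node
    (.node (.leaf (nat_lit 102286858)) (.leaf (nat_lit 511981580))) (.leaf (nat_lit 324709129)))
    (.node (.leaf (nat_lit 250207752)) (.leaf (nat_lit 469975054)))))) (.node (.node (.node (.node
    (.node (.leaf (nat_lit 21500431)) (.leaf (nat_lit 516090127))) (.leaf (nat_lit 292634380)))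
    (.node (.leaf (nat_lit 163133193)) (.leaf (nat_lit 399678474)))) (.node (.node (.node (.leaf
    (nat_lit 87579912)) (.leaf (nat_lit 557561351))) (.leaf (nat_lit 319459850))) (.node (.leaf
    (nat_lit 212975625)) (.leaf (nat_lit 453720334))))) (.node (.node (.node (.node (.leaf (nat_lit
    54028046)) (.leaf (nat_lit 538181641))) (.leaf (nat_lit 318845196))) (.node (.leaf (nat_lit
    134313998)) (.leaf (nat_lit 421129231)))) (.node (.node (.node (.leaf (nat_lit 77653262))
    (.leaf (nat_lit 574366733))) (.leaf (nat_lit 372915214))) (.node (.leaf (nat_lit 265878028))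
    (.leaf (nat_lit 456890890))))))) (.node (.node (.node (.node (.node (.node (.leaf (nat_lit
    12064526)) (.leaf (nat_lit 454281993))) (.leaf (nat_lit 286854408))) (.node (.leaf (nat_lit
    151559176)) (.leaf (nat_lit 393348362)))) (.node (.node (.node (.leaf (nat_lit 70816271))
    (.leaf (nat_lit 552807948))) (.leaf (nat_lit 262309129))) (.node (.leaf (nat_lit 137474313))
    (.leaf (nat_lit 403394824))))) (.node (.node (.node (.node (.leaf (nat_lit 45635593)) (.leaf
    (nat_lit 532406537))) (.leaf (nat_lit 312612623))) (.node (.leaf (nat_lit 173108232)) (.leaf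
    (nat_lit 370874889)))) (.node (.node (.node (.leaf (nat_lit 112252686)) (.leaf (nat_lit
    570659593))) (.leaf (nat_lit 362984712))) (.node (.leaf (nat_lit 258536712)) (.leaf (nat_lit
    461605900)))))) (.node (.node (.node (.node (.node (.leaf (nat_lit 28850188)) (.leaf (nat_lit
    521358860))) (.leaf (nat_lit 300489736))) (.node (.leaf (nat_lit 134825225)) (.leaf (nat_lit
    405470222)))) (.node (.node (.node (.leaf (nat_lit 95467276)) (.leaf (nat_lit 450637836)))
    (.leaf (nat_lit 351889165))) (.node (.leaf (nat_lit 242291727)) (.leaf (nat_lit 432238857)))))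
    (.node (.node (.node (.node (.leaf (nat_lit 61359112)) (.leaf (nat_lit 543366155))) (.leaf
    (nat_lit 325707276))) (.node (.leaf (nat_lit 175214351)) (.leaf (nat_lit 425367820)))) (.node
    (.node (.leaf (nat_lit 104395529)) (.leaf (nat_lit 364566024))) (.node (.leaf (nat_lit
    273755147)) (.leaf (nat_lit 492022540))))))))) (.node (.node (.node (.node (.node (.node (.node
    (.node (.leaf (nat_lit 3147272)) (.leaf (nat_lit 500415244))) (.leaf (nat_lit 278530575)))
    (.node (.leaf (nat_lit 135857160)) (.leaf (nat_lit 344645641)))) (.node (.node (.node (.leaf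
    (nat_lit 65044236)) (.leaf (nat_lit 501486350))) (.leaf (nat_lit 281703946))) (.node (.leaf
    (nat_lit 217633547)) (.leaf (nat_lit 402340617))))) (.node (.node (.node (.node (.leaf (nat_lit
    36193550)) (.leaf (nat_lit 525581576))) (.leaf (nat_lit 292176906))) (.node (.leaf (nat_lit
    131683081)) (.leaf (nat_lit 387649036)))) (.node (.node (.node (.leaf (nat_lit 80265482))
    (.leaf (nat_lit 565437450))) (.leaf (nat_lit 210937871))) (.node (.leaf (nat_lit 248070920))
    (.leaf (nat_lit 407600647)))))) (.node (.node (.node (.node (.node (.leaf (nat_lit 18878727))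
    (.leaf (nat_lit 514044679))) (.leaf (nat_lit 219294729))) (.node (.leaf (nat_lit 160473611))
    (.leaf (nat_lit 398119436)))) (.node (.node (.node (.leaf (nat_lit 54567694)) (.leaf (nat_lit
    556514312))) (.leaf (nat_lit 196775687))) (.node (.leaf (nat_lit 233365768)) (.leaf (nat_lit
    449011214))))) (.node (.node (.node (.node (.leaf (nat_lit 52441103)) (.leaf (nat_lit
    536565000))) (.leaf (nat_lit 316759819))) (.node (.leaf (nat_lit 195625229)) (.leaf (nat_lit
    420080392)))) (.node (.node (.node (.leaf (nat_lit 118546184)) (.leaf (nat_lit 462702089)))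
    (.leaf (nat_lit 204129037))) (.node (.leaf (nat_lit 264304909)) (.leaf (nat_lit
    430151689))))))) (.node (.node (.node (.node (.node (.node (.leaf (nat_lit 9964044)) (.leaf
    (nat_lit 508222983))) (.leaf (nat_lit 284271886))) (.node (.leaf (nat_lit 143203079)) (.leaf
    (nat_lit 336260105)))) (.node (.node (.node (.leaf (nat_lit 72911630)) (.leaf (nat_lit
    551268111))) (.leaf (nat_lit 336713740))) (.node (.leaf (nat_lit 135900686)) (.leaf (nat_lit
    443235594))))) (.node (.node (.node (.node (.leaf (nat_lit 43526159)) (.leaf (nat_lit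
    530837005))) (.leaf (nat_lit 310986760))) (.node (.leaf (nat_lit 178874121)) (.leaf (nat_lit
    382408455)))) (.node (.node (.node (.leaf (nat_lit 110145799)) (.leaf (nat_lit 569605900)))
    (.leaf (nat_lit 198357259))) (.node (.leaf (nat_lit 210888969)) (.leaf (nat_lit 474179594))))))
    (.node (.node (.node (.node (.node (.leaf (nat_lit 27276553)) (.leaf (nat_lit 520286988)))
    (.leaf (nat_lit 298433551))) (.node (.leaf (nat_lit 168352778)) (.leaf (nat_lit 404343821))))
    (.node (.node (.node (.leaf (nat_lit 92320012)) (.leaf (nat_lit 441199887))) (.leaf (nat_lit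
    305830923))) (.node (.leaf (nat_lit 173132558)) (.leaf (nat_lit 459484682))))) (.node (.node
    (.node (.node (.leaf (nat_lit 59783693)) (.leaf (nat_lit 541329678))) (.leaf (nat_lit
    324614156))) (.node (.leaf (nat_lit 205611786)) (.leaf (nat_lit 424356110)))) (.node (.node
    (.leaf (nat_lit 115928845)) (.leaf (nat_lit 379162631))) (.node (.leaf (nat_lit 272170760))
    (.leaf (nat_lit 489383182)))))))) (.node (.node (.node (.node (.node (.node (.node (.leaf
    (nat_lit 6294538)) (.leaf (nat_lit 505133069))) (.leaf (nat_lit 281644807))) (.node (.leaf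
    (nat_lit 142676236)) (.leaf (nat_lit 389157897)))) (.node (.node (.node (.leaf (nat_lit
    69764362)) (.leaf (nat_lit 549168906))) (.leaf (nat_lit 333006349))) (.node (.leaf (nat_lit
    221857803)) (.leaf (nat_lit 284902151))))) (.node (.node (.node (.node (.leaf (nat_lit
    38806284)) (.leaf (nat_lit 528216076))) (.leaf (nat_lit 308414473))) (.node (.leaf (nat_lit
    161570570)) (.leaf (nat_lit 382407181)))) (.node (.node (.node (.leaf (nat_lit 106482442))
    (.leaf (nat_lit 567525383))) (.leaf (nat_lit 326806794))) (.node (.leaf (nat_lit 252768781))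
    (.leaf (nat_lit 336823053)))))) (.node (.node (.node (.node (.node (.leaf (nat_lit 21507593))
    (.leaf (nat_lit 517181194))) (.leaf (nat_lit 243937799))) (.node (.leaf (nat_lit 165231367))
    (.leaf (nat_lit 400673800)))) (.node (.node (.node (.leaf (nat_lit 88642314)) (.leaf (nat_lit
    521939213))) (.leaf (nat_lit 347168013))) (.node (.leaf (nat_lit 236558855)) (.leaf (nat_lit
    388195847))))) (.node (.node (.node (.node (.leaf (nat_lit 55598090)) (.leaf (nat_lit
    539694348))) (.leaf (nat_lit 283271951))) (.node (.leaf (nat_lit 200376072)) (.leaf (nat_lit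
    374023433)))) (.node (.node (.node (.leaf (nat_lit 122218761)) (.leaf (nat_lit 572803336)))
    (.leaf (nat_lit 375046664))) (.node (.leaf (nat_lit 134872327)) (.leaf (nat_lit
    485662987))))))) (.node (.node (.node (.node (.node (.node (.leaf (nat_lit 14683659)) (.leaf
    (nat_lit 511370508))) (.leaf (nat_lit 183641359))) (.node (.leaf (nat_lit 154740744)) (.leaf
    (nat_lit 394431246)))) (.node (.node (.node (.leaf (nat_lit 79206158)) (.leaf (nat_lit
    531898382))) (.leaf (nat_lit 263882762))) (.node (.leaf (nat_lit 230219023)) (.leaf (nat_lit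
    446911756))))) (.node (.node (.node (.node (.leaf (nat_lit 39869448)) (.leaf (nat_lit
    533924619))) (.leaf (nat_lit 314140936))) (.node (.leaf (nat_lit 192986639)) (.leaf (nat_lit
    417532938)))) (.node (.node (.node (.leaf (nat_lit 114341389)) (.leaf (nat_lit 564937230)))
    (.leaf (nat_lit 366116617))) (.node (.leaf (nat_lit 259649544)) (.leaf (nat_lit 478384396))))))
    (.node (.node (.node (.node (.node (.leaf (nat_lit 32513031)) (.leaf (nat_lit 523433484)))
    (.leaf (nat_lit 301015823))) (.node (.leaf (nat_lit 166807820)) (.leaf (nat_lit 278071054))))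
    (.node (.node (.node (.leaf (nat_lit 97564426)) (.leaf (nat_lit 442774025))) (.leaf (nat_lit
    353531407))) (.node (.leaf (nat_lit 131715597)) (.leaf (nat_lit 431715847))))) (.node (.node
    (.node (.node (.leaf (nat_lit 62945294)) (.leaf (nat_lit 536612366))) (.leaf (nat_lit
    322596873))) (.node (.leaf (nat_lit 210867466)) (.leaf (nat_lit 301674504)))) (.node (.node
    (.leaf (nat_lit 129026313)) (.leaf (nat_lit 347265546))) (.node (.leaf (nat_lit 151129611))
    (.leaf (nat_lit 479440903)))))))))))) (.node (.node (.node (.node (.node (.node (.node (.node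
    (.node (.node (.node (.leaf (nat_lit 11)) (.leaf (nat_lit 450081287))) (.leaf (nat_lit
    232918795))) (.node (.leaf (nat_lit 129550858)) (.leaf (nat_lit 383425039)))) (.node (.node
    (.node (.leaf (nat_lit 63994382)) (.leaf (nat_lit 544992264))) (.leaf (nat_lit 328285197)))
    (.node (.leaf (nat_lit 213438478)) (.leaf (nat_lit 429524231))))) (.node (.node (.node (.node
    (.leaf (nat_lit 33561869)) (.leaf (nat_lit 523958791))) (.leaf (nat_lit 268058632))) (.node
    (.leaf (nat_lit 173617160)) (.leaf (nat_lit 333121799)))) (.node (.node (.node (.leaf (nat_lit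
    98592775)) (.leaf (nat_lit 446968330))) (.leaf (nat_lit 355036428))) (.node (.leaf (nat_lit
    241816329)) (.leaf (nat_lit 366180103)))))) (.node (.node (.node (.node (.node (.leaf (nat_lit
    10493453)) (.leaf (nat_lit 476303111))) (.leaf (nat_lit 288951820))) (.node (.leaf (nat_lit
    155789836)) (.leaf (nat_lit 395433224)))) (.node (.node (.node (.leaf (nat_lit 45127949))
    (.leaf (nat_lit 554416136))) (.leaf (nat_lit 340349197))) (.node (.leaf (nat_lit 225032203))
    (.leaf (nat_lit 389765127))))) (.node (.node (.node (.node (.leaf (nat_lit 49294856)) (.leaf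
    (nat_lit 534448908))) (.leaf (nat_lit 189421577))) (.node (.leaf (nat_lit 193556746)) (.leaf
    (nat_lit 374021386)))) (.node (.node (.node (.leaf (nat_lit 115899400)) (.leaf (nat_lit
    572217356))) (.leaf (nat_lit 364559371))) (.node (.leaf (nat_lit 260698378)) (.leaf (nat_lit
    479892235))))))) (.node (.node (.node (.node (.node (.node (.leaf (nat_lit 6294798)) (.leaf
    (nat_lit 497796361))) (.leaf (nat_lit 282165255))) (.node (.leaf (nat_lit 144741896)) (.leaf
    (nat_lit 389714446)))) (.node (.node (.node (.leaf (nat_lit 70278924)) (.leaf (nat_lit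
    505681930))) (.leaf (nat_lit 264403978))) (.node (.leaf (nat_lit 222877704)) (.leaf (nat_lit
    438968076))))) (.node (.node (.node (.node (.leaf (nat_lit 39333642)) (.leaf (nat_lit
    529204232))) (.leaf (nat_lit 257576204))) (.node (.leaf (nat_lit 133259529)) (.leaf (nat_lit
    412800526)))) (.node (.node (.node (.leaf (nat_lit 107007244)) (.leaf (nat_lit 516176649)))
    (.leaf (nat_lit 326282765))) (.node (.leaf (nat_lit 253328906)) (.leaf (nat_lit 472068622))))))
    (.node (.node (.node (.node (.node (.leaf (nat_lit 19935243)) (.leaf (nat_lit 393992973)))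
    (.leaf (nat_lit 295775500))) (.node (.leaf (nat_lit 165756172)) (.leaf (nat_lit 401232654))))
    (.node (.node (.node (.leaf (nat_lit 89677576)) (.leaf (nat_lit 559127562))) (.leaf (nat_lit
    336762639))) (.node (.leaf (nat_lit 141149454)) (.leaf (nat_lit 456876555))))) (.node (.node
    (.node (.node (.leaf (nat_lit 56124427)) (.leaf (nat_lit 486802695))) (.leaf (nat_lit
    256533771))) (.node (.leaf (nat_lit 155811855)) (.leaf (nat_lit 422258184)))) (.node (.node
    (.node (.leaf (nat_lit 93383181)) (.leaf (nat_lit 575909128))) (.leaf (nat_lit 376015880)))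
    (.node (.leaf (nat_lit 267975692)) (.leaf (nat_lit 486711567)))))))) (.node (.node (.node
    (.node (.node (.node (.node (.leaf (nat_lit 3671818)) (.leaf (nat_lit 501458701))) (.leaf
    (nat_lit 220337417))) (.node (.leaf (nat_lit 138449416)) (.leaf (nat_lit 334160137)))) (.node
    (.node (.node (.leaf (nat_lit 67650824)) (.leaf (nat_lit 547562763))) (.leaf (nat_lit
    328365839))) (.node (.leaf (nat_lit 217686028)) (.leaf (nat_lit 302726407))))) (.node (.node
    (.node (.node (.leaf (nat_lit 32523787)) (.leaf (nat_lit 479456009))) (.leaf (nat_lit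
    172639496))) (.node (.leaf (nat_lit 179352331)) (.leaf (nat_lit 410639887)))) (.node (.node
    (.node (.leaf (nat_lit 79217162)) (.leaf (nat_lit 465843976))) (.leaf (nat_lit 357165327)))
    (.node (.leaf (nat_lit 249110280)) (.leaf (nat_lit 408125191)))))) (.node (.node (.node (.node
    (.node (.leaf (nat_lit 18883849)) (.leaf (nat_lit 514574092))) (.leaf (nat_lit 292098063)))
    (.node (.leaf (nat_lit 159462409)) (.leaf (nat_lit 398608655)))) (.node (.node (.node (.leaf
    (nat_lit 80258057)) (.leaf (nat_lit 557061127))) (.leaf (nat_lit 343526668))) (.node (.leaf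
    (nat_lit 233908489)) (.leaf (nat_lit 452672522))))) (.node (.node (.node (.node (.leaf (nat_lit
    52967947)) (.leaf (nat_lit 537595916))) (.leaf (nat_lit 317800972))) (.node (.leaf (nat_lit
    196162825)) (.leaf (nat_lit 420159759)))) (.node (.node (.node (.leaf (nat_lit 119071497))
    (.leaf (nat_lit 469517836))) (.leaf (nat_lit 372344589))) (.node (.leaf (nat_lit 229767433))
    (.leaf (nat_lit 429103369))))))) (.node (.node (.node (.node (.node (.node (.leaf (nat_lit
    9442570)) (.leaf (nat_lit 508747272))) (.leaf (nat_lit 285299976))) (.node (.leaf (nat_lit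
    149461519)) (.leaf (nat_lit 310570247)))) (.node (.node (.node (.leaf (nat_lit 74469391))
    (.leaf (nat_lit 528751626))) (.leaf (nat_lit 337727247))) (.node (.leaf (nat_lit 143765261))
    (.leaf (nat_lit 444213005))))) (.node (.node (.node (.node (.leaf (nat_lit 31479051)) (.leaf
    (nat_lit 531339791))) (.leaf (nat_lit 311540488))) (.node (.leaf (nat_lit 188836108)) (.leaf
    (nat_lit 415420428)))) (.node (.node (.node (.leaf (nat_lit 93901838)) (.leaf (nat_lit
    511983374))) (.leaf (nat_lit 362379277))) (.node (.leaf (nat_lit 257004811)) (.leaf (nat_lit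
    475172108)))))) (.node (.node (.node (.node (.node (.leaf (nat_lit 15742472)) (.leaf (nat_lit
    460579085))) (.leaf (nat_lit 265959943))) (.node (.leaf (nat_lit 125387274)) (.leaf (nat_lit
    385025033)))) (.node (.node (.node (.leaf (nat_lit 93873159)) (.leaf (nat_lit 454307343)))
    (.leaf (nat_lit 350900239))) (.node (.leaf (nat_lit 241285899)) (.leaf (nat_lit 460012046)))))
    (.node (.node (.node (.node (.leaf (nat_lit 56652553)) (.leaf (nat_lit 542348040))) (.leaf
    (nat_lit 323120141))) (.node (.leaf (nat_lit 207669773)) (.leaf (nat_lit 261827085)))) (.node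
    (.node (.leaf (nat_lit 125890828)) (.leaf (nat_lit 380211215))) (.node (.leaf (nat_lit
    152176654)) (.leaf (nat_lit 489924364))))))))) (.node (.node (.node (.node (.node (.node (.node
    (.node (.leaf (nat_lit 2098190)) (.leaf (nat_lit 499304715))) (.leaf (nat_lit 277415175)))
    (.node (.leaf (nat_lit 134254607)) (.leaf (nat_lit 269671946)))) (.node (.node (.node (.leaf
    (nat_lit 41450764)) (.leaf (nat_lit 546513163))) (.leaf (nat_lit 329859340))) (.node (.leaf
    (nat_lit 216060175)) (.leaf (nat_lit 432673288))))) (.node (.node (.node (.node (.leaf (nat_lit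
    16270095)) (.leaf (nat_lit 525008395))) (.leaf (nat_lit 303131149))) (.node (.leaf (nat_lit
    130109449)) (.leaf (nat_lit 374524424)))) (.node (.node (.node (.leaf (nat_lit 100187913))
    (.leaf (nat_lit 464270348))) (.leaf (nat_lit 322086669))) (.node (.leaf (nat_lit 247000588))
    (.leaf (nat_lit 447970060)))))) (.node (.node (.node (.node (.node (.leaf (nat_lit 17307402))
    (.leaf (nat_lit 486789645))) (.leaf (nat_lit 290047503))) (.node (.leaf (nat_lit 158900492))
    (.leaf (nat_lit 282784783)))) (.node (.node (.node (.leaf (nat_lit 83912716)) (.leaf (nat_lit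
    433857292))) (.leaf (nat_lit 341923079))) (.node (.leaf (nat_lit 197769993)) (.leaf (nat_lit
    451097354))))) (.node (.node (.node (.node (.leaf (nat_lit 40919307)) (.leaf (nat_lit
    535544074))) (.leaf (nat_lit 314726926))) (.node (.leaf (nat_lit 194590728)) (.leaf (nat_lit
    419086860)))) (.node (.node (.node (.leaf (nat_lit 91283465)) (.leaf (nat_lit 573269007)))
    (.leaf (nat_lit 203079693))) (.node (.leaf (nat_lit 263256072)) (.leaf (nat_lit
    431199753))))))) (.node (.node (.node (.node (.node (.node (.leaf (nat_lit 8392719)) (.leaf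
    (nat_lit 507209994))) (.leaf (nat_lit 141171977))) (.node (.leaf (nat_lit 146872329)) (.leaf
    (nat_lit 391283466)))) (.node (.node (.node (.leaf (nat_lit 72371725)) (.leaf (nat_lit
    515643912))) (.leaf (nat_lit 285376524))) (.node (.leaf (nat_lit 224479498)) (.leaf (nat_lit
    402868489))))) (.node (.node (.node (.node (.leaf (nat_lit 41433610)) (.leaf (nat_lit
    525595401))) (.leaf (nat_lit 309945869))) (.node (.leaf (nat_lit 187218696)) (.leaf (nat_lit
    413865480)))) (.node (.node (.node (.leaf (nat_lit 109606923)) (.leaf (nat_lit 569072138)))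
    (.leaf (nat_lit 322613260))) (.node (.leaf (nat_lit 254928648)) (.leaf (nat_lit 471041800))))))
    (.node (.node (.node (.node (.node (.leaf (nat_lit 26751754)) (.leaf (nat_lit 406576647)))
    (.leaf (nat_lit 297867277))) (.node (.leaf (nat_lit 167815176)) (.leaf (nat_lit 403368206))))
    (.node (.node (.node (.leaf (nat_lit 91251212)) (.leaf (nat_lit 560190218))) (.leaf (nat_lit
    349790472))) (.node (.leaf (nat_lit 239192332)) (.leaf (nat_lit 458905613))))) (.node (.node
    (.node (.node (.leaf (nat_lit 30961420)) (.leaf (nat_lit 540781327))) (.leaf (nat_lit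
    323119368))) (.node (.leaf (nat_lit 204569614)) (.leaf (nat_lit 423799560)))) (.node (.node
    (.leaf (nat_lit 124290319)) (.leaf (nat_lit 378196238))) (.node (.leaf (nat_lit 215613711))
    (.leaf (nat_lit 488285196)))))))) (.node (.node (.node (.node (.node (.node (.node (.leaf
    (nat_lit 2099725)) (.leaf (nat_lit 504026124))) (.leaf (nat_lit 281085964))) (.node (.leaf
    (nat_lit 141071372)) (.leaf (nat_lit 387620622)))) (.node (.node (.node (.leaf (nat_lit
    40403724)) (.leaf (nat_lit 498341386))) (.leaf (nat_lit 287996172))) (.node (.leaf (nat_lit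
    220308748)) (.leaf (nat_lit 436870157))))) (.node (.node (.node (.node (.leaf (nat_lit
    38288906)) (.leaf (nat_lit 446950926))) (.leaf (nat_lit 307307527))) (.node (.leaf (nat_lit
    173104139)) (.leaf (nat_lit 365629706)))) (.node (.node (.node (.leaf (nat_lit 100714505))
    (.leaf (nat_lit 560740622))) (.leaf (nat_lit 356690957))) (.node (.leaf (nat_lit 199876366))
    (.leaf (nat_lit 448495886)))))) (.node (.node (.node (.node (.node (.leaf (nat_lit 13118220))
    (.leaf (nat_lit 516644106))) (.leaf (nat_lit 241840138))) (.node (.leaf (nat_lit 164182281))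
    (.leaf (nat_lit 292223753)))) (.node (.node (.node (.leaf (nat_lit 63481867)) (.leaf (nat_lit
    558074890))) (.leaf (nat_lit 288527370))) (.node (.leaf (nat_lit 183615757)) (.leaf (nat_lit
    306406157))))) (.node (.node (.node (.node (.leaf (nat_lit 47737098)) (.leaf (nat_lit
    493093646))) (.leaf (nat_lit 318845703))) (.node (.leaf (nat_lit 197716494)) (.leaf (nat_lit
    421653775)))) (.node (.node (.node (.leaf (nat_lit 79226632)) (.leaf (nat_lit 574848013)))
    (.leaf (nat_lit 373917960))) (.node (.leaf (nat_lit 161610759)) (.leaf (nat_lit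
    455842570))))))) (.node (.node (.node (.node (.node (.node (.leaf (nat_lit 13634823)) (.leaf
    (nat_lit 476826636))) (.leaf (nat_lit 287390984))) (.node (.leaf (nat_lit 133767950)) (.leaf
    (nat_lit 393930250)))) (.node (.node (.node (.leaf (nat_lit 77615623)) (.leaf (nat_lit
    553332239))) (.leaf (nat_lit 338830095))) (.node (.leaf (nat_lit 227652364)) (.leaf (nat_lit
    328421896))))) (.node (.node (.node (.node (.leaf (nat_lit 47197703)) (.leaf (nat_lit
    513538057))) (.leaf (nat_lit 222975244))) (.node (.leaf (nat_lit 162622986)) (.leaf (nat_lit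
    416987914)))) (.node (.node (.node (.leaf (nat_lit 112253194)) (.leaf (nat_lit 551829769)))
    (.leaf (nat_lit 365001991))) (.node (.leaf (nat_lit 259061261)) (.leaf (nat_lit 451120652))))))
    (.node (.node (.node (.node (.node (.leaf (nat_lit 30939663)) (.leaf (nat_lit 521921548)))
    (.leaf (nat_lit 300503823))) (.node (.leaf (nat_lit 171001612)) (.leaf (nat_lit 405964042))))
    (.node (.node (.node (.leaf (nat_lit 97019659)) (.leaf (nat_lit 562288141))) (.leaf (nat_lit
    284860430))) (.node (.leaf (nat_lit 215601161)) (.leaf (nat_lit 462648076))))) (.node (.node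
    (.node (.node (.leaf (nat_lit 61896207)) (.leaf (nat_lit 543890444))) (.leaf (nat_lit
    260206095))) (.node (.leaf (nat_lit 206672142)) (.leaf (nat_lit 426374152)))) (.node (.node
    (.leaf (nat_lit 107017225)) (.leaf (nat_lit 381784840))) (.node (.leaf (nat_lit 274335751))
    (.leaf (nat_lit 492022799)))))))))) (.node (.node (.node (.node (.node (.node (.node (.node
    (.node (.leaf (nat_lit 1049097)) (.leaf (nat_lit 497730572))) (.leaf (nat_lit 276890639)))
    (.node (.leaf (nat_lit 86047247)) (.leaf (nat_lit 384407820)))) (.node (.node (.node (.leaf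
    (nat_lit 65028111)) (.leaf (nat_lit 545988620))) (.leaf (nat_lit 328855820))) (.node (.leaf
    (nat_lit 214487048)) (.leaf (nat_lit 273888525))))) (.node (.node (.node (.node (.leaf (nat_lit
    34095624)) (.leaf (nat_lit 524483597))) (.leaf (nat_lit 302638347))) (.node (.leaf (nat_lit
    174148872)) (.leaf (nat_lit 333646600)))) (.node (.node (.node (.leaf (nat_lit 72924679))
    (.leaf (nat_lit 563866381))) (.leaf (nat_lit 321562125))) (.node (.leaf (nat_lit 245951756))
    (.leaf (nat_lit 465779983)))))) (.node (.node (.node (.node (.node (.leaf (nat_lit 16261132))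
    (.leaf (nat_lit 512452622))) (.leaf (nat_lit 289513737))) (.node (.leaf (nat_lit 157334798))
    (.leaf (nat_lit 317387530)))) (.node (.node (.node (.leaf (nat_lit 82335755)) (.leaf (nat_lit
    554964999))) (.leaf (nat_lit 267553290))) (.node (.leaf (nat_lit 231287310)) (.leaf (nat_lit
    449982220))))) (.node (.node (.node (.node (.leaf (nat_lit 43540494)) (.leaf (nat_lit
    498859022))) (.leaf (nat_lit 190470414))) (.node (.leaf (nat_lit 194081290)) (.leaf (nat_lit
    418584333)))) (.node (.node (.node (.leaf (nat_lit 116433934)) (.leaf (nat_lit 572252173)))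
    (.leaf (nat_lit 333102601))) (.node (.leaf (nat_lit 261223176)) (.leaf (nat_lit
    474715143))))))) (.node (.node (.node (.node (.node (.node (.leaf (nat_lit 7343880)) (.leaf
    (nat_lit 482067982))) (.leaf (nat_lit 227678983))) (.node (.leaf (nat_lit 145298956)) (.leaf
    (nat_lit 275441678)))) (.node (.node (.node (.leaf (nat_lit 58755082)) (.leaf (nat_lit
    550229511))) (.leaf (nat_lit 334584079))) (.node (.leaf (nat_lit 155822599)) (.leaf (nat_lit
    440088843))))) (.node (.node (.node (.node (.leaf (nat_lit 39865607)) (.leaf (nat_lit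
    529729547))) (.leaf (nat_lit 309929484))) (.node (.leaf (nat_lit 146367246)) (.leaf (nat_lit
    413340686)))) (.node (.node (.node (.leaf (nat_lit 108056332)) (.leaf (nat_lit 568596488)))
    (.leaf (nat_lit 359837449))) (.node (.leaf (nat_lit 203547913)) (.leaf (nat_lit 473072904))))))
    (.node (.node (.node (.node (.node (.leaf (nat_lit 26219784)) (.leaf (nat_lit 518206991)))
    (.leaf (nat_lit 158479879))) (.node (.leaf (nat_lit 141639175)) (.leaf (nat_lit 402296330))))
    (.node (.node (.node (.leaf (nat_lit 90220557)) (.leaf (nat_lit 542911239))) (.leaf (nat_lit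
    348741901))) (.node (.leaf (nat_lit 238623751)) (.leaf (nat_lit 457924876))))) (.node (.node
    (.node (.node (.leaf (nat_lit 57161995)) (.leaf (nat_lit 540262925))) (.leaf (nat_lit
    322594570))) (.node (.leaf (nat_lit 203474701)) (.leaf (nat_lit 423307016)))) (.node (.node
    (.node (.leaf (nat_lit 123766028)) (.leaf (nat_lit 576450058))) (.leaf (nat_lit 347262479)))
    (.node (.leaf (nat_lit 268543755)) (.leaf (nat_lit 487274510)))))))) (.node (.node (.node
    (.node (.node (.node (.node (.leaf (nat_lit 4196616)) (.leaf (nat_lit 499367439))) (.leaf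
    (nat_lit 280065031))) (.node (.leaf (nat_lit 139004424)) (.leaf (nat_lit 310567434)))) (.node
    (.node (.node (.leaf (nat_lit 68178442)) (.leaf (nat_lit 547624204))) (.leaf (nat_lit
    331957511))) (.node (.leaf (nat_lit 179413518)) (.leaf (nat_lit 435821069))))) (.node (.node
    (.node (.node (.leaf (nat_lit 37756941)) (.leaf (nat_lit 526634765))) (.leaf (nat_lit
    305217036))) (.node (.leaf (nat_lit 181449740)) (.leaf (nat_lit 251858957)))) (.node (.node
    (.node (.leaf (nat_lit 103335178)) (.leaf (nat_lit 545536008))) (.leaf (nat_lit 358182924)))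
    (.node (.leaf (nat_lit 203021577)) (.leaf (nat_lit 407076873)))))) (.node (.node (.node (.node
    (.node (.leaf (nat_lit 20457480)) (.leaf (nat_lit 450090761))) (.leaf (nat_lit 290598412)))
    (.node (.leaf (nat_lit 163095820)) (.leaf (nat_lit 399622157)))) (.node (.node (.node (.leaf
    (nat_lit 87074313)) (.leaf (nat_lit 527181582))) (.leaf (nat_lit 243437832))) (.node (.leaf
    (nat_lit 234433034)) (.leaf (nat_lit 443769096))))) (.node (.node (.node (.node (.leaf (nat_lit
    27813645)) (.leaf (nat_lit 493617678))) (.leaf (nat_lit 318357255))) (.node (.leaf (nat_lit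
    197181963)) (.leaf (nat_lit 414917134)))) (.node (.node (.node (.leaf (nat_lit 120095239))
    (.leaf (nat_lit 574334471))) (.leaf (nat_lit 372950799))) (.node (.leaf (nat_lit 265379338))
    (.leaf (nat_lit 428579337))))))) (.node (.node (.node (.node (.node (.node (.leaf (nat_lit
    12061455)) (.leaf (nat_lit 509272328))) (.leaf (nat_lit 285824783))) (.node (.leaf (nat_lit
    150521103)) (.leaf (nat_lit 301657609)))) (.node (.node (.node (.leaf (nat_lit 56136204))
    (.leaf (nat_lit 484711693))) (.leaf (nat_lit 236618766))) (.node (.leaf (nat_lit 227072780))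
    (.leaf (nat_lit 445262093))))) (.node (.node (.node (.node (.leaf (nat_lit 46148104)) (.leaf
    (nat_lit 467924746))) (.leaf (nat_lit 312551943))) (.node (.leaf (nat_lit 190889228)) (.leaf
    (nat_lit 416408840)))) (.node (.node (.node (.leaf (nat_lit 112252684)) (.leaf (nat_lit
    559693838))) (.leaf (nat_lit 198882317))) (.node (.leaf (nat_lit 258052362)) (.leaf (nat_lit
    441623311)))))) (.node (.node (.node (.node (.node (.leaf (nat_lit 14694159)) (.leaf (nat_lit
    521392394))) (.leaf (nat_lit 203570188))) (.node (.leaf (nat_lit 169927439)) (.leaf (nat_lit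
    385549577)))) (.node (.node (.node (.leaf (nat_lit 95446539)) (.leaf (nat_lit 481046285)))
    (.leaf (nat_lit 351397132))) (.node (.leaf (nat_lit 230280714)) (.leaf (nat_lit 462052365)))))
    (.node (.node (.node (.node (.leaf (nat_lit 50361609)) (.leaf (nat_lit 542878733))) (.leaf
    (nat_lit 323644685))) (.node (.leaf (nat_lit 130649870)) (.leaf (nat_lit 425381642)))) (.node
    (.node (.leaf (nat_lit 127437068)) (.leaf (nat_lit 364566028))) (.node (.leaf (nat_lit
    158468617)) (.leaf (nat_lit 467380743))))))))) (.node (.node (.node (.node (.node (.node (.node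
    (.node (.leaf (nat_lit 3147273)) (.leaf (nat_lit 498842125))) (.leaf (nat_lit 278464007)))
    (.node (.leaf (nat_lit 135827719)) (.leaf (nat_lit 385981192)))) (.node (.node (.node (.leaf
    (nat_lit 66617098)) (.leaf (nat_lit 546575116))) (.leaf (nat_lit 330383883))) (.node (.leaf
    (nat_lit 216636936)) (.leaf (nat_lit 345193223))))) (.node (.node (.node (.node (.leaf (nat_lit
    36188170)) (.leaf (nat_lit 525068812))) (.leaf (nat_lit 303710988))) (.node (.leaf (nat_lit
    177779208)) (.leaf (nat_lit 369823241)))) (.node (.node (.node (.leaf (nat_lit 100712712))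
    (.leaf (nat_lit 565397772))) (.leaf (nat_lit 356643596))) (.node (.leaf (nat_lit 248049419))
    (.leaf (nat_lit 468399627)))))) (.node (.node (.node (.node (.node (.leaf (nat_lit 17834761))
    (.leaf (nat_lit 514017291))) (.leaf (nat_lit 291573768))) (.node (.leaf (nat_lit 159966733))
    (.leaf (nat_lit 299562761)))) (.node (.node (.node (.leaf (nat_lit 70820620)) (.leaf (nat_lit
    556480527))) (.leaf (nat_lit 342972173))) (.node (.leaf (nat_lit 151108622)) (.leaf (nat_lit
    317414921))))) (.node (.node (.node (.node (.leaf (nat_lit 26239757)) (.leaf (nat_lit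
    536084236))) (.leaf (nat_lit 278551561))) (.node (.leaf (nat_lit 154236169)) (.leaf (nat_lit
    419615503)))) (.node (.node (.node (.leaf (nat_lit 108061194)) (.leaf (nat_lit 561792270)))
    (.leaf (nat_lit 368754447))) (.node (.leaf (nat_lit 242874119)) (.leaf (nat_lit
    482514957))))))) (.node (.node (.node (.node (.node (.node (.leaf (nat_lit 6295821)) (.leaf
    (nat_lit 428066826))) (.leaf (nat_lit 283254282))) (.node (.leaf (nat_lit 147921676)) (.leaf
    (nat_lit 271248143)))) (.node (.node (.node (.leaf (nat_lit 72906250)) (.leaf (nat_lit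
    551269130))) (.leaf (nat_lit 336678663))) (.node (.leaf (nat_lit 225499911)) (.leaf (nat_lit
    390810888))))) (.node (.node (.node (.node (.leaf (nat_lit 42488078)) (.leaf (nat_lit
    530820616))) (.leaf (nat_lit 177885452))) (.node (.leaf (nat_lit 188267276)) (.leaf (nat_lit
    399185676)))) (.node (.node (.node (.leaf (nat_lit 109629966)) (.leaf (nat_lit 569653767)))
    (.leaf (nat_lit 361378574))) (.node (.leaf (nat_lit 206170126)) (.leaf (nat_lit 453740553))))))
    (.node (.node (.node (.node (.node (.leaf (nat_lit 27792904)) (.leaf (nat_lit 435412751)))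
    (.leaf (nat_lit 247609613))) (.node (.leaf (nat_lit 93929741)) (.leaf (nat_lit 403881484))))
    (.node (.node (.node (.leaf (nat_lit 73445383)) (.leaf (nat_lit 462695688))) (.leaf (nat_lit
    308976655))) (.node (.leaf (nat_lit 231852811)) (.leaf (nat_lit 354642952))))) (.node (.node
    (.node (.node (.leaf (nat_lit 59268623)) (.leaf (nat_lit 541792524))) (.leaf (nat_lit
    164260367))) (.node (.leaf (nat_lit 205621257)) (.leaf (nat_lit 381888777)))) (.node (.node
    (.leaf (nat_lit 124841736)) (.leaf (nat_lit 378681103))) (.node (.leaf (nat_lit 271646471))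
    (.leaf (nat_lit 489334029)))))))) (.node (.node (.node (.node (.node (.node (.node (.leaf
    (nat_lit 5769998)) (.leaf (nat_lit 504611598))) (.leaf (nat_lit 281610507))) (.node (.leaf
    (nat_lit 142644491)) (.leaf (nat_lit 349365771)))) (.node (.node (.node (.leaf (nat_lit
    69240073)) (.leaf (nat_lit 540808969))) (.leaf (nat_lit 332485903))) (.node (.leaf (nat_lit
    153200393)) (.leaf (nat_lit 286474761))))) (.node (.node (.node (.node (.leaf (nat_lit
    38813454)) (.leaf (nat_lit 528169487))) (.leaf (nat_lit 268585994))) (.node (.leaf (nat_lit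
    184072200)) (.leaf (nat_lit 412271882)))) (.node (.node (.node (.leaf (nat_lit 103336712))
    (.leaf (nat_lit 565459470))) (.leaf (nat_lit 358788361))) (.node (.leaf (nat_lit 199352586))
    (.leaf (nat_lit 471499015)))))) (.node (.node (.node (.node (.node (.leaf (nat_lit 23604490))
    (.leaf (nat_lit 392944141))) (.leaf (nat_lit 294269452))) (.node (.leaf (nat_lit 165231373))
    (.leaf (nat_lit 383974410)))) (.node (.node (.node (.leaf (nat_lit 88638988)) (.leaf (nat_lit
    558593033))) (.leaf (nat_lit 346656779))) (.node (.leaf (nat_lit 215073546)) (.leaf (nat_lit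
    429090059))))) (.node (.node (.node (.node (.leaf (nat_lit 55601673)) (.leaf (nat_lit
    495715341))) (.leaf (nat_lit 268067598))) (.node (.leaf (nat_lit 200328199)) (.leaf (nat_lit
    367731726)))) (.node (.node (.node (.leaf (nat_lit 122192908)) (.leaf (nat_lit 575406856)))
    (.leaf (nat_lit 375048974))) (.node (.leaf (nat_lit 266929162)) (.leaf (nat_lit
    447978762))))))) (.node (.node (.node (.node (.node (.node (.leaf (nat_lit 13114122)) (.leaf
    (nat_lit 510868495))) (.leaf (nat_lit 287947786))) (.node (.leaf (nat_lit 151594761)) (.leaf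
    (nat_lit 262336524)))) (.node (.node (.node (.leaf (nat_lit 79188749)) (.leaf (nat_lit
    475799565))) (.leaf (nat_lit 339824651))) (.node (.leaf (nat_lit 229225996)) (.leaf (nat_lit
    446835467))))) (.node (.node (.node (.node (.leaf (nat_lit 47733772)) (.leaf (nat_lit
    533426698))) (.leaf (nat_lit 296900362))) (.node (.leaf (nat_lit 192493322)) (.leaf (nat_lit
    256580621)))) (.node (.node (.node (.leaf (nat_lit 82369038)) (.leaf (nat_lit 532431367)))
    (.leaf (nat_lit 335198730))) (.node (.leaf (nat_lit 259623435)) (.leaf (nat_lit 446926861))))))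
    (.node (.node (.node (.node (.node (.leaf (nat_lit 25181451)) (.leaf (nat_lit 466871560)))
    (.leaf (nat_lit 301050376))) (.node (.leaf (nat_lit 172041738)) (.leaf (nat_lit 406515212))))
    (.node (.node (.node (.leaf (nat_lit 97565193)) (.leaf (nat_lit 562783503))) (.leaf (nat_lit
    218276360))) (.node (.leaf (nat_lit 244378887)) (.leaf (nat_lit 464219150))))) (.node (.node
    (.node (.node (.leaf (nat_lit 33060877)) (.leaf (nat_lit 544414987))) (.leaf (nat_lit
    327315466))) (.node (.leaf (nat_lit 212389128)) (.leaf (nat_lit 387657479)))) (.node (.node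
    (.leaf (nat_lit 129010443)) (.leaf (nat_lit 382834189))) (.node (.leaf (nat_lit 141692424))
    (.leaf (nat_lit 494643466))))))))))) (.node (.node (.node (.node (.node (.node (.node (.node
    (.node (.node (.leaf (nat_lit 524553)) (.leaf (nat_lit 496739335))) (.leaf (nat_lit
    276429833))) (.node (.leaf (nat_lit 130611465)) (.leaf (nat_lit 339401742)))) (.node (.node
    (.node (.leaf (nat_lit 63994633)) (.leaf (nat_lit 545464331))) (.leaf (nat_lit 328809741)))
    (.node (.leaf (nat_lit 213442063)) (.leaf (nat_lit 272315405))))) (.node (.node (.node (.node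
    (.leaf (nat_lit 22036491)) (.leaf (nat_lit 481552142))) (.leaf (nat_lit 302101775))) (.node
    (.leaf (nat_lit 174108423)) (.leaf (nat_lit 331024903)))) (.node (.node (.node (.leaf (nat_lit
    98614536)) (.leaf (nat_lit 558641934))) (.leaf (nat_lit 235054343))) (.node (.leaf (nat_lit
    242865162)) (.leaf (nat_lit 465251854)))))) (.node (.node (.node (.node (.node (.leaf (nat_lit
    16256779)) (.leaf (nat_lit 512419341))) (.leaf (nat_lit 289476363))) (.node (.leaf (nat_lit
    157327368)) (.leaf (nat_lit 262861323)))) (.node (.node (.node (.leaf (nat_lit 81286924))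
    (.leaf (nat_lit 554906892))) (.leaf (nat_lit 340364300))) (.node (.leaf (nat_lit 231268111))
    (.leaf (nat_lit 449457931))))) (.node (.node (.node (.node (.leaf (nat_lit 49819405)) (.leaf
    (nat_lit 534501903))) (.leaf (nat_lit 161110031))) (.node (.leaf (nat_lit 194035468)) (.leaf
    (nat_lit 380313097)))) (.node (.node (.node (.leaf (nat_lit 104914439)) (.leaf (nat_lit
    572255242))) (.leaf (nat_lit 357743880))) (.node (.leaf (nat_lit 208269838)) (.leaf (nat_lit
    401830415))))))) (.node (.node (.node (.node (.node (.node (.leaf (nat_lit 4197901)) (.leaf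
    (nat_lit 506649095))) (.leaf (nat_lit 264903435))) (.node (.leaf (nat_lit 94442506)) (.leaf
    (nat_lit 390240263)))) (.node (.node (.node (.leaf (nat_lit 70801675)) (.leaf (nat_lit
    549722380))) (.leaf (nat_lit 334579976))) (.node (.leaf (nat_lit 222904335)) (.leaf (nat_lit
    439567629))))) (.node (.node (.node (.node (.leaf (nat_lit 40379151)) (.leaf (nat_lit
    454816010))) (.leaf (nat_lit 181554702))) (.node (.leaf (nat_lit 185662990)) (.leaf (nat_lit
    413296391)))) (.node (.node (.node (.leaf (nat_lit 108039943)) (.leaf (nat_lit 444873484)))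
    (.leaf (nat_lit 204647947))) (.node (.leaf (nat_lit 198829065)) (.leaf (nat_lit 338920717))))))
    (.node (.node (.node (.node (.node (.leaf (nat_lit 20459790)) (.leaf (nat_lit 517687051)))
    (.leaf (nat_lit 273298697))) (.node (.leaf (nat_lit 166766351)) (.leaf (nat_lit 376634887))))
    (.node (.node (.node (.leaf (nat_lit 89697038)) (.leaf (nat_lit 479996424))) (.leaf (nat_lit
    307402766))) (.node (.leaf (nat_lit 140625422)) (.leaf (nat_lit 457855752))))) (.node (.node
    (.node (.node (.leaf (nat_lit 56643340)) (.leaf (nat_lit 495715854))) (.leaf (nat_lit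
    258631180))) (.node (.leaf (nat_lit 198803980)) (.leaf (nat_lit 422761486)))) (.node (.node
    (.node (.leaf (nat_lit 123262472)) (.leaf (nat_lit 576421388))) (.leaf (nat_lit 340446731)))
    (.node (.leaf (nat_lit 175243271)) (.leaf (nat_lit 487236109)))))))) (.node (.node (.node
    (.node (.node (.node (.node (.leaf (nat_lit 2099210)) (.leaf (nat_lit 490454287))) (.leaf
    (nat_lit 280037132))) (.node (.leaf (nat_lit 138973959)) (.leaf (nat_lit 377151755)))) (.node
    (.node (.node (.leaf (nat_lit 67666186)) (.leaf (nat_lit 538186767))) (.leaf (nat_lit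
    331511817))) (.node (.leaf (nat_lit 179937550)) (.leaf (nat_lit 396049927))))) (.node (.node
    (.node (.node (.leaf (nat_lit 37241358)) (.leaf (nat_lit 476310537))) (.leaf (nat_lit
    269108745))) (.node (.leaf (nat_lit 180400911)) (.leaf (nat_lit 410717966)))) (.node (.node
    (.node (.leaf (nat_lit 103313677)) (.leaf (nat_lit 565980686))) (.leaf (nat_lit 324184586)))
    (.node (.leaf (nat_lit 201972745)) (.leaf (nat_lit 469449486)))))) (.node (.node (.node (.node
    (.node (.leaf (nat_lit 19927565)) (.leaf (nat_lit 515067919))) (.leaf (nat_lit 292622602)))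
    (.node (.leaf (nat_lit 162046987)) (.leaf (nat_lit 399147274)))) (.node (.node (.node (.leaf
    (nat_lit 86549770)) (.leaf (nat_lit 557018380))) (.leaf (nat_lit 344052999))) (.node (.leaf
    (nat_lit 234414348)) (.leaf (nat_lit 426467338))))) (.node (.node (.node (.node (.leaf (nat_lit
    53503498)) (.leaf (nat_lit 537632008))) (.leaf (nat_lit 278552332))) (.node (.leaf (nat_lit
    113342221)) (.leaf (nat_lit 420660493)))) (.node (.node (.node (.leaf (nat_lit 119071501))
    (.leaf (nat_lit 561268489))) (.leaf (nat_lit 299550220))) (.node (.leaf (nat_lit 264886031))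
    (.leaf (nat_lit 483104523))))))) (.node (.node (.node (.node (.node (.node (.leaf (nat_lit
    11539977)) (.leaf (nat_lit 472107530))) (.leaf (nat_lit 220340494))) (.node (.leaf (nat_lit
    148446729)) (.leaf (nat_lit 392819983)))) (.node (.node (.node (.leaf (nat_lit 75010062))
    (.leaf (nat_lit 522984714))) (.leaf (nat_lit 337775373))) (.node (.leaf (nat_lit 226577929))
    (.leaf (nat_lit 401821703))))) (.node (.node (.node (.node (.leaf (nat_lit 22566415)) (.leaf
    (nat_lit 531879688))) (.leaf (nat_lit 311531532))) (.node (.leaf (nat_lit 134834696)) (.leaf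
    (nat_lit 371398921)))) (.node (.node (.node (.leaf (nat_lit 82368009)) (.leaf (nat_lit
    570126607))) (.leaf (nat_lit 362453263))) (.node (.leaf (nat_lit 207743758)) (.leaf (nat_lit
    475223565)))))) (.node (.node (.node (.node (.node (.leaf (nat_lit 28323086)) (.leaf (nat_lit
    521335821))) (.leaf (nat_lit 286407432))) (.node (.leaf (nat_lit 169427980)) (.leaf (nat_lit
    382403596)))) (.node (.node (.node (.leaf (nat_lit 77640713)) (.leaf (nat_lit 561745161)))
    (.leaf (nat_lit 351444489))) (.node (.leaf (nat_lit 214027534)) (.leaf (nat_lit 439054089)))))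
    (.node (.node (.node (.node (.leaf (nat_lit 60832525)) (.leaf (nat_lit 542841356))) (.leaf
    (nat_lit 212495375))) (.node (.leaf (nat_lit 208244232)) (.leaf (nat_lit 425324815)))) (.node
    (.node (.leaf (nat_lit 107540751)) (.leaf (nat_lit 380287758))) (.node (.leaf (nat_lit
    262277391)) (.leaf (nat_lit 490973452))))))))) (.node (.node (.node (.node (.node (.node (.node
    (.node (.leaf (nat_lit 3145995)) (.leaf (nat_lit 490977550))) (.leaf (nat_lit 277433100)))
    (.node (.leaf (nat_lit 135303437)) (.leaf (nat_lit 344121102)))) (.node (.node (.node (.leaf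
    (nat_lit 66084106)) (.leaf (nat_lit 511971847))) (.leaf (nat_lit 329889290))) (.node (.leaf
    (nat_lit 216584967)) (.leaf (nat_lit 343095815))))) (.node (.node (.node (.node (.leaf (nat_lit
    24134670)) (.leaf (nat_lit 481028361))) (.leaf (nat_lit 303675144))) (.node (.leaf (nat_lit
    176735500)) (.leaf (nat_lit 250809613)))) (.node (.node (.node (.leaf (nat_lit 56672269))
    (.leaf (nat_lit 544486664))) (.leaf (nat_lit 208840460))) (.node (.leaf (nat_lit 247524879))
    (.leaf (nat_lit 435387404)))))) (.node (.node (.node (.node (.node (.leaf (nat_lit 17834509))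
    (.leaf (nat_lit 495702791))) (.leaf (nat_lit 280635914))) (.node (.leaf (nat_lit 157888776))
    (.leaf (nat_lit 397522445)))) (.node (.node (.node (.leaf (nat_lit 84957448)) (.leaf (nat_lit
    555979278))) (.leaf (nat_lit 342000140))) (.node (.leaf (nat_lit 119651086)) (.leaf (nat_lit
    451621902))))) (.node (.node (.node (.node (.leaf (nat_lit 25715213)) (.leaf (nat_lit
    494140938))) (.leaf (nat_lit 316222989))) (.node (.leaf (nat_lit 146895886)) (.leaf (nat_lit
    419556103)))) (.node (.node (.node (.leaf (nat_lit 117997583)) (.leaf (nat_lit 573303306)))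
    (.leaf (nat_lit 367182350))) (.node (.leaf (nat_lit 263780363)) (.leaf (nat_lit
    431200007))))))) (.node (.node (.node (.node (.node (.node (.leaf (nat_lit 8917257)) (.leaf
    (nat_lit 507698445))) (.leaf (nat_lit 239213831))) (.node (.leaf (nat_lit 91822350)) (.leaf
    (nat_lit 306899721)))) (.node (.node (.node (.leaf (nat_lit 72381454)) (.leaf (nat_lit
    551234060))) (.leaf (nat_lit 335652615))) (.node (.leaf (nat_lit 153726217)) (.leaf (nat_lit
    441666316))))) (.node (.node (.node (.node (.leaf (nat_lit 41963530)) (.leaf (nat_lit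
    530291981))) (.leaf (nat_lit 310487816))) (.node (.leaf (nat_lit 184641034)) (.leaf (nat_lit
    414373903)))) (.node (.node (.node (.leaf (nat_lit 90755335)) (.leaf (nat_lit 569080589)))
    (.leaf (nat_lit 360869901))) (.node (.leaf (nat_lit 255450636)) (.leaf (nat_lit 473650956))))))
    (.node (.node (.node (.node (.node (.leaf (nat_lit 22557710)) (.leaf (nat_lit 453238284)))
    (.leaf (nat_lit 297894924))) (.node (.leaf (nat_lit 111755274)) (.leaf (nat_lit 295371273))))
    (.node (.node (.node (.leaf (nat_lit 76066569)) (.leaf (nat_lit 560676619))) (.leaf (nat_lit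
    349850383))) (.node (.leaf (nat_lit 240219400)) (.leaf (nat_lit 458964746))))) (.node (.node
    (.node (.node (.leaf (nat_lit 57176332)) (.leaf (nat_lit 474744840))) (.leaf (nat_lit
    323588620))) (.node (.leaf (nat_lit 166299406)) (.leaf (nat_lit 421210126)))) (.node (.node
    (.leaf (nat_lit 124814855)) (.leaf (nat_lit 327340296))) (.node (.leaf (nat_lit 270597640))
    (.leaf (nat_lit 488809487)))))))) (.node (.node (.node (.node (.node (.node (.node (.leaf
    (nat_lit 5245704)) (.leaf (nat_lit 504551179))) (.leaf (nat_lit 281106186))) (.node (.leaf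
    (nat_lit 142120206)) (.leaf (nat_lit 328393991)))) (.node (.node (.node (.leaf (nat_lit
    69239822)) (.leaf (nat_lit 543430159))) (.leaf (nat_lit 223509006))) (.node (.leaf (nat_lit
    221313544)) (.leaf (nat_lit 436944398))))) (.node (.node (.node (.node (.leaf (nat_lit
    38805512)) (.leaf (nat_lit 515632910))) (.leaf (nat_lit 275401482))) (.node (.leaf (nat_lit
    173628684)) (.leaf (nat_lit 366678537)))) (.node (.node (.node (.leaf (nat_lit 105935884))
    (.leaf (nat_lit 566992653))) (.leaf (nat_lit 198880267))) (.node (.leaf (nat_lit 251757066))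
    (.leaf (nat_lit 391873032)))))) (.node (.node (.node (.node (.node (.leaf (nat_lit 20982794))
    (.leaf (nat_lit 516632587))) (.leaf (nat_lit 262811918))) (.node (.leaf (nat_lit 164706825))
    (.leaf (nat_lit 400220684)))) (.node (.node (.node (.leaf (nat_lit 57714703)) (.leaf (nat_lit
    471607311))) (.leaf (nat_lit 346643469))) (.node (.leaf (nat_lit 235520520)) (.leaf (nat_lit
    448488460))))) (.node (.node (.node (.node (.leaf (nat_lit 47737097)) (.leaf (nat_lit
    490996746))) (.leaf (nat_lit 319894285))) (.node (.leaf (nat_lit 199279368)) (.leaf (nat_lit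
    421733389)))) (.node (.node (.node (.leaf (nat_lit 121668619)) (.leaf (nat_lit 485247244)))
    (.leaf (nat_lit 374442255))) (.node (.leaf (nat_lit 222428175)) (.leaf (nat_lit
    463707148))))))) (.node (.node (.node (.node (.node (.node (.leaf (nat_lit 14159112)) (.leaf
    (nat_lit 510344459))) (.leaf (nat_lit 181019662))) (.node (.leaf (nat_lit 153658380)) (.leaf
    (nat_lit 394375437)))) (.node (.node (.node (.leaf (nat_lit 44078604)) (.leaf (nat_lit
    553383437))) (.leaf (nat_lit 262833929))) (.node (.leaf (nat_lit 229170443)) (.leaf (nat_lit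
    388715273))))) (.node (.node (.node (.node (.leaf (nat_lit 31480583)) (.leaf (nat_lit
    532932623))) (.leaf (nat_lit 243947020))) (.node (.leaf (nat_lit 192462348)) (.leaf (nat_lit
    410196750)))) (.node (.node (.node (.leaf (nat_lit 113826061)) (.leaf (nat_lit 571196679)))
    (.leaf (nat_lit 365082888))) (.node (.leaf (nat_lit 259585543)) (.leaf (nat_lit 477835531))))))
    (.node (.node (.node (.node (.node (.leaf (nat_lit 30948361)) (.leaf (nat_lit 522444045)))
    (.leaf (nat_lit 213007884))) (.node (.leaf (nat_lit 172010255)) (.leaf (nat_lit 406443277))))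
    (.node (.node (.node (.leaf (nat_lit 97039881)) (.leaf (nat_lit 562810634))) (.leaf (nat_lit
    270180875))) (.node (.leaf (nat_lit 241291529)) (.leaf (nat_lit 464150029))))) (.node (.node
    (.node (.node (.leaf (nat_lit 41973518)) (.leaf (nat_lit 543928586))) (.leaf (nat_lit
    326732303))) (.node (.leaf (nat_lit 211391242)) (.leaf (nat_lit 397618696)))) (.node (.node
    (.leaf (nat_lit 105968905)) (.leaf (nat_lit 381862926))) (.node (.leaf (nat_lit 275317516))
    (.leaf (nat_lit 494059275)))))))))) (.node (.node (.node (.node (.node (.node (.node (.node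
    (.node (.leaf (nat_lit 1573647)) (.leaf (nat_lit 498780172))) (.leaf (nat_lit 155324426)))
    (.node (.leaf (nat_lit 132681227)) (.leaf (nat_lit 384471306)))) (.node (.node (.node (.leaf
    (nat_lit 65565448)) (.leaf (nat_lit 546018567))) (.leaf (nat_lit 282227726))) (.node (.leaf
    (nat_lit 214516239)) (.leaf (nat_lit 399193863))))) (.node (.node (.node (.node (.leaf (nat_lit
    35134987)) (.leaf (nat_lit 524539146))) (.leaf (nat_lit 287982094))) (.node (.leaf (nat_lit
    136924682)) (.leaf (nat_lit 369298441)))) (.node (.node (.node (.leaf (nat_lit 99656974))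
    (.leaf (nat_lit 564396040))) (.leaf (nat_lit 259696140))) (.node (.leaf (nat_lit 245996298))
    (.leaf (nat_lit 466772239)))))) (.node (.node (.node (.node (.node (.leaf (nat_lit 15212559))
    (.leaf (nat_lit 478925326))) (.leaf (nat_lit 239741193))) (.node (.leaf (nat_lit 157852423))
    (.leaf (nat_lit 344650766)))) (.node (.node (.node (.leaf (nat_lit 83384335)) (.leaf (nat_lit
    461644553))) (.leaf (nat_lit 335710728))) (.node (.leaf (nat_lit 231794444)) (.leaf (nat_lit
    436951820))))) (.node (.node (.node (.node (.leaf (nat_lit 50867976)) (.leaf (nat_lit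
    505674767))) (.leaf (nat_lit 190994696))) (.node (.leaf (nat_lit 194605833)) (.leaf (nat_lit
    419031567)))) (.node (.node (.node (.leaf (nat_lit 116952841)) (.leaf (nat_lit 485245966)))
    (.leaf (nat_lit 368673031))) (.node (.leaf (nat_lit 261720844)) (.leaf (nat_lit
    469996812))))))) (.node (.node (.node (.node (.node (.node (.leaf (nat_lit 7868174)) (.leaf
    (nat_lit 506694671))) (.leaf (nat_lit 238164999))) (.node (.leaf (nat_lit 146315275)) (.leaf
    (nat_lit 391226892)))) (.node (.node (.node (.leaf (nat_lit 71338249)) (.leaf (nat_lit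
    550709771))) (.leaf (nat_lit 264404750))) (.node (.leaf (nat_lit 216115982)) (.leaf (nat_lit
    293292040))))) (.node (.node (.node (.node (.leaf (nat_lit 31477256)) (.leaf (nat_lit
    446427663))) (.leaf (nat_lit 309987338))) (.node (.leaf (nat_lit 184116233)) (.leaf (nat_lit
    379262222)))) (.node (.node (.node (.leaf (nat_lit 92327687)) (.leaf (nat_lit 569068812)))
    (.leaf (nat_lit 360307983))) (.node (.leaf (nat_lit 200402446)) (.leaf (nat_lit 430147082))))))
    (.node (.node (.node (.node (.node (.leaf (nat_lit 26221068)) (.leaf (nat_lit 485743882)))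
    (.leaf (nat_lit 297342733))) (.node (.leaf (nat_lit 140066573)) (.leaf (nat_lit 402846986))))
    (.node (.node (.node (.leaf (nat_lit 90726923)) (.leaf (nat_lit 560152076))) (.leaf (nat_lit
    270703113))) (.node (.leaf (nat_lit 239134219)) (.leaf (nat_lit 346778120))))) (.node (.node
    (.node (.node (.leaf (nat_lit 54554124)) (.leaf (nat_lit 540784394))) (.leaf (nat_lit
    323086859))) (.node (.leaf (nat_lit 200901899)) (.leaf (nat_lit 423284494)))) (.node (.node
    (.node (.leaf (nat_lit 123791626)) (.leaf (nat_lit 576470029))) (.leaf (nat_lit 324194311)))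
    (.node (.leaf (nat_lit 178389261)) (.leaf (nat_lit 442737164)))))))) (.node (.node (.node
    (.node (.node (.node (.node (.leaf (nat_lit 4719887)) (.leaf (nat_lit 503036170))) (.leaf
    (nat_lit 239736590))) (.node (.leaf (nat_lit 140022794)) (.leaf (nat_lit 387555341)))) (.node
    (.node (.node (.leaf (nat_lit 68700936)) (.leaf (nat_lit 548123919))) (.leaf (nat_lit
    298481934))) (.node (.leaf (nat_lit 219751943)) (.leaf (nat_lit 436345613))))) (.node (.node
    (.node (.node (.leaf (nat_lit 22038540)) (.leaf (nat_lit 460057868))) (.leaf (nat_lit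
    289032200))) (.node (.leaf (nat_lit 141646601)) (.leaf (nat_lit 411688712)))) (.node (.node
    (.node (.leaf (nat_lit 103859980)) (.leaf (nat_lit 473708559))) (.leaf (nat_lit 358263562)))
    (.node (.leaf (nat_lit 200924682)) (.leaf (nat_lit 454263048)))))) (.node (.node (.node (.node
    (.node (.leaf (nat_lit 22024973)) (.leaf (nat_lit 516143624))) (.leaf (nat_lit 293146893)))
    (.node (.leaf (nat_lit 163620111)) (.leaf (nat_lit 399671564)))) (.node (.node (.node (.leaf
    (nat_lit 79734537)) (.leaf (nat_lit 479995661))) (.leaf (nat_lit 302682888))) (.node (.leaf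
    (nat_lit 185188366)) (.leaf (nat_lit 454182157))))) (.node (.node (.node (.node (.leaf (nat_lit
    54552585)) (.leaf (nat_lit 497811981))) (.leaf (nat_lit 190996489))) (.node (.leaf (nat_lit
    197225223)) (.leaf (nat_lit 421160712)))) (.node (.node (.node (.leaf (nat_lit 120120840))
    (.leaf (nat_lit 486819849))) (.leaf (nat_lit 372871948))) (.node (.leaf (nat_lit 132774670))
    (.leaf (nat_lit 484088840))))))) (.node (.node (.node (.node (.node (.node (.leaf (nat_lit
    12589070)) (.leaf (nat_lit 489409290))) (.leaf (nat_lit 239215369))) (.node (.leaf (nat_lit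
    138486031)) (.leaf (nat_lit 393849863)))) (.node (.node (.node (.leaf (nat_lit 44077839))
    (.leaf (nat_lit 466886158))) (.leaf (nat_lit 271222030))) (.node (.leaf (nat_lit 227102474))
    (.leaf (nat_lit 445335562))))) (.node (.node (.node (.node (.leaf (nat_lit 46672399)) (.leaf
    (nat_lit 469497615))) (.leaf (nat_lit 312592139))) (.node (.leaf (nat_lit 189885705)) (.leaf
    (nat_lit 416470031)))) (.node (.node (.node (.leaf (nat_lit 112762120)) (.leaf (nat_lit
    560218125))) (.leaf (nat_lit 363952655))) (.node (.leaf (nat_lit 208268553)) (.leaf (nat_lit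
    476745231)))))) (.node (.node (.node (.node (.node (.leaf (nat_lit 24655887)) (.leaf (nat_lit
    521860363))) (.leaf (nat_lit 265436425))) (.node (.leaf (nat_lit 113329422)) (.leaf (nat_lit
    405393932)))) (.node (.node (.node (.leaf (nat_lit 95467278)) (.leaf (nat_lit 467939342)))
    (.leaf (nat_lit 295345935))) (.node (.leaf (nat_lit 236572425)) (.leaf (nat_lit 462105868)))))
    (.node (.node (.node (.node (.leaf (nat_lit 61365770)) (.leaf (nat_lit 490474510))) (.leaf
    (nat_lit 326187527))) (.node (.leaf (nat_lit 177818635)) (.leaf (nat_lit 364063502)))) (.node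
    (.node (.leaf (nat_lit 127452170)) (.leaf (nat_lit 381260551))) (.node (.leaf (nat_lit
    235014924)) (.leaf (nat_lit 492534280))))))))) (.node (.node (.node (.node (.node (.node (.node
    (.node (.leaf (nat_lit 3147277)) (.leaf (nat_lit 495696655))) (.leaf (nat_lit 278533128)))
    (.node (.leaf (nat_lit 137400588)) (.leaf (nat_lit 386004494)))) (.node (.node (.node (.leaf
    (nat_lit 62947337)) (.leaf (nat_lit 547091208))) (.leaf (nat_lit 330421769))) (.node (.leaf
    (nat_lit 217644295)) (.leaf (nat_lit 342572039))))) (.node (.node (.node (.node (.leaf (nat_lit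
    33048073)) (.leaf (nat_lit 522971661))) (.leaf (nat_lit 288506888))) (.node (.leaf (nat_lit
    132731914)) (.leaf (nat_lit 410193415)))) (.node (.node (.node (.leaf (nat_lit 101740039))
    (.leaf (nat_lit 565447687))) (.leaf (nat_lit 356690184))) (.node (.leaf (nat_lit 248109580))
    (.leaf (nat_lit 397114889)))))) (.node (.node (.node (.node (.node (.leaf (nat_lit 18883598))
    (.leaf (nat_lit 398710023))) (.leaf (nat_lit 291645966))) (.node (.leaf (nat_lit 160503048))
    (.leaf (nat_lit 368244494)))) (.node (.node (.node (.leaf (nat_lit 85491215)) (.leaf (nat_lit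
    556504334))) (.leaf (nat_lit 222990093))) (.node (.leaf (nat_lit 216644873)) (.leaf (nat_lit
    316366599))))) (.node (.node (.node (.node (.leaf (nat_lit 52965647)) (.leaf (nat_lit
    537071627))) (.leaf (nat_lit 317796111))) (.node (.leaf (nat_lit 195634188)) (.leaf (nat_lit
    375595273)))) (.node (.node (.node (.leaf (nat_lit 108061193)) (.leaf (nat_lit 573808135)))
    (.leaf (nat_lit 371295240))) (.node (.leaf (nat_lit 264370191)) (.leaf (nat_lit
    482552842))))))) (.node (.node (.node (.node (.node (.node (.leaf (nat_lit 9966345)) (.leaf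
    (nat_lit 428591374))) (.leaf (nat_lit 284757005))) (.node (.leaf (nat_lit 148936975)) (.leaf
    (nat_lit 347270156)))) (.node (.node (.node (.leaf (nat_lit 73945100)) (.leaf (nat_lit
    551758863))) (.leaf (nat_lit 337202952))) (.node (.leaf (nat_lit 225511183)) (.leaf (nat_lit
    443688461))))) (.node (.node (.node (.node (.leaf (nat_lit 39342856)) (.leaf (nat_lit
    530838796))) (.leaf (nat_lit 310991629))) (.node (.leaf (nat_lit 188791819)) (.leaf (nat_lit
    364582921)))) (.node (.node (.node (.leaf (nat_lit 75551239)) (.leaf (nat_lit 555499022)))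
    (.leaf (nat_lit 343061000))) (.node (.leaf (nat_lit 256963592)) (.leaf (nat_lit 474647819))))))
    (.node (.node (.node (.node (.node (.leaf (nat_lit 27797518)) (.leaf (nat_lit 463200265)))
    (.leaf (nat_lit 298916108))) (.node (.leaf (nat_lit 168864008)) (.leaf (nat_lit 262341386))))
    (.node (.node (.node (.leaf (nat_lit 92835082)) (.leaf (nat_lit 560737804))) (.leaf (nat_lit
    346201352))) (.node (.leaf (nat_lit 240725767)) (.leaf (nat_lit 317418759))))) (.node (.node
    (.node (.node (.leaf (nat_lit 58749449)) (.leaf (nat_lit 541838600))) (.leaf (nat_lit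
    324692746))) (.node (.leaf (nat_lit 206096653)) (.leaf (nat_lit 424326159)))) (.node (.node
    (.leaf (nat_lit 102821902)) (.leaf (nat_lit 379686920))) (.node (.leaf (nat_lit 267519758))
    (.leaf (nat_lit 471573771)))))))) (.node (.node (.node (.node (.node (.node (.node (.leaf
    (nat_lit 6294543)) (.leaf (nat_lit 505600011))) (.leaf (nat_lit 282134796))) (.node (.leaf
    (nat_lit 144217607)) (.leaf (nat_lit 316859911)))) (.node (.node (.node (.leaf (nat_lit
    70273039)) (.leaf (nat_lit 549155591))) (.leaf (nat_lit 333021452))) (.node (.leaf (nat_lit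
    222353415)) (.leaf (nat_lit 284902153))))) (.node (.node (.node (.node (.leaf (nat_lit
    39330060)) (.leaf (nat_lit 515108878))) (.leaf (nat_lit 265964552))) (.node (.leaf (nat_lit
    184596491)) (.leaf (nat_lit 367727369)))) (.node (.node (.node (.leaf (nat_lit 106984971))
    (.leaf (nat_lit 567536909))) (.leaf (nat_lit 359236879))) (.node (.leaf (nat_lit 252809226))
    (.leaf (nat_lit 428573450)))))) (.node (.node (.node (.node (.node (.leaf (nat_lit 24646668))
    (.leaf (nat_lit 483645964))) (.leaf (nat_lit 249705228))) (.node (.leaf (nat_lit 146357258))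
    (.leaf (nat_lit 248183823)))) (.node (.node (.node (.leaf (nat_lit 89153287)) (.leaf (nat_lit
    559102988))) (.leaf (nat_lit 347692295))) (.node (.leaf (nat_lit 237036556)) (.leaf (nat_lit
    309552653))))) (.node (.node (.node (.node (.leaf (nat_lit 30435847)) (.leaf (nat_lit
    494667017))) (.leaf (nat_lit 295330826))) (.node (.leaf (nat_lit 176783371)) (.leaf (nat_lit
    368780558)))) (.node (.node (.node (.leaf (nat_lit 122198535)) (.leaf (nat_lit 466897420)))
    (.leaf (nat_lit 373999887))) (.node (.leaf (nat_lit 244972815)) (.leaf (nat_lit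
    485724429))))))) (.node (.node (.node (.node (.node (.node (.leaf (nat_lit 14687500)) (.leaf
    (nat_lit 442224393))) (.leaf (nat_lit 270149134))) (.node (.leaf (nat_lit 155754251)) (.leaf
    (nat_lit 340455687)))) (.node (.node (.node (.leaf (nat_lit 44603405)) (.leaf (nat_lit
    553869068))) (.leaf (nat_lit 339891721))) (.node (.leaf (nat_lit 230267150)) (.leaf (nat_lit
    320034316))))) (.node (.node (.node (.node (.leaf (nat_lit 48258063)) (.leaf (nat_lit
    533961991))) (.leaf (nat_lit 182605576))) (.node (.leaf (nat_lit 193032205)) (.leaf (nat_lit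
    417982472)))) (.node (.node (.node (.leaf (nat_lit 114850575)) (.leaf (nat_lit 571719175)))
    (.leaf (nat_lit 231913997))) (.node (.leaf (nat_lit 260148750)) (.leaf (nat_lit 478883087))))))
    (.node (.node (.node (.node (.node (.leaf (nat_lit 32519439)) (.leaf (nat_lit 467396105)))
    (.leaf (nat_lit 301538573))) (.node (.leaf (nat_lit 134302218)) (.leaf (nat_lit 331548679))))
    (.node (.node (.node (.leaf (nat_lit 97565197)) (.leaf (nat_lit 563310599))) (.leaf (nat_lit
    291152650))) (.node (.leaf (nat_lit 244429834)) (.leaf (nat_lit 454784521))))) (.node (.node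
    (.node (.node (.leaf (nat_lit 52459786)) (.leaf (nat_lit 544939276))) (.leaf (nat_lit
    327760652))) (.node (.leaf (nat_lit 212913679)) (.leaf (nat_lit 270217485)))) (.node (.node
    (.leaf (nat_lit 129534732)) (.leaf (nat_lit 292215559))) (.node (.leaf (nat_lit 275866891))
    (.leaf (nat_lit 495632396))))))))))))))

/-- Certificate data. -/
def tK_just : Trie :=
    (.node (.node (.node (.node (.node (.node (.node (.node (.node (.node (.node (.node (.node
    (.leaf (nat_lit 1)) (.leaf (nat_lit 575932982427254814))) (.leaf (nat_lit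
    4212948021048420532256))) (.node (.leaf (nat_lit 143420292432265246)) (.leaf (nat_lit
    6510788353626602668090)))) (.node (.node (.node (.leaf (nat_lit 19324964799426793826418782))
    (.leaf (nat_lit 647854237023338526))) (.leaf (nat_lit 359465531197227038))) (.node (.leaf
    (nat_lit 13680953562240443946001630484627460)) (.leaf (nat_lit 0))))) (.node (.node (.node
    (.node (.leaf (nat_lit 0)) (.leaf (nat_lit 10034449394913960460333))) (.leaf (nat_lit
    1425530382468483131250676400137))) (.node (.leaf (nat_lit 48340551905104102919766041)) (.leaf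
    (nat_lit 7673117246258610896923)))) (.node (.node (.node (.leaf (nat_lit 0)) (.leaf (nat_lit
    11210425394632627257373))) (.leaf (nat_lit 0))) (.node (.leaf (nat_lit 4124249758938639302684))
    (.leaf (nat_lit 145060889752551144433123408)))))) (.node (.node (.node (.node (.node (.leaf
    (nat_lit 290546564452946477074)) (.leaf (nat_lit 9290681958354190008355))) (.leaf (nat_lit
    5016643657015408918617))) (.node (.leaf (nat_lit 2619529992150427303952)) (.leaf (nat_lit
    7377924233460109738011)))) (.node (.node (.node (.leaf (nat_lit 24104001985936061544792088))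
    (.leaf (nat_lit 665588260067737630))) (.leaf (nat_lit 6192615510574511620169))) (.node (.leaf
    (nat_lit 58183110897031632856023173)) (.leaf (nat_lit 0))))) (.node (.node (.node (.node (.leaf
    (nat_lit 0)) (.leaf (nat_lit 10024111174286187888698))) (.leaf (nat_lit
    401119039816294349737803150979246784546))) (.node (.leaf (nat_lit 53138862517279191147479172))
    (.leaf (nat_lit 485433279856640013)))) (.node (.node (.node (.leaf (nat_lit
    2029214898556793716739)) (.leaf (nat_lit 702392736770293790))) (.leaf (nat_lit 0))) (.node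
    (.leaf (nat_lit 4424029412276551483421)) (.leaf (nat_lit 0))))))) (.node (.node (.node (.node
    (.node (.node (.leaf (nat_lit 0)) (.leaf (nat_lit 9470528423866050740241))) (.leaf (nat_lit
    296552025611698206))) (.node (.leaf (nat_lit 2495022561508712448058)) (.leaf (nat_lit
    5043171633148920528924)))) (.node (.node (.node (.leaf (nat_lit 1325902026856632352771)) (.leaf
    (nat_lit 10763164469465016631324))) (.leaf (nat_lit 99081162462879334439059635))) (.node (.leaf
    (nat_lit 3343676094613851144223)) (.leaf (nat_lit 8406345208132016472091))))) (.node (.node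
    (.node (.node (.leaf (nat_lit 24561436202237982)) (.leaf (nat_lit 10179704343460497784860)))
    (.leaf (nat_lit 4163484074287525199900))) (.node (.leaf (nat_lit 49549465015282497407418401))
    (.leaf (nat_lit 7820681976977977180205)))) (.node (.node (.node (.leaf (nat_lit
    1895473047985388191760)) (.leaf (nat_lit 0))) (.leaf (nat_lit 6630855713456432283677))) (.node
    (.leaf (nat_lit 0)) (.leaf (nat_lit 0)))))) (.node (.node (.node (.node (.node (.leaf (nat_lit
    26460292783407134)) (.leaf (nat_lit 0))) (.leaf (nat_lit 0))) (.node (.leaf (nat_lit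
    45904201603955067598405665)) (.leaf (nat_lit 0)))) (.node (.node (.node (.leaf (nat_lit
    908557250399905710111)) (.leaf (nat_lit 674455271589937182))) (.leaf (nat_lit
    286917005217497142))) (.node (.leaf (nat_lit 242364794060013598)) (.leaf (nat_lit
    8505526506523862433804))))) (.node (.node (.node (.node (.leaf (nat_lit
    1200553991736635346497331333298289587519528)) (.leaf (nat_lit 9539752060751066628131))) (.leaf
    (nat_lit 5754546426830410416181))) (.node (.leaf (nat_lit 2917005275914901323792)) (.leaf
    (nat_lit 8111289625581088604206)))) (.node (.node (.node (.leaf (nat_lit 124560919236837430))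
    (.leaf (nat_lit 11550509023318176366610))) (.leaf (nat_lit 0))) (.node (.leaf (nat_lit 0))
    (.leaf (nat_lit 0)))))))) (.node (.node (.node (.node (.node (.node (.node (.leaf (nat_lit 0))
    (.leaf (nat_lit 0))) (.leaf (nat_lit 1048908622663145973391840051356))) (.node (.leaf (nat_lit
    148346379402608670)) (.leaf (nat_lit 7151960833714443976732)))) (.node (.node (.node (.leaf
    (nat_lit 659510722898128207903)) (.leaf (nat_lit 10691646320343053959247))) (.leaf (nat_lit
    5971277514367226282057))) (.node (.leaf (nat_lit 3612274361906235637788)) (.leaf (nat_lit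
    6431291239889648156770))))) (.node (.node (.node (.node (.leaf (nat_lit 583397424090497351692))
    (.leaf (nat_lit 2713419276978525123082646257673))) (.leaf (nat_lit
    228722168096414608708990728275019366463))) (.node (.leaf (nat_lit
    198315479039870240878791040066973532194)) (.leaf (nat_lit 7736576132327598653519)))) (.node
    (.node (.node (.leaf (nat_lit 104926665221734454)) (.leaf (nat_lit 11286634816109717684256)))
    (.leaf (nat_lit 6548791414208069828622))) (.node (.leaf (nat_lit
    783642755908847701751228596308)) (.leaf (nat_lit 8922928704056226676763)))))) (.node (.node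
    (.node (.node (.node (.leaf (nat_lit 5667042706225743184265240)) (.leaf (nat_lit
    9212285266649229230178))) (.leaf (nat_lit 5085833168023026073628))) (.node (.leaf (nat_lit 0))
    (.leaf (nat_lit 0)))) (.node (.node (.node (.leaf (nat_lit 1541549083897981239343)) (.leaf
    (nat_lit 8959913610668440485947))) (.leaf (nat_lit 3965138583207522009100))) (.node (.leaf
    (nat_lit 3909776523352709726236)) (.leaf (nat_lit 6460135459596328435770))))) (.node (.node
    (.node (.node (.leaf (nat_lit 804767079807391563779)) (.leaf (nat_lit 9408313801681118887952)))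
    (.leaf (nat_lit 5178086102168290656259))) (.node (.leaf (nat_lit 0)) (.leaf (nat_lit
    4383673936152161878048)))) (.node (.node (.node (.leaf (nat_lit 2026964365638201704480)) (.leaf
    (nat_lit 11579420579822771044398))) (.leaf (nat_lit 418297374742544397))) (.node (.leaf
    (nat_lit 65343374947675733646043835063351316766779834526)) (.leaf (nat_lit
    9218159224323087466525))))))) (.node (.node (.node (.node (.node (.node (.leaf (nat_lit
    212144946368957579299)) (.leaf (nat_lit 9665490305058468986885))) (.leaf (nat_lit 0))) (.node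
    (.leaf (nat_lit 2387795513830596083715)) (.leaf (nat_lit 445811145694117918)))) (.node (.node
    (.node (.leaf (nat_lit 85292136328724510)) (.leaf (nat_lit 2777480311512939510490544275498)))
    (.leaf (nat_lit 373117892201414669))) (.node (.leaf (nat_lit 0)) (.leaf (nat_lit
    6449749243520771883106))))) (.node (.node (.node (.node (.leaf (nat_lit 0)) (.leaf (nat_lit
    9297628059024702504978))) (.leaf (nat_lit 3148934472246453534748))) (.node (.leaf (nat_lit
    2700250965683189514257)) (.leaf (nat_lit 7894465998163517046829)))) (.node (.node (.node (.leaf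
    (nat_lit 0)) (.leaf (nat_lit 0))) (.leaf (nat_lit 5750975644544398458888))) (.node (.leaf
    (nat_lit 265165641563111437)) (.leaf (nat_lit 8792561389480899182609)))))) (.node (.node (.node
    (.node (.node (.leaf (nat_lit 510774767636663435293)) (.leaf (nat_lit 8805313405475897933859)))
    (.leaf (nat_lit 228084611916365854))) (.node (.leaf (nat_lit 174665938992496653)) (.leaf
    (nat_lit 7599230064558531084336)))) (.node (.node (.node (.leaf (nat_lit
    23254592870165182637408364)) (.leaf (nat_lit 11141359732777971548176))) (.leaf (nat_lit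
    6343564137857644953614))) (.node (.leaf (nat_lit 286299943791111120821916175912533426210))
    (.leaf (nat_lit 7575039687760994828386))))) (.node (.node (.node (.node (.leaf (nat_lit
    1298591787333171468517365339781520813457501)) (.leaf (nat_lit
    46099661656911838620675351035379842))) (.leaf (nat_lit
    6878206500777873946705615924039490910814272))) (.node (.leaf (nat_lit 0)) (.leaf (nat_lit 0))))
    (.node (.node (.leaf (nat_lit 30735015050916472855724065)) (.leaf (nat_lit
    427445861241454605))) (.node (.leaf (nat_lit 4647705818473414459453)) (.leaf (nat_lit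
    0))))))))) (.node (.node (.node (.node (.node (.node (.node (.node (.leaf (nat_lit
    131839376338316032729819239546890)) (.leaf (nat_lit 578466394656604190))) (.leaf (nat_lit
    4756023937004634046476))) (.node (.leaf (nat_lit 0)) (.leaf (nat_lit 7114993520379196276815))))
    (.node (.node (.node (.leaf (nat_lit 1214090523003637137487)) (.leaf (nat_lit
    10657034396703912034332))) (.leaf (nat_lit 5936691698850729230409))) (.node (.leaf (nat_lit 0))
    (.leaf (nat_lit 8300338002286327562267))))) (.node (.node (.node (.node (.leaf (nat_lit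
    402390084744512733200)) (.leaf (nat_lit 10066747027158533865484))) (.leaf (nat_lit
    5226481078813851844637))) (.node (.leaf (nat_lit 0)) (.leaf (nat_lit 4229173727582205706271))))
    (.node (.node (.node (.leaf (nat_lit 0)) (.leaf (nat_lit 11249686859195640643663))) (.leaf
    (nat_lit 0))) (.node (.leaf (nat_lit 0)) (.leaf (nat_lit
    37047342352643051520185305156419588)))))) (.node (.node (.node (.node (.node (.leaf (nat_lit
    0)) (.leaf (nat_lit 9776194696497244340313))) (.leaf (nat_lit 2497379923904772112419))) (.node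
    (.leaf (nat_lit 2687623501905823727663)) (.leaf (nat_lit 7410262260920074043410)))) (.node
    (.node (.node (.leaf (nat_lit 1498849330802853085187)) (.leaf (nat_lit
    10956792087640656773165))) (.leaf (nat_lit 5604693801048605917212))) (.node (.leaf (nat_lit
    3072690776170131816496)) (.leaf (nat_lit 2307348175962582454633488515153))))) (.node (.node
    (.node (.node (.leaf (nat_lit 55454002090999821)) (.leaf (nat_lit 0))) (.leaf (nat_lit 0)))
    (.node (.leaf (nat_lit 880204987648766944279196401706)) (.leaf (nat_lit
    7030781218028014206979)))) (.node (.node (.node (.leaf (nat_lit 2008512132682187210799)) (.leaf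
    (nat_lit 11547075723686928646149))) (.leaf (nat_lit 3405937948932094230559))) (.node (.leaf
    (nat_lit 0)) (.leaf (nat_lit 10818776350097208801245965145423166476648638))))))) (.node (.node
    (.node (.node (.node (.node (.leaf (nat_lit 0)) (.leaf (nat_lit 0))) (.leaf (nat_lit
    3303330672247692263482))) (.node (.leaf (nat_lit 670368257256295808573171368049)) (.leaf
    (nat_lit 331674962488328222)))) (.node (.node (.node (.leaf (nat_lit 1361683054689828143131))
    (.leaf (nat_lit 9572054552544977027088))) (.leaf (nat_lit 6086547428596808613947))) (.node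
    (.leaf (nat_lit 3720704221424774217744)) (.leaf (nat_lit 6304477404242248925192))))) (.node
    (.node (.node (.node (.leaf (nat_lit 0)) (.leaf (nat_lit 8878090802368681803823))) (.leaf
    (nat_lit 5491645487064088248365))) (.node (.leaf (nat_lit 3006927733918861033484)) (.leaf
    (nat_lit 7853020148718777860142)))) (.node (.node (.node (.leaf (nat_lit
    1698340148218836484127)) (.leaf (nat_lit 694722706863685662))) (.leaf (nat_lit
    6667751453442319777821))) (.node (.leaf (nat_lit 4313289133723138326574)) (.leaf (nat_lit
    148007199136901488628203600)))))) (.node (.node (.node (.node (.node (.leaf (nat_lit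
    25897480268939294)) (.leaf (nat_lit 9923762454116287316021))) (.leaf (nat_lit
    5077621699850296033378))) (.node (.leaf (nat_lit 2506548751918551990284)) (.leaf (nat_lit
    6491401625663464210480)))) (.node (.node (.node (.leaf (nat_lit 1411233067239511097360)) (.leaf
    (nat_lit 543780651090968606))) (.leaf (nat_lit 6242106834208570933260))) (.node (.leaf (nat_lit
    3629529767667912867856)) (.leaf (nat_lit 6488984322944339738632))))) (.node (.node (.node
    (.node (.leaf (nat_lit 0)) (.leaf (nat_lit 9962973754500665507929))) (.leaf (nat_lit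
    266226532844961807))) (.node (.leaf (nat_lit 0)) (.leaf (nat_lit
    1856347872999857789318893731882)))) (.node (.node (.leaf (nat_lit 2247180324402733711449))
    (.leaf (nat_lit 6972071585745584980000))) (.node (.leaf (nat_lit 4608466240775978680332))
    (.leaf (nat_lit 8550462088953267945490)))))))) (.node (.node (.node (.node (.node (.node (.node
    (.leaf (nat_lit 102615643748846207005)) (.leaf (nat_lit 2493936204268318362107572977771)))
    (.leaf (nat_lit 4832140118199176986713))) (.node (.leaf (nat_lit 2440867338802096701488))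
    (.leaf (nat_lit 5557302918332998156296)))) (.node (.node (.node (.leaf (nat_lit
    1287878837524385431631)) (.leaf (nat_lit 10728517995979369283631))) (.leaf (nat_lit
    6005764175912245592091))) (.node (.leaf (nat_lit 0)) (.leaf (nat_lit
    7374384760347519287388))))) (.node (.node (.node (.node (.leaf (nat_lit
    705086582517744368479401899820977259806788)) (.leaf (nat_lit 0))) (.leaf (nat_lit
    4641822297737044099099))) (.node (.leaf (nat_lit 3061179290147765813293)) (.leaf (nat_lit
    474173593593446413)))) (.node (.node (.node (.leaf (nat_lit 1872412154841176145955)) (.leaf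
    (nat_lit 0))) (.leaf (nat_lit 6598525579811350577180))) (.node (.leaf (nat_lit 0)) (.leaf
    (nat_lit 8913673527245379141646)))))) (.node (.node (.node (.node (.node (.leaf (nat_lit
    403535968550068092936)) (.leaf (nat_lit 0))) (.leaf (nat_lit 0))) (.node (.leaf (nat_lit
    742170592980075789036009357354)) (.leaf (nat_lit 7169257193741635223600)))) (.node (.node
    (.node (.leaf (nat_lit 892415364018372542496)) (.leaf (nat_lit
    2960993211216140198651502067721))) (.leaf (nat_lit 6307959237858639937548))) (.node (.leaf
    (nat_lit 2956278637051993325597)) (.leaf (nat_lit 6062390488501923807330))))) (.node (.node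
    (.node (.node (.leaf (nat_lit 227168608766392145125717639210)) (.leaf (nat_lit 0))) (.leaf
    (nat_lit 2723365911343009038371))) (.node (.leaf (nat_lit 3154580852170371039260)) (.leaf
    (nat_lit 8076641533180533473359)))) (.node (.node (.node (.leaf (nat_lit
    1996938022643621363726)) (.leaf (nat_lit 11620935817320330362925))) (.leaf (nat_lit 0))) (.node
    (.leaf (nat_lit 326920529479286533933624140336237838441)) (.leaf (nat_lit
    561084490211000333))))))) (.node (.node (.node (.node (.node (.node (.leaf (nat_lit 0)) (.leaf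
    (nat_lit 9695478298208458965004))) (.leaf (nat_lit 81587626122715737996132448))) (.node (.leaf
    (nat_lit 0)) (.leaf (nat_lit 444194859306319926)))) (.node (.node (.node (.leaf (nat_lit
    1570839612548626947258074415302864972284006)) (.leaf (nat_lit 10880783567905991360528))) (.leaf
    (nat_lit 107494240397275649810070279468672120097985855544))) (.node (.leaf (nat_lit 0)) (.leaf
    (nat_lit 8517093437906845106188))))) (.node (.node (.node (.node (.leaf (nat_lit
    846269227704921554947)) (.leaf (nat_lit 9354260613361502978095))) (.leaf (nat_lit 0))) (.node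
    (.leaf (nat_lit 3208775268467902447661)) (.leaf (nat_lit 0)))) (.node (.node (.node (.leaf
    (nat_lit 0)) (.leaf (nat_lit 8955300519044656070684))) (.leaf (nat_lit
    122613132891681991359049493875472125651082346681))) (.node (.leaf (nat_lit
    3470436734488539234331)) (.leaf (nat_lit 0)))))) (.node (.node (.node (.node (.node (.leaf
    (nat_lit 0)) (.leaf (nat_lit 9329894379076492394513))) (.leaf (nat_lit
    2612677986164601454624))) (.node (.leaf (nat_lit 709061024009925302451467255850)) (.leaf
    (nat_lit 273199910466224158)))) (.node (.node (.node (.leaf (nat_lit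
    462386472315675722188677513325)) (.leaf (nat_lit 11173504173572140236816))) (.leaf (nat_lit
    0))) (.node (.leaf (nat_lit 4094266979002773340188)) (.leaf (nat_lit 0))))) (.node (.node
    (.node (.node (.leaf (nat_lit 1133390241601104838684)) (.leaf (nat_lit
    10585604565166255702085))) (.leaf (nat_lit 5863928875533599965196))) (.node (.leaf (nat_lit 0))
    (.leaf (nat_lit 0)))) (.node (.node (.leaf (nat_lit 166911352325105800333480612544104562771))
    (.leaf (nat_lit 3525848823110257803295))) (.node (.leaf (nat_lit 4531129164172055740434))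
    (.leaf (nat_lit 0)))))))))) (.node (.node (.node (.node (.node (.node (.node (.node (.node
    (.leaf (nat_lit 60848776406015076621390172258308)) (.leaf (nat_lit 0))) (.leaf (nat_lit
    180654214324813837))) (.node (.leaf (nat_lit 2250050945418425566517853335586135947608179))
    (.leaf (nat_lit 103009399972432799003312161)))) (.node (.node (.node (.leaf (nat_lit
    613390766274362146848)) (.leaf (nat_lit 9519009748140448481296))) (.leaf (nat_lit
    5919270796810747314184))) (.node (.leaf (nat_lit 3554660723913885155375)) (.leaf (nat_lit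
    0))))) (.node (.node (.node (.node (.leaf (nat_lit 0)) (.leaf (nat_lit
    10045976636959427330075))) (.leaf (nat_lit 0))) (.node (.leaf (nat_lit 2425849172906381344826))
    (.leaf (nat_lit 7691504809076005732379)))) (.node (.node (.node (.leaf (nat_lit
    1777865694982887899150)) (.leaf (nat_lit 11228873467749606817808))) (.leaf (nat_lit
    468664423506087607665227025538628387000))) (.node (.leaf (nat_lit 4149614389295369617477))
    (.leaf (nat_lit 10463490240775876885199601357389287146389672)))))) (.node (.node (.node (.node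
    (.node (.leaf (nat_lit 288241073364763082768)) (.leaf (nat_lit 8806455700561399578716))) (.leaf
    (nat_lit 4980774111413776089104))) (.node (.leaf (nat_lit 162702496568049677)) (.leaf (nat_lit
    0)))) (.node (.node (.node (.leaf (nat_lit 90781241971965982)) (.leaf (nat_lit
    627378100698742814))) (.leaf (nat_lit 5468573487413621620771))) (.node (.leaf (nat_lit
    2402816712179380846595)) (.leaf (nat_lit 8770248511979936144571707531453259982569681)))))
    (.node (.node (.node (.node (.leaf (nat_lit 3965359021946334849902083473539082)) (.leaf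
    (nat_lit 10345776550194945654873))) (.leaf (nat_lit 0))) (.node (.leaf (nat_lit
    198452017633558558)) (.leaf (nat_lit 7986716329704629141549)))) (.node (.node (.node (.leaf
    (nat_lit 1229088711425910833250)) (.leaf (nat_lit 11524124468533658845229))) (.leaf (nat_lit
    6806097894784834404383))) (.node (.leaf (nat_lit 4442422394380601196590)) (.leaf (nat_lit
    0))))))) (.node (.node (.node (.node (.node (.node (.leaf (nat_lit 161414007431385776140))
    (.leaf (nat_lit 522664461560053814))) (.leaf (nat_lit 4201396640466411388945))) (.node (.leaf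
    (nat_lit 2519286898892921307148)) (.leaf (nat_lit 7244201028471312547886)))) (.node (.node
    (.node (.leaf (nat_lit 76599182212695113356073272679969783831)) (.leaf (nat_lit
    10540508123756209831954))) (.leaf (nat_lit 329277958420299789))) (.node (.leaf (nat_lit 0))
    (.leaf (nat_lit 0))))) (.node (.node (.node (.node (.leaf (nat_lit 749420795118349385731))
    (.leaf (nat_lit 10193582189513286025228))) (.leaf (nat_lit 5473140132191620235291))) (.node
    (.leaf (nat_lit 51023527114767295729369168)) (.leaf (nat_lit 7836825274943461851182)))) (.node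
    (.node (.node (.leaf (nat_lit 102112259052011574)) (.leaf (nat_lit 0))) (.leaf (nat_lit
    29243939979388791432751296710836358))) (.node (.leaf (nat_lit 4294894248269971652620)) (.leaf
    (nat_lit 8602413924227932684300)))))) (.node (.node (.node (.node (.node (.leaf (nat_lit
    457735593856950534190)) (.leaf (nat_lit 0))) (.leaf (nat_lit 84912817811823950200832148)))
    (.node (.leaf (nat_lit 2559582437391485566979)) (.leaf (nat_lit 123600731604933790836981963))))
    (.node (.node (.node (.leaf (nat_lit 0)) (.leaf (nat_lit 0))) (.leaf (nat_lit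
    6358708262985099575312))) (.node (.leaf (nat_lit 65568384774239620081909868)) (.leaf (nat_lit
    532020206000799757))))) (.node (.node (.node (.node (.leaf (nat_lit 0)) (.leaf (nat_lit
    155279536243868236276564023))) (.leaf (nat_lit 946436669224070776088479203474))) (.node (.leaf
    (nat_lit 0)) (.leaf (nat_lit 8127414692698891943964)))) (.node (.node (.node (.leaf (nat_lit
    122731400607694861)) (.leaf (nat_lit 710134492630745118))) (.leaf (nat_lit
    5468573208678834044944))) (.node (.leaf (nat_lit 280291747580477494)) (.leaf (nat_lit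
    8250701864376660590684)))))))) (.node (.node (.node (.node (.node (.node (.node (.leaf (nat_lit
    1492336987044012794052633)) (.leaf (nat_lit 181803658364125638187840282137637022445186121764)))
    (.leaf (nat_lit 293033382244384798))) (.node (.leaf (nat_lit 1445851184998882934815)) (.leaf
    (nat_lit 0)))) (.node (.node (.node (.leaf (nat_lit 1264831736735636586508)) (.leaf (nat_lit
    175473741613442633014968392))) (.leaf (nat_lit 1608131676864217856467494305801))) (.node (.leaf
    (nat_lit 59524039296260958719312013)) (.leaf (nat_lit 6991612920784643883106))))) (.node (.node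
    (.node (.node (.leaf (nat_lit 679106656175634186268)) (.leaf (nat_lit 8818004760950535815203)))
    (.leaf (nat_lit 3781813716548413751328))) (.node (.leaf (nat_lit 2504249665081873465347))
    (.leaf (nat_lit 127114060424527764936458336)))) (.node (.node (.node (.leaf (nat_lit
    1238304482822350635106)) (.leaf (nat_lit 11302682890720354959413))) (.leaf (nat_lit
    6584689677279598673989))) (.node (.leaf (nat_lit 15242863443060038773154259040337930)) (.leaf
    (nat_lit 0)))))) (.node (.node (.node (.node (.node (.leaf (nat_lit 0)) (.leaf (nat_lit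
    2371070503850010084643535388785))) (.leaf (nat_lit 4960171339662084997209))) (.node (.leaf
    (nat_lit 160873184097337359)) (.leaf (nat_lit 7127795999989360164912)))) (.node (.node (.node
    (.leaf (nat_lit 0)) (.leaf (nat_lit 619215601252040734))) (.leaf (nat_lit
    394711055490175449120903914325444853823))) (.node (.leaf (nat_lit 238846150692700190)) (.leaf
    (nat_lit 2229042103835876466232276615324))))) (.node (.node (.node (.node (.leaf (nat_lit 0))
    (.leaf (nat_lit 10417219900820770979919))) (.leaf (nat_lit 5425840165622907076626))) (.node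
    (.leaf (nat_lit 240519999611728733104025276248670797847)) (.leaf (nat_lit
    8055897950664050016285)))) (.node (.node (.node (.leaf (nat_lit 0)) (.leaf (nat_lit
    9098238508880200138787))) (.leaf (nat_lit 6720644484663364223011))) (.node (.leaf (nat_lit 0))
    (.leaf (nat_lit 9995429518637786565357590273093845668855991))))))) (.node (.node (.node (.node
    (.node (.node (.leaf (nat_lit 225980989655377707043)) (.leaf (nat_lit 9677060192680326397964)))
    (.leaf (nat_lit 4927737962682608975901))) (.node (.leaf (nat_lit 2599994781296645832733))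
    (.leaf (nat_lit 7315661112294018056221)))) (.node (.node (.node (.leaf (nat_lit
    27029435582469099257424346636605806201973309540)) (.leaf (nat_lit 10864591369912480628809)))
    (.leaf (nat_lit 6134969004537474646045))) (.node (.leaf (nat_lit 3100419649847077044269))
    (.leaf (nat_lit 6965106774621278109794))))) (.node (.node (.node (.node (.leaf (nat_lit 0))
    (.leaf (nat_lit 10271948761746471321646))) (.leaf (nat_lit 243003953913135134))) (.node (.leaf
    (nat_lit 54729358153692681821192833245651337199391146123)) (.leaf (nat_lit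
    4309883300210180030495)))) (.node (.node (.node (.leaf (nat_lit
    400487203730800171109092491370)) (.leaf (nat_lit 11443416517801299607599))) (.leaf (nat_lit
    6727683821347226714141))) (.node (.leaf (nat_lit 0)) (.leaf (nat_lit 0)))))) (.node (.node
    (.node (.node (.node (.leaf (nat_lit 10281262872031113732737497466898124240352510014)) (.leaf
    (nat_lit 9629653266518111354972))) (.leaf (nat_lit
    83921842153731091964851045408277177018029244583))) (.node (.leaf (nat_lit
    2891626575365568397330)) (.leaf (nat_lit 7308815020942015266864)))) (.node (.node (.node (.leaf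
    (nat_lit 0)) (.leaf (nat_lit 11157422525335294115913))) (.leaf (nat_lit
    105428368920241892464263192))) (.node (.leaf (nat_lit 0)) (.leaf (nat_lit
    8798458851006802493468))))) (.node (.node (.node (.node (.leaf (nat_lit
    301447580115097779867635482633)) (.leaf (nat_lit 644194856167669790))) (.leaf (nat_lit 0)))
    (.node (.leaf (nat_lit 0)) (.leaf (nat_lit 7065373508259249586179)))) (.node (.node (.leaf
    (nat_lit 0)) (.leaf (nat_lit 131311799713982058111468506928976821681140596935))) (.node (.leaf
    (nat_lit 85682248023343020061242824601506189709928890530)) (.leaf (nat_lit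
    2504462869576568652372304527444))))))))) (.node (.node (.node (.node (.node (.node (.node
    (.node (.leaf (nat_lit 1759420468035599)) (.leaf (nat_lit 2443803618740794795817343189076)))
    (.leaf (nat_lit 4772127048103591346235))) (.node (.leaf (nat_lit
    393059148118237004914862915593)) (.leaf (nat_lit 7138120774951429668869)))) (.node (.node
    (.node (.leaf (nat_lit 1233680409568485769264)) (.leaf (nat_lit 10600610349221012504623)))
    (.leaf (nat_lit 5952830702497457963053))) (.node (.leaf (nat_lit 2642617839882323820556))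
    (.leaf (nat_lit 6710296555085925384290))))) (.node (.node (.node (.node (.leaf (nat_lit
    639909999164424126480)) (.leaf (nat_lit 10089776534966669344796))) (.leaf (nat_lit
    5364763183204129767516))) (.node (.leaf (nat_lit 0)) (.leaf (nat_lit 6742542959520392609819))))
    (.node (.node (.node (.leaf (nat_lit 1471191178538440130572)) (.leaf (nat_lit
    11004164895811033038862))) (.leaf (nat_lit 0))) (.node (.leaf (nat_lit
    12520080564850296224824422788628484)) (.leaf (nat_lit 0)))))) (.node (.node (.node (.node
    (.node (.leaf (nat_lit 345887922780140404748)) (.leaf (nat_lit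
    10767191010929588793953178805351319159177256))) (.leaf (nat_lit 309424944540942349))) (.node
    (.leaf (nat_lit 2683011958639224356869)) (.leaf (nat_lit 4494321676877813710946)))) (.node
    (.node (.node (.leaf (nat_lit 93173916712960013)) (.leaf (nat_lit 10970655929600389087285)))
    (.leaf (nat_lit 373470216958640158))) (.node (.leaf (nat_lit 0)) (.leaf (nat_lit
    2311055612549066976526948696277))))) (.node (.node (.node (.node (.leaf (nat_lit 0)) (.leaf
    (nat_lit 2770650992953459643427554918481))) (.leaf (nat_lit 5179088082647916937308))) (.node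
    (.leaf (nat_lit 3300970286551138500697)) (.leaf (nat_lit 6943159746696566734906)))) (.node
    (.node (.node (.leaf (nat_lit 1992324788315253571587)) (.leaf (nat_lit
    11558728443141818613807))) (.leaf (nat_lit 112115779441047649825063104))) (.node (.leaf
    (nat_lit 204015683909058575)) (.leaf (nat_lit 6343761110349239222303))))))) (.node (.node
    (.node (.node (.node (.node (.leaf (nat_lit 184472578389860089891)) (.leaf (nat_lit
    7593575733009471176802))) (.leaf (nat_lit 4317646897923137885414800678617087983747098))) (.node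
    (.leaf (nat_lit 0)) (.leaf (nat_lit 7285748637523928875054)))) (.node (.node (.node (.leaf
    (nat_lit 0)) (.leaf (nat_lit 659676941959430174))) (.leaf (nat_lit
    439580238729065777917539874784917520489))) (.node (.leaf (nat_lit 3743696927724029542446))
    (.leaf (nat_lit 0))))) (.node (.node (.node (.node (.leaf (nat_lit 0)) (.leaf (nat_lit 0)))
    (.leaf (nat_lit 0))) (.node (.leaf (nat_lit 3153429547918519631941)) (.leaf (nat_lit 0))))
    (.node (.node (.node (.leaf (nat_lit 0)) (.leaf (nat_lit 0))) (.leaf (nat_lit
    1585895867551749331478598975497))) (.node (.leaf (nat_lit 0)) (.leaf (nat_lit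
    9054436911122470862907)))))) (.node (.node (.node (.node (.node (.leaf (nat_lit
    496937388065658437637)) (.leaf (nat_lit 606821914773684254))) (.leaf (nat_lit 0))) (.node
    (.leaf (nat_lit 2851348416589606354956)) (.leaf (nat_lit 7578604985425309401100)))) (.node
    (.node (.node (.leaf (nat_lit 0)) (.leaf (nat_lit 10238453879425080688656))) (.leaf (nat_lit
    6395537989830453690397))) (.node (.leaf (nat_lit 4036600919263832899630)) (.leaf (nat_lit
    8756893229754699939852))))) (.node (.node (.node (.node (.leaf (nat_lit 930454594211656433682))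
    (.leaf (nat_lit 10187835739574380986382))) (.leaf (nat_lit 267493238959636510))) (.node (.leaf
    (nat_lit 56445166942358693902286881)) (.leaf (nat_lit 8171248154578472075323)))) (.node (.node
    (.leaf (nat_lit 2070728236252879061023)) (.leaf (nat_lit 0))) (.node (.leaf (nat_lit
    282195908446257165)) (.leaf (nat_lit 8874578061806851522563)))))))) (.node (.node (.node (.node
    (.node (.node (.node (.leaf (nat_lit 115294191622417481742)) (.leaf (nat_lit 0))) (.leaf
    (nat_lit 4845886297317927223341))) (.node (.leaf (nat_lit 2469646396020876312649)) (.leaf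
    (nat_lit 7211885233660447883291)))) (.node (.node (.node (.leaf (nat_lit
    21345794062518293855731736)) (.leaf (nat_lit 10358479311702562373679))) (.leaf (nat_lit
    6026539782649780830224))) (.node (.leaf (nat_lit 3667610865653369733168)) (.leaf (nat_lit
    0))))) (.node (.node (.node (.node (.leaf (nat_lit 42927609713131533)) (.leaf (nat_lit
    160588506848308766731141153))) (.leaf (nat_lit 89144091526387465049079833))) (.node (.leaf
    (nat_lit 218167359081884326566736581274741702778)) (.leaf (nat_lit 7802279779845500239901))))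
    (.node (.node (.node (.leaf (nat_lit 115693289239347230)) (.leaf (nat_lit
    11332749345703002832924))) (.leaf (nat_lit 29081663988857124857929304581210246))) (.node (.leaf
    (nat_lit 0)) (.leaf (nat_lit 8694553209612944998408)))))) (.node (.node (.node (.node (.node
    (.leaf (nat_lit 423146470451131383861)) (.leaf (nat_lit 0))) (.leaf (nat_lit
    5145761298904040800345))) (.node (.leaf (nat_lit 2782168908174274527248)) (.leaf (nat_lit
    438917821968285726)))) (.node (.node (.node (.leaf (nat_lit 0)) (.leaf (nat_lit 0))) (.leaf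
    (nat_lit 1240491349590230644395990122505))) (.node (.leaf (nat_lit 3562659335023548891150))
    (.leaf (nat_lit 0))))) (.node (.node (.node (.node (.leaf (nat_lit 1013471064353509933084))
    (.leaf (nat_lit 9548975432727791861777))) (.leaf (nat_lit 0))) (.node (.leaf (nat_lit
    205770779344896013)) (.leaf (nat_lit 8090524301265842929693)))) (.node (.node (.node (.leaf
    (nat_lit 402963197238407559944102805617)) (.leaf (nat_lit 10877197094322035687442))) (.leaf
    (nat_lit 7564253485161159437517353583751126042804419))) (.node (.leaf (nat_lit 0)) (.leaf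
    (nat_lit 9083110064656868376594))))))) (.node (.node (.node (.node (.node (.node (.leaf
    (nat_lit 16185837658177549)) (.leaf (nat_lit 0))) (.leaf (nat_lit 0))) (.node (.leaf (nat_lit
    0)) (.leaf (nat_lit 4782549941692322217992)))) (.node (.node (.node (.leaf (nat_lit
    1430862568400854646819)) (.leaf (nat_lit 9832735987890015895579))) (.leaf (nat_lit
    6178779178026339074077))) (.node (.leaf (nat_lit 3800156097881812697104)) (.leaf (nat_lit
    5080082155411513475104))))) (.node (.node (.node (.node (.leaf (nat_lit
    216652786905081477878620946514)) (.leaf (nat_lit 0))) (.leaf (nat_lit 341092640357482526)))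
    (.node (.leaf (nat_lit 196200080380919838)) (.leaf (nat_lit 7945210592412735569951)))) (.node
    (.node (.node (.leaf (nat_lit 0)) (.leaf (nat_lit 11482607186434098135068))) (.leaf (nat_lit
    3385183813522050711584))) (.node (.leaf (nat_lit 3470437508630624534586)) (.leaf (nat_lit
    0)))))) (.node (.node (.node (.node (.node (.leaf (nat_lit 0)) (.leaf (nat_lit 0))) (.leaf
    (nat_lit 4775581598726213533714))) (.node (.leaf (nat_lit 2608022381339613528067)) (.leaf
    (nat_lit 7526525641754266501128)))) (.node (.node (.node (.leaf (nat_lit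
    29126191612671949984821509682484823437827702894)) (.leaf (nat_lit 11194320802070600548441)))
    (.leaf (nat_lit 4640704916365257146384))) (.node (.leaf (nat_lit 4112719067918469627950))
    (.leaf (nat_lit 6053184920375821271132))))) (.node (.node (.node (.node (.leaf (nat_lit
    1161040232418338078725)) (.leaf (nat_lit 10601746657001844441167))) (.leaf (nat_lit
    5881410999141225660445))) (.node (.leaf (nat_lit 246413920926316169996788399709660577815))
    (.leaf (nat_lit 7435465322385314611214)))) (.node (.node (.leaf (nat_lit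
    1895487334403824353315)) (.leaf (nat_lit 0))) (.node (.leaf (nat_lit 286559045463179294))
    (.leaf (nat_lit 153730325625487535297003575))))))))))) (.node (.node (.node (.node (.node
    (.node (.node (.node (.node (.node (.leaf (nat_lit 1)) (.leaf (nat_lit 0))) (.leaf (nat_lit
    3502756888863008030736))) (.node (.leaf (nat_lit 2364782611259380138012)) (.leaf (nat_lit
    7085099398575593553949)))) (.node (.node (.node (.leaf (nat_lit 13601019638340256339853336))
    (.leaf (nat_lit 10629378214244645011535))) (.leaf (nat_lit 5199847144583017463816))) (.node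
    (.leaf (nat_lit 3364360704974502690821)) (.leaf (nat_lit 4637333275065467469855))))) (.node
    (.node (.node (.node (.leaf (nat_lit 597231426382688616456)) (.leaf (nat_lit
    571501984927055926))) (.leaf (nat_lit 4791699981895651754011))) (.node (.leaf (nat_lit
    2957391372931318349870)) (.leaf (nat_lit 7682302544801956036635)))) (.node (.node (.node (.leaf
    (nat_lit 1526528877321569632287)) (.leaf (nat_lit 0))) (.leaf (nat_lit 283258414635810846)))
    (.node (.leaf (nat_lit 2391297490542957625376)) (.leaf (nat_lit 5734981118473611182178))))))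
    (.node (.node (.node (.node (.node (.leaf (nat_lit 983729982618861828296931061137412)) (.leaf
    (nat_lit 0))) (.leaf (nat_lit 305982021447057438))) (.node (.leaf (nat_lit 0)) (.leaf (nat_lit
    7384899042452237910064)))) (.node (.node (.node (.leaf (nat_lit 1481594210927083978764)) (.leaf
    (nat_lit 10926857788617023225948))) (.leaf (nat_lit 6205206730754954035208))) (.node (.leaf
    (nat_lit 3320541315009807056912)) (.leaf (nat_lit 5751085004479157960802))))) (.node (.node
    (.node (.node (.leaf (nat_lit 52216936779612173)) (.leaf (nat_lit 630120248338677790))) (.leaf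
    (nat_lit 5613916809950270783504))) (.node (.leaf (nat_lit 2778651950465660682257)) (.leaf
    (nat_lit 7970632356662115237900)))) (.node (.node (.node (.leaf (nat_lit 126389991189381133))
    (.leaf (nat_lit 558770739789037598))) (.leaf (nat_lit
    6952850212695701649680789184377287646642364))) (.node (.leaf (nat_lit
    72633517743943501056573511)) (.leaf (nat_lit 8585038685554392367121))))))) (.node (.node (.node
    (.node (.node (.node (.leaf (nat_lit 151041443386120929296)) (.leaf (nat_lit
    9463610894855589527587))) (.leaf (nat_lit 4873674991879191724060))) (.node (.leaf (nat_lit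
    152991025755979789)) (.leaf (nat_lit 0)))) (.node (.node (.node (.leaf (nat_lit 0)) (.leaf
    (nat_lit 10781611917642779787333))) (.leaf (nat_lit 26621447867457378667376619215519924)))
    (.node (.leaf (nat_lit 225053017840418829)) (.leaf (nat_lit 513723198643240990))))) (.node
    (.node (.node (.node (.leaf (nat_lit 741362236478665719836)) (.leaf (nat_lit
    557147310870626317))) (.leaf (nat_lit 0))) (.node (.leaf (nat_lit 3105006844746506895376))
    (.leaf (nat_lit 6843018689823220367421)))) (.node (.node (.node (.leaf (nat_lit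
    1916225986937802129443)) (.leaf (nat_lit 11367324043752488763419))) (.leaf (nat_lit
    6645639354179073015820))) (.node (.leaf (nat_lit 4232583502711205593117)) (.leaf (nat_lit
    8999092808976894722109)))))) (.node (.node (.node (.node (.node (.leaf (nat_lit
    8675444514757263011490250367304961561870270521)) (.leaf (nat_lit 8271506667206657376268)))
    (.leaf (nat_lit 63510259618359921428660248))) (.node (.leaf (nat_lit 2808613834187335729170))
    (.leaf (nat_lit 7027485285035874123837)))) (.node (.node (.node (.leaf (nat_lit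
    98944531692650509)) (.leaf (nat_lit 11072171217876349550637))) (.leaf (nat_lit 0))) (.node
    (.leaf (nat_lit 3990484480699318599753)) (.leaf (nat_lit 0))))) (.node (.node (.node (.node
    (.leaf (nat_lit 17020296608148730547535915)) (.leaf (nat_lit 10486418269983687770144))) (.leaf
    (nat_lit 6801816844095107960228101431343922943623255))) (.node (.leaf (nat_lit 0)) (.leaf
    (nat_lit 6899350840953199067150)))) (.node (.node (.node (.leaf (nat_lit
    8625571327251327404209545014542450)) (.leaf (nat_lit 11660206365983987925071))) (.leaf (nat_lit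
    423364233560981517))) (.node (.leaf (nat_lit 279240249392103454)) (.leaf (nat_lit
    616125725981348417471831042195370475735)))))))) (.node (.node (.node (.node (.node (.node
    (.node (.leaf (nat_lit 5317003262339636350593351014741901335)) (.leaf (nat_lit 0))) (.leaf
    (nat_lit 4804447061384089501775))) (.node (.leaf (nat_lit 148768626227413005)) (.leaf (nat_lit
    7165777317414855442460)))) (.node (.node (.node (.leaf (nat_lit 76284421677907981)) (.leaf
    (nat_lit 9489038996548257775632))) (.leaf (nat_lit
    6789511684121800332187905969783818131341398))) (.node (.leaf (nat_lit 2661064584050522652690))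
    (.leaf (nat_lit 6304471070685905748066))))) (.node (.node (.node (.node (.leaf (nat_lit 0))
    (.leaf (nat_lit 10117444680529058398236))) (.leaf (nat_lit
    5932006102913098064285874429928963775660072))) (.node (.leaf (nat_lit 2497332136019872645136))
    (.leaf (nat_lit 6839389069723658551299)))) (.node (.node (.node (.leaf (nat_lit 0)) (.leaf
    (nat_lit 10600608099723301290063))) (.leaf (nat_lit 6568593945033240150045))) (.node (.leaf
    (nat_lit 4211877915833359597614)) (.leaf (nat_lit 5981720675958166585442)))))) (.node (.node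
    (.node (.node (.node (.leaf (nat_lit 258267225530648690720)) (.leaf (nat_lit
    588530396384329758))) (.leaf (nat_lit 190678924330638280551044782665861890099))) (.node (.leaf
    (nat_lit 46812083183086540713243053236251659599855812734)) (.leaf (nat_lit
    6453282595080899854365)))) (.node (.node (.node (.leaf (nat_lit 0)) (.leaf (nat_lit
    654259201492779062))) (.leaf (nat_lit 252928661261516830))) (.node (.leaf (nat_lit
    3710328214885912215631)) (.leaf (nat_lit 0))))) (.node (.node (.node (.node (.leaf (nat_lit 0))
    (.leaf (nat_lit 634905597820665886))) (.leaf (nat_lit 256796725988163597))) (.node (.leaf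
    (nat_lit 3100390656240848666652)) (.leaf (nat_lit 0)))) (.node (.node (.node (.leaf (nat_lit
    1678731476154229915683)) (.leaf (nat_lit 11043287878057054109708))) (.leaf (nat_lit
    6698684510642070814728))) (.node (.leaf (nat_lit 3810618877169669177371)) (.leaf (nat_lit
    6378350725915360821279))))))) (.node (.node (.node (.node (.node (.node (.leaf (nat_lit
    3740340235281651128860705)) (.leaf (nat_lit 589585377791180813))) (.leaf (nat_lit 0))) (.node
    (.leaf (nat_lit 175301044229443308451808914626386002042)) (.leaf (nat_lit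
    6122240367002950762554)))) (.node (.node (.node (.leaf (nat_lit 0)) (.leaf (nat_lit
    10855377148647047364661))) (.leaf (nat_lit 4492009425468156739587))) (.node (.leaf (nat_lit
    1011767003569268315290329219225)) (.leaf (nat_lit 5416732419852326862946))))) (.node (.node
    (.node (.node (.leaf (nat_lit 0)) (.leaf (nat_lit 597820711293288502))) (.leaf (nat_lit
    5540115340052069023823))) (.node (.leaf (nat_lit 2695639279690531930147)) (.leaf (nat_lit
    474033302781689886)))) (.node (.node (.node (.leaf (nat_lit 0)) (.leaf (nat_lit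
    11441134174048515981328))) (.leaf (nat_lit 6488847096385590460514))) (.node (.leaf (nat_lit 0))
    (.leaf (nat_lit 553835856725671966)))))) (.node (.node (.node (.node (.node (.leaf (nat_lit
    426596158298896138254)) (.leaf (nat_lit 9969897261414113017948))) (.leaf (nat_lit
    5247222966665089318944))) (.node (.leaf (nat_lit 2879020222907240611852)) (.leaf (nat_lit
    7608564122588413100078)))) (.node (.node (.node (.leaf (nat_lit 1448127681458635735098)) (.leaf
    (nat_lit 0))) (.leaf (nat_lit 6421007535621066129437))) (.node (.leaf (nat_lit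
    3982428316203254743057)) (.leaf (nat_lit 0))))) (.node (.node (.node (.node (.leaf (nat_lit
    1112627872562661228560)) (.leaf (nat_lit 156828541629762121486303287))) (.leaf (nat_lit
    5833952071877222662156))) (.node (.leaf (nat_lit 15283419905662099407531059720880138)) (.leaf
    (nat_lit 7920841616461121388571)))) (.node (.node (.leaf (nat_lit 1856286243865378357266))
    (.leaf (nat_lit 1811780444434587056897643577386))) (.node (.leaf (nat_lit
    335560876342153702806366439597480018081)) (.leaf (nat_lit
    2303916583212336766329309954155))))))))) (.node (.node (.node (.node (.node (.node (.node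
    (.node (.leaf (nat_lit 0)) (.leaf (nat_lit 9385203084210443845649))) (.leaf (nat_lit
    239341858638135350))) (.node (.leaf (nat_lit 2175200373053731277642459244999462919602294))
    (.leaf (nat_lit 7211479519339237890319842339305168480763990)))) (.node (.node (.node (.leaf
    (nat_lit 816306710398260936716)) (.leaf (nat_lit 9502869832341450326032))) (.leaf (nat_lit
    362139715274670110))) (.node (.leaf (nat_lit 2942375601458395676675)) (.leaf (nat_lit
    506826649396969485))))) (.node (.node (.node (.node (.leaf (nat_lit 0)) (.leaf (nat_lit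
    9755400101679228715024))) (.leaf (nat_lit 5346386806414308999196))) (.node (.leaf (nat_lit 0))
    (.leaf (nat_lit 0)))) (.node (.node (.node (.leaf (nat_lit 1811307244474866008091)) (.leaf
    (nat_lit 0))) (.leaf (nat_lit 5797085819027960561691))) (.node (.leaf (nat_lit
    254468939613077534)) (.leaf (nat_lit 8427099978926636859427)))))) (.node (.node (.node (.node
    (.node (.leaf (nat_lit 335518665748024328239)) (.leaf (nat_lit 0))) (.leaf (nat_lit
    246098349000884237))) (.node (.leaf (nat_lit 164532186995884062)) (.leaf (nat_lit 0)))) (.node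
    (.node (.node (.leaf (nat_lit 75107700119005820567961992500888404073)) (.leaf (nat_lit 0)))
    (.leaf (nat_lit 302186644746928182))) (.node (.leaf (nat_lit 3882120907472643489837)) (.leaf
    (nat_lit 0))))) (.node (.node (.node (.node (.leaf (nat_lit
    1015464227767274473954104981579457282703447)) (.leaf (nat_lit 10303135700390143787097))) (.leaf
    (nat_lit 5648478346544924524562))) (.node (.leaf (nat_lit 198381751968595981)) (.leaf (nat_lit
    478044733516677150)))) (.node (.node (.node (.leaf (nat_lit 1657977833402705051683)) (.leaf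
    (nat_lit 11325700307074565734403))) (.leaf (nat_lit 0))) (.node (.leaf (nat_lit
    272625175122542605)) (.leaf (nat_lit 9195096501471267717166))))))) (.node (.node (.node (.node
    (.node (.node (.leaf (nat_lit 3635239253392476364240327227377364508432990245)) (.leaf (nat_lit
    9635535035603609649180))) (.leaf (nat_lit 4800916034062693629987))) (.node (.leaf (nat_lit
    664797489300579734396143468653)) (.leaf (nat_lit 7271755940686981169197)))) (.node (.node
    (.node (.leaf (nat_lit 1146051127753111175266)) (.leaf (nat_lit 10271954467060768243791)))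
    (.leaf (nat_lit 5441976564565244313618))) (.node (.leaf (nat_lit 2822531578961590419485))
    (.leaf (nat_lit 4974006902753981562912))))) (.node (.node (.node (.node (.leaf (nat_lit
    759821717823352406064)) (.leaf (nat_lit 9163888671797429862435))) (.leaf (nat_lit 0))) (.node
    (.leaf (nat_lit 191133221562482701)) (.leaf (nat_lit 6737934229521796628494)))) (.node (.node
    (.node (.leaf (nat_lit 27221131654684232206516257)) (.leaf (nat_lit 11404223865426186272813)))
    (.leaf (nat_lit 5900852836396674777106))) (.node (.leaf (nat_lit 3424318325959965212686))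
    (.leaf (nat_lit 8685338070951087243272)))))) (.node (.node (.node (.node (.node (.leaf (nat_lit
    34727141265560840785405562649093537815)) (.leaf (nat_lit 9113142813792739197026))) (.leaf
    (nat_lit 4941577525291001249890))) (.node (.leaf (nat_lit 172976986053017613)) (.leaf (nat_lit
    6309229894870780542981)))) (.node (.node (.node (.leaf (nat_lit 101196468945289246)) (.leaf
    (nat_lit 11109071601920179896365))) (.leaf (nat_lit 389303699794690061))) (.node (.leaf
    (nat_lit 926629042744171260911370436692)) (.leaf (nat_lit 6488985308158297833564))))) (.node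
    (.node (.node (.node (.leaf (nat_lit 52424608542128471582695265449705668678)) (.leaf (nat_lit
    0))) (.leaf (nat_lit 5785528664858854359054))) (.node (.leaf (nat_lit
    905583514100781090521252954259)) (.leaf (nat_lit 8159648433151703973967)))) (.node (.node
    (.leaf (nat_lit 2218301344383265603587)) (.leaf (nat_lit
    8172471395294600726865657431495046211305661))) (.node (.leaf (nat_lit 0)) (.leaf (nat_lit
    514359953314676766)))))))) (.node (.node (.node (.node (.node (.node (.node (.leaf (nat_lit
    115294473063034454028)) (.leaf (nat_lit 583533253475041310))) (.leaf (nat_lit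
    294722335183863838))) (.node (.leaf (nat_lit 151161300968407070)) (.leaf (nat_lit 0)))) (.node
    (.node (.node (.leaf (nat_lit 1216406642306222063628)) (.leaf (nat_lit
    9562827450715572731921))) (.leaf (nat_lit 0))) (.node (.leaf (nat_lit
    753931363674989499427924017236)) (.leaf (nat_lit 7547323549022859493468))))) (.node (.node
    (.node (.node (.leaf (nat_lit 706778249557379842109)) (.leaf (nat_lit
    10152084896968909979727))) (.leaf (nat_lit 1213887955440631243410980012084))) (.node (.leaf
    (nat_lit 2529614782702643511312)) (.leaf (nat_lit 7786153864475950907404)))) (.node (.node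
    (.node (.leaf (nat_lit 1887407945361733648411)) (.leaf (nat_lit 11294535748646479265821)))
    (.leaf (nat_lit 6608744739994308116492))) (.node (.leaf (nat_lit 0)) (.leaf (nat_lit
    8973718261686706831419)))))) (.node (.node (.node (.node (.node (.leaf (nat_lit 0)) (.leaf
    (nat_lit 9856926647141781405724))) (.leaf (nat_lit 84156715730259429449531417))) (.node (.leaf
    (nat_lit 53300630911758948866313598737331917702872760430)) (.leaf (nat_lit
    6343614877733696503820)))) (.node (.node (.node (.leaf (nat_lit 1456194050182814564368)) (.leaf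
    (nat_lit 9498347304896285573209))) (.leaf (nat_lit 6314883168363237015570))) (.node (.leaf
    (nat_lit 3953586064111287074862)) (.leaf (nat_lit 2280708438555557414705610162332))))) (.node
    (.node (.node (.node (.leaf (nat_lit 871641241943657349137)) (.leaf (nat_lit
    10444952786160379428880))) (.leaf (nat_lit 411834292360035667691097027584159318181))) (.node
    (.leaf (nat_lit 804406285536943941528794235025)) (.leaf (nat_lit 6968525427413319090179))))
    (.node (.node (.node (.leaf (nat_lit 1848211711525061328904)) (.leaf (nat_lit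
    10930304666984945745932))) (.leaf (nat_lit 421112296308342797))) (.node (.leaf (nat_lit
    4526558221141111144496)) (.leaf (nat_lit 9264288329411877601309))))))) (.node (.node (.node
    (.node (.node (.node (.leaf (nat_lit 265181728307153141791)) (.leaf (nat_lit
    10859753292295727531335268476452610161246248))) (.leaf (nat_lit 4986679737092688511022)))
    (.node (.leaf (nat_lit 0)) (.leaf (nat_lit 7345588172326367854620)))) (.node (.node (.node
    (.leaf (nat_lit 0)) (.leaf (nat_lit 9079760166611834830851))) (.leaf (nat_lit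
    101044229160484027765096528))) (.node (.leaf (nat_lit 935913895235672678218080780395)) (.leaf
    (nat_lit 5077775608680498266120))))) (.node (.node (.node (.node (.leaf (nat_lit
    13997920946109153791967312)) (.leaf (nat_lit 8875659421820502868003))) (.leaf (nat_lit
    300415547220391467343264865159546863781))) (.node (.leaf (nat_lit 2755592675811154657297))
    (.leaf (nat_lit 7936026556147393822749)))) (.node (.node (.node (.leaf (nat_lit
    1505789027934825283601)) (.leaf (nat_lit 9719648562717825105955))) (.leaf (nat_lit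
    3382877970487067213855))) (.node (.leaf (nat_lit 3465825822577837408264)) (.leaf (nat_lit
    556720932287283230)))))) (.node (.node (.node (.node (.node (.leaf (nat_lit
    10704678940957389201476259263215688340008927297)) (.leaf (nat_lit 8582801244117025357859)))
    (.leaf (nat_lit 5274935447525607538717))) (.node (.leaf (nat_lit 2919297254529165361170))
    (.leaf (nat_lit 7643180338957173063708)))) (.node (.node (.node (.leaf (nat_lit
    1722524688542364532752)) (.leaf (nat_lit 0))) (.leaf (nat_lit 0))) (.node (.leaf (nat_lit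
    3366736144716112527395)) (.leaf (nat_lit 0))))) (.node (.node (.node (.node (.leaf (nat_lit
    1353025002268527829952344354787539684950109)) (.leaf (nat_lit 645883809107148830))) (.leaf
    (nat_lit 0))) (.node (.leaf (nat_lit 0)) (.leaf (nat_lit 502182037403336717)))) (.node (.node
    (.leaf (nat_lit 2332477517127605223452)) (.leaf (nat_lit 429979307830542349))) (.node (.leaf
    (nat_lit 0)) (.leaf (nat_lit 0)))))))))) (.node (.node (.node (.node (.node (.node (.node
    (.node (.node (.leaf (nat_lit 1412365596154675854475522442543955975)) (.leaf (nat_lit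
    577621935366733854))) (.leaf (nat_lit 860397703158912825244793503786))) (.node (.leaf (nat_lit
    0)) (.leaf (nat_lit 433216476221145118)))) (.node (.node (.node (.leaf (nat_lit
    1205992560431309455363)) (.leaf (nat_lit 649543189962817566))) (.leaf (nat_lit
    284945134192295966))) (.node (.leaf (nat_lit 217452712432893965)) (.leaf (nat_lit 0))))) (.node
    (.node (.node (.node (.leaf (nat_lit 608760641488886628366)) (.leaf (nat_lit
    7593600082141144875100))) (.leaf (nat_lit 0))) (.node (.leaf (nat_lit 2423543329922937454606))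
    (.leaf (nat_lit 7700732544713733898252)))) (.node (.node (.node (.leaf (nat_lit
    1123007195194232864866)) (.leaf (nat_lit 577769252744986637))) (.leaf (nat_lit
    5757886347073709867020))) (.node (.leaf (nat_lit 253061496010047518)) (.leaf (nat_lit 0))))))
    (.node (.node (.node (.node (.node (.leaf (nat_lit 318217384354031796242)) (.leaf (nat_lit
    9764607284189048537117))) (.leaf (nat_lit 243846480467722253))) (.node (.leaf (nat_lit 0))
    (.leaf (nat_lit 0)))) (.node (.node (.node (.leaf (nat_lit 1487320115722424877072)) (.leaf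
    (nat_lit 9438473706725401886751))) (.leaf (nat_lit 5425840097204078051345))) (.node (.leaf
    (nat_lit 0)) (.leaf (nat_lit 523434703815049246))))) (.node (.node (.node (.node (.leaf
    (nat_lit 912010241502722850877)) (.leaf (nat_lit 156639407148207291494563895))) (.leaf (nat_lit
    5630001062320277749776))) (.node (.leaf (nat_lit 235700954947931679423165802937701564528))
    (.leaf (nat_lit 7986715906912343490589)))) (.node (.node (.node (.leaf (nat_lit 0)) (.leaf
    (nat_lit 0))) (.leaf (nat_lit 6815288119823171780654))) (.node (.leaf (nat_lit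
    3525778233596171190286)) (.leaf (nat_lit 9176656511392544915488))))))) (.node (.node (.node
    (.node (.node (.node (.leaf (nat_lit 161413725990768803854)) (.leaf (nat_lit
    9612454226867844743195))) (.leaf (nat_lit 0))) (.node (.leaf (nat_lit 2408566115131640184850))
    (.leaf (nat_lit 0)))) (.node (.node (.node (.leaf (nat_lit 22196224730003841344602209)) (.leaf
    (nat_lit 10793142328467873005596))) (.leaf (nat_lit 6072787950945049968669))) (.node (.leaf
    (nat_lit 0)) (.leaf (nat_lit 161889159702280297224145275504838747403674255568))))) (.node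
    (.node (.node (.node (.leaf (nat_lit 0)) (.leaf (nat_lit 9185872219270713376784))) (.leaf
    (nat_lit 235685364000489502))) (.node (.leaf (nat_lit 3125725654849404731481)) (.leaf (nat_lit
    0)))) (.node (.node (.node (.leaf (nat_lit 1941590823057825660946)) (.leaf (nat_lit
    11385699787739008008261))) (.leaf (nat_lit 5875487929899317133344))) (.node (.leaf (nat_lit
    4306370690176700842030)) (.leaf (nat_lit 550176475870003213)))))) (.node (.node (.node (.node
    (.node (.leaf (nat_lit 27727033257820173)) (.leaf (nat_lit 2557697879743285099422913200212)))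
    (.leaf (nat_lit 3176453575760702275642))) (.node (.leaf (nat_lit
    700085580909268219163232763946)) (.leaf (nat_lit 7404513698059122835504)))) (.node (.node
    (.node (.leaf (nat_lit 1645307656463343353885)) (.leaf (nat_lit 677197822956798006))) (.leaf
    (nat_lit 4621098987599341748232))) (.node (.leaf (nat_lit 4008931925703100923950)) (.leaf
    (nat_lit 528994384360898590))))) (.node (.node (.node (.node (.leaf (nat_lit
    76185628877816901925530815771183611994)) (.leaf (nat_lit 0))) (.leaf (nat_lit
    236949139507709312540824813733532860590))) (.node (.leaf (nat_lit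
    15040037180496197081524273693458442)) (.leaf (nat_lit 8141260165963967561774)))) (.node (.node
    (.node (.leaf (nat_lit 135820021384478750)) (.leaf (nat_lit 11680936712622445887533))) (.leaf
    (nat_lit 3743869769603296198703))) (.node (.leaf (nat_lit
    331242903447538480262492431151972941929)) (.leaf (nat_lit 9321903369878553952285)))))))) (.node
    (.node (.node (.node (.node (.node (.node (.leaf (nat_lit 85317810187095179278)) (.leaf
    (nat_lit 182874435803639157604788139254268785705582395502))) (.leaf (nat_lit
    201624417917337654))) (.node (.leaf (nat_lit 1448157028033866432544)) (.leaf (nat_lit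
    7179592733760059277324)))) (.node (.node (.node (.leaf (nat_lit 1278662010802941394973)) (.leaf
    (nat_lit 9548991407429152604178))) (.leaf (nat_lit 195928947685457974))) (.node (.leaf (nat_lit
    59674858675247090663424108)) (.leaf (nat_lit 7425112462090930683996))))) (.node (.node (.node
    (.node (.leaf (nat_lit 689466835944694022152)) (.leaf (nat_lit 0))) (.leaf (nat_lit
    179812306245517342))) (.node (.leaf (nat_lit 185925590895951902)) (.leaf (nat_lit
    7768644435807014420492)))) (.node (.node (.node (.leaf (nat_lit 0)) (.leaf (nat_lit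
    11314242159529494249499))) (.leaf (nat_lit 401689354684203038))) (.node (.leaf (nat_lit 0))
    (.leaf (nat_lit 8950598258140255551515)))))) (.node (.node (.node (.node (.node (.leaf (nat_lit
    73659850305577447262395891762)) (.leaf (nat_lit 9750332840974690594504293730606569096741023)))
    (.leaf (nat_lit 311958262281011254))) (.node (.leaf (nat_lit 168050830363197470)) (.leaf
    (nat_lit 7072261057487451652104)))) (.node (.node (.node (.leaf (nat_lit
    1571515614696961146907)) (.leaf (nat_lit 11019098758194581930000))) (.leaf (nat_lit 0))) (.node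
    (.leaf (nat_lit 0)) (.leaf (nat_lit 8657727202381067911195))))) (.node (.node (.node (.node
    (.leaf (nat_lit 977707346269309173787)) (.leaf (nat_lit 10428748617964165726281))) (.leaf
    (nat_lit 5409301074908242934947132057578230379970600))) (.node (.leaf (nat_lit
    147012774877331471)) (.leaf (nat_lit 8057107944707698393115)))) (.node (.node (.node (.leaf
    (nat_lit 2001549708636278947898)) (.leaf (nat_lit 11602529673104318464028))) (.leaf (nat_lit
    26033229446058825688778991154364426))) (.node (.leaf (nat_lit 1214775304480062168527125413897))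
    (.leaf (nat_lit 6389879941021558833184))))))) (.node (.node (.node (.node (.node (.node (.leaf
    (nat_lit 223674654116494376963)) (.leaf (nat_lit 544056869027708941))) (.leaf (nat_lit 0)))
    (.node (.leaf (nat_lit 0)) (.leaf (nat_lit 7331752134275512860700)))) (.node (.node (.node
    (.leaf (nat_lit 87190748096757790)) (.leaf (nat_lit 8533294302534473809948))) (.leaf (nat_lit
    0))) (.node (.leaf (nat_lit 230401385995304990)) (.leaf (nat_lit 6883250262630815957084)))))
    (.node (.node (.node (.node (.leaf (nat_lit 50668618249273357)) (.leaf (nat_lit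
    8882576950788014407697))) (.leaf (nat_lit 4578472625208855560250))) (.node (.leaf (nat_lit
    194933339906506782)) (.leaf (nat_lit 482759095779196941)))) (.node (.node (.node (.leaf
    (nat_lit 1491953055017149333522)) (.leaf (nat_lit 11461813224578297823305))) (.leaf (nat_lit
    0))) (.node (.leaf (nat_lit 4346779589956176379933)) (.leaf (nat_lit 0)))))) (.node (.node
    (.node (.node (.node (.leaf (nat_lit 0)) (.leaf (nat_lit 9983607061150548819980))) (.leaf
    (nat_lit 100757775009512738409150557519175575710846222494))) (.node (.leaf (nat_lit 0)) (.leaf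
    (nat_lit 6172992276788360183835)))) (.node (.node (.node (.leaf (nat_lit 0)) (.leaf (nat_lit
    0))) (.leaf (nat_lit 1726358501448198396110243692553))) (.node (.leaf (nat_lit
    4085034950583887527984)) (.leaf (nat_lit 7358291359800251056220))))) (.node (.node (.node
    (.node (.leaf (nat_lit 1058416285381017403427)) (.leaf (nat_lit
    46124731801676372520110307510976646))) (.leaf (nat_lit 5853739335334901252124))) (.node (.leaf
    (nat_lit 3490070452989939875858)) (.leaf (nat_lit 8210431022717437411375)))) (.node (.node
    (.leaf (nat_lit 140746108354822174)) (.leaf (nat_lit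
    8020021078104007637771352934926167711416507))) (.node (.leaf (nat_lit 3204148952317691101196))
    (.leaf (nat_lit 0))))))))) (.node (.node (.node (.node (.node (.node (.node (.node (.leaf
    (nat_lit 34029233648587687412515456400799633506323)) (.leaf (nat_lit 0))) (.leaf (nat_lit
    794526284035073043837812539444))) (.node (.leaf (nat_lit 0)) (.leaf (nat_lit
    435468413473783821)))) (.node (.node (.node (.leaf (nat_lit 20344858753976497657348167)) (.leaf
    (nat_lit 9528234386977907212306))) (.leaf (nat_lit 347221610228482063))) (.node (.leaf (nat_lit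
    59680510262356498699117415818037496111126085781)) (.leaf (nat_lit 6698768325236635140194)))))
    (.node (.node (.node (.node (.leaf (nat_lit 651436048016436559901)) (.leaf (nat_lit
    9847563171888751640611))) (.leaf (nat_lit 0))) (.node (.leaf (nat_lit 183532916154957837))
    (.leaf (nat_lit 7737673602742102458397)))) (.node (.node (.node (.leaf (nat_lit
    1051527680527163392032)) (.leaf (nat_lit 687403910792609822))) (.leaf (nat_lit
    6552406526797163987003))) (.node (.leaf (nat_lit 4169103224926239916048)) (.leaf (nat_lit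
    0)))))) (.node (.node (.node (.node (.node (.leaf (nat_lit 352805874046016356384)) (.leaf
    (nat_lit 160588510369205883773386971))) (.leaf (nat_lit 155463483809464333))) (.node (.leaf
    (nat_lit 52475760552006675533420611521240585423764914301)) (.leaf (nat_lit
    7442494661699572006958)))) (.node (.node (.node (.leaf (nat_lit 1519611558498217951250)) (.leaf
    (nat_lit 2940243432243187244353005617194))) (.leaf (nat_lit 0))) (.node (.leaf (nat_lit
    1047031237691438671147970134170)) (.leaf (nat_lit 5165403413611238588447))))) (.node (.node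
    (.node (.node (.leaf (nat_lit 940811606184637431835)) (.leaf (nat_lit 9385252838271241879570)))
    (.leaf (nat_lit 5671512925579860181037))) (.node (.leaf (nat_lit 3310217161323346853934))
    (.leaf (nat_lit 113643396882934662739263512)))) (.node (.node (.node (.leaf (nat_lit
    1687954848130955149329)) (.leaf (nat_lit 0))) (.leaf (nat_lit 0))) (.node (.leaf (nat_lit
    323269913428127145901369979511371137129)) (.leaf (nat_lit 7452873286673835950178))))))) (.node
    (.node (.node (.node (.node (.node (.leaf (nat_lit 0)) (.leaf (nat_lit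
    9652761375732456947773))) (.leaf (nat_lit 300976640790495245))) (.node (.leaf (nat_lit
    2564188141130354982947)) (.leaf (nat_lit 0)))) (.node (.node (.node (.leaf (nat_lit
    1389354507815121780764)) (.leaf (nat_lit 10832343062837566046287))) (.leaf (nat_lit
    5513497878481103683642))) (.node (.leaf (nat_lit 3696392458539236524090)) (.leaf (nat_lit
    7259098099009657700360))))) (.node (.node (.node (.node (.leaf (nat_lit 0)) (.leaf (nat_lit
    10244313052322562506780))) (.leaf (nat_lit 3691880210127632138299))) (.node (.leaf (nat_lit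
    192259190188802078)) (.leaf (nat_lit 7885285974144954073104)))) (.node (.node (.node (.leaf
    (nat_lit 1977380365328678322192)) (.leaf (nat_lit 11422662941845106130990))) (.leaf (nat_lit
    5987472608800782090245))) (.node (.leaf (nat_lit 0)) (.leaf (nat_lit
    6242297824970363043871)))))) (.node (.node (.node (.node (.node (.leaf (nat_lit
    30119707998814221)) (.leaf (nat_lit 2671301960208709275530339614762))) (.leaf (nat_lit
    5224113445931216732187))) (.node (.leaf (nat_lit 2451209856806641926156)) (.leaf (nat_lit
    416259395580723230)))) (.node (.node (.node (.leaf (nat_lit 0)) (.leaf (nat_lit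
    10401160278623622725664))) (.leaf (nat_lit 6408436726360932680978717087594399419334742)))
    (.node (.leaf (nat_lit 3345911640579071213584)) (.leaf (nat_lit 5734975277515657117704)))))
    (.node (.node (.node (.node (.leaf (nat_lit 1091882252432088170501)) (.leaf (nat_lit
    642365165739835422))) (.leaf (nat_lit 1562016352054326888401639637034))) (.node (.leaf (nat_lit
    2799409041895535607843)) (.leaf (nat_lit 4439018250284438847519)))) (.node (.node (.leaf
    (nat_lit 2266724821693068673038)) (.leaf (nat_lit 6995140279645623222301))) (.node (.leaf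
    (nat_lit 231464907721574744577981818677204811936)) (.leaf (nat_lit
    7478246215680476250204)))))))) (.node (.node (.node (.node (.node (.node (.node (.leaf (nat_lit
    0)) (.leaf (nat_lit 9580202262538083303469))) (.leaf (nat_lit 68780714570577699636772897)))
    (.node (.leaf (nat_lit 0)) (.leaf (nat_lit 6117657250351062122513)))) (.node (.node (.node
    (.leaf (nat_lit 717159331635189186592)) (.leaf (nat_lit 9560521607766488580131))) (.leaf
    (nat_lit 6028946881574582026287))) (.node (.leaf (nat_lit 60279605250468658819629204)) (.leaf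
    (nat_lit 0))))) (.node (.node (.node (.node (.leaf (nat_lit 722925413775114960924)) (.leaf
    (nat_lit 0))) (.leaf (nat_lit 3929396676509143597073))) (.node (.leaf (nat_lit
    188177528148590605)) (.leaf (nat_lit 127946102015903120427843725)))) (.node (.node (.node
    (.leaf (nat_lit 1624535509188821057544)) (.leaf (nat_lit 8745433550018700312605))) (.leaf
    (nat_lit 6562628231713884667936))) (.node (.leaf (nat_lit 4264916600403412582412)) (.leaf
    (nat_lit 8713073348329781526586)))))) (.node (.node (.node (.node (.node (.leaf (nat_lit 0))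
    (.leaf (nat_lit 8496324671686412795916))) (.leaf (nat_lit 1380387188174859398615167991917)))
    (.node (.leaf (nat_lit 53547353323043690425835760079724486515118112896)) (.leaf (nat_lit
    7514026102783243124754)))) (.node (.node (.node (.leaf (nat_lit 81563383161290782)) (.leaf
    (nat_lit 643985562411335693))) (.leaf (nat_lit 365518858104209423))) (.node (.leaf (nat_lit
    277404859328607756292513882726117867583)) (.leaf (nat_lit 0))))) (.node (.node (.node (.node
    (.leaf (nat_lit 862417869966932115491)) (.leaf (nat_lit
    748313734159484687138374434142252630050))) (.leaf (nat_lit 5745287868067824730201))) (.node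
    (.leaf (nat_lit 0)) (.leaf (nat_lit 0)))) (.node (.node (.node (.leaf (nat_lit
    133849559108550686)) (.leaf (nat_lit 11641713102784487948316))) (.leaf (nat_lit
    6873937936332973628443130619684727718150218))) (.node (.leaf (nat_lit 4562340302418115493977))
    (.leaf (nat_lit 9287305099472294576181))))))) (.node (.node (.node (.node (.node (.node (.leaf
    (nat_lit 277870760973283033100)) (.leaf (nat_lit 2544079821211670795228813787217))) (.leaf
    (nat_lit 4739949047049152036893))) (.node (.leaf (nat_lit 0)) (.leaf (nat_lit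
    449752113195647006)))) (.node (.node (.node (.leaf (nat_lit 1337438349661258842210)) (.leaf
    (nat_lit 10910737085374971183196))) (.leaf (nat_lit 205570152832565263))) (.node (.leaf
    (nat_lit 639117770817002898117223579732)) (.leaf (nat_lit 0))))) (.node (.node (.node (.node
    (.leaf (nat_lit 871635049013133377554)) (.leaf (nat_lit 169013997335510155689984080))) (.leaf
    (nat_lit 5172170060789958508561))) (.node (.leaf (nat_lit 14228855622297239723121006667497602))
    (.leaf (nat_lit 6737938240875222204428)))) (.node (.node (.node (.leaf (nat_lit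
    2051172055676541403152)) (.leaf (nat_lit 10933724446742045458501))) (.leaf (nat_lit
    6060014903006303813649))) (.node (.leaf (nat_lit 0)) (.leaf (nat_lit 0)))))) (.node (.node
    (.node (.node (.node (.leaf (nat_lit 579947103044294082577)) (.leaf (nat_lit
    2523032534614354656651945246826))) (.leaf (nat_lit 5295659600748210225231))) (.node (.leaf
    (nat_lit 0)) (.leaf (nat_lit 447925605338578974)))) (.node (.node (.node (.leaf (nat_lit
    1740971925248822935587)) (.leaf (nat_lit 0))) (.leaf (nat_lit 5574715028106773725198))) (.node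
    (.leaf (nat_lit 4076868378382907408442)) (.leaf (nat_lit 0))))) (.node (.node (.node (.node
    (.leaf (nat_lit 793245535727532572699)) (.leaf (nat_lit 9539759098158060339216))) (.leaf
    (nat_lit 5822424194043451998225))) (.node (.leaf (nat_lit 215200775180255245)) (.leaf (nat_lit
    0)))) (.node (.node (.leaf (nat_lit 2326680329022045618192)) (.leaf (nat_lit
    1431101226431760308563790331913))) (.node (.leaf (nat_lit 4561236009259083431941)) (.leaf
    (nat_lit 0)))))))))))) (.node (.node (.node (.node (.node (.node (.node (.node (.node (.node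
    (.node (.leaf (nat_lit 1)) (.leaf (nat_lit 2259325957300370392108348276849))) (.leaf (nat_lit
    0))) (.node (.leaf (nat_lit 2349739251729751539747)) (.leaf (nat_lit 7082708342483219316763))))
    (.node (.node (.node (.leaf (nat_lit 608779080221575020575)) (.leaf (nat_lit
    10381392289136627613731))) (.leaf (nat_lit 6973485659943260629873331371983885226737842)))
    (.node (.leaf (nat_lit 3543118070361824100405)) (.leaf (nat_lit 4628109058577912758304)))))
    (.node (.node (.node (.node (.leaf (nat_lit 99657384534261060395797381170)) (.leaf (nat_lit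
    574527815156891661))) (.leaf (nat_lit 0))) (.node (.leaf (nat_lit 2414319957808773267464))
    (.leaf (nat_lit 0)))) (.node (.node (.node (.leaf (nat_lit 1774452388364273516590)) (.leaf
    (nat_lit 9848835865153477214240))) (.leaf (nat_lit
    6770537293288832857310193433565988829790301))) (.node (.leaf (nat_lit 251513297738792973))
    (.leaf (nat_lit 0)))))) (.node (.node (.node (.node (.node (.leaf (nat_lit 0)) (.leaf (nat_lit
    9741617044163093790809))) (.leaf (nat_lit 5021274912098837790748))) (.node (.leaf (nat_lit 0))
    (.leaf (nat_lit 19700370238793604478670177198014468)))) (.node (.node (.node (.leaf (nat_lit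
    89796028013871117)) (.leaf (nat_lit 2730412992283850465342549983274))) (.leaf (nat_lit
    27235424321624692922685934392443062))) (.node (.leaf (nat_lit 0)) (.leaf (nat_lit 0))))) (.node
    (.node (.node (.node (.leaf (nat_lit 1045378669022778648761245793781299662028886)) (.leaf
    (nat_lit 10331872178518626598940))) (.leaf (nat_lit 341450050355986462))) (.node (.leaf
    (nat_lit 0)) (.leaf (nat_lit 4351390444915611861024)))) (.node (.node (.node (.leaf (nat_lit
    0)) (.leaf (nat_lit 11503364561512203223068))) (.leaf (nat_lit 0))) (.node (.leaf (nat_lit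
    3518860704491220697096)) (.leaf (nat_lit 9153581263101830037557))))))) (.node (.node (.node
    (.node (.node (.node (.leaf (nat_lit 147576275312285253650)) (.leaf (nat_lit
    585362961082744862))) (.leaf (nat_lit 4871390117617576640528))) (.node (.leaf (nat_lit
    2510062331235955572782)) (.leaf (nat_lit 5750995560848915890268)))) (.node (.node (.node (.leaf
    (nat_lit 5304011981800120356623688376123396)) (.leaf (nat_lit 0))) (.leaf (nat_lit
    6053016447242798825480))) (.node (.leaf (nat_lit
    51204865989934599131745427712410500669540728984)) (.leaf (nat_lit 0))))) (.node (.node (.node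
    (.node (.leaf (nat_lit 402390648106783014947)) (.leaf (nat_lit
    2574411884344908368013032751211))) (.leaf (nat_lit 0))) (.node (.leaf (nat_lit
    189022004618330142)) (.leaf (nat_lit 415415838233985037)))) (.node (.node (.node (.leaf
    (nat_lit 0)) (.leaf (nat_lit 9526010103868636201058))) (.leaf (nat_lit 0))) (.node (.leaf
    (nat_lit 4229056973070972157964)) (.leaf (nat_lit 6122386106977154695200)))))) (.node (.node
    (.node (.node (.node (.leaf (nat_lit 385089857949674962952)) (.leaf (nat_lit
    8642747039846341214266))) (.leaf (nat_lit 4057378210461771825210))) (.node (.leaf (nat_lit 0))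
    (.leaf (nat_lit 27433580479740433787080765453238282)))) (.node (.node (.node (.leaf (nat_lit
    26559496504128517469110296)) (.leaf (nat_lit 9357624523711569920035))) (.leaf (nat_lit
    1047980377760686747249107337292))) (.node (.leaf (nat_lit 3652587634689837301776)) (.leaf
    (nat_lit 7296023887304007549020))))) (.node (.node (.node (.node (.leaf (nat_lit
    3569811175796645730470942669668362)) (.leaf (nat_lit 10477194546115997007951))) (.leaf (nat_lit
    942103765749776356220487401524))) (.node (.leaf (nat_lit 3393231309524275757074)) (.leaf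
    (nat_lit 0)))) (.node (.node (.node (.leaf (nat_lit 0)) (.leaf (nat_lit
    11657819875544928550928))) (.leaf (nat_lit 6936188100058793836556))) (.node (.leaf (nat_lit
    262372369023058533108818238825052962879)) (.leaf (nat_lit
    10779442006693231300888181506901481271853096)))))))) (.node (.node (.node (.node (.node (.node
    (.node (.leaf (nat_lit 19808098511296313286736543753)) (.leaf (nat_lit
    9522558931959346823196))) (.leaf (nat_lit 0))) (.node (.leaf (nat_lit
    35476072715093040819339288)) (.leaf (nat_lit 0)))) (.node (.node (.node (.leaf (nat_lit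
    1253297244007984988206)) (.leaf (nat_lit 10691623311640608571439))) (.leaf (nat_lit 0))) (.node
    (.leaf (nat_lit 0)) (.leaf (nat_lit 0))))) (.node (.node (.node (.node (.leaf (nat_lit
    665271527154607390779)) (.leaf (nat_lit 8822616446934603464721))) (.leaf (nat_lit
    328219901816864798))) (.node (.leaf (nat_lit 184377392624697374)) (.leaf (nat_lit
    8421821539263789003048732982874257297506510)))) (.node (.node (.node (.leaf (nat_lit
    1842433662317758709772)) (.leaf (nat_lit 0))) (.leaf (nat_lit 6566287969013184266252))) (.node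
    (.leaf (nat_lit 4185244126042275381251)) (.leaf (nat_lit 0)))))) (.node (.node (.node (.node
    (.node (.leaf (nat_lit 22097172946354189)) (.leaf (nat_lit 9815383608617267822604))) (.leaf
    (nat_lit 304011954308120606))) (.node (.leaf (nat_lit 0)) (.leaf (nat_lit
    7456391153923379101742)))) (.node (.node (.node (.leaf (nat_lit 885496005300303626338)) (.leaf
    (nat_lit 2607838718937913050541704151082))) (.leaf (nat_lit 6268747939183658729500))) (.node
    (.leaf (nat_lit 3608773802490132103184)) (.leaf (nat_lit 8282904569485986037772))))) (.node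
    (.node (.node (.node (.leaf (nat_lit 15735835984927159111385176)) (.leaf (nat_lit
    749811808659922950977580012355042345182))) (.leaf (nat_lit 5683047703781103042606))) (.node
    (.leaf (nat_lit 2601103305651299483665)) (.leaf (nat_lit 8039812077274601291788)))) (.node
    (.node (.node (.leaf (nat_lit 129767948607946782)) (.leaf (nat_lit 11579329315710511022109)))
    (.leaf (nat_lit 0))) (.node (.leaf (nat_lit 233711379851378701)) (.leaf (nat_lit 0)))))))
    (.node (.node (.node (.node (.node (.node (.leaf (nat_lit 0)) (.leaf (nat_lit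
    9665498257607029358651))) (.leaf (nat_lit 214769919101202740035609312352715341875))) (.node
    (.leaf (nat_lit 42333712129541133293584455)) (.leaf (nat_lit 0)))) (.node (.node (.node (.leaf
    (nat_lit 27074037072865754760188256616658666323729514532)) (.leaf (nat_lit
    10848470098089773039708))) (.leaf (nat_lit 3136317640115168149563))) (.node (.leaf (nat_lit
    3687169086545331421198)) (.leaf (nat_lit 139052561461736856684331032))))) (.node (.node (.node
    (.node (.leaf (nat_lit 0)) (.leaf (nat_lit 10258126722707725942863))) (.leaf (nat_lit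
    5361246865162175184899))) (.node (.leaf (nat_lit 0)) (.leaf (nat_lit 7894532360171358978095))))
    (.node (.node (.node (.leaf (nat_lit 0)) (.leaf (nat_lit 10995931823746645688338))) (.leaf
    (nat_lit 361087053150158878))) (.node (.leaf (nat_lit 3481965104989418487835)) (.leaf (nat_lit
    2437316218721314012818793889834)))))) (.node (.node (.node (.node (.node (.leaf (nat_lit 0))
    (.leaf (nat_lit 0))) (.leaf (nat_lit 5240256039251481919504))) (.node (.leaf (nat_lit
    1708727985678907015200)) (.leaf (nat_lit 0)))) (.node (.node (.node (.leaf (nat_lit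
    1408927787334869647363)) (.leaf (nat_lit 680294700535644214))) (.leaf (nat_lit
    6418699586553164005388))) (.node (.leaf (nat_lit 13163735394673201220488664522817540)) (.leaf
    (nat_lit 8779958344825994149915))))) (.node (.node (.node (.node (.leaf (nat_lit
    58973143674519582)) (.leaf (nat_lit 9447522562816407175184))) (.leaf (nat_lit 0))) (.node
    (.leaf (nat_lit 211682114633072653)) (.leaf (nat_lit 7044620921116196798478)))) (.node (.node
    (.leaf (nat_lit 0)) (.leaf (nat_lit 6827815238110642634779))) (.node (.leaf (nat_lit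
    159121060778868751)) (.leaf (nat_lit 0))))))))) (.node (.node (.node (.node (.node (.node
    (.node (.node (.leaf (nat_lit 0)) (.leaf (nat_lit 2363647001197066000753620222059))) (.leaf
    (nat_lit 230334642203525135))) (.node (.leaf (nat_lit 0)) (.leaf (nat_lit
    1543760799557135572110068219913)))) (.node (.node (.node (.leaf (nat_lit
    1214092635796834287645)) (.leaf (nat_lit 10666292884676846747680))) (.leaf (nat_lit
    255390304587350029))) (.node (.leaf (nat_lit 218437926390988830)) (.leaf (nat_lit
    4784916234974657708063))))) (.node (.node (.node (.node (.leaf (nat_lit 628368821406075650117))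
    (.leaf (nat_lit 569250305372454942))) (.leaf (nat_lit 326600840880193566))) (.node (.leaf
    (nat_lit 0)) (.leaf (nat_lit 2070254626262196308354869297161)))) (.node (.node (.node (.leaf
    (nat_lit 1081503217348577001570)) (.leaf (nat_lit 11249569548739545333807))) (.leaf (nat_lit
    5757886628608816119822))) (.node (.leaf (nat_lit 68364787824892179483197581)) (.leaf (nat_lit
    0)))))) (.node (.node (.node (.node (.node (.leaf (nat_lit 335519017596040183853)) (.leaf
    (nat_lit 9780776684436022558748))) (.leaf (nat_lit 5053501047066511736877))) (.node (.leaf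
    (nat_lit 679653129202204266156595150954)) (.leaf (nat_lit 433710208481624077)))) (.node (.node
    (.node (.leaf (nat_lit 1346694372984390615101)) (.leaf (nat_lit 572560926293753869))) (.leaf
    (nat_lit 102722680002500937620468062174450627293771006110))) (.node (.leaf (nat_lit 0)) (.leaf
    (nat_lit 7639572118003882590306))))) (.node (.node (.node (.node (.leaf (nat_lit
    910863935239889289277)) (.leaf (nat_lit 9477485573391471804451))) (.leaf (nat_lit
    4678719445900974030864))) (.node (.leaf (nat_lit 14421280720830624014832215926374543)) (.leaf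
    (nat_lit 8007469194113590689871)))) (.node (.node (.node (.leaf (nat_lit 127797486332018718))
    (.leaf (nat_lit 687334555660714014))) (.leaf (nat_lit 416467667134840845))) (.node (.leaf
    (nat_lit 4813248655379992421560721441118713742360733)) (.leaf (nat_lit
    6403711832277194571874))))))) (.node (.node (.node (.node (.node (.node (.leaf (nat_lit
    3079167419268618101456929)) (.leaf (nat_lit 9113125079752514928648))) (.leaf (nat_lit
    298944717532561438))) (.node (.leaf (nat_lit 155242945828749342)) (.leaf (nat_lit
    5674903797196285739043)))) (.node (.node (.node (.leaf (nat_lit 1365126690907197997104)) (.leaf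
    (nat_lit 10811589565724087222341))) (.leaf (nat_lit 0))) (.node (.leaf (nat_lit
    2589586477024624705539)) (.leaf (nat_lit 320842591111348237))))) (.node (.node (.node (.node
    (.leaf (nat_lit 778269235162973929517)) (.leaf (nat_lit 623082944424181790))) (.leaf (nat_lit
    5491646050039811473436))) (.node (.leaf (nat_lit 3134982450081238810652)) (.leaf (nat_lit 0))))
    (.node (.node (.node (.leaf (nat_lit 475385126168170986118297485354)) (.leaf (nat_lit
    9802656377482669916195))) (.leaf (nat_lit 0))) (.node (.leaf (nat_lit 0)) (.leaf (nat_lit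
    7282232459107066118236)))))) (.node (.node (.node (.node (.node (.leaf (nat_lit
    481935757055298306056)) (.leaf (nat_lit 0))) (.leaf (nat_lit
    99822922892403734806085554035717421514300653738))) (.node (.leaf (nat_lit
    2837499569739388878876)) (.leaf (nat_lit 6883187419820392120418)))) (.node (.node (.node (.leaf
    (nat_lit 1663751587208919973920)) (.leaf (nat_lit 8595542001928999469091))) (.leaf (nat_lit
    103932923503985233066459160))) (.node (.leaf (nat_lit 0)) (.leaf (nat_lit
    8742990195698700582924))))) (.node (.node (.node (.node (.leaf (nat_lit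
    1073428752396296847387)) (.leaf (nat_lit 10246639028759775346719))) (.leaf (nat_lit 0))) (.node
    (.leaf (nat_lit 3412762508212882833435)) (.leaf (nat_lit 6922409834124138446851)))) (.node
    (.node (.leaf (nat_lit 1735272621767221510175)) (.leaf (nat_lit 0))) (.node (.leaf (nat_lit
    2409754369493945221179)) (.leaf (nat_lit 10769909198784961901015218858047457697726504))))))))
    (.node (.node (.node (.node (.node (.node (.node (.leaf (nat_lit 0)) (.leaf (nat_lit 0)))
    (.leaf (nat_lit 3128066688935151206458))) (.node (.leaf (nat_lit 0)) (.leaf (nat_lit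
    21034118140331926135966411845402634)))) (.node (.node (.node (.leaf (nat_lit
    1287882286267160002589)) (.leaf (nat_lit 0))) (.leaf (nat_lit 6008152074709736030237))) (.node
    (.leaf (nat_lit 0)) (.leaf (nat_lit 7374384549241286754312))))) (.node (.node (.node (.node
    (.leaf (nat_lit 608762612148731052044)) (.leaf (nat_lit 10003208560362073030674))) (.leaf
    (nat_lit 0))) (.node (.leaf (nat_lit 0)) (.leaf (nat_lit 4261456937369548816416)))) (.node
    (.node (.node (.leaf (nat_lit 1229082658983767113820)) (.leaf (nat_lit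
    11195462256712606744645))) (.leaf (nat_lit 0))) (.node (.leaf (nat_lit 4246416238439016103982))
    (.leaf (nat_lit 8295657357492766310427)))))) (.node (.node (.node (.node (.node (.leaf (nat_lit
    0)) (.leaf (nat_lit 8255361754986304438280))) (.leaf (nat_lit 3765671829316477059104))) (.node
    (.leaf (nat_lit 2769413658459743911952)) (.leaf (nat_lit 397400211363856438)))) (.node (.node
    (.node (.leaf (nat_lit 0)) (.leaf (nat_lit 669318233005883422))) (.leaf (nat_lit
    332163987464650767))) (.node (.leaf (nat_lit 3567271020999026606138)) (.leaf (nat_lit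
    518579586884304909))))) (.node (.node (.node (.node (.leaf (nat_lit 0)) (.leaf (nat_lit
    9417538440501397749778))) (.leaf (nat_lit 5717533310490744389677))) (.node (.leaf (nat_lit
    534809270858452001076000653354)) (.leaf (nat_lit 8076641600375296819229)))) (.node (.node
    (.node (.leaf (nat_lit 1337467696090460651612)) (.leaf (nat_lit 11620983389554921898030)))
    (.leaf (nat_lit 110394265771723868007039000))) (.node (.leaf (nat_lit 0)) (.leaf (nat_lit
    6415246184499286048800))))))) (.node (.node (.node (.node (.node (.node (.leaf (nat_lit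
    253651528072896380942)) (.leaf (nat_lit 0))) (.leaf (nat_lit 4925580668204023480323))) (.node
    (.leaf (nat_lit 159887557822382110)) (.leaf (nat_lit 5394747671763885424652)))) (.node (.node
    (.node (.leaf (nat_lit 76144354204450831)) (.leaf (nat_lit
    44861949023428725357778425082151042))) (.leaf (nat_lit 4471212435827916472378))) (.node (.leaf
    (nat_lit 0)) (.leaf (nat_lit 7208374971406416543836))))) (.node (.node (.node (.node (.leaf
    (nat_lit 828976179209184673795)) (.leaf (nat_lit 627446081441103902))) (.leaf (nat_lit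
    5574715305694805032972))) (.node (.leaf (nat_lit 0)) (.leaf (nat_lit 7936035634252263653421))))
    (.node (.node (.node (.leaf (nat_lit 0)) (.leaf (nat_lit 699367336037187614))) (.leaf (nat_lit
    6966462255138525675905299269743164818718794))) (.node (.leaf (nat_lit 4376757519452330983485))
    (.leaf (nat_lit 9116617757736126578700)))))) (.node (.node (.node (.node (.node (.leaf (nat_lit
    553418368359428456451)) (.leaf (nat_lit 0))) (.leaf (nat_lit 5272554935032484134924))) (.node
    (.leaf (nat_lit 0)) (.leaf (nat_lit 7593391992745180200968)))) (.node (.node (.node (.leaf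
    (nat_lit 6196488763057116015909376956432388)) (.leaf (nat_lit 11175939357605917556764))) (.leaf
    (nat_lit 6460212364456096890907))) (.node (.leaf (nat_lit 249683572951220254)) (.leaf (nat_lit
    0))))) (.node (.node (.node (.node (.leaf (nat_lit 1122980311920185376776)) (.leaf (nat_lit
    46556029817745456463555201199374559))) (.leaf (nat_lit 1159987710649508633778910986316)))
    (.node (.leaf (nat_lit 0)) (.leaf (nat_lit 2208597052366141977037417807924)))) (.node (.node
    (.leaf (nat_lit 1897793177378678308881)) (.leaf (nat_lit 112282509039829523133366296))) (.node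
    (.leaf (nat_lit 4686902901738653810716)) (.leaf (nat_lit
    2297418399183525143863806459985)))))))))) (.node (.node (.node (.node (.node (.node (.node
    (.node (.node (.leaf (nat_lit 20753783433178841093)) (.leaf (nat_lit
    681603235671343179482220876800431947839))) (.leaf (nat_lit 3769178372755895287836))) (.node
    (.leaf (nat_lit 29215394593466336171925821649845272683517378676)) (.leaf (nat_lit
    7103533412516561616924)))) (.node (.node (.node (.leaf (nat_lit 1195652294316772229132)) (.leaf
    (nat_lit 10647853953479361101855))) (.leaf (nat_lit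
    6294212349973124698363359204791651286909021))) (.node (.leaf (nat_lit 3131454446653042524191))
    (.leaf (nat_lit 5664619690497858011194))))) (.node (.node (.node (.node (.leaf (nat_lit 0))
    (.leaf (nat_lit 10048241108223715901469))) (.leaf (nat_lit 87406824466336976625467540))) (.node
    (.leaf (nat_lit 0)) (.leaf (nat_lit 0)))) (.node (.node (.node (.leaf (nat_lit 0)) (.leaf
    (nat_lit 11231276772109456703516))) (.leaf (nat_lit 5767110000585541353530))) (.node (.leaf
    (nat_lit 4055072715516707799068)) (.leaf (nat_lit 140829358713700835670622263)))))) (.node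
    (.node (.node (.node (.node (.leaf (nat_lit 0)) (.leaf (nat_lit 8314158006988043386888)))
    (.leaf (nat_lit 5037417639258873856073))) (.node (.leaf (nat_lit 1528866459967302074395))
    (.leaf (nat_lit 121258478161907008445612236)))) (.node (.node (.node (.leaf (nat_lit 0)) (.leaf
    (nat_lit 10940699103726691090448))) (.leaf (nat_lit 374173784141332495))) (.node (.leaf
    (nat_lit 3309087253842649874461)) (.leaf (nat_lit
    163786590532130811146673398709247856446523637971))))) (.node (.node (.node (.node (.leaf
    (nat_lit 0)) (.leaf (nat_lit 9435980117690519060496))) (.leaf (nat_lit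
    2730281680834218098706))) (.node (.leaf (nat_lit 2769428578471755579427)) (.leaf (nat_lit
    7986759958089796091950)))) (.node (.node (.node (.leaf (nat_lit 2083444710199502503963)) (.leaf
    (nat_lit 11524124815725930151964))) (.leaf (nat_lit 0))) (.node (.leaf (nat_lit 0)) (.leaf
    (nat_lit 8575815313560487264291))))))) (.node (.node (.node (.node (.node (.node (.leaf
    (nat_lit 0)) (.leaf (nat_lit 7079369786330123010079))) (.leaf (nat_lit
    4889796887769237356633))) (.node (.leaf (nat_lit 0)) (.leaf (nat_lit 390784656057958430))))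
    (.node (.node (.node (.leaf (nat_lit 362109739993210222463290769417)) (.leaf (nat_lit
    10790850485398481862672))) (.leaf (nat_lit 5672605549544677244955))) (.node (.leaf (nat_lit
    3711456013000795947036)) (.leaf (nat_lit 2262782918183672591656419655689))))) (.node (.node
    (.node (.node (.leaf (nat_lit 12411132009136330559979591)) (.leaf (nat_lit
    548703113108914206))) (.leaf (nat_lit 304787453603086366))) (.node (.leaf (nat_lit
    3119913056164963876867)) (.leaf (nat_lit 6757633537147379318815)))) (.node (.node (.node (.leaf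
    (nat_lit 0)) (.leaf (nat_lit 10859885397147019051025))) (.leaf (nat_lit 405630262056189965)))
    (.node (.leaf (nat_lit 0)) (.leaf (nat_lit 10490864701272685741317675130678890405036215))))))
    (.node (.node (.node (.node (.node (.leaf (nat_lit 23856735148179471)) (.leaf (nat_lit
    9708049536027786936338))) (.leaf (nat_lit 0))) (.node (.leaf (nat_lit
    46262865113091289089572996)) (.leaf (nat_lit 6869350743215274393692)))) (.node (.node (.node
    (.leaf (nat_lit 1645316383377327325230)) (.leaf (nat_lit 11090551812633292636176))) (.leaf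
    (nat_lit 7429285571857238374662575267881436066611240))) (.node (.leaf (nat_lit
    3664116849804625248259)) (.leaf (nat_lit 138183816671195080075509887))))) (.node (.node (.node
    (.node (.leaf (nat_lit 961570104654388461595)) (.leaf (nat_lit
    690409898486378182715906502031839789119))) (.leaf (nat_lit 0))) (.node (.leaf (nat_lit
    908059431958283432484516724882)) (.leaf (nat_lit 6915491742077824466947)))) (.node (.node
    (.node (.leaf (nat_lit 1673012045691375255584)) (.leaf (nat_lit 11219624351485506289699)))
    (.leaf (nat_lit 6953648833797277548562))) (.node (.leaf (nat_lit 4596918303984646815805))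
    (.leaf (nat_lit 8729164499894734618632)))))))) (.node (.node (.node (.node (.node (.node (.node
    (.leaf (nat_lit 0)) (.leaf (nat_lit 155468414761363624861892663))) (.leaf (nat_lit
    4816046364932014538768))) (.node (.leaf (nat_lit 0)) (.leaf (nat_lit 5394738734323489505294))))
    (.node (.node (.node (.leaf (nat_lit 1176019627425229111299)) (.leaf (nat_lit 0))) (.leaf
    (nat_lit 366148942691434511))) (.node (.leaf (nat_lit 221534357293236254)) (.leaf (nat_lit
    8355673942207334907931))))) (.node (.node (.node (.node (.leaf (nat_lit 38001677361610782))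
    (.leaf (nat_lit 10126697260160297140252))) (.leaf (nat_lit 5404025074931705511964))) (.node
    (.leaf (nat_lit 2476579971200954073104)) (.leaf (nat_lit 6765602515692825018426)))) (.node
    (.node (.node (.leaf (nat_lit 1864349937396162428940)) (.leaf (nat_lit
    10221173849834211442780))) (.leaf (nat_lit 28959772687281157132272290536751286))) (.node (.leaf
    (nat_lit 0)) (.leaf (nat_lit 5990945103577723633762)))))) (.node (.node (.node (.node (.node
    (.leaf (nat_lit 0)) (.leaf (nat_lit 599719078248185886))) (.leaf (nat_lit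
    5036268732934508445744))) (.node (.leaf (nat_lit 0)) (.leaf (nat_lit
    1454047529661857034114500460553)))) (.node (.node (.node (.leaf (nat_lit
    1348971787218525028450)) (.leaf (nat_lit 608871413037793310))) (.leaf (nat_lit
    383533101994868766))) (.node (.leaf (nat_lit 3319463477273065357347)) (.leaf (nat_lit
    6449771480679587184732))))) (.node (.node (.node (.node (.leaf (nat_lit 968483692757477687310))
    (.leaf (nat_lit 9394479728874154557456))) (.leaf (nat_lit 5701527803223668359213))) (.node
    (.leaf (nat_lit 58832947190754203363629038381447939660744032400)) (.leaf (nat_lit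
    445112341630156830)))) (.node (.node (.node (.leaf (nat_lit 2161847524981639151663)) (.leaf
    (nat_lit 11602529463651648340013))) (.leaf (nat_lit 6883152444011915182088))) (.node (.leaf
    (nat_lit 2642641627962419642399)) (.leaf (nat_lit 563265869740900365))))))) (.node (.node
    (.node (.node (.node (.node (.leaf (nat_lit 253178388821377997054545716811666781896744)) (.leaf
    (nat_lit 531883059105103902))) (.leaf (nat_lit 302955843324870686))) (.node (.leaf (nat_lit
    173139248563502642808385286992443146364)) (.leaf (nat_lit 0)))) (.node (.node (.node (.leaf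
    (nat_lit 0)) (.leaf (nat_lit 573545745114857485))) (.leaf (nat_lit 5593163178275466575899)))
    (.node (.leaf (nat_lit 3611171053999816376367)) (.leaf (nat_lit 8503256620736037715995)))))
    (.node (.node (.node (.node (.leaf (nat_lit 830128467317784510476)) (.leaf (nat_lit 0))) (.leaf
    (nat_lit 0))) (.node (.leaf (nat_lit 3170643361861147492368)) (.leaf (nat_lit
    2124709254074780765590412132361)))) (.node (.node (.node (.leaf (nat_lit 0)) (.leaf (nat_lit
    10160064225565200285712))) (.leaf (nat_lit 0))) (.node (.leaf (nat_lit 3525777177772950749196))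
    (.leaf (nat_lit 9098216401412217307152)))))) (.node (.node (.node (.node (.node (.leaf (nat_lit
    433513687386666762256)) (.leaf (nat_lit 9929412716978403213320))) (.leaf (nat_lit
    5126046232854470525020))) (.node (.leaf (nat_lit 39008657638878214606815367)) (.leaf (nat_lit
    384452843471503373)))) (.node (.node (.node (.leaf (nat_lit 1464268864041057976328)) (.leaf
    (nat_lit 8572527552508131999772))) (.leaf (nat_lit 5334889340595421249565))) (.node (.leaf
    (nat_lit 3013872358434883698720)) (.leaf (nat_lit
    129843926632392072888513784307973775056135848150))))) (.node (.node (.node (.node (.leaf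
    (nat_lit 65798980579229726)) (.leaf (nat_lit 9089065235575268900953))) (.leaf (nat_lit
    5833952212666250625038))) (.node (.leaf (nat_lit 2889337834177393000464)) (.leaf (nat_lit
    8210446223311072591951)))) (.node (.node (.leaf (nat_lit 2309441462672619143237)) (.leaf
    (nat_lit 6966461502098165609637970897550144080183492))) (.node (.leaf (nat_lit
    193883289122111542)) (.leaf (nat_lit 0))))))))) (.node (.node (.node (.node (.node (.node
    (.node (.node (.leaf (nat_lit 56494420564994359313)) (.leaf (nat_lit
    684428017811075735901194116807780663359))) (.leaf (nat_lit 0))) (.node (.leaf (nat_lit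
    2420127626472053735472)) (.leaf (nat_lit 514355829366774917816257843827340410985)))) (.node
    (.node (.node (.leaf (nat_lit 901623746241407156232)) (.leaf (nat_lit 0))) (.leaf (nat_lit
    5952883411873712767004))) (.node (.leaf (nat_lit 0)) (.leaf (nat_lit 0))))) (.node (.node
    (.node (.node (.leaf (nat_lit 571868349738967564296)) (.leaf (nat_lit 0))) (.leaf (nat_lit
    5131870443107550167052))) (.node (.leaf (nat_lit 3010444199252424065052)) (.leaf (nat_lit 0))))
    (.node (.node (.node (.leaf (nat_lit 0)) (.leaf (nat_lit 11272724032330693541916))) (.leaf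
    (nat_lit 6552406256437562638341))) (.node (.leaf (nat_lit 2940172710172476768329)) (.leaf
    (nat_lit 8913673737312229589004)))))) (.node (.node (.node (.node (.node (.leaf (nat_lit
    21111941808390157)) (.leaf (nat_lit 40298137335821424982352369365155844))) (.leaf (nat_lit 0)))
    (.node (.leaf (nat_lit 2710682496841994665998)) (.leaf (nat_lit 0)))) (.node (.node (.node
    (.leaf (nat_lit 0)) (.leaf (nat_lit 630052259006382095))) (.leaf (nat_lit
    6683375002796067122221306499507107215704235))) (.node (.leaf (nat_lit 3884429283979985879071))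
    (.leaf (nat_lit 349975869676191798))))) (.node (.node (.node (.node (.leaf (nat_lit
    786319772723599048718)) (.leaf (nat_lit 0))) (.leaf (nat_lit 0))) (.node (.leaf (nat_lit 0))
    (.leaf (nat_lit 8022294486114808037388)))) (.node (.node (.node (.leaf (nat_lit 0)) (.leaf
    (nat_lit 560670884860395550))) (.leaf (nat_lit 6846403915340063113248))) (.node (.leaf (nat_lit
    4486271128463806234713)) (.leaf (nat_lit 10420106651535108316849339859533803297439927)))))))
    (.node (.node (.node (.node (.node (.node (.leaf (nat_lit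
    178318511622270180260552066980068968628262)) (.leaf (nat_lit 9649263903100759113740))) (.leaf
    (nat_lit 2553877158570993319981))) (.node (.leaf (nat_lit 0)) (.leaf (nat_lit
    6373739314139185217565)))) (.node (.node (.node (.leaf (nat_lit 1372024024173979566088)) (.leaf
    (nat_lit 10554344167119939371043))) (.leaf (nat_lit 344618752370939066041682890750312251573)))
    (.node (.leaf (nat_lit 2752180708487897219120)) (.leaf (nat_lit 5919403521762734047324)))))
    (.node (.node (.node (.node (.leaf (nat_lit 392016888054860152864)) (.leaf (nat_lit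
    162590923982766090939007009))) (.leaf (nat_lit 4760703324880311091205))) (.node (.leaf (nat_lit
    843707764841389276938256056396)) (.leaf (nat_lit 7880630660084957118493)))) (.node (.node
    (.node (.leaf (nat_lit 1413553266649358073874)) (.leaf (nat_lit 11422663506281118236717)))
    (.leaf (nat_lit 6299764732581936037986))) (.node (.leaf (nat_lit 4338704776175242379310))
    (.leaf (nat_lit 514781117807722550)))))) (.node (.node (.node (.node (.node (.leaf (nat_lit
    24279085052198942)) (.leaf (nat_lit 9103920075134711562257))) (.leaf (nat_lit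
    4717927149357616005178))) (.node (.leaf (nat_lit 2458126752515585409082)) (.leaf (nat_lit
    7580852841058857582620)))) (.node (.node (.node (.leaf (nat_lit 27542520039866950169657377))
    (.leaf (nat_lit 11125164861210268729413))) (.leaf (nat_lit 6338952451796267892744))) (.node
    (.leaf (nat_lit 0)) (.leaf (nat_lit 6083158064488134148188))))) (.node (.node (.node (.node
    (.leaf (nat_lit 1089566978499326181455)) (.leaf (nat_lit 10534876441193199370268))) (.leaf
    (nat_lit 95243929439966002248155191))) (.node (.leaf (nat_lit 210133933541687326)) (.leaf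
    (nat_lit 0)))) (.node (.node (.leaf (nat_lit 0)) (.leaf (nat_lit 6995184058663883178030)))
    (.node (.leaf (nat_lit 0)) (.leaf (nat_lit 153259027481478722601877584)))))))) (.node (.node
    (.node (.node (.node (.node (.node (.leaf (nat_lit 124517985871737323547)) (.leaf (nat_lit
    9454386748685239386130))) (.leaf (nat_lit 4293146235177273507711311229198987690508328))) (.node
    (.leaf (nat_lit 152076073167880205)) (.leaf (nat_lit 0)))) (.node (.node (.node (.leaf (nat_lit
    79521572888641549)) (.leaf (nat_lit 655595297099087902))) (.leaf (nat_lit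
    6028946813198702673999))) (.node (.leaf (nat_lit 0)) (.leaf (nat_lit
    7438949983163928215650))))) (.node (.node (.node (.node (.leaf (nat_lit 673326005352021557275))
    (.leaf (nat_lit 10165907356764126511183))) (.leaf (nat_lit 202541530873987087))) (.node (.leaf
    (nat_lit 2388959485100644565004)) (.leaf (nat_lit 7371077145774478524451)))) (.node (.node
    (.node (.leaf (nat_lit 1238307156989248208988)) (.leaf (nat_lit 11223222163418051182661)))
    (.leaf (nat_lit 403378324803551245))) (.node (.leaf (nat_lit 3382811884933385224206)) (.leaf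
    (nat_lit 8985248107766550298653)))))) (.node (.node (.node (.node (.node (.leaf (nat_lit
    20549266732875830)) (.leaf (nat_lit 9002456578890121019450))) (.leaf (nat_lit 0))) (.node
    (.leaf (nat_lit 2787860402602172940291)) (.leaf (nat_lit 437017883055357967)))) (.node (.node
    (.node (.leaf (nat_lit 1608413041200541663279)) (.leaf (nat_lit 11053701252056931827785)))
    (.leaf (nat_lit 6331053136714125213744))) (.node (.leaf (nat_lit 0)) (.leaf (nat_lit
    5435203371504177971232))))) (.node (.node (.node (.node (.leaf (nat_lit 61083862402465822))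
    (.leaf (nat_lit 10314669700837233852461))) (.leaf (nat_lit 4788250085406965694480))) (.node
    (.leaf (nat_lit 14857501684141339700014764851068938)) (.leaf (nat_lit 478748738786033694))))
    (.node (.node (.node (.leaf (nat_lit 2196443826755278667807)) (.leaf (nat_lit
    11639354130759239794704))) (.leaf (nat_lit 0))) (.node (.leaf (nat_lit 3772547557179772829731))
    (.leaf (nat_lit 0))))))) (.node (.node (.node (.node (.node (.node (.leaf (nat_lit
    274405100378367655968)) (.leaf (nat_lit 149084125709563216928178209))) (.leaf (nat_lit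
    2831747989208645697634))) (.node (.leaf (nat_lit 0)) (.leaf (nat_lit 7361776788446002741276))))
    (.node (.node (.node (.leaf (nat_lit 384711779735581222405646123050)) (.leaf (nat_lit 0)))
    (.leaf (nat_lit 7237342400824962117426952669161229015056462))) (.node (.leaf (nat_lit 0))
    (.leaf (nat_lit 8537799863170897215500))))) (.node (.node (.node (.node (.leaf (nat_lit 0))
    (.leaf (nat_lit 10315796163088439509039))) (.leaf (nat_lit 0))) (.node (.leaf (nat_lit
    2753286832844890636323)) (.leaf (nat_lit 7007721661846991863866)))) (.node (.node (.node (.leaf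
    (nat_lit 1505788816880132358162)) (.leaf (nat_lit 0))) (.leaf (nat_lit 274815178946773007)))
    (.node (.leaf (nat_lit 4410192735649958920238)) (.leaf (nat_lit
    40176689223756018777967931093811336)))))) (.node (.node (.node (.node (.node (.leaf (nat_lit
    575335276279788404789)) (.leaf (nat_lit 10020607437826940928028))) (.leaf (nat_lit
    5293303165463791075344))) (.node (.leaf (nat_lit 48076294184701613190676611)) (.leaf (nat_lit
    7657011318086309183516)))) (.node (.node (.node (.leaf (nat_lit 106263344943595550)) (.leaf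
    (nat_lit 10261640240177600462879))) (.leaf (nat_lit 6476243553991220461641))) (.node (.leaf
    (nat_lit 4117299301290092986403)) (.leaf (nat_lit 7697250774838952525832))))) (.node (.node
    (.node (.node (.leaf (nat_lit 70513823878086669)) (.leaf (nat_lit 524779243327062070))) (.leaf
    (nat_lit 0))) (.node (.leaf (nat_lit 56821856401528096286834712)) (.leaf (nat_lit 0)))) (.node
    (.node (.leaf (nat_lit 2341725518250691985436)) (.leaf (nat_lit
    123999710216593366241631667023233506179939893434))) (.node (.leaf (nat_lit 0)) (.leaf (nat_lit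
    575229243445870622))))))))))) (.node (.node (.node (.node (.node (.node (.node (.node (.node
    (.node (.leaf (nat_lit 0)) (.leaf (nat_lit 9447457467630644035619))) (.leaf (nat_lit
    4732926731355043332169))) (.node (.leaf (nat_lit 0)) (.leaf (nat_lit 0)))) (.node (.node (.node
    (.leaf (nat_lit 72202776817565709)) (.leaf (nat_lit 9746264129684226900000))) (.leaf (nat_lit
    5258740083608623710243))) (.node (.leaf (nat_lit 3554661149772777455695)) (.leaf (nat_lit
    504856204300910605))))) (.node (.node (.node (.node (.leaf (nat_lit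
    29077841137745428955181953254722830359)) (.leaf (nat_lit 7492140456392232468511))) (.leaf
    (nat_lit 282831821304102927))) (.node (.leaf (nat_lit 1776810027463601225776)) (.leaf (nat_lit
    0)))) (.node (.node (.node (.leaf (nat_lit 0)) (.leaf (nat_lit 10937126915246911586322)))
    (.leaf (nat_lit 6506238026610477563909))) (.node (.leaf (nat_lit 0)) (.leaf (nat_lit
    8862921477413971099675)))))) (.node (.node (.node (.node (.node (.leaf (nat_lit
    5798393849280806385275579507323868445468590124)) (.leaf (nat_lit
    10268822475206961379545334392365706096672975))) (.leaf (nat_lit 5030483854832284401743)))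
    (.node (.leaf (nat_lit 29129099169617187097018392)) (.leaf (nat_lit 383818648600576013))))
    (.node (.node (.node (.leaf (nat_lit 28768945432951442164524763058613795863097049192)) (.leaf
    (nat_lit 179138135402735798317219865))) (.leaf (nat_lit 26347629393648922059614591333564426)))
    (.node (.leaf (nat_lit 3845221785126995951634)) (.leaf (nat_lit 8567801506727681261595)))))
    (.node (.node (.node (.node (.leaf (nat_lit 898175887096227758109)) (.leaf (nat_lit
    10017052204117109440547))) (.leaf (nat_lit 5616075019905430388815))) (.node (.leaf (nat_lit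
    3818199955167908545860866456785613870334094)) (.leaf (nat_lit 0)))) (.node (.node (.node (.leaf
    (nat_lit 0)) (.leaf (nat_lit 10321479921464194039843))) (.leaf (nat_lit
    7973739514373079713754400318661385519628477))) (.node (.leaf (nat_lit 3530389919571648905274))
    (.leaf (nat_lit 176230607812368306278731260799160155990215164115))))))) (.node (.node (.node
    (.node (.node (.node (.leaf (nat_lit 0)) (.leaf (nat_lit
    11273378890401391254729610728855644519530536))) (.leaf (nat_lit 0))) (.node (.leaf (nat_lit
    2441976983700832976928)) (.leaf (nat_lit 7244088850896272949293)))) (.node (.node (.node (.leaf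
    (nat_lit 1340912735568135389230)) (.leaf (nat_lit 0))) (.leaf (nat_lit
    1627320389223840752841252995081))) (.node (.leaf (nat_lit 3702227010034182848560)) (.leaf
    (nat_lit 7670515633655869249412874371789524753187023))))) (.node (.node (.node (.node (.leaf
    (nat_lit 2464386120760446958765614662287364)) (.leaf (nat_lit 7621275406019814686752))) (.leaf
    (nat_lit 3993948599650082816058))) (.node (.leaf (nat_lit 3076101476005590532099)) (.leaf
    (nat_lit 6793273898681302712323)))) (.node (.node (.node (.leaf (nat_lit
    1399717504743425376273)) (.leaf (nat_lit 11371865639851720376348))) (.leaf (nat_lit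
    6653866577468665823285))) (.node (.leaf (nat_lit 261224768550862861)) (.leaf (nat_lit
    8234541047840870957114)))))) (.node (.node (.node (.node (.node (.leaf (nat_lit
    392007387011675783226)) (.leaf (nat_lit 9898360111172149248061))) (.leaf (nat_lit 0))) (.node
    (.leaf (nat_lit 7763567364190890765159909860704386)) (.leaf (nat_lit 0)))) (.node (.node (.node
    (.leaf (nat_lit 1630286393793128366107)) (.leaf (nat_lit 11072171144398049050671))) (.leaf
    (nat_lit 4648768259224846401554))) (.node (.leaf (nat_lit 243350008018108446)) (.leaf (nat_lit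
    5559726775404144558111))))) (.node (.node (.node (.node (.leaf (nat_lit 855500692886091137036))
    (.leaf (nat_lit 9371426224834628222992))) (.leaf (nat_lit 351442996144766989))) (.node (.leaf
    (nat_lit 3371256911740081995788)) (.leaf (nat_lit 7863193500279499849755)))) (.node (.node
    (.node (.leaf (nat_lit 2192937071161655885840)) (.leaf (nat_lit 11660199680948996079663)))
    (.leaf (nat_lit 0))) (.node (.leaf (nat_lit 0)) (.leaf (nat_lit
    2499215319981551277599006982257)))))))) (.node (.node (.node (.node (.node (.node (.node (.leaf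
    (nat_lit 85317669406657150988)) (.leaf (nat_lit 9531783289476447666192))) (.leaf (nat_lit
    334398030033129322201929514885241569363))) (.node (.leaf (nat_lit 2445495490002855067660))
    (.leaf (nat_lit 117404406809155193922650192)))) (.node (.node (.node (.leaf (nat_lit
    673345780996360044576)) (.leaf (nat_lit 10710070267567874965573))) (.leaf (nat_lit 0))) (.node
    (.leaf (nat_lit 0)) (.leaf (nat_lit 0))))) (.node (.node (.node (.node (.leaf (nat_lit
    583397564879525314574)) (.leaf (nat_lit 617171591956135966))) (.leaf (nat_lit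
    192760103634599949))) (.node (.leaf (nat_lit 185081114426212382)) (.leaf (nat_lit
    7758426823736428789807)))) (.node (.node (.node (.leaf (nat_lit 113159859830128670)) (.leaf
    (nat_lit 8745465215756011765788))) (.leaf (nat_lit 0))) (.node (.leaf (nat_lit 0)) (.leaf
    (nat_lit 8936764325684232519707)))))) (.node (.node (.node (.node (.node (.leaf (nat_lit
    374722078686956421132)) (.leaf (nat_lit 159227884210014286822768673))) (.leaf (nat_lit
    83628293695795078979911821))) (.node (.leaf (nat_lit 44902681760479608091967615)) (.leaf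
    (nat_lit 5416665213870526365704)))) (.node (.node (.node (.leaf (nat_lit
    1372029513588860452962)) (.leaf (nat_lit 11005246104371252625435))) (.leaf (nat_lit
    5142215707443033473040))) (.node (.leaf (nat_lit 3711416608252108144687)) (.leaf (nat_lit
    5317598200250574766112))))) (.node (.node (.node (.node (.leaf (nat_lit 968483833460606304268))
    (.leaf (nat_lit 10402132490530301607971))) (.leaf (nat_lit 0))) (.node (.leaf (nat_lit 0))
    (.leaf (nat_lit 8055935741475697131565)))) (.node (.node (.node (.leaf (nat_lit
    2150317818763110711385)) (.leaf (nat_lit 605777352957493278))) (.leaf (nat_lit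
    6872974580854336716829))) (.node (.leaf (nat_lit 4511636457276708159536)) (.leaf (nat_lit
    9231949244367756263470))))))) (.node (.node (.node (.node (.node (.node (.leaf (nat_lit
    13793145737314334)) (.leaf (nat_lit 7146242330062582120480))) (.leaf (nat_lit
    4919816060569320095813))) (.node (.leaf (nat_lit 0)) (.leaf (nat_lit 7313317556508418048027))))
    (.node (.node (.node (.leaf (nat_lit 86136612798464030)) (.leaf (nat_lit 0))) (.leaf (nat_lit
    6134969427523033825359))) (.node (.leaf (nat_lit 3707921673671204339728)) (.leaf (nat_lit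
    0))))) (.node (.node (.node (.node (.leaf (nat_lit 884782424486591745305511826433780310605901))
    (.leaf (nat_lit 8441049320933474631683))) (.leaf (nat_lit 5540115269962497720367))) (.node
    (.leaf (nat_lit 0)) (.leaf (nat_lit 0)))) (.node (.node (.node (.leaf (nat_lit 0)) (.leaf
    (nat_lit 11443416582827104469071))) (.leaf (nat_lit 6725387402149095473164))) (.node (.leaf
    (nat_lit 4366325986339315712046)) (.leaf (nat_lit
    10255375010268919047926093047782522682343464)))))) (.node (.node (.node (.node (.node (.leaf
    (nat_lit 521135932782890123291)) (.leaf (nat_lit 9974520412830557208629))) (.leaf (nat_lit 0)))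
    (.node (.leaf (nat_lit 0)) (.leaf (nat_lit 7608566799564219285533)))) (.node (.node (.node
    (.leaf (nat_lit 104011373331218445)) (.leaf (nat_lit 9847614052424982134800))) (.leaf (nat_lit
    6255943018361328435298))) (.node (.leaf (nat_lit 3006954829381472813087)) (.leaf (nat_lit
    536524063326208030))))) (.node (.node (.node (.node (.leaf (nat_lit
    1078069538530196667796722117950952010416168)) (.leaf (nat_lit 10562555072437205270575))) (.leaf
    (nat_lit 1135228418739992089785417400369))) (.node (.leaf (nat_lit 0)) (.leaf (nat_lit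
    8196602368630192275484)))) (.node (.node (.leaf (nat_lit 2295606404630221881360)) (.leaf
    (nat_lit 428638977386479631))) (.node (.leaf (nat_lit 0)) (.leaf (nat_lit 0))))))))) (.node
    (.node (.node (.node (.node (.node (.node (.node (.leaf (nat_lit 41506229873103011854)) (.leaf
    (nat_lit 579170133637988382))) (.leaf (nat_lit 4772126701680119185413))) (.node (.leaf (nat_lit
    36999182230400727130320699328930670084690083959)) (.leaf (nat_lit 0)))) (.node (.node (.node
    (.leaf (nat_lit 1035362148160232423432)) (.leaf (nat_lit 10673175512886139879493))) (.leaf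
    (nat_lit 4858586320006503661603))) (.node (.leaf (nat_lit 58805853331480991978750032)) (.leaf
    (nat_lit 0))))) (.node (.node (.node (.node (.leaf (nat_lit 440434594483395559442)) (.leaf
    (nat_lit 10085209677875552387161))) (.leaf (nat_lit 966256330461302510975556321322))) (.node
    (.leaf (nat_lit 12884978544577402316806751781257220)) (.leaf (nat_lit
    6823247183367895187470)))) (.node (.node (.node (.leaf (nat_lit 0)) (.leaf (nat_lit
    11265764361126893781065))) (.leaf (nat_lit 6536263799534048706589))) (.node (.leaf (nat_lit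
    68515911642710737521213548)) (.leaf (nat_lit 0)))))) (.node (.node (.node (.node (.node (.leaf
    (nat_lit 0)) (.leaf (nat_lit 9131580198290897174563))) (.leaf (nat_lit
    2805213484140728614957))) (.node (.leaf (nat_lit 0)) (.leaf (nat_lit
    121711645386050055266631883)))) (.node (.node (.node (.leaf (nat_lit 0)) (.leaf (nat_lit
    10970668032427387191369))) (.leaf (nat_lit 6248010485950578884636))) (.node (.leaf (nat_lit
    3882091768675045670940)) (.leaf (nat_lit 8598803302443758321762))))) (.node (.node (.node
    (.node (.leaf (nat_lit 793237301725470326842)) (.leaf (nat_lit 0))) (.leaf (nat_lit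
    247578317421674509))) (.node (.leaf (nat_lit 190993051009810447)) (.leaf (nat_lit
    6757681458906409402380)))) (.node (.node (.node (.leaf (nat_lit 2111101387812664180815)) (.leaf
    (nat_lit 11558728650223666790479))) (.leaf (nat_lit 0))) (.node (.leaf (nat_lit
    289870742624212636554453424908712476706)) (.leaf (nat_lit 0))))))) (.node (.node (.node (.node
    (.node (.node (.leaf (nat_lit 11259733507964958)) (.leaf (nat_lit 8813464849247283380272)))
    (.leaf (nat_lit 4915061029313014071375))) (.node (.leaf (nat_lit 0)) (.leaf (nat_lit 0))))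
    (.node (.node (.node (.leaf (nat_lit 4938917152681312949809394416484362)) (.leaf (nat_lit
    10533734006332282044463))) (.leaf (nat_lit 6095802399094607118352))) (.node (.leaf (nat_lit 0))
    (.leaf (nat_lit 0))))) (.node (.node (.node (.node (.leaf (nat_lit 387405202010662961183))
    (.leaf (nat_lit 10228183694287617327132))) (.leaf (nat_lit 5324411149642056794147))) (.node
    (.leaf (nat_lit 0)) (.leaf (nat_lit 7866863084736218333196)))) (.node (.node (.node (.leaf
    (nat_lit 1965832785139891109935)) (.leaf (nat_lit 11404224218755965845532))) (.leaf (nat_lit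
    6686151692963062939664))) (.node (.leaf (nat_lit 4324872040138194223116)) (.leaf (nat_lit
    8970277019496992669744)))))) (.node (.node (.node (.node (.node (.leaf (nat_lit 0)) (.leaf
    (nat_lit 9935293923045228609548))) (.leaf (nat_lit
    6114376598918468753045806251860806362202283))) (.node (.leaf (nat_lit 2495022773886255300640))
    (.leaf (nat_lit 5677233144517106008162)))) (.node (.node (.node (.leaf (nat_lit 0)) (.leaf
    (nat_lit 11109072019751778320412))) (.leaf (nat_lit 6393339679900250079244))) (.node (.leaf
    (nat_lit 3645670668783948333059)) (.leaf (nat_lit 6465926526222440005640))))) (.node (.node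
    (.node (.node (.leaf (nat_lit 0)) (.leaf (nat_lit 10527904090494322540617))) (.leaf (nat_lit
    5803007692370585255964))) (.node (.leaf (nat_lit 3295164936998399180816)) (.leaf (nat_lit
    8159648575383840948271)))) (.node (.node (.leaf (nat_lit 2261014677447724171311)) (.leaf
    (nat_lit 8242142153143378816826696490945900846776517))) (.node (.leaf (nat_lit
    1225944777460708832699530674252)) (.leaf (nat_lit
    10632431639546646535557966389372700919857311)))))))) (.node (.node (.node (.node (.node (.node
    (.node (.leaf (nat_lit 0)) (.leaf (nat_lit 2495793114327246714046437982292))) (.leaf (nat_lit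
    4019233916675413966883))) (.node (.leaf (nat_lit
    46878145610190365143019558645742906786210971768)) (.leaf (nat_lit 0)))) (.node (.node (.node
    (.leaf (nat_lit 703324273545547284511)) (.leaf (nat_lit 10140516770949363859535))) (.leaf
    (nat_lit 5236747177444551884818))) (.node (.leaf (nat_lit 11972420516159307169187720449097732))
    (.leaf (nat_lit 6299862621775739420680))))) (.node (.node (.node (.node (.leaf (nat_lit
    50928765615860727618757849540190470214)) (.leaf (nat_lit 0))) (.leaf (nat_lit
    331457035847729165))) (.node (.leaf (nat_lit 0)) (.leaf (nat_lit 0)))) (.node (.node (.node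
    (.leaf (nat_lit 0)) (.leaf (nat_lit 691977986538340382))) (.leaf (nat_lit
    6616974778007898226741))) (.node (.leaf (nat_lit 3424317410908592865292)) (.leaf (nat_lit
    0)))))) (.node (.node (.node (.node (.node (.leaf (nat_lit 410453497620658847758)) (.leaf
    (nat_lit 9863795194953629630525))) (.leaf (nat_lit 0))) (.node (.leaf (nat_lit
    169036078681030686)) (.leaf (nat_lit 7497759733921460977692)))) (.node (.node (.node (.leaf
    (nat_lit 1594562433426617729042)) (.leaf (nat_lit 11042187026395186790432))) (.leaf (nat_lit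
    5654213764396473319452))) (.node (.leaf (nat_lit 0)) (.leaf (nat_lit
    5430591685459980779551))))) (.node (.node (.node (.node (.leaf (nat_lit 47643397904793613))
    (.leaf (nat_lit 0))) (.leaf (nat_lit 5160643238787998220380))) (.node (.leaf (nat_lit 0))
    (.leaf (nat_lit 8090480110308679680046)))) (.node (.node (.node (.leaf (nat_lit
    2184899270309367185420)) (.leaf (nat_lit 0))) (.leaf (nat_lit 6909880040643272835084))) (.node
    (.leaf (nat_lit 4546136838587948400672)) (.leaf (nat_lit 0))))))) (.node (.node (.node (.node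
    (.node (.node (.leaf (nat_lit 4155837006048415195594776)) (.leaf (nat_lit
    37732382501178020806264308311130116))) (.leaf (nat_lit 223580084576059405))) (.node (.leaf
    (nat_lit 11419549071336751027606352472440836)) (.leaf (nat_lit 392473883875344414)))) (.node
    (.node (.node (.leaf (nat_lit 0)) (.leaf (nat_lit 10894598084382532239439))) (.leaf (nat_lit
    376214305923792909))) (.node (.leaf (nat_lit 64676097594089796106673666167058650760485601419))
    (.leaf (nat_lit 317605938116821005))))) (.node (.node (.node (.node (.leaf (nat_lit 0)) (.leaf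
    (nat_lit 10301951461783605805135))) (.leaf (nat_lit 292447983031198768730028229580651167917)))
    (.node (.leaf (nat_lit 3797783260410441446710899979768816107782284)) (.leaf (nat_lit
    455526469091852318)))) (.node (.node (.node (.leaf (nat_lit 2037334956966332792901)) (.leaf
    (nat_lit 11482607607770389872685))) (.leaf (nat_lit 0))) (.node (.leaf (nat_lit
    4277552930582415212592)) (.leaf (nat_lit 7605054632462127399010)))))) (.node (.node (.node
    (.node (.node (.leaf (nat_lit 0)) (.leaf (nat_lit
    11738978874932676219106412391223430216155176))) (.leaf (nat_lit 0))) (.node (.leaf (nat_lit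
    2292225271660079510542619274800720282910760)) (.leaf (nat_lit 7335262550620085878832)))) (.node
    (.node (.node (.leaf (nat_lit 105911466862968845)) (.leaf (nat_lit 9924883155794146820131)))
    (.leaf (nat_lit 0))) (.node (.leaf (nat_lit 0)) (.leaf (nat_lit
    465589636187163656954890619316672594136))))) (.node (.node (.node (.node (.leaf (nat_lit
    583413258904773263391)) (.leaf (nat_lit 9371431854729299427363))) (.leaf (nat_lit
    5863928734839061282830))) (.node (.leaf (nat_lit 0)) (.leaf (nat_lit 0)))) (.node (.node (.leaf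
    (nat_lit 142012831649366046)) (.leaf (nat_lit 6860098025573851529243))) (.node (.leaf (nat_lit
    4656761387326706966741281446330630714949796)) (.leaf (nat_lit 9421096069222432440336))))))))))
    (.node (.node (.node (.node (.node (.node (.node (.node (.node (.leaf (nat_lit
    29977014766904999944)) (.leaf (nat_lit 0))) (.leaf (nat_lit 222805152216776717))) (.node (.leaf
    (nat_lit 145812949993390093)) (.leaf (nat_lit 6170669965586043437091)))) (.node (.node (.node
    (.leaf (nat_lit 1060725506399189270531)) (.leaf (nat_lit 10641955645505598062627))) (.leaf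
    (nat_lit 4883950311581337976848))) (.node (.leaf (nat_lit 3556979449999625748507)) (.leaf
    (nat_lit 0))))) (.node (.node (.node (.node (.leaf (nat_lit 621461073028284874805)) (.leaf
    (nat_lit 8598947493420827082760))) (.leaf (nat_lit 4758268987891393953861))) (.node (.leaf
    (nat_lit 0)) (.leaf (nat_lit 0)))) (.node (.node (.node (.leaf (nat_lit
    1797489778554088652827)) (.leaf (nat_lit 8423757824175062056963))) (.leaf (nat_lit
    6517817755728986963997))) (.node (.leaf (nat_lit 3341370323725728284707)) (.leaf (nat_lit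
    2295226067313474203817695576148)))))) (.node (.node (.node (.node (.node (.leaf (nat_lit
    321684452280881053712)) (.leaf (nat_lit 0))) (.leaf (nat_lit 307248744741601310))) (.node
    (.leaf (nat_lit 2671427996624286318640)) (.leaf (nat_lit 6170669896325400821776)))) (.node
    (.node (.node (.leaf (nat_lit 91625718441705502)) (.leaf (nat_lit 0))) (.leaf (nat_lit
    6224962682934677143621))) (.node (.leaf (nat_lit 3868231731021250494510)) (.leaf (nat_lit
    0))))) (.node (.node (.node (.node (.leaf (nat_lit 916624672241475584016)) (.leaf (nat_lit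
    10361863339486170251295))) (.leaf (nat_lit 5632364829659332018204))) (.node (.leaf (nat_lit 0))
    (.leaf (nat_lit 7813825744362079977484)))) (.node (.node (.node (.leaf (nat_lit
    1667201205396610154513)) (.leaf (nat_lit 11542561643239844282460))) (.leaf (nat_lit
    1798162065819685001179963916297))) (.node (.leaf (nat_lit 4454007130391595646988)) (.leaf
    (nat_lit 0))))))) (.node (.node (.node (.node (.node (.node (.leaf (nat_lit
    170637520240088645659)) (.leaf (nat_lit 557215566490894366))) (.leaf (nat_lit
    4901363611005219962969))) (.node (.leaf (nat_lit 2537727028210188877852)) (.leaf (nat_lit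
    118990673397524919184785432)))) (.node (.node (.node (.leaf (nat_lit 1348964749562423214172))
    (.leaf (nat_lit 600144881305911350))) (.leaf (nat_lit 0))) (.node (.leaf (nat_lit
    2988496543519458131986)) (.leaf (nat_lit 5259930380330957209692))))) (.node (.node (.node
    (.node (.leaf (nat_lit 769032986320244506672)) (.leaf (nat_lit 10212041530373887426629)))
    (.leaf (nat_lit 2654186398100133969955))) (.node (.leaf (nat_lit 0)) (.leaf (nat_lit
    4279905511279715090463)))) (.node (.node (.node (.leaf (nat_lit 1949693149660523462745)) (.leaf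
    (nat_lit 8927594796066070003740))) (.leaf (nat_lit 6665445337947495923724))) (.node (.leaf
    (nat_lit 3431235854944656621626)) (.leaf (nat_lit 6173117327286623993888)))))) (.node (.node
    (.node (.node (.node (.leaf (nat_lit 471573044436649836556)) (.leaf (nat_lit 0))) (.leaf
    (nat_lit 5196383864538150404155))) (.node (.leaf (nat_lit 2441985499504289447994)) (.leaf
    (nat_lit 7438895233162811736156)))) (.node (.node (.node (.leaf (nat_lit
    1279829922387656376368)) (.leaf (nat_lit 2449368722349538846885078695945))) (.leaf (nat_lit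
    0))) (.node (.leaf (nat_lit 2959730224203015847948)) (.leaf (nat_lit
    6465925752114714443868))))) (.node (.node (.node (.node (.leaf (nat_lit
    4675243669183646047219848636137482)) (.leaf (nat_lit 9435990180996462084131))) (.leaf (nat_lit
    94337225851179202991357976))) (.node (.leaf (nat_lit 55235097449592330198974488)) (.leaf
    (nat_lit 457075345967939614)))) (.node (.node (.node (.leaf (nat_lit 2225219365923396452387))
    (.leaf (nat_lit 11680937061872006529052))) (.leaf (nat_lit 0))) (.node (.leaf (nat_lit
    220552802647277581)) (.leaf (nat_lit 0)))))))) (.node (.node (.node (.node (.node (.node (.node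
    (.leaf (nat_lit 100309730211974545420)) (.leaf (nat_lit 582266564540235806))) (.leaf (nat_lit
    0))) (.node (.leaf (nat_lit 2461637376607726534668)) (.leaf (nat_lit 7181876971413031813149))))
    (.node (.node (.node (.leaf (nat_lit 1080327846264662327299)) (.leaf (nat_lit
    10726282663310815068176))) (.leaf (nat_lit 3650327398134453567519))) (.node (.leaf (nat_lit
    15831141205920998584535646969659396)) (.leaf (nat_lit 7678754630154483597320))))) (.node (.node
    (.node (.node (.leaf (nat_lit 49681331497191536167888163255318151191)) (.leaf (nat_lit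
    10140502197648587161646))) (.leaf (nat_lit 0))) (.node (.leaf (nat_lit 0)) (.leaf (nat_lit
    110734299218331187888259096)))) (.node (.node (.node (.leaf (nat_lit 0)) (.leaf (nat_lit
    690987038798905374))) (.leaf (nat_lit 5784407904833864138787))) (.node (.leaf (nat_lit
    3405869751972489527310)) (.leaf (nat_lit 0)))))) (.node (.node (.node (.node (.node (.leaf
    (nat_lit 24176683013618913568326698961279057971)) (.leaf (nat_lit
    531724960844069600799273951158277177564))) (.leaf (nat_lit 5113510251060170784796))) (.node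
    (.leaf (nat_lit 3253212168973432080830837477227344790290472)) (.leaf (nat_lit
    7481739516249662226460)))) (.node (.node (.node (.leaf (nat_lit 94933324295962637)) (.leaf
    (nat_lit 594023642376044598))) (.leaf (nat_lit 0))) (.node (.leaf (nat_lit
    3942054879002374635566)) (.leaf (nat_lit 2324053076216408287799765434581))))) (.node (.node
    (.node (.node (.leaf (nat_lit 0)) (.leaf (nat_lit 631668712897904653))) (.leaf (nat_lit
    317243580315992094))) (.node (.leaf (nat_lit 3349416985563700068370)) (.leaf (nat_lit
    6977747954973704126467)))) (.node (.node (.node (.leaf (nat_lit 0)) (.leaf (nat_lit 0))) (.leaf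
    (nat_lit 30272424591790464772360522833461442))) (.node (.leaf (nat_lit 190293967772975134))
    (.leaf (nat_lit 9248147215145205170188))))))) (.node (.node (.node (.node (.node (.node (.leaf
    (nat_lit 0)) (.leaf (nat_lit 7176220681788381659168))) (.leaf (nat_lit 156729726067671053)))
    (.node (.leaf (nat_lit 159324573509222413)) (.leaf (nat_lit
    528308433374699412551800101510326976563)))) (.node (.node (.node (.leaf (nat_lit 0)) (.leaf
    (nat_lit 662914093170163742))) (.leaf (nat_lit 6155732644336482058268))) (.node (.leaf (nat_lit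
    2945886861811286999075)) (.leaf (nat_lit 7565779300776860123144))))) (.node (.node (.node
    (.node (.leaf (nat_lit 415076444210112692256)) (.leaf (nat_lit 9543339951223258415183))) (.leaf
    (nat_lit 88973318545697441637990424))) (.node (.leaf (nat_lit 0)) (.leaf (nat_lit
    4321412515299198173216)))) (.node (.node (.node (.leaf (nat_lit 2018888212905508143120)) (.leaf
    (nat_lit 666012508347301901))) (.leaf (nat_lit 3373654035440129474592))) (.node (.leaf (nat_lit
    266854611682459661)) (.leaf (nat_lit 163693339126105305202031893851815616643882090532))))))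
    (.node (.node (.node (.node (.node (.leaf (nat_lit 537276833933285326883)) (.leaf (nat_lit
    550743016416083998))) (.leaf (nat_lit 244762124545556493))) (.node (.leaf (nat_lit
    2908993581170917834798)) (.leaf (nat_lit 7627011784217460932636)))) (.node (.node (.node (.leaf
    (nat_lit 1724830179647727796242)) (.leaf (nat_lit 11010936620439960748050))) (.leaf (nat_lit
    6237498596524896223240))) (.node (.leaf (nat_lit 0)) (.leaf (nat_lit
    8809923185864580726811))))) (.node (.node (.node (.node (.leaf (nat_lit
    1133378138078322032719)) (.leaf (nat_lit 9560510699958306013200))) (.leaf (nat_lit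
    263693515752603678))) (.node (.leaf (nat_lit 4129918288719779368118860019409175823515785))
    (.leaf (nat_lit 389169782714400798)))) (.node (.node (.leaf (nat_lit 2305926686270520754211))
    (.leaf (nat_lit 7034334624650168041499))) (.node (.leaf (nat_lit 0)) (.leaf (nat_lit
    9394417307975548076067))))))))) (.node (.node (.node (.node (.node (.node (.node (.node (.leaf
    (nat_lit 49002239538264833401288011445732802822165)) (.leaf (nat_lit 9502802766607511912483)))
    (.leaf (nat_lit 0))) (.node (.leaf (nat_lit 0)) (.leaf (nat_lit 5159575116894345297947))))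
    (.node (.node (.node (.leaf (nat_lit 0)) (.leaf (nat_lit 10689386923466661494800))) (.leaf
    (nat_lit 3823264005206925574161))) (.node (.leaf (nat_lit 43523983653181630221385761)) (.leaf
    (nat_lit 0))))) (.node (.node (.node (.node (.leaf (nat_lit 0)) (.leaf (nat_lit
    605279205470633997))) (.leaf (nat_lit 5380996268002103197769))) (.node (.leaf (nat_lit 0))
    (.leaf (nat_lit 7742307100936626176016)))) (.node (.node (.node (.leaf (nat_lit
    1834409725486757511180)) (.leaf (nat_lit 10115191343387664121945))) (.leaf (nat_lit 0))) (.node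
    (.leaf (nat_lit 0)) (.leaf (nat_lit 6043977381624234049634)))))) (.node (.node (.node (.node
    (.node (.leaf (nat_lit 253655539477861564447)) (.leaf (nat_lit 0))) (.leaf (nat_lit
    5063939834104412045339))) (.node (.leaf (nat_lit 2695624078349572440080)) (.leaf (nat_lit
    427377124584849438)))) (.node (.node (.node (.leaf (nat_lit 1539232053151796494352)) (.leaf
    (nat_lit 10700917195293728112667))) (.leaf (nat_lit 5128380649310441898042))) (.node (.leaf
    (nat_lit 237579427398156301)) (.leaf (nat_lit 0))))) (.node (.node (.node (.node (.leaf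
    (nat_lit 802460673831044579331)) (.leaf (nat_lit 10396466535270730367055))) (.leaf (nat_lit
    0))) (.node (.leaf (nat_lit 2123840386818350710832)) (.leaf (nat_lit 489655662205337613))))
    (.node (.node (.node (.leaf (nat_lit 129204964294787085)) (.leaf (nat_lit
    11579446125214505828397))) (.leaf (nat_lit 6853174373718142681100))) (.node (.leaf (nat_lit
    4494233212422805717000)) (.leaf (nat_lit 9215756762120424980492))))))) (.node (.node (.node
    (.node (.node (.node (.leaf (nat_lit 12948652087705630)) (.leaf (nat_lit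
    7134713114964974043167))) (.leaf (nat_lit 4933650054026763632693))) (.node (.leaf (nat_lit
    2379339551565687044737126205959569702125608)) (.leaf (nat_lit 119596338913889071963308120))))
    (.node (.node (.node (.leaf (nat_lit 0)) (.leaf (nat_lit 10832343133700231462959))) (.leaf
    (nat_lit 88387606742798865092837400))) (.node (.leaf (nat_lit 3755291306494949261358)) (.leaf
    (nat_lit 8475569334918182010892))))) (.node (.node (.node (.node (.leaf (nat_lit
    55997182554945893890842541486464499763)) (.leaf (nat_lit 0))) (.leaf (nat_lit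
    5519292247838281629710))) (.node (.leaf (nat_lit 3164962067971987144720)) (.leaf (nat_lit 0))))
    (.node (.node (.node (.leaf (nat_lit 1979652994342179766319)) (.leaf (nat_lit
    11145948697607654277152))) (.leaf (nat_lit 0))) (.node (.leaf (nat_lit
    942103765562977030773202550833)) (.leaf (nat_lit 9065950714258218221597)))))) (.node (.node
    (.node (.node (.node (.leaf (nat_lit 468100769454659665947)) (.leaf (nat_lit
    607037874319261726))) (.leaf (nat_lit 85630663593688141698170976))) (.node (.leaf (nat_lit
    12611351717116879643122267981217926)) (.leaf (nat_lit 1822001572509235825456970006537))))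
    (.node (.node (.node (.leaf (nat_lit 1687935143250497830930)) (.leaf (nat_lit 0))) (.leaf
    (nat_lit 0))) (.node (.leaf (nat_lit 4048143569624733253650)) (.leaf (nat_lit 0))))) (.node
    (.node (.node (.node (.leaf (nat_lit 1081474926476307660892)) (.leaf (nat_lit
    10544110154596474880016))) (.leaf (nat_lit 354820902023725086))) (.node (.leaf (nat_lit
    9893350975266864887684133286183042)) (.leaf (nat_lit 8180409113215733268526)))) (.node (.node
    (.leaf (nat_lit 0)) (.leaf (nat_lit 3509707077466212991007))) (.node (.leaf (nat_lit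
    283040384915996685)) (.leaf (nat_lit 9009459392954509754429)))))))) (.node (.node (.node (.node
    (.node (.node (.node (.leaf (nat_lit 2323542662475106515943457)) (.leaf (nat_lit
    11208037696192465657359725524639124959002650))) (.leaf (nat_lit 232586819974332470))) (.node
    (.leaf (nat_lit 0)) (.leaf (nat_lit 7223426335595443716185)))) (.node (.node (.node (.leaf
    (nat_lit 1315563380546061139980)) (.leaf (nat_lit 10763164187006492409901))) (.leaf (nat_lit
    25992661546603261455354457970049034))) (.node (.leaf (nat_lit 3627251437574952255536)) (.leaf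
    (nat_lit 5209200285869855146082))))) (.node (.node (.node (.node (.leaf (nat_lit
    37368530462703646)) (.leaf (nat_lit 9168494024448492634130))) (.leaf (nat_lit
    5450140250509546815561))) (.node (.leaf (nat_lit 13605160383994451403161444299440264)) (.leaf
    (nat_lit 0)))) (.node (.node (.node (.leaf (nat_lit 1908199235331264020492)) (.leaf (nat_lit
    11351035999148541411356))) (.leaf (nat_lit 6628549598103342350348))) (.node (.leaf (nat_lit
    3368977741714727043080)) (.leaf (nat_lit 8851434273087997280268)))))) (.node (.node (.node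
    (.node (.node (.leaf (nat_lit 436981598690474131484)) (.leaf (nat_lit 9875344398773198716957)))
    (.leaf (nat_lit 0))) (.node (.leaf (nat_lit 0)) (.leaf (nat_lit 434625380113055757)))) (.node
    (.node (.node (.leaf (nat_lit 1615298342764983549987)) (.leaf (nat_lit
    8623238787621808439324))) (.leaf (nat_lit 7157256000737934586010561493898438159892573))) (.node
    (.leaf (nat_lit 956367336118647980468107280540)) (.leaf (nat_lit 7543990182787984588858)))))
    (.node (.node (.node (.node (.leaf (nat_lit 1025000208124596125785)) (.leaf (nat_lit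
    638142783391137822))) (.leaf (nat_lit 0))) (.node (.leaf (nat_lit 0)) (.leaf (nat_lit
    4406734477572912119839)))) (.node (.node (.node (.leaf (nat_lit 2192936578494547296291)) (.leaf
    (nat_lit 0))) (.leaf (nat_lit 6928261272094757814303))) (.node (.leaf (nat_lit
    4569230247941715984416)) (.leaf (nat_lit 544850002038468506291059434841604292826))))))) (.node
    (.node (.node (.node (.node (.node (.leaf (nat_lit 0)) (.leaf (nat_lit 593385513315074078)))
    (.leaf (nat_lit 0))) (.node (.leaf (nat_lit 2610306620087802724366)) (.leaf (nat_lit 0))))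
    (.node (.node (.node (.leaf (nat_lit 0)) (.leaf (nat_lit 10915335044214064087045))) (.leaf
    (nat_lit 4100039476531054182417))) (.node (.leaf (nat_lit 3811685312979420774403)) (.leaf
    (nat_lit 0))))) (.node (.node (.node (.node (.leaf (nat_lit 233977751847476449580444614741))
    (.leaf (nat_lit 10028581419111638302737))) (.leaf (nat_lit 5597750927964411985989))) (.node
    (.leaf (nat_lit 2764815696098777825283)) (.leaf (nat_lit 7956795399410949488668)))) (.node
    (.node (.node (.leaf (nat_lit 2055782828876979437657)) (.leaf (nat_lit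
    11351034251032427429917))) (.leaf (nat_lit 6778422007299081175113))) (.node (.leaf (nat_lit
    3468131665664360513550)) (.leaf (nat_lit 8882491941101620101138)))))) (.node (.node (.node
    (.node (.node (.leaf (nat_lit 92848525423532154072273846321)) (.leaf (nat_lit
    611401011336183838))) (.leaf (nat_lit 4769875889885005676576))) (.node (.leaf (nat_lit 0))
    (.leaf (nat_lit 0)))) (.node (.node (.node (.leaf (nat_lit 1762923736504381669465)) (.leaf
    (nat_lit 11210428344725403795501))) (.leaf (nat_lit 0))) (.node (.leaf (nat_lit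
    3950047223982386774028)) (.leaf (nat_lit 7464362249432435196002))))) (.node (.node (.node
    (.node (.leaf (nat_lit 0)) (.leaf (nat_lit 46697739893479852458321297807900844))) (.leaf
    (nat_lit 5897546196209979555868))) (.node (.leaf (nat_lit 3533919823282355503116)) (.leaf
    (nat_lit 0)))) (.node (.node (.leaf (nat_lit 168822228875620578576655944524476383295)) (.leaf
    (nat_lit 0))) (.node (.leaf (nat_lit 287607597303988237)) (.leaf (nat_lit
    675282425762818051339236336690333679699))))))))))))) (.node (.node (.node (.node (.node (.node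
    (.node (.node (.node (.node (.node (.node (.leaf (nat_lit 1)) (.leaf (nat_lit 0))) (.leaf
    (nat_lit 1268029034070566150641641914377))) (.node (.leaf (nat_lit 1923158013550241447954))
    (.leaf (nat_lit 6321684808916850114572)))) (.node (.node (.node (.leaf (nat_lit 0)) (.leaf
    (nat_lit 9493642519483122909202))) (.leaf (nat_lit 5813200822049546895395))) (.node (.leaf
    (nat_lit 3543117931810474098736)) (.leaf (nat_lit 504152473909461005))))) (.node (.node (.node
    (.node (.leaf (nat_lit 35608787872251917)) (.leaf (nat_lit 10034419346738642092060))) (.leaf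
    (nat_lit 5270615573284093227050272981558153328459869))) (.node (.leaf (nat_lit 0)) (.leaf
    (nat_lit 7380311143010667790384)))) (.node (.node (.node (.leaf (nat_lit
    1736359746709315846147)) (.leaf (nat_lit 667489324262096926))) (.leaf (nat_lit
    6083009366870601171042))) (.node (.leaf (nat_lit 0)) (.leaf (nat_lit 530824426976051215))))))
    (.node (.node (.node (.node (.node (.leaf (nat_lit 288240580706244427811)) (.leaf (nat_lit
    9739292059657167896604))) (.leaf (nat_lit 4950838192049305616442))) (.node (.leaf (nat_lit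
    47011650596680288831785895613096971780521263126)) (.leaf (nat_lit 0)))) (.node (.node (.node
    (.leaf (nat_lit 0)) (.leaf (nat_lit 0))) (.leaf (nat_lit 3626278950902035578908))) (.node
    (.leaf (nat_lit 3838280967884732825632)) (.leaf (nat_lit 7072332204316494594140))))) (.node
    (.node (.node (.node (.leaf (nat_lit 811683341931349475336)) (.leaf (nat_lit
    10232803125575188414495))) (.leaf (nat_lit 0))) (.node (.leaf (nat_lit
    45790863729052064363577485)) (.leaf (nat_lit 7003109975880104083470)))) (.node (.node (.node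
    (.leaf (nat_lit 2067312324105239461934)) (.leaf (nat_lit 11501020367498757996576))) (.leaf
    (nat_lit 119137849655602742132207715891044439641391956154))) (.node (.leaf (nat_lit 0)) (.leaf
    (nat_lit 38710499618870774785145696787234820))))))) (.node (.node (.node (.node (.node (.node
    (.leaf (nat_lit 8444803352231966)) (.leaf (nat_lit 0))) (.leaf (nat_lit
    4176031593248745259026))) (.node (.leaf (nat_lit 2437365297648045850655)) (.leaf (nat_lit 0))))
    (.node (.node (.node (.leaf (nat_lit 323731105346257153929832103978)) (.leaf (nat_lit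
    10763164395415485481007))) (.leaf (nat_lit 0))) (.node (.leaf (nat_lit 2967743956324865736716))
    (.leaf (nat_lit 8408649573595170930700))))) (.node (.node (.node (.node (.leaf (nat_lit
    544199711698448482322)) (.leaf (nat_lit 10179704136030757257263))) (.leaf (nat_lit
    4094308643273626026031))) (.node (.leaf (nat_lit 0)) (.leaf (nat_lit 7820682051942336364591))))
    (.node (.node (.node (.leaf (nat_lit 135091030027379091360938097660681191458)) (.leaf (nat_lit
    10986858196122523074652))) (.leaf (nat_lit 209301388491096094))) (.node (.leaf (nat_lit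
    3373589427758924234810)) (.leaf (nat_lit 548769006497169421)))))) (.node (.node (.node (.node
    (.node (.leaf (nat_lit 0)) (.leaf (nat_lit 601478494421123126))) (.leaf (nat_lit
    166511694472937526))) (.node (.leaf (nat_lit 191420504628209252375179237558386622498)) (.leaf
    (nat_lit 1996862418905090380181151219721)))) (.node (.node (.node (.leaf (nat_lit
    1621062880984425496588)) (.leaf (nat_lit 10918694033223099547666))) (.leaf (nat_lit
    1287226606758724981880590237748))) (.node (.leaf (nat_lit 0)) (.leaf (nat_lit 0))))) (.node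
    (.node (.node (.node (.leaf (nat_lit 0)) (.leaf (nat_lit 10474930434052708302864))) (.leaf
    (nat_lit 0))) (.node (.leaf (nat_lit 3004627521371254226961)) (.leaf (nat_lit
    8111226012747453104156)))) (.node (.node (.node (.leaf (nat_lit 2211394440864196657183)) (.leaf
    (nat_lit 10861062104300770230307))) (.leaf (nat_lit 3479729288509978247199))) (.node (.leaf
    (nat_lit 972770587850633723638307946577)) (.leaf (nat_lit 567065979494989854)))))))) (.node
    (.node (.node (.node (.node (.node (.node (.leaf (nat_lit 73788595055127363592)) (.leaf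
    (nat_lit 155695019172958520717082679))) (.leaf (nat_lit
    345699551032505536487740870533147197605))) (.node (.leaf (nat_lit 0)) (.leaf (nat_lit
    7151956180426616406045)))) (.node (.node (.node (.leaf (nat_lit 933906322469534498828)) (.leaf
    (nat_lit 10691623167432786640924))) (.leaf (nat_lit 254827492072882189))) (.node (.leaf
    (nat_lit 13138644536741042892920543710150806)) (.leaf (nat_lit 6256047382295639949320)))))
    (.node (.node (.node (.node (.leaf (nat_lit 662967725839702229038)) (.leaf (nat_lit 0))) (.leaf
    (nat_lit 0))) (.node (.leaf (nat_lit 0)) (.leaf (nat_lit 1834682902214323049107753861162))))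
    (.node (.node (.node (.leaf (nat_lit 1069976113493682880543)) (.leaf (nat_lit
    2321534373207935651195291762697))) (.leaf (nat_lit 5767110704453371756571))) (.node (.leaf
    (nat_lit 0)) (.leaf (nat_lit 8925134482998982541324)))))) (.node (.node (.node (.node (.node
    (.leaf (nat_lit 0)) (.leaf (nat_lit 8274959731560141750280))) (.leaf (nat_lit
    5085758709207262232605))) (.node (.leaf (nat_lit 166221148525297694)) (.leaf (nat_lit
    4634979789367018717192)))) (.node (.node (.node (.leaf (nat_lit 0)) (.leaf (nat_lit 0))) (.leaf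
    (nat_lit 6266332180827399716891))) (.node (.leaf (nat_lit 0)) (.leaf (nat_lit
    5188462969646232043551))))) (.node (.node (.node (.node (.leaf (nat_lit 960433085326324596781))
    (.leaf (nat_lit 10405691174688009683017))) (.leaf (nat_lit 5683006882646690299949))) (.node
    (.leaf (nat_lit 158764260665720847)) (.leaf (nat_lit 6943160028223083053083)))) (.node (.node
    (.node (.leaf (nat_lit 0)) (.leaf (nat_lit 11579329096800322912303))) (.leaf (nat_lit
    3431303207333302304800))) (.node (.leaf (nat_lit 0)) (.leaf (nat_lit 551725318386352158)))))))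
    (.node (.node (.node (.node (.node (.node (.leaf (nat_lit 0)) (.leaf (nat_lit
    9665528376859761508413))) (.leaf (nat_lit 338305045959502234315373975216994058406))) (.node
    (.leaf (nat_lit 2583842690394939916335)) (.leaf (nat_lit 7304148724319929958416)))) (.node
    (.node (.node (.leaf (nat_lit 1399695055138347745298)) (.leaf (nat_lit
    10848475453609048473698))) (.leaf (nat_lit 6125845564247725244428))) (.node (.leaf (nat_lit
    228993916622471181)) (.leaf (nat_lit 8430468458804079165448))))) (.node (.node (.node (.node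
    (.leaf (nat_lit 15521996542441782646606247600885845632639107147)) (.leaf (nat_lit
    8460607117048875778083))) (.leaf (nat_lit 0))) (.node (.leaf (nat_lit
    646544371952215176896542212202)) (.leaf (nat_lit 7894468746762197860398)))) (.node (.node
    (.node (.leaf (nat_lit 6642811648240711436125854373380100)) (.leaf (nat_lit
    694652484148396062))) (.leaf (nat_lit 6716137152400175857693))) (.node (.leaf (nat_lit
    3509635361837471170574)) (.leaf (nat_lit 535884168029193829981885614619860860962)))))) (.node
    (.node (.node (.node (.node (.leaf (nat_lit 25264307600228382)) (.leaf (nat_lit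
    9960651018332809658396))) (.leaf (nat_lit 2983917232784119365667))) (.node (.leaf (nat_lit
    2451209223539483934734)) (.leaf (nat_lit 7201603172603403632699)))) (.node (.node (.node (.leaf
    (nat_lit 0)) (.leaf (nat_lit 10746965516896698564697))) (.leaf (nat_lit
    4628017150108889186331))) (.node (.leaf (nat_lit 0)) (.leaf (nat_lit
    5730365069283807133704))))) (.node (.node (.node (.node (.leaf (nat_lit 0)) (.leaf (nat_lit
    0))) (.leaf (nat_lit 112737140881876951665491816100139881401716113584))) (.node (.leaf (nat_lit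
    0)) (.leaf (nat_lit 499085649450762253)))) (.node (.node (.leaf (nat_lit
    135589510877532265071312361904442638399)) (.leaf (nat_lit 3514318763501820248096))) (.node
    (.leaf (nat_lit 0)) (.leaf (nat_lit 2451231070070308273342944444529))))))))) (.node (.node
    (.node (.node (.node (.node (.node (.node (.leaf (nat_lit
    691368020586939225048588808597593522503745547)) (.leaf (nat_lit 9375979078820531732498)))
    (.leaf (nat_lit 4758332525004756025397))) (.node (.leaf (nat_lit 146235188228259870)) (.leaf
    (nat_lit 0)))) (.node (.node (.node (.leaf (nat_lit 1214090876067128737838)) (.leaf (nat_lit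
    560737869170343990))) (.leaf (nat_lit 5936691345658388611141))) (.node (.leaf (nat_lit 0))
    (.leaf (nat_lit 0))))) (.node (.node (.node (.node (.leaf (nat_lit 440434805546678419473))
    (.leaf (nat_lit 10069020151244325584925))) (.leaf (nat_lit 326174170239074358))) (.node (.leaf
    (nat_lit 182125446782124062)) (.leaf (nat_lit 6899340143357895835660)))) (.node (.node (.node
    (.leaf (nat_lit 1099950031791030730844)) (.leaf (nat_lit 11249597842687011258414))) (.leaf
    (nat_lit 397607735593664525))) (.node (.leaf (nat_lit 3804779607163521925137)) (.leaf (nat_lit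
    8892997923212103974965)))))) (.node (.node (.node (.node (.node (.leaf (nat_lit
    299770288488140963843)) (.leaf (nat_lit 145967263555901568103743543))) (.leaf (nat_lit
    5051256918124546686992))) (.node (.leaf (nat_lit 0)) (.leaf (nat_lit 7412509274559643582537))))
    (.node (.node (.node (.leaf (nat_lit 0)) (.leaf (nat_lit 10956771683054192361518))) (.leaf
    (nat_lit 0))) (.node (.leaf (nat_lit 732885552034362811305465020537)) (.leaf (nat_lit 0)))))
    (.node (.node (.node (.node (.leaf (nat_lit 923546141777056694284)) (.leaf (nat_lit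
    631809209868091422))) (.leaf (nat_lit 315695218835980303))) (.node (.leaf (nat_lit
    12261140316076581222967451087929348)) (.leaf (nat_lit 8007469620818591547437)))) (.node (.node
    (.node (.leaf (nat_lit 0)) (.leaf (nat_lit 11547075792187362050109))) (.leaf (nat_lit 0)))
    (.node (.leaf (nat_lit 0)) (.leaf (nat_lit 0))))))) (.node (.node (.node (.node (.node (.node
    (.leaf (nat_lit 184472156134445350928)) (.leaf (nat_lit 7526705300519726022748))) (.leaf
    (nat_lit 0))) (.node (.leaf (nat_lit 0)) (.leaf (nat_lit 4581933858985273917458)))) (.node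
    (.node (.node (.leaf (nat_lit 1363988617194727735324)) (.leaf (nat_lit
    10568179225106502058001))) (.leaf (nat_lit 369880801120223247))) (.node (.leaf (nat_lit 0))
    (.leaf (nat_lit 0))))) (.node (.node (.node (.node (.leaf (nat_lit 765562822160061497347))
    (.leaf (nat_lit 0))) (.leaf (nat_lit 5491645419233669742671))) (.node (.leaf (nat_lit
    3134982380567193124910)) (.leaf (nat_lit 7853024300706612576284)))) (.node (.node (.node (.leaf
    (nat_lit 0)) (.leaf (nat_lit 11087010792877209092114))) (.leaf (nat_lit 208597838488272926)))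
    (.node (.leaf (nat_lit 4313289415335553990685)) (.leaf (nat_lit 0)))))) (.node (.node (.node
    (.node (.node (.leaf (nat_lit 0)) (.leaf (nat_lit 162591189268777127456800901))) (.leaf
    (nat_lit 81736322846042730388276171893410443037845815465))) (.node (.leaf (nat_lit
    2837489222037891383342)) (.leaf (nat_lit 0)))) (.node (.node (.node (.leaf (nat_lit
    375727684988574643852683837546)) (.leaf (nat_lit 11015522480880166830098))) (.leaf (nat_lit
    6381703353571024764957))) (.node (.leaf (nat_lit 4022764946191538126921)) (.leaf (nat_lit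
    8740738396159893241883))))) (.node (.node (.node (.node (.leaf (nat_lit 58691522668920886))
    (.leaf (nat_lit 641871150011514934))) (.leaf (nat_lit
    5077319311650080737275695457889211814248623))) (.node (.leaf (nat_lit 209007956325433357))
    (.leaf (nat_lit 0)))) (.node (.node (.leaf (nat_lit 125898071405101110)) (.leaf (nat_lit
    1862904467909526351074858172425))) (.node (.leaf (nat_lit 2593069170201410601021)) (.leaf
    (nat_lit 9335747859149442187343)))))))) (.node (.node (.node (.node (.node (.node (.node (.leaf
    (nat_lit 4292910006796318)) (.leaf (nat_lit 9557133699488518701088))) (.leaf (nat_lit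
    190928411752005686))) (.node (.leaf (nat_lit 2473165393044386807897)) (.leaf (nat_lit
    1491809235226638538581200928777)))) (.node (.node (.node (.leaf (nat_lit
    1287878907497992618030)) (.leaf (nat_lit 10127911547375945187417))) (.leaf (nat_lit
    6008153128737660141596))) (.node (.leaf (nat_lit 737218776465852304649408020561)) (.leaf
    (nat_lit 6205322284307432276066))))) (.node (.node (.node (.node (.leaf (nat_lit 0)) (.leaf
    (nat_lit 568265409241939998))) (.leaf (nat_lit 88879585954250760346927129))) (.node (.leaf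
    (nat_lit 3061158391210565632046)) (.leaf (nat_lit 6758684986716723544078)))) (.node (.node
    (.node (.leaf (nat_lit 0)) (.leaf (nat_lit 10630585395969477771353))) (.leaf (nat_lit
    6598525720548838932527))) (.node (.leaf (nat_lit 3378200198846238359560)) (.leaf (nat_lit
    6067043059851640111136)))))) (.node (.node (.node (.node (.node (.leaf (nat_lit
    1774776455108635566998376583397386)) (.leaf (nat_lit 7328413357863608713308))) (.leaf (nat_lit
    217036315353546765))) (.node (.leaf (nat_lit 0)) (.leaf (nat_lit 0)))) (.node (.node (.node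
    (.leaf (nat_lit 1579556862239030050843)) (.leaf (nat_lit 0))) (.leaf (nat_lit 0))) (.node
    (.leaf (nat_lit 0)) (.leaf (nat_lit 0))))) (.node (.node (.node (.node (.leaf (nat_lit
    3721932036060124472236895029821444)) (.leaf (nat_lit 636313084373368862))) (.leaf (nat_lit
    5715348921374180835344))) (.node (.leaf (nat_lit 0)) (.leaf (nat_lit 8076704513846522609711))))
    (.node (.node (.node (.leaf (nat_lit 0)) (.leaf (nat_lit 11620864179340302286927))) (.leaf
    (nat_lit 3468199510376517402655))) (.node (.leaf (nat_lit
    86731538814169054077511133900877978091699896356)) (.leaf (nat_lit 9200704609998172520462)))))))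
    (.node (.node (.node (.node (.node (.node (.leaf (nat_lit 15482090086858765)) (.leaf (nat_lit
    9697754727056836591645))) (.leaf (nat_lit 0))) (.node (.leaf (nat_lit 0)) (.leaf (nat_lit
    5317501719848994144314)))) (.node (.node (.node (.leaf (nat_lit 1440075102873716981819)) (.leaf
    (nat_lit 10883000255670542073945))) (.leaf (nat_lit 0))) (.node (.leaf (nat_lit
    806548481109576906245031657578)) (.leaf (nat_lit 0))))) (.node (.node (.node (.node (.leaf
    (nat_lit 0)) (.leaf (nat_lit 0))) (.leaf (nat_lit 339338842001768461))) (.node (.leaf (nat_lit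
    52572576313721209948995715)) (.leaf (nat_lit 6867063267882810146819)))) (.node (.node (.node
    (.leaf (nat_lit 7362852973812585954409438163369988)) (.leaf (nat_lit 0))) (.leaf (nat_lit 0)))
    (.node (.leaf (nat_lit 4387133598619089960972)) (.leaf (nat_lit 7653476843031456055394))))))
    (.node (.node (.node (.node (.node (.leaf (nat_lit 0)) (.leaf (nat_lit
    555243008089801788057352851543776755746))) (.leaf (nat_lit 3143022019021239418907))) (.node
    (.leaf (nat_lit 0)) (.leaf (nat_lit 0)))) (.node (.node (.node (.leaf (nat_lit 0)) (.leaf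
    (nat_lit 11175939642619947319341))) (.leaf (nat_lit 4662608384207666479196))) (.node (.leaf
    (nat_lit 0)) (.leaf (nat_lit 165389990018776169900740935655759904845729431662))))) (.node
    (.node (.node (.node (.leaf (nat_lit 0)) (.leaf (nat_lit 10117462280914195382317))) (.leaf
    (nat_lit 1137453148740736425581443612724))) (.node (.leaf (nat_lit
    4018189111375005402894050514718955701534806)) (.leaf (nat_lit 4466690477646307065887)))) (.node
    (.node (.leaf (nat_lit 0)) (.leaf (nat_lit 7044565395907843129356))) (.node (.leaf (nat_lit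
    3096895023547370635299)) (.leaf (nat_lit 153919155717186984574451767)))))))))) (.node (.node
    (.node (.node (.node (.node (.node (.node (.node (.leaf (nat_lit 0)) (.leaf (nat_lit
    2302035719839487200611401007185))) (.leaf (nat_lit 2974717854625013366816))) (.node (.leaf
    (nat_lit 0)) (.leaf (nat_lit 7103533196522656301101)))) (.node (.node (.node (.leaf (nat_lit
    837057890011811348507)) (.leaf (nat_lit 2740305992353103552651800674417))) (.leaf (nat_lit
    1398295192354178359250504712201))) (.node (.leaf (nat_lit 0)) (.leaf (nat_lit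
    394306932967604278))))) (.node (.node (.node (.node (.leaf (nat_lit
    95640464466884974619155300404)) (.leaf (nat_lit 10048265734393665093660))) (.leaf (nat_lit
    5259786535030036299784))) (.node (.leaf (nat_lit 2959729798107900346399)) (.leaf (nat_lit
    6302310818186034085936)))) (.node (.node (.node (.leaf (nat_lit 1528834720356553130016)) (.leaf
    (nat_lit 11231276497399053484077))) (.leaf (nat_lit 0))) (.node (.leaf (nat_lit
    4094267050492503982125)) (.leaf (nat_lit 0)))))) (.node (.node (.node (.node (.node (.leaf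
    (nat_lit 5138246033217474613477409)) (.leaf (nat_lit 7358386220406455599202))) (.leaf (nat_lit
    2499685766862446198801))) (.node (.leaf (nat_lit 2001564839806062755872)) (.leaf (nat_lit
    6991548529827488399452)))) (.node (.node (.node (.leaf (nat_lit 1487319763844344250403)) (.leaf
    (nat_lit 10904858904318036869155))) (.leaf (nat_lit 0))) (.node (.leaf (nat_lit
    3856747134015303254062)) (.leaf (nat_lit 8941714106911651782611950913307563902107858)))))
    (.node (.node (.node (.node (.leaf (nat_lit 1064435230204233663722241734661983233900630))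
    (.leaf (nat_lit 0))) (.leaf (nat_lit 285577327608463390))) (.node (.leaf (nat_lit
    3262878841705997729810)) (.leaf (nat_lit 7986772132621273202767)))) (.node (.node (.node (.leaf
    (nat_lit 1836677992509998301192)) (.leaf (nat_lit 11524124395124077822031))) (.leaf (nat_lit
    1817716898447553004041134211081))) (.node (.leaf (nat_lit 4442472778448677044253)) (.leaf
    (nat_lit 558902724134043678))))))) (.node (.node (.node (.node (.node (.node (.leaf (nat_lit
    2644609398673624046764056)) (.leaf (nat_lit 9363332197491725762618))) (.leaf (nat_lit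
    4887509625110668705810))) (.node (.leaf (nat_lit 0)) (.leaf (nat_lit 7244202717402777190429))))
    (.node (.node (.node (.leaf (nat_lit 0)) (.leaf (nat_lit 10778009812967731953699))) (.leaf
    (nat_lit 5746379859465563471886))) (.node (.leaf (nat_lit 48926700647386991084961825)) (.leaf
    (nat_lit 6237607605088381239388))))) (.node (.node (.node (.node (.leaf (nat_lit
    757515381438360518702)) (.leaf (nat_lit 10195875011826630721565))) (.leaf (nat_lit
    5475468282775638048797))) (.node (.leaf (nat_lit 0)) (.leaf (nat_lit 7836822315899973468189))))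
    (.node (.node (.node (.leaf (nat_lit 2282715477096257132206104037122827977490471)) (.leaf
    (nat_lit 9825714455670956425232))) (.leaf (nat_lit 0))) (.node (.leaf (nat_lit
    4297146614284900565021)) (.leaf (nat_lit 147743162795370598919045216)))))) (.node (.node (.node
    (.node (.node (.leaf (nat_lit 460039536295891107899)) (.leaf (nat_lit 601056350675533854)))
    (.leaf (nat_lit 84912817811749312259162192))) (.node (.leaf (nat_lit
    46262865113090017779253379)) (.leaf (nat_lit 0)))) (.node (.node (.node (.leaf (nat_lit
    1459674418090076209155)) (.leaf (nat_lit 593249818118324254))) (.leaf (nat_lit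
    6360951259842404876367))) (.node (.leaf (nat_lit 0)) (.leaf (nat_lit
    5571255990475982831648))))) (.node (.node (.node (.node (.leaf (nat_lit 63758003530235917))
    (.leaf (nat_lit 10497944247882840473645))) (.leaf (nat_lit
    6818151562460296321362664078120481095942184))) (.node (.leaf (nat_lit 207881987699113997))
    (.leaf (nat_lit 0)))) (.node (.node (.node (.leaf (nat_lit 2196438056939162894350)) (.leaf
    (nat_lit 11278423207482967130130))) (.leaf (nat_lit 5998917382272960364561))) (.node (.leaf
    (nat_lit 3613440519400537128972)) (.leaf (nat_lit 7192319993516319244386)))))))) (.node (.node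
    (.node (.node (.node (.node (.node (.leaf (nat_lit 81671091369350647916119195966310764249114))
    (.leaf (nat_lit 0))) (.leaf (nat_lit 3996174853161500213266))) (.node (.leaf (nat_lit
    37138309974666977313292312)) (.leaf (nat_lit 350744557153026061)))) (.node (.node (.node (.leaf
    (nat_lit 0)) (.leaf (nat_lit 47103399227049999125225655908040886))) (.leaf (nat_lit
    5150682809185962641025457552514360784977988))) (.node (.leaf (nat_lit 0)) (.leaf (nat_lit
    7687977298460946923528))))) (.node (.node (.node (.node (.leaf (nat_lit 679106585278609031197))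
    (.leaf (nat_lit 10126704508604803907629))) (.leaf (nat_lit 5401629721685896921100))) (.node
    (.leaf (nat_lit 0)) (.leaf (nat_lit 0)))) (.node (.node (.node (.leaf (nat_lit
    1636062050067991953416)) (.leaf (nat_lit 0))) (.leaf (nat_lit
    28959772327871294461068859337474184))) (.node (.leaf (nat_lit
    3977353898040431776270913923507078870597718)) (.leaf (nat_lit 7669598743916548653148))))))
    (.node (.node (.node (.node (.node (.leaf (nat_lit 68088969013065784179523125297)) (.leaf
    (nat_lit 0))) (.leaf (nat_lit 4850636548743784235077))) (.node (.leaf (nat_lit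
    2564192434285174784016)) (.leaf (nat_lit 7472529310452233207867)))) (.node (.node (.node (.leaf
    (nat_lit 1358195370361612337244)) (.leaf (nat_lit 0))) (.leaf (nat_lit 0))) (.node (.leaf
    (nat_lit 2621873205704443232274)) (.leaf (nat_lit 0))))) (.node (.node (.node (.node (.leaf
    (nat_lit 59113391536603149)) (.leaf (nat_lit 0))) (.leaf (nat_lit 5568856123545963659299)))
    (.node (.leaf (nat_lit 170979344346766384505414540212744683644)) (.leaf (nat_lit
    481492965190139917)))) (.node (.node (.node (.leaf (nat_lit 1957737987748007182339)) (.leaf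
    (nat_lit 11600168451972201119760))) (.leaf (nat_lit 0))) (.node (.leaf (nat_lit
    223930184540225590)) (.leaf (nat_lit 0))))))) (.node (.node (.node (.node (.node (.node (.leaf
    (nat_lit 236363053369437388816)) (.leaf (nat_lit 9679363505288082817053))) (.leaf (nat_lit
    302524830471815222))) (.node (.leaf (nat_lit 0)) (.leaf (nat_lit 339908320305479710)))) (.node
    (.node (.node (.leaf (nat_lit 0)) (.leaf (nat_lit 10864590947261928898629))) (.leaf (nat_lit
    248143079851294750))) (.node (.leaf (nat_lit 3497024506694344048668)) (.leaf (nat_lit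
    7203761455706151256072))))) (.node (.node (.node (.node (.leaf (nat_lit 410464758165915500575))
    (.leaf (nat_lit 8288889296574021304349))) (.leaf (nat_lit 4138087361530116112396))) (.node
    (.leaf (nat_lit 0)) (.leaf (nat_lit 7909304519067733000204)))) (.node (.node (.node (.leaf
    (nat_lit 2011966463342354300960)) (.leaf (nat_lit 0))) (.leaf (nat_lit 409430440529756190)))
    (.node (.leaf (nat_lit 3481965808754169675834)) (.leaf (nat_lit
    615636301118452901641089250905958056152)))))) (.node (.node (.node (.node (.node (.leaf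
    (nat_lit 0)) (.leaf (nat_lit 7526724512483966648418))) (.leaf (nat_lit 0))) (.node (.leaf
    (nat_lit 2889320591618866348067)) (.leaf (nat_lit 0)))) (.node (.node (.node (.leaf (nat_lit
    1063052391544107761756)) (.leaf (nat_lit 615627353644728333))) (.leaf (nat_lit
    105428368920171420640870499))) (.node (.leaf (nat_lit 248416858246610957)) (.leaf (nat_lit
    0))))) (.node (.node (.node (.node (.leaf (nat_lit 0)) (.leaf (nat_lit
    10571781959479590060048))) (.leaf (nat_lit 356087633908203533))) (.node (.leaf (nat_lit
    145324449003077647)) (.leaf (nat_lit 8210435526609122557997)))) (.node (.node (.leaf (nat_lit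
    2282867763571404767248)) (.leaf (nat_lit 0))) (.node (.leaf (nat_lit 0)) (.leaf (nat_lit
    2453706950148879315419259011193))))))))) (.node (.node (.node (.node (.node (.node (.node
    (.node (.leaf (nat_lit 53035444944941285392)) (.leaf (nat_lit 0))) (.leaf (nat_lit
    343867978497419352702834752773115281513))) (.node (.leaf (nat_lit
    10491481812536580998092702316101642)) (.leaf (nat_lit 7138120558884509909053)))) (.node (.node
    (.node (.leaf (nat_lit 0)) (.leaf (nat_lit 2867548688309577167389487071241))) (.leaf (nat_lit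
    5952766310006999154767))) (.node (.leaf (nat_lit 259295056008055032593430146887092469865))
    (.leaf (nat_lit 7233722707071201378312))))) (.node (.node (.node (.node (.leaf (nat_lit 0))
    (.leaf (nat_lit 2445653122379036616024840798250))) (.leaf (nat_lit 3569679115067750285339)))
    (.node (.leaf (nat_lit 2391263076026576732218)) (.leaf (nat_lit 7726145162224666345500))))
    (.node (.node (.node (.leaf (nat_lit 1827470663597628260357)) (.leaf (nat_lit
    9832797421186662465568))) (.leaf (nat_lit 5785557659581774233612))) (.node (.leaf (nat_lit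
    4188783390307786096688)) (.leaf (nat_lit 7162299208003261497442)))))) (.node (.node (.node
    (.node (.node (.leaf (nat_lit 0)) (.leaf (nat_lit 0))) (.leaf (nat_lit
    5071996413631755649077))) (.node (.leaf (nat_lit 165446942015488013)) (.leaf (nat_lit
    121824251325459432734982168)))) (.node (.node (.node (.leaf (nat_lit 1526519939563346133006))
    (.leaf (nat_lit 632444779128553485))) (.leaf (nat_lit 0))) (.node (.leaf (nat_lit
    3601856273385181610042)) (.leaf (nat_lit 0))))) (.node (.node (.node (.node (.leaf (nat_lit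
    57002191772319757)) (.leaf (nat_lit 10387299532922993967136))) (.leaf (nat_lit
    5664621719749646286875))) (.node (.leaf (nat_lit 215181905224414447820804037683991478306))
    (.leaf (nat_lit 4372144721054553800735)))) (.node (.node (.node (.leaf (nat_lit
    2122650303916669075502)) (.leaf (nat_lit 11558729138119066714141))) (.leaf (nat_lit
    112115779441255139695132813))) (.node (.leaf (nat_lit 4159995047588755865617)) (.leaf (nat_lit
    9204324940358350995483))))))) (.node (.node (.node (.node (.node (.node (.leaf (nat_lit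
    199466961509764235280)) (.leaf (nat_lit 8605840321473073577992))) (.leaf (nat_lit 0))) (.node
    (.leaf (nat_lit 666363087749906977704586313841)) (.leaf (nat_lit 7078172242391643390000))))
    (.node (.node (.node (.leaf (nat_lit 1122993190285133152348)) (.leaf (nat_lit
    10568179014068989001746))) (.leaf (nat_lit 0))) (.node (.leaf (nat_lit 3743696996194398175261))
    (.leaf (nat_lit 0))))) (.node (.node (.node (.node (.leaf (nat_lit 47994442761764877)) (.leaf
    (nat_lit 8462912960006549864465))) (.leaf (nat_lit 4188725554162214043721))) (.node (.leaf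
    (nat_lit 3313191677856201423716636544282785600766089)) (.leaf (nat_lit
    6749463444619404705795)))) (.node (.node (.node (.leaf (nat_lit 119774959869493278)) (.leaf
    (nat_lit 10967108012006569082883))) (.leaf (nat_lit 0))) (.node (.leaf (nat_lit
    3505023675758914240520)) (.leaf (nat_lit 0)))))) (.node (.node (.node (.node (.node (.leaf
    (nat_lit 496934431934157881405)) (.leaf (nat_lit 0))) (.leaf (nat_lit 186918836442890294)))
    (.node (.leaf (nat_lit 0)) (.leaf (nat_lit 7580810057837355139118)))) (.node (.node (.node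
    (.leaf (nat_lit 1397398572211491766288)) (.leaf (nat_lit 11125164934581195046985))) (.leaf
    (nat_lit 0))) (.node (.leaf (nat_lit 66135669442299299771973703)) (.leaf (nat_lit 0))))) (.node
    (.node (.node (.node (.leaf (nat_lit 1078016021164869222435)) (.leaf (nat_lit
    9453363661069873250336))) (.leaf (nat_lit 0))) (.node (.leaf (nat_lit 0)) (.leaf (nat_lit
    493456081197072399)))) (.node (.node (.leaf (nat_lit 2070728376990367416332)) (.leaf (nat_lit
    5981570220350389813256))) (.node (.leaf (nat_lit 967509248229424093459474874515)) (.leaf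
    (nat_lit 153259324995747269566529668)))))))) (.node (.node (.node (.node (.node (.node (.node
    (.leaf (nat_lit 46118760608518307872)) (.leaf (nat_lit 584236983866490910))) (.leaf (nat_lit
    186565618332467213))) (.node (.leaf (nat_lit 2450107599406273593349)) (.leaf (nat_lit
    118159527733830170494369919)))) (.node (.node (.node (.leaf (nat_lit 0)) (.leaf (nat_lit 0)))
    (.leaf (nat_lit 6028959623170591227949))) (.node (.leaf (nat_lit 2647253310811161165856))
    (.leaf (nat_lit 7556548047002570784860))))) (.node (.node (.node (.node (.leaf (nat_lit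
    703301894103055400974)) (.leaf (nat_lit 10165907498339133489197))) (.leaf (nat_lit 0))) (.node
    (.leaf (nat_lit 0)) (.leaf (nat_lit 380864716123275294)))) (.node (.node (.node (.leaf (nat_lit
    0)) (.leaf (nat_lit 0))) (.leaf (nat_lit 0))) (.node (.leaf (nat_lit 259535807021449229))
    (.leaf (nat_lit 8982856205153301889036)))))) (.node (.node (.node (.node (.node (.leaf (nat_lit
    0)) (.leaf (nat_lit 531813368965759030))) (.leaf (nat_lit
    350098090529662936616993451928713625683))) (.node (.leaf (nat_lit 0)) (.leaf (nat_lit 0))))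
    (.node (.node (.node (.leaf (nat_lit 1437747306160644620291)) (.leaf (nat_lit
    9074001329918528651280))) (.leaf (nat_lit 23102764206767602742875040935968778))) (.node (.leaf
    (nat_lit 3087655886231760470048)) (.leaf (nat_lit 529909014826450957))))) (.node (.node (.node
    (.node (.leaf (nat_lit 0)) (.leaf (nat_lit 10458726341821581164613))) (.leaf (nat_lit
    283748152576704527))) (.node (.leaf (nat_lit 0)) (.leaf (nat_lit 425549942417915958)))) (.node
    (.node (.node (.leaf (nat_lit 540999178460812747178825285738)) (.leaf (nat_lit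
    11261124107112022212643))) (.leaf (nat_lit 422306726713360399))) (.node (.leaf (nat_lit
    220200778537762846)) (.leaf (nat_lit 8416721505362855002147))))))) (.node (.node (.node (.node
    (.node (.node (.leaf (nat_lit 265181306129047814158)) (.leaf (nat_lit 9297599487338881417233)))
    (.leaf (nat_lit 4722654098554372685916))) (.node (.leaf (nat_lit
    36597747037176636562621671164289040077908672629)) (.leaf (nat_lit 7361843216158254366766))))
    (.node (.node (.node (.leaf (nat_lit 104930498739230604936311325256493498471)) (.leaf (nat_lit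
    10903717796176812245045))) (.leaf (nat_lit 376636544158662686))) (.node (.leaf (nat_lit
    3819861103902499995721)) (.leaf (nat_lit 8397189039177859268635))))) (.node (.node (.node
    (.node (.leaf (nat_lit 62143721140630492020476995970059927635)) (.leaf (nat_lit
    9951375788444211150851))) (.leaf (nat_lit 91523435648311571670892707))) (.node (.leaf (nat_lit
    3225984508996209541138)) (.leaf (nat_lit 0)))) (.node (.node (.node (.leaf (nat_lit
    124138096886415390)) (.leaf (nat_lit 11482607402423708483631))) (.leaf (nat_lit 0))) (.node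
    (.leaf (nat_lit 4344351798016382009356)) (.leaf (nat_lit 8595541924215861215248)))))) (.node
    (.node (.node (.node (.node (.leaf (nat_lit 1693642487134285227026511405908035)) (.leaf
    (nat_lit 152163206668374753071595553))) (.leaf (nat_lit 3149939548126189912099))) (.node (.leaf
    (nat_lit 2934358065378501001263)) (.leaf (nat_lit 7657011455134420631598)))) (.node (.node
    (.node (.leaf (nat_lit 0)) (.leaf (nat_lit 638708439173955638))) (.leaf (nat_lit
    5024626721868174524433))) (.node (.leaf (nat_lit 3554661013021018751005)) (.leaf (nat_lit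
    7697251337788905947234))))) (.node (.node (.node (.node (.leaf (nat_lit 0)) (.leaf (nat_lit
    10601746803576193351708))) (.leaf (nat_lit 262567710335041566))) (.node (.leaf (nat_lit 0))
    (.leaf (nat_lit 4503585795432614395936)))) (.node (.node (.leaf (nat_lit
    2339420095989359509520)) (.leaf (nat_lit 133764857183227250704939893527415129642182967337)))
    (.node (.leaf (nat_lit 1054169737079586563296875315321)) (.leaf (nat_lit 0))))))))))) (.node
    (.node (.node (.node (.node (.node (.node (.node (.node (.node (.leaf (nat_lit 1)) (.leaf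
    (nat_lit 576636712818704414))) (.leaf (nat_lit 4721500964929921024017))) (.node (.leaf (nat_lit
    0)) (.leaf (nat_lit 340540780009619486)))) (.node (.node (.node (.leaf (nat_lit 0)) (.leaf
    (nat_lit 10629368573133987184668))) (.leaf (nat_lit 5913652127749535629341))) (.node (.leaf
    (nat_lit 54706154352387035905654790)) (.leaf (nat_lit 0))))) (.node (.node (.node (.node (.leaf
    (nat_lit 2626660561750638304668011284791306)) (.leaf (nat_lit 8563204604540737486906))) (.leaf
    (nat_lit 5323331405678570045493))) (.node (.leaf (nat_lit 2957391228981194457116)) (.leaf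
    (nat_lit 7214270250552062574640)))) (.node (.node (.node (.leaf (nat_lit
    1526529018059057987596)) (.leaf (nat_lit 571154547842613278))) (.leaf (nat_lit
    4949688161186537996323))) (.node (.leaf (nat_lit 1111427448510645106503976288409)) (.leaf
    (nat_lit 6493602835186218893320)))))) (.node (.node (.node (.node (.node (.leaf (nat_lit
    5005957518228137244360747)) (.leaf (nat_lit 2383790234677178249317856903210))) (.leaf (nat_lit
    4701765629520931651602))) (.node (.leaf (nat_lit 1996953153761865564191)) (.leaf (nat_lit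
    7384735423834850787381)))) (.node (.node (.node (.leaf (nat_lit 0)) (.leaf (nat_lit
    9389972049732227498011))) (.leaf (nat_lit 1624844301651684343420287254537))) (.node (.leaf
    (nat_lit 2635706293117060841489)) (.leaf (nat_lit 6260675816934175080456))))) (.node (.node
    (.node (.node (.leaf (nat_lit 816295027975546667022)) (.leaf (nat_lit 9341440272786241290258)))
    (.leaf (nat_lit 5616222591541452144685))) (.node (.leaf (nat_lit 53328213674190650732707873))
    (.leaf (nat_lit 35085359694935852644517428593033352)))) (.node (.node (.node (.leaf (nat_lit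
    2070720846813185900558)) (.leaf (nat_lit 11033982174348993298450))) (.leaf (nat_lit 0))) (.node
    (.leaf (nat_lit 0)) (.leaf (nat_lit 9058748891184581785486277965562717552509137))))))) (.node
    (.node (.node (.node (.node (.node (.leaf (nat_lit
    2854530778682945397555928099854536203030822948)) (.leaf (nat_lit 9600955762340211654735)))
    (.leaf (nat_lit 233220190211538998))) (.node (.leaf (nat_lit 2474269974460148940814)) (.leaf
    (nat_lit 4810281770753443692547)))) (.node (.node (.node (.leaf (nat_lit
    1063038808967732199432)) (.leaf (nat_lit 10590230608006223167535))) (.leaf (nat_lit 0))) (.node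
    (.leaf (nat_lit 3209911304415959253019)) (.leaf (nat_lit 0))))) (.node (.node (.node (.node
    (.leaf (nat_lit 0)) (.leaf (nat_lit 9659640696533464317966))) (.leaf (nat_lit
    221822661267947574))) (.node (.leaf (nat_lit 0)) (.leaf (nat_lit 0)))) (.node (.node (.node
    (.leaf (nat_lit 0)) (.leaf (nat_lit 11369608643325175463948))) (.leaf (nat_lit
    95583967498470309350342680))) (.node (.leaf (nat_lit 0)) (.leaf (nat_lit 0)))))) (.node (.node
    (.node (.node (.node (.leaf (nat_lit 0)) (.leaf (nat_lit 9891515626271059148827))) (.leaf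
    (nat_lit 6102139642942905844366882895864377113051304))) (.node (.leaf (nat_lit
    2812146766391151886352)) (.leaf (nat_lit 6159282826615017635899)))) (.node (.node (.node (.leaf
    (nat_lit 920086465480333918240)) (.leaf (nat_lit 11072170929538015100956))) (.leaf (nat_lit
    346378636997296158))) (.node (.leaf (nat_lit 0)) (.leaf (nat_lit 8254204255287078223930)))))
    (.node (.node (.node (.node (.leaf (nat_lit 0)) (.leaf (nat_lit 0))) (.leaf (nat_lit 0)))
    (.node (.leaf (nat_lit 0)) (.leaf (nat_lit 4418263692670520197152)))) (.node (.node (.node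
    (.leaf (nat_lit 0)) (.leaf (nat_lit 11660199462429649993756))) (.leaf (nat_lit
    3482035131544961744928))) (.node (.leaf (nat_lit 696725601728360156628496220269)) (.leaf
    (nat_lit 544850002177736647373869126947810246872)))))))) (.node (.node (.node (.node (.node
    (.node (.node (.leaf (nat_lit 0)) (.leaf (nat_lit 580999849835626526))) (.leaf (nat_lit
    203383576392237110))) (.node (.leaf (nat_lit 1448156465023783469083)) (.leaf (nat_lit
    117404372223407344635347076)))) (.node (.node (.node (.leaf (nat_lit 1155267040290766258190))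
    (.leaf (nat_lit 9429087359783678443537))) (.leaf (nat_lit 5987472667259581956157))) (.node
    (.leaf (nat_lit 3623852764030174429200)) (.leaf (nat_lit 5126184730027754717192))))) (.node
    (.node (.node (.node (.leaf (nat_lit 40253434225623053)) (.leaf (nat_lit 0))) (.leaf (nat_lit
    0))) (.node (.leaf (nat_lit 0)) (.leaf (nat_lit 7758426678678203334735)))) (.node (.node (.node
    (.leaf (nat_lit 0)) (.leaf (nat_lit 9727754126574812856366))) (.leaf (nat_lit
    270310849174962206))) (.node (.leaf (nat_lit 4041236602170781138992)) (.leaf (nat_lit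
    7397507650296677072904)))))) (.node (.node (.node (.node (.node (.leaf (nat_lit
    352806366695945076763)) (.leaf (nat_lit 0))) (.leaf (nat_lit
    333901501555844420282443857263491219578))) (.node (.leaf (nat_lit 2740641777641689645088))
    (.leaf (nat_lit 0)))) (.node (.node (.node (.leaf (nat_lit 1146056757948430090332)) (.leaf
    (nat_lit 9971118797722807894028))) (.leaf (nat_lit 0))) (.node (.leaf (nat_lit
    3400173189848254054428)) (.leaf (nat_lit 504083513914556429))))) (.node (.node (.node (.node
    (.leaf (nat_lit 493479892087608639519)) (.leaf (nat_lit 9399090992628577271826))) (.leaf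
    (nat_lit 3819884123015946108976))) (.node (.leaf (nat_lit 816163221149099909797132959857))
    (.leaf (nat_lit 6966218176900372824067)))) (.node (.node (.node (.leaf (nat_lit
    2145717461335106846736)) (.leaf (nat_lit 0))) (.leaf (nat_lit 6872981415839521767452))) (.node
    (.leaf (nat_lit 4509309356455711932445)) (.leaf (nat_lit 9128144020065193492492))))))) (.node
    (.node (.node (.node (.node (.node (.leaf (nat_lit 0)) (.leaf (nat_lit
    9128143951354306691086))) (.leaf (nat_lit 2574630449435847622745))) (.node (.leaf (nat_lit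
    173639509234712164270151241598570528891)) (.leaf (nat_lit 4784851773502729158668)))) (.node
    (.node (.node (.leaf (nat_lit 0)) (.leaf (nat_lit 598385877449834511))) (.leaf (nat_lit
    6134969216627254689837))) (.node (.leaf (nat_lit 0)) (.leaf (nat_lit
    8296730127253998075912))))) (.node (.node (.node (.node (.leaf (nat_lit 49824133189599245))
    (.leaf (nat_lit 0))) (.leaf (nat_lit 5540115692389711151150))) (.node (.leaf (nat_lit
    52156541109753142843801708)) (.leaf (nat_lit 7043675375209759834160)))) (.node (.node (.node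
    (.leaf (nat_lit 121886125274038285)) (.leaf (nat_lit 11443439670664322285613))) (.leaf (nat_lit
    6325132101993929834504))) (.node (.leaf (nat_lit 3475048279692168855560)) (.leaf (nat_lit
    8790255546506045227043)))))) (.node (.node (.node (.node (.node (.leaf (nat_lit
    430060552312250892320)) (.leaf (nat_lit 160192104882001708113461469))) (.leaf (nat_lit
    13935251246536011860934787667984556))) (.node (.leaf (nat_lit 0)) (.leaf (nat_lit
    7608563983122235064348)))) (.node (.node (.node (.leaf (nat_lit 0)) (.leaf (nat_lit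
    671148258441166863))) (.leaf (nat_lit 0))) (.node (.leaf (nat_lit 0)) (.leaf (nat_lit 0)))))
    (.node (.node (.node (.node (.leaf (nat_lit 1114938851394983231533)) (.leaf (nat_lit
    10562554861330972737564))) (.leaf (nat_lit 1148846136959144059371711168564))) (.node (.leaf
    (nat_lit 0)) (.leaf (nat_lit 8194312780839538327564)))) (.node (.node (.leaf (nat_lit
    1853980611962397196323)) (.leaf (nat_lit 7268928269770120670878434525658938826293439))) (.node
    (.leaf (nat_lit 335559334960710317227165514565742428265)) (.leaf (nat_lit 0))))))))) (.node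
    (.node (.node (.node (.node (.node (.node (.node (.leaf (nat_lit 2533450884186125)) (.leaf
    (nat_lit 0))) (.leaf (nat_lit 3501604952666848559116))) (.node (.leaf (nat_lit 0)) (.leaf
    (nat_lit 8413577336193533117367264584445372937011401)))) (.node (.node (.node (.leaf (nat_lit
    0)) (.leaf (nat_lit 9528234598024010203153))) (.leaf (nat_lit 3804816275902078058514))) (.node
    (.leaf (nat_lit 58805853331690917095276692)) (.leaf (nat_lit 4791833764019478659104))))) (.node
    (.node (.node (.node (.leaf (nat_lit 38142234461339678)) (.leaf (nat_lit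
    9906362168563571294225))) (.leaf (nat_lit 0))) (.node (.leaf (nat_lit 2997699294834209259523))
    (.leaf (nat_lit 470373449479618573)))) (.node (.node (.node (.leaf (nat_lit
    1813628145510570459148)) (.leaf (nat_lit 9310357276027624030224))) (.leaf (nat_lit
    6536263869937152622620))) (.node (.leaf (nat_lit 3800167921170864341027)) (.leaf (nat_lit
    9774900135259150277490966985374810415562911)))))) (.node (.node (.node (.node (.node (.leaf
    (nat_lit 338974334376403468336)) (.leaf (nat_lit 596481935627386910))) (.leaf (nat_lit 0)))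
    (.node (.leaf (nat_lit 0)) (.leaf (nat_lit 6811693549268085440604)))) (.node (.node (.node
    (.leaf (nat_lit 408846661257464309871886532650)) (.leaf (nat_lit
    43822634041134291476290442726080516))) (.leaf (nat_lit 5382030909702265831482))) (.node (.leaf
    (nat_lit 3882103454984705343534)) (.leaf (nat_lit 7639572751348349993052))))) (.node (.node
    (.node (.node (.leaf (nat_lit 0)) (.leaf (nat_lit
    11118193016200183715592575667657668481777690))) (.leaf (nat_lit 5650753510422354264137)))
    (.node (.leaf (nat_lit 0)) (.leaf (nat_lit 6986033663253873360928)))) (.node (.node (.node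
    (.leaf (nat_lit 2108821649052034859024)) (.leaf (nat_lit 11558728792683437031469))) (.leaf
    (nat_lit 5507557199108339466618367086999756528419007))) (.node (.leaf (nat_lit
    1201184561656498750032437379218)) (.leaf (nat_lit 9195093335736773181469))))))) (.node (.node
    (.node (.node (.node (.node (.leaf (nat_lit 0)) (.leaf (nat_lit 9635521805287566802973)))
    (.leaf (nat_lit 4912898102246812876816))) (.node (.leaf (nat_lit
    2643407970671371102937253133337872216621082)) (.leaf (nat_lit 7271824416815165145116)))) (.node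
    (.node (.node (.leaf (nat_lit 290306006520438779968603095049)) (.leaf (nat_lit
    10782699889870252474396))) (.leaf (nat_lit 4640705126062740406307))) (.node (.leaf (nat_lit
    3736775037285948391459)) (.leaf (nat_lit 0))))) (.node (.node (.node (.node (.leaf (nat_lit 0))
    (.leaf (nat_lit 10228183486333890789421))) (.leaf (nat_lit 311402210045067294))) (.node (.leaf
    (nat_lit 3083020342159630073870)) (.leaf (nat_lit 4291434726377323167776)))) (.node (.node
    (.node (.leaf (nat_lit 1965832712683792826447)) (.leaf (nat_lit 11404223800838468075599)))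
    (.leaf (nat_lit 6581076735220947025955))) (.node (.leaf (nat_lit 4291315438161802493979))
    (.leaf (nat_lit 9045114177104577232923)))))) (.node (.node (.node (.node (.node (.leaf (nat_lit
    568969482494948195475794405936744446296124)) (.leaf (nat_lit 9932886815659341840411))) (.leaf
    (nat_lit 5209055243991045570568))) (.node (.leaf (nat_lit 2437373813537401667598)) (.leaf
    (nat_lit 0)))) (.node (.node (.node (.leaf (nat_lit 378822648423583683445776515179)) (.leaf
    (nat_lit 11109071810161669242959))) (.leaf (nat_lit 4623404830677274918926))) (.node (.leaf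
    (nat_lit 0)) (.leaf (nat_lit 6721875592826369278050))))) (.node (.node (.node (.node (.leaf
    (nat_lit 0)) (.leaf (nat_lit 9463662619344303751184))) (.leaf (nat_lit
    5800701432633579733004))) (.node (.leaf (nat_lit 0)) (.leaf (nat_lit 8159651671299347120174))))
    (.node (.node (.leaf (nat_lit 2261014819890314543150)) (.leaf (nat_lit
    8024344890432767274557440666243532491063492))) (.node (.leaf (nat_lit 0)) (.leaf (nat_lit
    8558532961740930613283)))))))) (.node (.node (.node (.node (.node (.node (.node (.leaf (nat_lit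
    1888986947723121674944536)) (.leaf (nat_lit 9442855281796407558162))) (.leaf (nat_lit
    2499683162497357119506))) (.node (.leaf (nat_lit 0)) (.leaf (nat_lit 5465069831326097670236))))
    (.node (.node (.node (.leaf (nat_lit 0)) (.leaf (nat_lit 10744716177566697979973))) (.leaf
    (nat_lit 219291448061853726))) (.node (.leaf (nat_lit 0)) (.leaf (nat_lit
    6869405633945289293922))))) (.node (.node (.node (.node (.leaf (nat_lit 36383290734805022))
    (.leaf (nat_lit 10152085037800887615516))) (.leaf (nat_lit 0))) (.node (.leaf (nat_lit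
    217840523583587473896019835728941219874)) (.leaf (nat_lit
    34274029883386226100325296862789768)))) (.node (.node (.node (.leaf (nat_lit
    30999501001359837261725807)) (.leaf (nat_lit 691552342394404918))) (.leaf (nat_lit
    96075079776504659824607256))) (.node (.leaf (nat_lit 3385117727908239179834)) (.leaf (nat_lit
    544335672534761487)))))) (.node (.node (.node (.node (.node (.leaf (nat_lit 25052823410573325))
    (.leaf (nat_lit 9038277436227090317360))) (.leaf (nat_lit 1378198368683572879303834402825)))
    (.node (.leaf (nat_lit 0)) (.leaf (nat_lit 7495539815534049820699)))) (.node (.node (.node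
    (.leaf (nat_lit 1180646021688010670097)) (.leaf (nat_lit 673958446953005110))) (.leaf (nat_lit
    3114327830485077786669))) (.node (.leaf (nat_lit 3953586133874440863772)) (.leaf (nat_lit
    0))))) (.node (.node (.node (.node (.leaf (nat_lit 1004247480360019099721)) (.leaf (nat_lit
    12313529466287873048450415617608532797947943))) (.leaf (nat_lit 0))) (.node (.leaf (nat_lit 0))
    (.leaf (nat_lit 8090475739286102802511)))) (.node (.node (.node (.leaf (nat_lit
    2182562675682206482459)) (.leaf (nat_lit 8927681420866326036509))) (.leaf (nat_lit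
    3470505353411500900384))) (.node (.leaf (nat_lit 277474167429922870)) (.leaf (nat_lit
    529840810745790494))))))) (.node (.node (.node (.node (.node (.node (.leaf (nat_lit
    265181587569664786444)) (.leaf (nat_lit 0))) (.leaf (nat_lit 4986608727724073877533))) (.node
    (.leaf (nat_lit 0)) (.leaf (nat_lit 7345588103740035104797)))) (.node (.node (.node (.leaf
    (nat_lit 88247803972812813)) (.leaf (nat_lit 10894515329412234412077))) (.leaf (nat_lit 0)))
    (.node (.leaf (nat_lit 0)) (.leaf (nat_lit 0))))) (.node (.node (.node (.node (.leaf (nat_lit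
    50035376861085711)) (.leaf (nat_lit 10301980245172659879981))) (.leaf (nat_lit 0))) (.node
    (.leaf (nat_lit 52704824404119147776311329)) (.leaf (nat_lit 429067804101181453)))) (.node
    (.node (.node (.leaf (nat_lit 2037335097678051344457)) (.leaf (nat_lit
    11480339343062136455184))) (.leaf (nat_lit 6758632276713403514892))) (.node (.leaf (nat_lit
    4400959229895467270190)) (.leaf (nat_lit 0)))))) (.node (.node (.node (.node (.node (.leaf
    (nat_lit 10749264088661908964150852701885528710985613378)) (.leaf (nat_lit
    2368303444312016839155093143673))) (.leaf (nat_lit 225481148770418718))) (.node (.leaf (nat_lit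
    2916991552257440022563)) (.leaf (nat_lit 7643180762728711258141)))) (.node (.node (.node (.leaf
    (nat_lit 1744476077516738723913)) (.leaf (nat_lit 555321442963685406))) (.leaf (nat_lit
    6325121827203797155932))) (.node (.leaf (nat_lit 4101191686140536750096)) (.leaf (nat_lit
    606651350950203784877046609902767112407))))) (.node (.node (.node (.node (.leaf (nat_lit 0))
    (.leaf (nat_lit 10367556245815847747602))) (.leaf (nat_lit 357917324336037901))) (.node (.leaf
    (nat_lit 214215552632225805)) (.leaf (nat_lit 4471302163690504257568)))) (.node (.node (.leaf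
    (nat_lit 0)) (.leaf (nat_lit 3530460509163044929568))) (.node (.leaf (nat_lit
    196488368673887269614648241921592852514)) (.leaf (nat_lit 574244038077710366)))))))))) (.node
    (.node (.node (.node (.node (.node (.node (.node (.node (.leaf (nat_lit 0)) (.leaf (nat_lit
    2259944927320013504544162250873))) (.leaf (nat_lit 4751385437930579492962))) (.node (.leaf
    (nat_lit 0)) (.leaf (nat_lit 5151471452177406558226)))) (.node (.node (.node (.leaf (nat_lit
    0)) (.leaf (nat_lit 9509786939087906865170))) (.leaf (nat_lit 0))) (.node (.leaf (nat_lit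
    3142983661716290863136)) (.leaf (nat_lit 6339049286223412789340))))) (.node (.node (.node
    (.node (.leaf (nat_lit 590313967783921254427)) (.leaf (nat_lit 9645800430710076670050))) (.leaf
    (nat_lit 4042302481730728296537))) (.node (.leaf (nat_lit 2980477529360928276508)) (.leaf
    (nat_lit 6499472498932163215365)))) (.node (.node (.node (.leaf (nat_lit
    1558811664673109377032)) (.leaf (nat_lit 0))) (.leaf (nat_lit 6517817829018308902940))) (.node
    (.leaf (nat_lit 3982329026248817442834)) (.leaf (nat_lit 541731685402804254)))))) (.node (.node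
    (.node (.node (.node (.leaf (nat_lit 311299996063879069731)) (.leaf (nat_lit
    538146177984626718))) (.leaf (nat_lit 0))) (.node (.leaf (nat_lit 2680636169012398719045))
    (.leaf (nat_lit 435891596601458703)))) (.node (.node (.node (.leaf (nat_lit 0)) (.leaf (nat_lit
    2939329051374880379925537554441))) (.leaf (nat_lit 6224902651382212001865))) (.node (.leaf
    (nat_lit 2946996154977971535875)) (.leaf (nat_lit 2259325957348695983222235136107))))) (.node
    (.node (.node (.node (.leaf (nat_lit 50457795484581918)) (.leaf (nat_lit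
    2294607097291646217801596993649))) (.leaf (nat_lit 5632258144131988258861))) (.node (.leaf
    (nat_lit 3280435422829666932032888018948260046045224)) (.leaf (nat_lit 466926411807064094))))
    (.node (.node (.node (.leaf (nat_lit 1962348829100986269712)) (.leaf (nat_lit
    2923253002721633808314158874666))) (.leaf (nat_lit 6815288184565508800541))) (.node (.leaf
    (nat_lit 4418139618899359105051)) (.leaf (nat_lit
    10243124684235342636085018790645624438522015))))))) (.node (.node (.node (.node (.node (.node
    (.leaf (nat_lit 96849980995297017888)) (.leaf (nat_lit 9614784347231238684701))) (.leaf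
    (nat_lit 4812445249065812426769))) (.node (.leaf (nat_lit 2529599510692292132899)) (.leaf
    (nat_lit 5919322522828469895266)))) (.node (.node (.node (.leaf (nat_lit 0)) (.leaf (nat_lit
    10793152603485638950959))) (.leaf (nat_lit 331248326206947358))) (.node (.leaf (nat_lit
    226319732545028126)) (.leaf (nat_lit 0))))) (.node (.node (.node (.node (.leaf (nat_lit
    2433962195302037114980369678336004)) (.leaf (nat_lit 9708067621920322027537))) (.leaf (nat_lit
    4598030421109508341778))) (.node (.leaf (nat_lit 3125725439242046472253)) (.leaf (nat_lit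
    6742545915488684408890)))) (.node (.node (.node (.leaf (nat_lit 1397411661777161355299)) (.leaf
    (nat_lit 668123287204790285))) (.leaf (nat_lit 5847817461945031917595))) (.node (.leaf (nat_lit
    0)) (.leaf (nat_lit 8227623518864769482766)))))) (.node (.node (.node (.node (.node (.leaf
    (nat_lit 387395701044788002830)) (.leaf (nat_lit 9916860056782416052255))) (.leaf (nat_lit
    3876358275325327769612))) (.node (.leaf (nat_lit 0)) (.leaf (nat_lit 0)))) (.node (.node (.node
    (.leaf (nat_lit 78326566958006302)) (.leaf (nat_lit 11095209239078464847904))) (.leaf (nat_lit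
    117263710552621461780827735404161098414025146526))) (.node (.leaf (nat_lit
    4008932346588421095471)) (.leaf (nat_lit 0))))) (.node (.node (.node (.node (.leaf (nat_lit 0))
    (.leaf (nat_lit 640253974565486622))) (.leaf (nat_lit 0))) (.node (.leaf (nat_lit 0)) (.leaf
    (nat_lit 8141201054741389574173)))) (.node (.node (.node (.leaf (nat_lit
    2239054283241190260754)) (.leaf (nat_lit 11680936640497060085839))) (.leaf (nat_lit 0))) (.node
    (.leaf (nat_lit 0)) (.leaf (nat_lit 9117821488596470923269)))))))) (.node (.node (.node (.node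
    (.node (.node (.node (.leaf (nat_lit 46118197555485671451)) (.leaf (nat_lit 0))) (.leaf
    (nat_lit 4753220623387097664902674480053372196487194))) (.node (.leaf (nat_lit
    2073040694637010026523)) (.leaf (nat_lit 7181877467026487967772)))) (.node (.node (.node (.leaf
    (nat_lit 0)) (.leaf (nat_lit 9424475673825380597795))) (.leaf (nat_lit
    4569205415093645541434))) (.node (.leaf (nat_lit 0)) (.leaf (nat_lit
    6811758010533855559778))))) (.node (.node (.node (.node (.leaf (nat_lit
    3032309063327572153415720564555786)) (.leaf (nat_lit 9136258595184475045891))) (.leaf (nat_lit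
    0))) (.node (.leaf (nat_lit 698228179668893228401273667668)) (.leaf (nat_lit
    7772259489305948520476)))) (.node (.node (.node (.leaf (nat_lit 1853965199644054192144)) (.leaf
    (nat_lit 10216661524508332720157))) (.leaf (nat_lit 5822451851579843870738))) (.node (.leaf
    (nat_lit 258128329058680845)) (.leaf (nat_lit 8952814661273028591628)))))) (.node (.node (.node
    (.node (.node (.leaf (nat_lit 0)) (.leaf (nat_lit 0))) (.leaf (nat_lit 312385761850818590)))
    (.node (.leaf (nat_lit 2755578037402968719378)) (.leaf (nat_lit 7481739660977175199790))))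
    (.node (.node (.node (.leaf (nat_lit 0)) (.leaf (nat_lit 11021432820732363210841))) (.leaf
    (nat_lit 25202154855507965421097742110162954))) (.node (.leaf (nat_lit 3539599497470629052419))
    (.leaf (nat_lit 8660111647492276420620))))) (.node (.node (.node (.node (.leaf (nat_lit
    981195736028723478540)) (.leaf (nat_lit 10428749397616694067269))) (.leaf (nat_lit 0))) (.node
    (.leaf (nat_lit 2408565977426398740497)) (.leaf (nat_lit 0)))) (.node (.node (.node (.leaf
    (nat_lit 1445841754522011238412)) (.leaf (nat_lit 11602546919876208033839))) (.leaf (nat_lit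
    30272424591790464772079606202499265))) (.node (.leaf (nat_lit 0)) (.leaf (nat_lit
    8713073419643418509339))))))) (.node (.node (.node (.node (.node (.node (.leaf (nat_lit
    4772518734187580306896129641082826090124738601)) (.leaf (nat_lit 8671559943632206364686)))
    (.leaf (nat_lit 0))) (.node (.leaf (nat_lit 0)) (.leaf (nat_lit 120123430354981342257873028))))
    (.node (.node (.node (.leaf (nat_lit 1578963770591728061584253202285983947030629)) (.leaf
    (nat_lit 0))) (.leaf (nat_lit 4464294906757325717512))) (.node (.leaf (nat_lit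
    2432790700733803724818)) (.leaf (nat_lit 7565780004464301899874))))) (.node (.node (.node
    (.node (.leaf (nat_lit 830128326606065958926)) (.leaf (nat_lit 10283503804428050432069)))
    (.leaf (nat_lit 5563125852770337488924))) (.node (.leaf (nat_lit
    792309790405214458373306908756)) (.leaf (nat_lit 6853228209784578310158)))) (.node (.node
    (.node (.leaf (nat_lit 2006155975703058907171)) (.leaf (nat_lit 11461813155025597431877)))
    (.leaf (nat_lit 411260062238113805))) (.node (.leaf (nat_lit 0)) (.leaf (nat_lit
    537440016641687582)))))) (.node (.node (.node (.node (.node (.leaf (nat_lit 32793866306453534))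
    (.leaf (nat_lit 9986060043082124165149))) (.leaf (nat_lit 0))) (.node (.leaf (nat_lit
    2413181320978845859843)) (.leaf (nat_lit 7624704464980742963212)))) (.node (.node (.node (.leaf
    (nat_lit 105137333367603230)) (.leaf (nat_lit 524640601782747166))) (.leaf (nat_lit 0))) (.node
    (.leaf (nat_lit 17966172456025235690418004782612616)) (.leaf (nat_lit
    8307145546985453584392))))) (.node (.node (.node (.node (.leaf (nat_lit
    1133377291986944589869)) (.leaf (nat_lit 0))) (.leaf (nat_lit 5853739194137851396125))) (.node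
    (.leaf (nat_lit 215262548044453631702420173289662382114)) (.leaf (nat_lit
    8210418918576179314717)))) (.node (.node (.leaf (nat_lit 1877039605081796968466)) (.leaf
    (nat_lit 8306118892508262294701775929894183633420362))) (.node (.leaf (nat_lit
    4677597757080716116027)) (.leaf (nat_lit 573399544428101662))))))))) (.node (.node (.node
    (.node (.node (.node (.node (.node (.leaf (nat_lit 62612952469943733016173277295810900918292))
    (.leaf (nat_lit 580014618697662494))) (.leaf (nat_lit
    345029780002640917643876108297424011429))) (.node (.leaf (nat_lit 147924141167738893)) (.leaf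
    (nat_lit 6298660648652235800590)))) (.node (.node (.node (.leaf (nat_lit
    23327284564246690577707775564247472142446821467)) (.leaf (nat_lit 9519011226047284969507)))
    (.leaf (nat_lit 4858587023762664914960))) (.node (.leaf (nat_lit 0)) (.leaf (nat_lit
    7547318200783553626120))))) (.node (.node (.node (.node (.leaf (nat_lit 652581228959183863856))
    (.leaf (nat_lit 165500459861894590594547853))) (.leaf (nat_lit 5101839174189208240144))) (.node
    (.leaf (nat_lit 2388957233043132841998)) (.leaf (nat_lit 464040331223105566)))) (.node (.node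
    (.node (.leaf (nat_lit 1478109059444161839131)) (.leaf (nat_lit 11282024955061549072400)))
    (.leaf (nat_lit 15548036145841954827293985067106476))) (.node (.leaf (nat_lit
    4198041943929295929417)) (.leaf (nat_lit 7678819864050510528604)))))) (.node (.node (.node
    (.node (.node (.leaf (nat_lit 0)) (.leaf (nat_lit 160588510421771717926191176))) (.leaf
    (nat_lit 5074316760964571267086))) (.node (.leaf (nat_lit 0)) (.leaf (nat_lit
    7442528158231117889565)))) (.node (.node (.node (.leaf (nat_lit 1520795934831472214051)) (.leaf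
    (nat_lit 10986857837432624316514))) (.leaf (nat_lit 204163061416853558))) (.node (.leaf
    (nat_lit 0)) (.leaf (nat_lit 8570016786249765027852))))) (.node (.node (.node (.node (.leaf
    (nat_lit 0)) (.leaf (nat_lit 10396466395237616648237))) (.leaf (nat_lit
    92922071167018689240498256))) (.node (.leaf (nat_lit 3310215542747741487151)) (.leaf (nat_lit
    0)))) (.node (.node (.node (.leaf (nat_lit 2129564316684649693257)) (.leaf (nat_lit
    9167410069535860129795))) (.leaf (nat_lit 3424385678279891419167))) (.node (.leaf (nat_lit 0))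
    (.leaf (nat_lit 8281823355904949682184))))))) (.node (.node (.node (.node (.node (.node (.leaf
    (nat_lit 0)) (.leaf (nat_lit 0))) (.leaf (nat_lit 4931217199686326878220))) (.node (.leaf
    (nat_lit 670987227275938921017575276665)) (.leaf (nat_lit 6108405308896128991240)))) (.node
    (.node (.node (.leaf (nat_lit 1390493778852805017648)) (.leaf (nat_lit
    10832343348775013777436))) (.leaf (nat_lit 6116584678660837146653))) (.node (.leaf (nat_lit
    2423567328559509995532)) (.leaf (nat_lit 8473181934156509282331))))) (.node (.node (.node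
    (.node (.leaf (nat_lit 0)) (.leaf (nat_lit 10244318899525399019567))) (.leaf (nat_lit
    336870799174664205))) (.node (.leaf (nat_lit 3027680321113453428754)) (.leaf (nat_lit
    7069032892868719738969)))) (.node (.node (.node (.leaf (nat_lit 1979669812506397966415)) (.leaf
    (nat_lit 11422663641744386752541))) (.leaf (nat_lit 4226925372100363616315))) (.node (.leaf
    (nat_lit 3514247047830128754746)) (.leaf (nat_lit 9063648812353945010203)))))) (.node (.node
    (.node (.node (.node (.leaf (nat_lit 493464972187266121742)) (.leaf (nat_lit 0))) (.leaf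
    (nat_lit 5226481566004877131804))) (.node (.leaf (nat_lit 2865160465435636989998)) (.leaf
    (nat_lit 0)))) (.node (.node (.node (.leaf (nat_lit 102463183649898526)) (.leaf (nat_lit
    8457246449828614045724))) (.leaf (nat_lit 104771996304233893759790466260138762695967572126)))
    (.node (.leaf (nat_lit 2951612837847250436113)) (.leaf (nat_lit 8768339549840306536475)))))
    (.node (.node (.node (.node (.leaf (nat_lit 0)) (.leaf (nat_lit 10524350755486453399587)))
    (.leaf (nat_lit 0))) (.node (.leaf (nat_lit 3455516375245945765904)) (.leaf (nat_lit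
    8176790049694813454348)))) (.node (.node (.leaf (nat_lit 2073034079287862558752)) (.leaf
    (nat_lit 0))) (.node (.leaf (nat_lit 0)) (.leaf (nat_lit 153408835855268365291749579))))))))
    (.node (.node (.node (.node (.node (.node (.node (.leaf (nat_lit 138352621766094028816)) (.leaf
    (nat_lit 9580207470529527087151))) (.leaf (nat_lit 4862126280920004755535))) (.node (.leaf
    (nat_lit 152428015673016350)) (.leaf (nat_lit 7221137320216556142610)))) (.node (.node (.node
    (.leaf (nat_lit 1312067250224787292187)) (.leaf (nat_lit 10760872414864191193104))) (.leaf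
    (nat_lit 0))) (.node (.leaf (nat_lit 60279605250399535615967312)) (.leaf (nat_lit
    4941722848644787535964))))) (.node (.node (.node (.node (.leaf (nat_lit 722925131956540866589))
    (.leaf (nat_lit 620127276780093470))) (.leaf (nat_lit 5447756225635118415890))) (.node (.leaf
    (nat_lit 2740642202319465938971)) (.leaf (nat_lit 1896581793139021676381479436330)))) (.node
    (.node (.node (.leaf (nat_lit 1905855252454116098075)) (.leaf (nat_lit
    11351144584979870318671))) (.leaf (nat_lit 5875486733493227159579))) (.node (.leaf (nat_lit 0))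
    (.leaf (nat_lit 6113162734897350246431)))))) (.node (.node (.node (.node (.node (.leaf (nat_lit
    6592759128893201720803383)) (.leaf (nat_lit 9875363679727499018286))) (.leaf (nat_lit
    1105255033334302485502025334891))) (.node (.leaf (nat_lit
    54082571207645654325156718532348196583297843329)) (.leaf (nat_lit 7516328915886303019081))))
    (.node (.node (.node (.leaf (nat_lit 1615318750095932063760)) (.leaf (nat_lit
    10719365558097661853728))) (.leaf (nat_lit 0))) (.node (.leaf (nat_lit
    76919815190614767806431098225955282594761867419)) (.leaf (nat_lit 439907425382957110)))))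
    (.node (.node (.node (.node (.leaf (nat_lit 1020397388958777147408)) (.leaf (nat_lit 0)))
    (.leaf (nat_lit 353180428479771657204215546173375053887))) (.node (.leaf (nat_lit
    206474509736345613)) (.leaf (nat_lit 6906268369929300541498)))) (.node (.node (.node (.leaf
    (nat_lit 2202160091268890427410)) (.leaf (nat_lit 704575258761494541))) (.leaf (nat_lit
    422871291574485005))) (.node (.leaf (nat_lit 194656958761009206)) (.leaf (nat_lit 0)))))))
    (.node (.node (.node (.node (.node (.node (.leaf (nat_lit 0)) (.leaf (nat_lit 0))) (.leaf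
    (nat_lit 1061598452567943829751607918601))) (.node (.leaf (nat_lit 161295027195215885)) (.leaf
    (nat_lit 7368645759097381257251)))) (.node (.node (.node (.leaf (nat_lit
    1467750990045937598476)) (.leaf (nat_lit 10819675287596671631372))) (.leaf (nat_lit
    4480435807950670594064))) (.node (.leaf (nat_lit 0)) (.leaf (nat_lit 521745725105766430)))))
    (.node (.node (.node (.node (.leaf (nat_lit 221604716734222067488426098772)) (.leaf (nat_lit
    0))) (.leaf (nat_lit 5597750787175384023113))) (.node (.leaf (nat_lit 0)) (.leaf (nat_lit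
    7956739525816323604526)))) (.node (.node (.node (.leaf (nat_lit 2053460166715705065519)) (.leaf
    (nat_lit 11265764151218957123632))) (.leaf (nat_lit 6776089422642366578706))) (.node (.leaf
    (nat_lit 268965802856808461)) (.leaf (nat_lit 557354508682919966)))))) (.node (.node (.node
    (.node (.node (.leaf (nat_lit 0)) (.leaf (nat_lit 0))) (.leaf (nat_lit
    5295660234122742399004))) (.node (.leaf (nat_lit 203466232503358797765549808516157866035))
    (.leaf (nat_lit 7199281426472754151472)))) (.node (.node (.node (.leaf (nat_lit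
    1758312120712964538384)) (.leaf (nat_lit 8467568278254139932675))) (.leaf (nat_lit
    6485524140764894003228))) (.node (.leaf (nat_lit 2388991647482204323871)) (.leaf (nat_lit
    8296771435021090357340))))) (.node (.node (.node (.node (.leaf (nat_lit
    1167980420207374172172)) (.leaf (nat_lit 10390615661139122651153))) (.leaf (nat_lit
    94736456054196928176717857))) (.node (.leaf (nat_lit 3514222415737419661339)) (.leaf (nat_lit
    5310636407839736922210)))) (.node (.node (.leaf (nat_lit 2353255154023166836805)) (.leaf
    (nat_lit 27878997734789408786094534479446026))) (.node (.leaf (nat_lit 3899418673955595288635))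
    (.leaf (nat_lit 2457451389137549506189707247697)))))))))))) (.node (.node (.node (.node (.node
    (.node (.node (.node (.node (.node (.node (.leaf (nat_lit 1)) (.leaf (nat_lit
    2304511599918057538888604647530))) (.leaf (nat_lit 238145443958226959))) (.node (.leaf (nat_lit
    2362479862993146544144)) (.leaf (nat_lit 7085100112244539326492)))) (.node (.node (.node (.leaf
    (nat_lit 1182934270990761525260)) (.leaf (nat_lit 10629363297509693390893))) (.leaf (nat_lit
    0))) (.node (.leaf (nat_lit 0)) (.leaf (nat_lit 0))))) (.node (.node (.node (.node (.leaf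
    (nat_lit 0)) (.leaf (nat_lit 0))) (.leaf (nat_lit 280017045767192589))) (.node (.leaf (nat_lit
    2957410865653276147757)) (.leaf (nat_lit 6043869923930489946204)))) (.node (.node (.node (.leaf
    (nat_lit 0)) (.leaf (nat_lit 10360784804594632032283))) (.leaf (nat_lit 0))) (.node (.leaf
    (nat_lit 4069950849406805934094)) (.leaf (nat_lit 6787598311442174115932)))))) (.node (.node
    (.node (.node (.node (.leaf (nat_lit 60042037614881442486857039914)) (.leaf (nat_lit
    579874757382635574))) (.leaf (nat_lit 0))) (.node (.leaf (nat_lit 161998766176600094)) (.leaf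
    (nat_lit 7384735142510197932105)))) (.node (.node (.node (.leaf (nat_lit
    820929726755163537440)) (.leaf (nat_lit 10926857646453605728354))) (.leaf (nat_lit 0))) (.node
    (.leaf (nat_lit 228712733703536655)) (.leaf (nat_lit 7233741426084865572956))))) (.node (.node
    (.node (.node (.leaf (nat_lit 0)) (.leaf (nat_lit 0))) (.leaf (nat_lit
    3177614661611591761938))) (.node (.leaf (nat_lit 3251349485879491231760)) (.leaf (nat_lit
    6906264850968105648155)))) (.node (.node (.node (.leaf (nat_lit 0)) (.leaf (nat_lit 0))) (.leaf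
    (nat_lit 7973744337819751566914227660302497186578619))) (.node (.leaf (nat_lit
    4433198107867899691054)) (.leaf (nat_lit 0))))))) (.node (.node (.node (.node (.node (.node
    (.leaf (nat_lit 138353044012918833187)) (.leaf (nat_lit 9470528212776998076434))) (.leaf
    (nat_lit 4873654510442877485135))) (.node (.leaf (nat_lit 0)) (.leaf (nat_lit
    118574932233017417141584075)))) (.node (.node (.node (.leaf (nat_lit
    5831378783283867168727421904355423)) (.leaf (nat_lit 9590500311344598941712))) (.leaf (nat_lit
    19765845725668188116349775730049034))) (.node (.leaf (nat_lit 0)) (.leaf (nat_lit 0))))) (.node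
    (.node (.node (.node (.leaf (nat_lit 739049285487555706896)) (.leaf (nat_lit 0))) (.leaf
    (nat_lit 84388777578406287188841545197130334511508816034))) (.node (.leaf (nat_lit
    2398182857206218817554)) (.leaf (nat_lit 7827599366960347021324)))) (.node (.node (.node (.leaf
    (nat_lit 116960021123825694)) (.leaf (nat_lit 11220916320468967030792))) (.leaf (nat_lit
    5863958714793119121439))) (.node (.leaf (nat_lit 4283363910601056387118)) (.leaf (nat_lit
    9006019272064792461324)))))) (.node (.node (.node (.node (.node (.leaf (nat_lit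
    7448718416227455599057829862281577446043615288)) (.leaf (nat_lit 7339945669271859953695)))
    (.leaf (nat_lit 5171017761763551805469))) (.node (.leaf (nat_lit 170865777698799646)) (.leaf
    (nat_lit 7532486225143208804400)))) (.node (.node (.node (.leaf (nat_lit 0)) (.leaf (nat_lit
    11069874236544308674576))) (.leaf (nat_lit 7381855402066215521299834712171619885252791)))
    (.node (.leaf (nat_lit 2478913683737555435537)) (.leaf (nat_lit
    2338897911088808382506411032652))))) (.node (.node (.node (.node (.leaf (nat_lit
    1038832029909135851573)) (.leaf (nat_lit 568337032116568118))) (.leaf (nat_lit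
    1166177637512607635361226883121))) (.node (.leaf (nat_lit
    191503429250588684116361001530540097570)) (.leaf (nat_lit 494863267102064653)))) (.node (.node
    (.node (.leaf (nat_lit 456196451223168158219444224042)) (.leaf (nat_lit
    11660199746872449105965))) (.leaf (nat_lit 0))) (.node (.leaf (nat_lit 0)) (.leaf (nat_lit
    0)))))))) (.node (.node (.node (.node (.node (.node (.node (.leaf (nat_lit
    324535885782405202616197623185418)) (.leaf (nat_lit 9522559072915878510639))) (.leaf (nat_lit
    65361539074396971453382689))) (.node (.leaf (nat_lit 0)) (.leaf (nat_lit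
    6062280285439314296840)))) (.node (.node (.node (.leaf (nat_lit 0)) (.leaf (nat_lit 0))) (.leaf
    (nat_lit 1586466159980183236630215458825))) (.node (.leaf (nat_lit 220267659768496158)) (.leaf
    (nat_lit 5331405250428982722652))))) (.node (.node (.node (.node (.leaf (nat_lit
    35820186162561039)) (.leaf (nat_lit 149972275352562450162778145))) (.leaf (nat_lit
    790811519394355684160632586349))) (.node (.leaf (nat_lit 0)) (.leaf (nat_lit 0)))) (.node
    (.node (.node (.leaf (nat_lit 24047637961109074849562648)) (.leaf (nat_lit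
    8879173218411712020525))) (.leaf (nat_lit 6568594296460349210652))) (.node (.leaf (nat_lit
    4211878198382078132269)) (.leaf (nat_lit 7688044362038811754588)))))) (.node (.node (.node
    (.node (.node (.leaf (nat_lit 362029668364055674894)) (.leaf (nat_lit 9817659761234823807005)))
    (.leaf (nat_lit 0))) (.node (.leaf (nat_lit 2704847450429376888835)) (.leaf (nat_lit
    7456388550108045836316)))) (.node (.node (.node (.leaf (nat_lit 1483862055085024673800)) (.leaf
    (nat_lit 11000668059770797883484))) (.leaf (nat_lit 6268747802805562179613))) (.node (.leaf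
    (nat_lit 3916694826320572645445)) (.leaf (nat_lit 8632305297587473416219))))) (.node (.node
    (.node (.node (.leaf (nat_lit 15735733366327832815599696)) (.leaf (nat_lit 0))) (.leaf (nat_lit
    5683006530656940523549))) (.node (.leaf (nat_lit 3324033430232443846674)) (.leaf (nat_lit
    8042053255488134643740)))) (.node (.node (.node (.leaf (nat_lit 2142205780268694044690)) (.leaf
    (nat_lit 697749275827896350))) (.leaf (nat_lit 0))) (.node (.leaf (nat_lit
    3828997504299014750222)) (.leaf (nat_lit 8264530377820906651706))))))) (.node (.node (.node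
    (.node (.node (.node (.leaf (nat_lit 212145438993116495888)) (.leaf (nat_lit 0))) (.leaf
    (nat_lit 4947473081118440489033))) (.node (.leaf (nat_lit 0)) (.leaf (nat_lit
    336530569045344310)))) (.node (.node (.node (.leaf (nat_lit 0)) (.leaf (nat_lit
    10188952914950946488347))) (.leaf (nat_lit 0))) (.node (.leaf (nat_lit 3556980154417211965472))
    (.leaf (nat_lit 0))))) (.node (.node (.node (.node (.leaf (nat_lit
    207368180017002158200965103692)) (.leaf (nat_lit 10258110466338114961436))) (.leaf (nat_lit
    5540115480965651038253))) (.node (.leaf (nat_lit 193525887713542174)) (.leaf (nat_lit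
    7894482958353713791005)))) (.node (.node (.node (.leaf (nat_lit 1704089908108647923724)) (.leaf
    (nat_lit 9755400388213676900387))) (.leaf (nat_lit 0))) (.node (.leaf (nat_lit
    71387640840346636740984912)) (.leaf (nat_lit 0)))))) (.node (.node (.node (.node (.node (.leaf
    (nat_lit 18860769059930125)) (.leaf (nat_lit 2382251272979276103638124396586))) (.leaf (nat_lit
    4537027263298739044441))) (.node (.leaf (nat_lit 2273660085886215454747)) (.leaf (nat_lit
    7122999455786784194568)))) (.node (.node (.node (.leaf (nat_lit 0)) (.leaf (nat_lit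
    42316758566225916211187053039583362))) (.leaf (nat_lit 6421007684089495617564))) (.node (.leaf
    (nat_lit 4064253794928994484277)) (.leaf (nat_lit 8782266017182038294540))))) (.node (.node
    (.node (.node (.leaf (nat_lit 1049206283336836907026)) (.leaf (nat_lit
    10557879205137630822473))) (.leaf (nat_lit 5785529579789967622175))) (.node (.leaf (nat_lit 0))
    (.leaf (nat_lit 4450547465382046924832)))) (.node (.node (.leaf (nat_lit 139338656161857566))
    (.leaf (nat_lit 0))) (.node (.leaf (nat_lit 2624209732183357849617)) (.leaf (nat_lit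
    571992083645202462))))))))) (.node (.node (.node (.node (.node (.node (.node (.node (.leaf
    (nat_lit 41506370593411497996)) (.leaf (nat_lit 0))) (.leaf (nat_lit 0))) (.node (.leaf
    (nat_lit 0)) (.leaf (nat_lit 20324210285780268031328839654572042)))) (.node (.node (.node
    (.leaf (nat_lit 64110482906284062)) (.leaf (nat_lit 0))) (.leaf (nat_lit 0))) (.node (.leaf
    (nat_lit 0)) (.leaf (nat_lit 0))))) (.node (.node (.node (.node (.leaf (nat_lit
    317086489434583662620)) (.leaf (nat_lit 0))) (.leaf (nat_lit 5344070202931470860320))) (.node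
    (.leaf (nat_lit 2372815206001420730371)) (.leaf (nat_lit
    133764857434558277189272224001415879582842159309)))) (.node (.node (.node (.leaf (nat_lit
    1807843343038425530376)) (.leaf (nat_lit 8842385212865786347549))) (.leaf (nat_lit
    5767110141383159250976))) (.node (.leaf (nat_lit 0)) (.leaf (nat_lit 522380332293554206))))))
    (.node (.node (.node (.node (.node (.leaf (nat_lit 335518806485512683566)) (.leaf (nat_lit
    2497649967024978408536499617834))) (.leaf (nat_lit 5053549536203606523932))) (.node (.leaf
    (nat_lit 0)) (.leaf (nat_lit 4891143621240739266588)))) (.node (.node (.node (.leaf (nat_lit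
    92679617516797982)) (.leaf (nat_lit 8332780958881119666205))) (.leaf (nat_lit 0))) (.node
    (.leaf (nat_lit 3363201521880024678408)) (.leaf (nat_lit 140941957702504534249832472)))))
    (.node (.node (.node (.node (.leaf (nat_lit 770201952547063922747)) (.leaf (nat_lit
    10371161232736073744400))) (.leaf (nat_lit 5610280162360794742801))) (.node (.leaf (nat_lit
    3287150004991535808585)) (.leaf (nat_lit 8007469476176977920029)))) (.node (.node (.node (.leaf
    (nat_lit 1667201416545792360466)) (.leaf (nat_lit 0))) (.leaf (nat_lit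
    3412855477976915181600))) (.node (.leaf (nat_lit 0)) (.leaf (nat_lit
    8292197186454465740808))))))) (.node (.node (.node (.node (.node (.node (.leaf (nat_lit
    13542321526036685696300221064272085026)) (.leaf (nat_lit 9633118992864681066523))) (.leaf
    (nat_lit 2478932053415759642642))) (.node (.leaf (nat_lit 2548046677038596292626)) (.leaf
    (nat_lit 7269550452788389150736)))) (.node (.node (.node (.leaf (nat_lit 0)) (.leaf (nat_lit
    9840761965075295830061))) (.leaf (nat_lit 302115717657002014))) (.node (.leaf (nat_lit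
    3732226122420710473774)) (.leaf (nat_lit 8396087205072287760398))))) (.node (.node (.node
    (.node (.leaf (nat_lit 778268953640752578606)) (.leaf (nat_lit 10095449177151018041362)))
    (.leaf (nat_lit 5491645205799564935215))) (.node (.leaf (nat_lit 0)) (.leaf (nat_lit
    479099706333593613)))) (.node (.node (.node (.leaf (nat_lit 0)) (.leaf (nat_lit
    11401936034238501683216))) (.leaf (nat_lit 353064887464886302))) (.node (.leaf (nat_lit
    263054467568631821)) (.leaf (nat_lit 8979333124994577399906)))))) (.node (.node (.node (.node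
    (.node (.leaf (nat_lit 2119577727874614404474192569696266)) (.leaf (nat_lit
    7653543837116750037084))) (.leaf (nat_lit 0))) (.node (.leaf (nat_lit 0)) (.leaf (nat_lit
    7569350298777604521996)))) (.node (.node (.node (.leaf (nat_lit 0)) (.leaf (nat_lit
    11106689758030144405520))) (.leaf (nat_lit 0))) (.node (.leaf (nat_lit 245320444524232734))
    (.leaf (nat_lit 0))))) (.node (.node (.node (.node (.leaf (nat_lit 569595651997399449629))
    (.leaf (nat_lit 2824206770023853152778452271113))) (.leaf (nat_lit 353131957674180621))) (.node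
    (.leaf (nat_lit 3434762381075901775884)) (.leaf (nat_lit 8159648358462222696493)))) (.node
    (.node (.leaf (nat_lit 0)) (.leaf (nat_lit 502799957024874308013016645716943503533))) (.node
    (.leaf (nat_lit 296851299038594578773458475076477714537)) (.leaf (nat_lit 0)))))))) (.node
    (.node (.node (.node (.node (.node (.node (.leaf (nat_lit 41507074555731181599)) (.leaf
    (nat_lit 0))) (.leaf (nat_lit 0))) (.node (.leaf (nat_lit 0)) (.leaf (nat_lit
    518512892169865766255938403629086998730)))) (.node (.node (.node (.leaf (nat_lit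
    54962821041094686)) (.leaf (nat_lit 9477510766793456812048))) (.leaf (nat_lit
    305774617476333598))) (.node (.leaf (nat_lit 222941809486200862)) (.leaf (nat_lit 0))))) (.node
    (.node (.node (.node (.leaf (nat_lit 706781628305072390149)) (.leaf (nat_lit
    8548221691916976324643))) (.leaf (nat_lit 0))) (.node (.leaf (nat_lit 180155414002925583))
    (.leaf (nat_lit 6765602797219341336603)))) (.node (.node (.node (.leaf (nat_lit
    1825142725021786112008)) (.leaf (nat_lit 11125164725704050540592))) (.leaf (nat_lit
    6548793173598472962079))) (.node (.leaf (nat_lit 243424927795165220624696729881140461591))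
    (.leaf (nat_lit 140299352687607392478953599)))))) (.node (.node (.node (.node (.node (.leaf
    (nat_lit 70259482256325026765963853876)) (.leaf (nat_lit 9854487098927310110747))) (.leaf
    (nat_lit 4079285689236699938843))) (.node (.leaf (nat_lit 45431934979005184188088353)) (.leaf
    (nat_lit 5105376970679710318650)))) (.node (.node (.node (.leaf (nat_lit 72063525387894799))
    (.leaf (nat_lit 11037586311698918342672))) (.leaf (nat_lit 5013089484192564314128))) (.node
    (.leaf (nat_lit 3083044200170383409183)) (.leaf (nat_lit 5419061766692110794784))))) (.node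
    (.node (.node (.node (.leaf (nat_lit 862417377325593329680)) (.leaf (nat_lit
    9408315279570775506979))) (.leaf (nat_lit 5717682146960275079247))) (.node (.leaf (nat_lit
    242347804735048231348782090280000487447)) (.leaf (nat_lit 0)))) (.node (.node (.node (.leaf
    (nat_lit 1464289202334702174306)) (.leaf (nat_lit 11620893030529710096431))) (.leaf (nat_lit
    0))) (.node (.leaf (nat_lit 2744099353772419121241)) (.leaf (nat_lit
    8688807743427709173787))))))) (.node (.node (.node (.node (.node (.node (.leaf (nat_lit 0))
    (.leaf (nat_lit 559326946643804190))) (.leaf (nat_lit 4986609079404586008621))) (.node (.leaf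
    (nat_lit 2605761502806878126115)) (.leaf (nat_lit 7343401046177470414875)))) (.node (.node
    (.node (.leaf (nat_lit 0)) (.leaf (nat_lit 0))) (.leaf (nat_lit 6167250529258823680028)))
    (.node (.leaf (nat_lit 231949558496755742)) (.leaf (nat_lit 5910185005375385960546))))) (.node
    (.node (.node (.node (.leaf (nat_lit 854364939083025940559)) (.leaf (nat_lit
    9786467340091167801362))) (.leaf (nat_lit 3703516104413212246077))) (.node (.leaf (nat_lit
    2753286480958220075024)) (.leaf (nat_lit 7936035493514775298094)))) (.node (.node (.node (.leaf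
    (nat_lit 2006156468352987627536)) (.leaf (nat_lit 10859887790036508409874))) (.leaf (nat_lit
    0))) (.node (.leaf (nat_lit 0)) (.leaf (nat_lit 9021008591804801679421)))))) (.node (.node
    (.node (.node (.node (.leaf (nat_lit 0)) (.leaf (nat_lit 610134279451705374))) (.leaf (nat_lit
    5274892303247679356956))) (.node (.leaf (nat_lit 178043801921781790)) (.leaf (nat_lit
    7643180477358199210030)))) (.node (.node (.node (.leaf (nat_lit 0)) (.leaf (nat_lit
    11175939568952668258351))) (.leaf (nat_lit 5666991180759341137968))) (.node (.leaf (nat_lit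
    3581109879516250177554)) (.leaf (nat_lit 538213024855621662))))) (.node (.node (.node (.node
    (.leaf (nat_lit 1149531424265131458588)) (.leaf (nat_lit 0))) (.leaf (nat_lit
    318867733920620311847630839559995457713))) (.node (.leaf (nat_lit 3468104992525882949644))
    (.leaf (nat_lit 0)))) (.node (.node (.leaf (nat_lit 31452856263035100355362849)) (.leaf
    (nat_lit 0))) (.node (.leaf (nat_lit 76826610223474316836864163)) (.leaf (nat_lit
    677615308490665409595045802544789389375)))))))))) (.node (.node (.node (.node (.node (.node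
    (.node (.node (.node (.leaf (nat_lit 340027681785533813751814)) (.leaf (nat_lit 0))) (.leaf
    (nat_lit 0))) (.node (.leaf (nat_lit 40433706609729305537429545669588545200735191157)) (.leaf
    (nat_lit 0)))) (.node (.node (.node (.leaf (nat_lit 0)) (.leaf (nat_lit 0))) (.leaf (nat_lit
    5927495279000672206909))) (.node (.leaf (nat_lit 0)) (.leaf (nat_lit
    4669616766087269122079))))) (.node (.node (.node (.node (.leaf (nat_lit 37156986143506445))
    (.leaf (nat_lit 0))) (.leaf (nat_lit 87406824520235869842702416))) (.node (.leaf (nat_lit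
    181140232824029197)) (.leaf (nat_lit 6053094633042203574370)))) (.node (.node (.node (.leaf
    (nat_lit 1383567384866636103772)) (.leaf (nat_lit 11231276706022794919983))) (.leaf (nat_lit
    5757886769286174933023))) (.node (.leaf (nat_lit 0)) (.leaf (nat_lit
    8879172925963093868572)))))) (.node (.node (.node (.node (.node (.leaf (nat_lit
    19000750634041374)) (.leaf (nat_lit 9762235786780739829772))) (.leaf (nat_lit
    5037417991218558861381))) (.node (.leaf (nat_lit 2676093863229950984204)) (.leaf (nat_lit
    24969171147905960607842045111173130)))) (.node (.node (.node (.leaf (nat_lit 0)) (.leaf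
    (nat_lit 10943043165751496343641))) (.leaf (nat_lit 4574976215873621262352))) (.node (.leaf
    (nat_lit 3861295132532088700963)) (.leaf (nat_lit 0))))) (.node (.node (.node (.node (.leaf
    (nat_lit 810549279336081588236)) (.leaf (nat_lit 9479791416340555956241))) (.leaf (nat_lit
    3193756336792403116067))) (.node (.leaf (nat_lit 3266425496785591140368)) (.leaf (nat_lit
    7986715767046733496367)))) (.node (.node (.node (.leaf (nat_lit 2085710302179672391692)) (.leaf
    (nat_lit 11524124608214585245743))) (.leaf (nat_lit 6043822069954633728008))) (.node (.leaf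
    (nat_lit 270936247952867341)) (.leaf (nat_lit 2435752436957946581781391409259))))))) (.node
    (.node (.node (.node (.node (.node (.leaf (nat_lit 9852264135131149)) (.leaf (nat_lit
    9200745565912953978892))) (.leaf (nat_lit 232164719178416182))) (.node (.leaf (nat_lit
    154398460769075230)) (.leaf (nat_lit 5706197059138350153740)))) (.node (.node (.node (.leaf
    (nat_lit 4756373609319506438535757548617738)) (.leaf (nat_lit 10793142115244221595727))) (.leaf
    (nat_lit 6072788511975153008668))) (.node (.leaf (nat_lit 712477885406166508325797429329))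
    (.leaf (nat_lit 2264010717627110781326100594835))))) (.node (.node (.node (.node (.leaf
    (nat_lit 12335385066425158411223112)) (.leaf (nat_lit 0))) (.leaf (nat_lit 0))) (.node (.leaf
    (nat_lit 183778158655649291318541476296999239802)) (.leaf (nat_lit 7837913316770879569932))))
    (.node (.node (.node (.leaf (nat_lit 117804514773434398)) (.leaf (nat_lit
    11385759042233105055817))) (.leaf (nat_lit 6645639072764225847310))) (.node (.leaf (nat_lit
    3419706639872818348040)) (.leaf (nat_lit 0)))))) (.node (.node (.node (.node (.node (.leaf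
    (nat_lit 0)) (.leaf (nat_lit 9912259066027124654108))) (.leaf (nat_lit 164752561767841846)))
    (.node (.leaf (nat_lit 40747001581524405260124293)) (.leaf (nat_lit 7550902989713832083483))))
    (.node (.node (.node (.leaf (nat_lit 1645308290976041861167)) (.leaf (nat_lit
    10812758181451510513753))) (.leaf (nat_lit 0))) (.node (.leaf (nat_lit 4008931994482707202127))
    (.leaf (nat_lit 8731589545134223720509))))) (.node (.node (.node (.node (.leaf (nat_lit
    1057287990815158894645)) (.leaf (nat_lit 46150334581117482648113805546356886))) (.leaf (nat_lit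
    25414722749389997652133999890792452))) (.node (.leaf (nat_lit 0)) (.leaf (nat_lit
    8141249893093685264429)))) (.node (.node (.node (.leaf (nat_lit 0)) (.leaf (nat_lit
    11678651204539622031376))) (.leaf (nat_lit 6406023085373243195420))) (.node (.leaf (nat_lit
    4596919151188420788283)) (.leaf (nat_lit 9319504005481183248396)))))))) (.node (.node (.node
    (.node (.node (.node (.node (.leaf (nat_lit 5207652141498381)) (.leaf (nat_lit
    684012157359533410470534089475428384831))) (.leaf (nat_lit 4818303300886635675727))) (.node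
    (.leaf (nat_lit 149613111287087117)) (.leaf (nat_lit 5513498023178551885851)))) (.node (.node
    (.node (.leaf (nat_lit 1278661939394815131694)) (.leaf (nat_lit 653484105924739102))) (.leaf
    (nat_lit 0))) (.node (.leaf (nat_lit 3032305590069033631779)) (.leaf (nat_lit 0))))) (.node
    (.node (.node (.node (.leaf (nat_lit 0)) (.leaf (nat_lit 10126665594684978692143))) (.leaf
    (nat_lit 5404024929448278294557))) (.node (.leaf (nat_lit 0)) (.leaf (nat_lit
    4252233565281154433055)))) (.node (.node (.node (.leaf (nat_lit 1866679846524474818606)) (.leaf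
    (nat_lit 10649030802976918405218))) (.leaf (nat_lit 0))) (.node (.leaf (nat_lit
    3412787280982950740026)) (.leaf (nat_lit 7669598603179060297736)))))) (.node (.node (.node
    (.node (.node (.leaf (nat_lit 23645362627674125)) (.leaf (nat_lit 8585096953400012242962)))
    (.leaf (nat_lit 5066089810448351428637))) (.node (.leaf (nat_lit 0)) (.leaf (nat_lit 0))))
    (.node (.node (.node (.leaf (nat_lit 1568026802725081776136)) (.leaf (nat_lit
    10145092710642181406755))) (.leaf (nat_lit 1099976429889610127174965461076))) (.node (.leaf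
    (nat_lit 3930548532118831693840)) (.leaf (nat_lit 8483525085174809428066))))) (.node (.node
    (.node (.node (.leaf (nat_lit 505009107168036847648)) (.leaf (nat_lit 9417538651547500740625)))
    (.leaf (nat_lit 5701527588024331993167))) (.node (.leaf (nat_lit 0)) (.leaf (nat_lit
    7885286259871948406819)))) (.node (.node (.node (.leaf (nat_lit 0)) (.leaf (nat_lit
    11602529395546351927375))) (.leaf (nat_lit 1847682273695833620134138019849))) (.node (.leaf
    (nat_lit 4523135128168929886235)) (.leaf (nat_lit 8259918691862608805902))))))) (.node (.node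
    (.node (.node (.node (.node (.leaf (nat_lit 0)) (.leaf (nat_lit 0))) (.leaf (nat_lit
    357495349502462231257484299817925935167))) (.node (.leaf (nat_lit
    3077686864586049664667480792938896284975182)) (.leaf (nat_lit 5310584190778403389448)))) (.node
    (.node (.node (.leaf (nat_lit 1042290796179598016573)) (.leaf (nat_lit
    10839276852959282135072))) (.leaf (nat_lit 3977821704456759345164))) (.node (.leaf (nat_lit 0))
    (.leaf (nat_lit 0))))) (.node (.node (.node (.node (.leaf (nat_lit 0)) (.leaf (nat_lit
    8909134748159362400272))) (.leaf (nat_lit 0))) (.node (.leaf (nat_lit 0)) (.leaf (nat_lit 0))))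
    (.node (.node (.node (.leaf (nat_lit 122449126767067166)) (.leaf (nat_lit
    11087013467112826142737))) (.leaf (nat_lit 3371348192413735911455))) (.node (.leaf (nat_lit
    4375603120066657452078)) (.leaf (nat_lit 40024706074045042535405593939017864)))))) (.node
    (.node (.node (.node (.node (.leaf (nat_lit 21435079269336025406848760415911346239)) (.leaf
    (nat_lit 9981430136279123820571))) (.leaf (nat_lit
    66146226256874691156677331617061223035753267362))) (.node (.leaf (nat_lit
    12763343810006405456573663539495048)) (.leaf (nat_lit 7134528670892982206478)))) (.node (.node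
    (.node (.leaf (nat_lit 0)) (.leaf (nat_lit 10088679285236175142959))) (.leaf (nat_lit
    393310796907675678))) (.node (.leaf (nat_lit 3838281040023003529243)) (.leaf (nat_lit 0)))))
    (.node (.node (.node (.node (.leaf (nat_lit 913159786643343998994)) (.leaf (nat_lit
    10576303924739305570336))) (.leaf (nat_lit 5797058794887575699488))) (.node (.leaf (nat_lit
    2380899802489494372369)) (.leaf (nat_lit 8210446715892281835566)))) (.node (.node (.leaf
    (nat_lit 0)) (.leaf (nat_lit 7978005272071950795714215581652864545063112))) (.node (.leaf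
    (nat_lit 2699144141289476522042)) (.leaf (nat_lit 2388097507061178826736162635882)))))))))
    (.node (.node (.node (.node (.node (.node (.node (.node (.leaf (nat_lit 56494561306777681938))
    (.leaf (nat_lit 183364879312465568794574930993639727636622671982))) (.leaf (nat_lit 0))) (.node
    (.leaf (nat_lit 0)) (.leaf (nat_lit 0)))) (.node (.node (.node (.leaf (nat_lit
    1241751634178394488878)) (.leaf (nat_lit 651232168672100382))) (.leaf (nat_lit 0))) (.node
    (.leaf (nat_lit 219423166118887437)) (.leaf (nat_lit 6299857555011410264156))))) (.node (.node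
    (.node (.node (.leaf (nat_lit 651435765772660703278)) (.leaf (nat_lit 615201172629880862)))
    (.leaf (nat_lit 5374080786479861399613))) (.node (.leaf (nat_lit 0)) (.leaf (nat_lit
    6834776398465503264771)))) (.node (.node (.node (.leaf (nat_lit 111189440503873549)) (.leaf
    (nat_lit 0))) (.leaf (nat_lit 6552406319131200258109))) (.node (.leaf (nat_lit 0)) (.leaf
    (nat_lit 2392746167827966695129024364690)))))) (.node (.node (.node (.node (.node (.leaf
    (nat_lit 345888063543398563854)) (.leaf (nat_lit 9801544610702585692213))) (.leaf (nat_lit 0)))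
    (.node (.leaf (nat_lit 2710682846817404780575)) (.leaf (nat_lit 5252945504678516555784))))
    (.node (.node (.node (.leaf (nat_lit 82055680902692894)) (.leaf (nat_lit 0))) (.leaf (nat_lit
    0))) (.node (.leaf (nat_lit 2610343990529525743628)) (.leaf (nat_lit
    7577462834874047201338))))) (.node (.node (.node (.node (.leaf (nat_lit 468113367083365105696))
    (.leaf (nat_lit 633638883116056606))) (.leaf (nat_lit 4789521296512837156867))) (.node (.leaf
    (nat_lit 2641458513748254982147)) (.leaf (nat_lit 8025973786083902816284)))) (.node (.node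
    (.node (.leaf (nat_lit 1930067871517183770640)) (.leaf (nat_lit 11164354346850160148492)))
    (.leaf (nat_lit 1832572821202326804520979726345))) (.node (.leaf (nat_lit 253484936835760182))
    (.leaf (nat_lit 0))))))) (.node (.node (.node (.node (.node (.node (.leaf (nat_lit
    182402896986881552159047518569755423801383)) (.leaf (nat_lit 9220476117518649589765))) (.leaf
    (nat_lit 4908172988800682885166))) (.node (.leaf (nat_lit 156509660533358622)) (.leaf (nat_lit
    1244169107143186679240774189065)))) (.node (.node (.node (.leaf (nat_lit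
    1387048947290202112027)) (.leaf (nat_lit 10830051786819822092304))) (.leaf (nat_lit 0))) (.node
    (.leaf (nat_lit 0)) (.leaf (nat_lit 7259098661959611121762))))) (.node (.node (.node (.node
    (.leaf (nat_lit 796717035605364768780)) (.leaf (nat_lit 10244313478434857877549))) (.leaf
    (nat_lit 5281856214584927649853))) (.node (.leaf (nat_lit 0)) (.leaf (nat_lit
    456159564451151902)))) (.node (.node (.node (.leaf (nat_lit 1962344113948449767459)) (.leaf
    (nat_lit 11422663017389285900367))) (.leaf (nat_lit 6702317433562893320204))) (.node (.leaf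
    (nat_lit 4224562451234938880048)) (.leaf (nat_lit 8657681465708124504122)))))) (.node (.node
    (.node (.node (.node (.leaf (nat_lit 0)) (.leaf (nat_lit
    604753460054586506695811121809776377919))) (.leaf (nat_lit 4193354690529685864479))) (.node
    (.leaf (nat_lit 1704116299608940019743)) (.leaf (nat_lit 7580776703434867015709)))) (.node
    (.node (.node (.leaf (nat_lit 375108714968932376005008752721)) (.leaf (nat_lit
    655455934000267277))) (.leaf (nat_lit 1467002054067061895978459398153))) (.node (.leaf (nat_lit
    236313313988968463)) (.leaf (nat_lit 6493598331234404204642))))) (.node (.node (.node (.node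
    (.leaf (nat_lit 1089567753508994875420)) (.leaf (nat_lit 0))) (.leaf (nat_lit
    235620012545782526336191074132107395135))) (.node (.leaf (nat_lit 3451962472765522640914))
    (.leaf (nat_lit 7053844293101511966778)))) (.node (.node (.leaf (nat_lit 138353425023893517))
    (.leaf (nat_lit 6995140074629654315036))) (.node (.leaf (nat_lit 0)) (.leaf (nat_lit 0))))))))
    (.node (.node (.node (.node (.node (.node (.node (.leaf (nat_lit 127981746570689445900)) (.leaf
    (nat_lit 9571984671786393600035))) (.leaf (nat_lit 0))) (.node (.leaf (nat_lit 0)) (.leaf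
    (nat_lit 389728996046274575)))) (.node (.node (.node (.leaf (nat_lit 1302843596712955805710))
    (.leaf (nat_lit 10505917030437870567442))) (.leaf (nat_lit 6028947089017207455772))) (.node
    (.leaf (nat_lit 2628783626552619499523)) (.leaf (nat_lit 4971697470724066443272))))) (.node
    (.node (.node (.node (.leaf (nat_lit 720619148995817832460)) (.leaf (nat_lit
    10165906930707665715228))) (.leaf (nat_lit 4600381370329121095696))) (.node (.leaf (nat_lit 0))
    (.leaf (nat_lit 7806878939501614530576)))) (.node (.node (.node (.leaf (nat_lit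
    1860884910214433931362)) (.leaf (nat_lit 11283100757426174099504))) (.leaf (nat_lit
    6608745021529414369294))) (.node (.leaf (nat_lit 3373588653634018803739)) (.leaf (nat_lit
    0)))))) (.node (.node (.node (.node (.node (.leaf (nat_lit 430060692701846896667)) (.leaf
    (nat_lit 7309967739758525480991))) (.leaf (nat_lit 313863793241358366))) (.node (.leaf (nat_lit
    748360444306065763330286747690)) (.leaf (nat_lit 7097626034396503146512)))) (.node (.node
    (.node (.leaf (nat_lit 1608413675927988535325)) (.leaf (nat_lit 11053723349178338443333)))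
    (.leaf (nat_lit 6331012949800353202229))) (.node (.leaf (nat_lit 3578800236122404487184))
    (.leaf (nat_lit 2218520652499777810939253162131))))) (.node (.node (.node (.node (.leaf
    (nat_lit 1016909210846761254930)) (.leaf (nat_lit 9567576776958229545007))) (.leaf (nat_lit
    4581877628663549329425))) (.node (.leaf (nat_lit 0)) (.leaf (nat_lit 6806097547738591985676))))
    (.node (.node (.node (.leaf (nat_lit 0)) (.leaf (nat_lit 11641712892610263318573))) (.leaf
    (nat_lit 498808368666242763837129677305155092653))) (.node (.leaf (nat_lit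
    4560042270872081465360)) (.leaf (nat_lit 37625612321692254517022723001417732))))))) (.node
    (.node (.node (.node (.node (.node (.leaf (nat_lit 258263847470150909979)) (.leaf (nat_lit
    9727753834091834966044))) (.leaf (nat_lit 5002783902279699464219))) (.node (.leaf (nat_lit
    2612612463079836549178)) (.leaf (nat_lit 6154671139960935088157)))) (.node (.node (.node (.leaf
    (nat_lit 0)) (.leaf (nat_lit 2441320256292821990915952672810))) (.leaf (nat_lit 0))) (.node
    (.leaf (nat_lit 232934789634719774)) (.leaf (nat_lit 0))))) (.node (.node (.node (.node (.leaf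
    (nat_lit 52639071935266846)) (.leaf (nat_lit 169014000866618158046511236))) (.leaf (nat_lit
    5197535952372425228304))) (.node (.leaf (nat_lit 3229529825317316919312)) (.leaf (nat_lit
    4344472915836431171615)))) (.node (.node (.node (.leaf (nat_lit 1501177341967937503267)) (.leaf
    (nat_lit 10285755258080256524377))) (.leaf (nat_lit 6087684737641891430416))) (.node (.leaf
    (nat_lit 4412496112488951251003)) (.leaf (nat_lit 2303620885602351293989698994218)))))) (.node
    (.node (.node (.node (.node (.leaf (nat_lit 27516330752213007)) (.leaf (nat_lit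
    2387512575862644593549860208753))) (.leaf (nat_lit 5295659388868883578925))) (.node (.leaf
    (nat_lit 48076294184704014077395076)) (.leaf (nat_lit 7657011880641125613597)))) (.node (.node
    (.node (.leaf (nat_lit 1754806842566616743954)) (.leaf (nat_lit
    3007434003712317708509653565449))) (.leaf (nat_lit 279388056396627981))) (.node (.leaf (nat_lit
    0)) (.leaf (nat_lit 8839919482805556543500))))) (.node (.node (.node (.node (.leaf (nat_lit
    590330787966774083616)) (.leaf (nat_lit 0))) (.leaf (nat_lit 5889293430204416589840))) (.node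
    (.leaf (nat_lit 0)) (.leaf (nat_lit 7192203740390977896540)))) (.node (.node (.leaf (nat_lit
    0)) (.leaf (nat_lit 0))) (.node (.leaf (nat_lit 2486999899557148688457)) (.leaf (nat_lit
    9432626269379379789840))))))))))) (.node (.node (.node (.node (.node (.node (.node (.node
    (.node (.node (.leaf (nat_lit 13835269217349468163)) (.leaf (nat_lit 9460297792748863553625)))
    (.leaf (nat_lit 4732927089078574448709))) (.node (.leaf (nat_lit 2375104087841185136643))
    (.leaf (nat_lit 6179893337579948539921)))) (.node (.node (.node (.leaf (nat_lit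
    1182934130287632908302)) (.leaf (nat_lit 0))) (.leaf (nat_lit 0))) (.node (.leaf (nat_lit
    3554660512884962033692)) (.leaf (nat_lit 4641944961101074726944))))) (.node (.node (.node
    (.node (.leaf (nat_lit 476411348506112059959083663930023228211268)) (.leaf (nat_lit
    9192699957162308468748))) (.leaf (nat_lit 383586453442440100170648968503358849058))) (.node
    (.leaf (nat_lit 0)) (.leaf (nat_lit 5981613147878498435164)))) (.node (.node (.node (.leaf
    (nat_lit 108515256426430477)) (.leaf (nat_lit 11050113363435870945315))) (.leaf (nat_lit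
    3946840388463304573017))) (.node (.leaf (nat_lit 4090703436532678852624)) (.leaf (nat_lit
    8865267428399752871948)))))) (.node (.node (.node (.node (.node (.leaf (nat_lit 0)) (.leaf
    (nat_lit 0))) (.leaf (nat_lit 0))) (.node (.leaf (nat_lit 0)) (.leaf (nat_lit
    272847156212269071)))) (.node (.node (.node (.leaf (nat_lit 0)) (.leaf (nat_lit 0))) (.leaf
    (nat_lit 27290787812882096085917285248008372))) (.node (.leaf (nat_lit 0)) (.leaf (nat_lit
    0))))) (.node (.node (.node (.node (.leaf (nat_lit 0)) (.leaf (nat_lit
    10343429474756661018652))) (.leaf (nat_lit 3223265000377517905674693398218526316560424)))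
    (.node (.leaf (nat_lit 0)) (.leaf (nat_lit 7016945033995515789315)))) (.node (.node (.node
    (.leaf (nat_lit 1883947985305111560284)) (.leaf (nat_lit 11521762048607449710608))) (.leaf
    (nat_lit 7769564283157780999252525491911040455671998))) (.node (.leaf (nat_lit
    3479661725212668526604)) (.leaf (nat_lit 543686704591642049873247834208173752537))))))) (.node
    (.node (.node (.node (.node (.node (.leaf (nat_lit 85320765914868809759)) (.leaf (nat_lit 0)))
    (.leaf (nat_lit 275441462487941135))) (.node (.leaf (nat_lit 1708718625295901589531)) (.leaf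
    (nat_lit 7244089282437406982223)))) (.node (.node (.node (.leaf (nat_lit
    21969514243015395850322016)) (.leaf (nat_lit 657847208581922846))) (.leaf (nat_lit 0))) (.node
    (.leaf (nat_lit 16282564722089424384008055228334216)) (.leaf (nat_lit
    163003812767685108730490434266627632431161213028))))) (.node (.node (.node (.node (.leaf
    (nat_lit 0)) (.leaf (nat_lit 8672740592277445083163))) (.leaf (nat_lit
    3056555651304073134092))) (.node (.leaf (nat_lit 51023529429901538975023192)) (.leaf (nat_lit
    7836822453265912496207)))) (.node (.node (.node (.leaf (nat_lit 1933550841143834640473)) (.leaf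
    (nat_lit 8507967186011244658717))) (.leaf (nat_lit 210075496216657935))) (.node (.leaf (nat_lit
    3371283584792660213774)) (.leaf (nat_lit 6163893955198229610527)))))) (.node (.node (.node
    (.node (.node (.leaf (nat_lit 387395560255760039948)) (.leaf (nat_lit 9898364263181458800699)))
    (.leaf (nat_lit 4662569395164568289288))) (.node (.leaf (nat_lit 0)) (.leaf (nat_lit
    6965042665121919467612)))) (.node (.node (.node (.leaf (nat_lit 1633789138776354914316)) (.leaf
    (nat_lit 644548598264102925))) (.leaf (nat_lit 5433943128971686379555))) (.node (.leaf (nat_lit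
    2476607840762701479971)) (.leaf (nat_lit 0))))) (.node (.node (.node (.node (.leaf (nat_lit
    1048058004953870041149)) (.leaf (nat_lit 9442907709963973623825))) (.leaf (nat_lit
    1176700278962260819560876015666))) (.node (.leaf (nat_lit 904964544081138118814337400884))
    (.leaf (nat_lit 8125133265036862750732)))) (.node (.node (.node (.leaf (nat_lit
    2228731469137849811017)) (.leaf (nat_lit 0))) (.leaf (nat_lit 379313425475567631))) (.node
    (.leaf (nat_lit 3618088234198803611740)) (.leaf (nat_lit 0)))))))) (.node (.node (.node (.node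
    (.node (.node (.node (.leaf (nat_lit 680042680519882191405080)) (.leaf (nat_lit
    11069190361419936605168429076153519252701224))) (.leaf (nat_lit 0))) (.node (.leaf (nat_lit 0))
    (.leaf (nat_lit 435398139218886671)))) (.node (.node (.node (.leaf (nat_lit
    1261336311295805423643)) (.leaf (nat_lit 10434587963845205229596))) (.leaf (nat_lit
    5990756996912240590856))) (.node (.leaf (nat_lit 3036917276061691215889)) (.leaf (nat_lit
    7397441360774998196316))))) (.node (.node (.node (.node (.leaf (nat_lit 676805598631866597388))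
    (.leaf (nat_lit 9103929223724289687570))) (.leaf (nat_lit 4608447739302408028174))) (.node
    (.leaf (nat_lit 0)) (.leaf (nat_lit 7759564756711410696204)))) (.node (.node (.node (.leaf
    (nat_lit 0)) (.leaf (nat_lit 11298096899013063409676))) (.leaf (nat_lit
    5813228127656318533648))) (.node (.leaf (nat_lit 3403563908911736225800)) (.leaf (nat_lit
    8939009720859865841676)))))) (.node (.node (.node (.node (.node (.leaf (nat_lit 0)) (.leaf
    (nat_lit 9829248785500080373788))) (.leaf (nat_lit 0))) (.node (.leaf (nat_lit 0)) (.leaf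
    (nat_lit 7467918679999328223278)))) (.node (.node (.node (.leaf (nat_lit
    1562279013301841231899)) (.leaf (nat_lit 11007550467596729122877))) (.leaf (nat_lit
    103009404617321946875691159))) (.node (.leaf (nat_lit 0)) (.leaf (nat_lit
    8234489818012130148379))))) (.node (.node (.node (.node (.leaf (nat_lit
    15867641403851056682893336)) (.leaf (nat_lit 10417257758049792360493))) (.leaf (nat_lit
    292262616003379230))) (.node (.leaf (nat_lit 544713055607963557624291852330)) (.leaf (nat_lit
    8055947915478893264943)))) (.node (.node (.node (.leaf (nat_lit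
    154946885579857828289763944905388261488)) (.leaf (nat_lit 11137756509792224083986))) (.leaf
    (nat_lit 320977461674377246))) (.node (.leaf (nat_lit
    5320930580795187088175806095744206534869151)) (.leaf (nat_lit
    151256256449803073066631264))))))) (.node (.node (.node (.node (.node (.node (.leaf (nat_lit
    232898377945530433554)) (.leaf (nat_lit 9002446304323326640155))) (.leaf (nat_lit
    3989352111356252454960))) (.node (.leaf (nat_lit 2579208771890621644803)) (.leaf (nat_lit
    7315664427690942988316)))) (.node (.node (.node (.leaf (nat_lit 1411224833185909243939)) (.leaf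
    (nat_lit 10017085349745532272656))) (.leaf (nat_lit 6134972455582351687727))) (.node (.leaf
    (nat_lit 3778350298708110934085)) (.leaf (nat_lit 7540414394313862217820))))) (.node (.node
    (.node (.node (.leaf (nat_lit 612550715628072242842190035084239616606286)) (.leaf (nat_lit
    10271901968339774406701))) (.leaf (nat_lit 5540115908731508817949))) (.node (.leaf (nat_lit
    54707057408494151198032068004997345178852851850)) (.leaf (nat_lit 6860145738769269719098))))
    (.node (.node (.node (.leaf (nat_lit 24652240381948512377765921)) (.leaf (nat_lit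
    11443416298702132936732))) (.leaf (nat_lit 6727683257160322711580))) (.node (.leaf (nat_lit
    250403567486877653673886480022993567767)) (.leaf (nat_lit 2440429542934910063441697112106))))))
    (.node (.node (.node (.node (.node (.leaf (nat_lit 524597933906755518476)) (.leaf (nat_lit 0)))
    (.leaf (nat_lit 4971554188261429805154))) (.node (.leaf (nat_lit 176354848982302750)) (.leaf
    (nat_lit 431599876300734494)))) (.node (.node (.node (.leaf (nat_lit 1445821838466601910286))
    (.leaf (nat_lit 11155186418485999894546))) (.leaf (nat_lit 6431186805586592464904))) (.node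
    (.leaf (nat_lit 3562663135339461410828)) (.leaf (nat_lit 8418978721774545600530))))) (.node
    (.node (.node (.node (.leaf (nat_lit 0)) (.leaf (nat_lit 0))) (.leaf (nat_lit
    417403107505787157875051290014018633893))) (.node (.leaf (nat_lit 212385845024522253)) (.leaf
    (nat_lit 0)))) (.node (.node (.leaf (nat_lit 2274585837595261738960636930345814802825254))
    (.leaf (nat_lit 7022820890057803759633))) (.node (.leaf (nat_lit
    1198364833969681259639628693513)) (.leaf (nat_lit 572695805446717470))))))))) (.node (.node
    (.node (.node (.node (.node (.node (.node (.leaf (nat_lit 0)) (.leaf (nat_lit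
    9382897241218410020899))) (.leaf (nat_lit 4772126484724141195325))) (.node (.leaf (nat_lit 0))
    (.leaf (nat_lit 6288288225348754276364)))) (.node (.node (.node (.leaf (nat_lit
    1232536493970348507182)) (.leaf (nat_lit 10216687277080699928655))) (.leaf (nat_lit
    5950590580034130608144))) (.node (.leaf (nat_lit 0)) (.leaf (nat_lit
    6260657238657999241308))))) (.node (.node (.node (.node (.leaf (nat_lit 433517276561987010595))
    (.leaf (nat_lit 150501330285828047196389431))) (.leaf (nat_lit 5364763747936494616674))) (.node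
    (.leaf (nat_lit 13184020924987517757947569194270815)) (.leaf (nat_lit
    4233785413652172701728)))) (.node (.node (.node (.leaf (nat_lit 1044610151465162571807)) (.leaf
    (nat_lit 682548424494678029))) (.leaf (nat_lit 271577366311075870))) (.node (.leaf (nat_lit 0))
    (.leaf (nat_lit 602423360997387269486835322298298728499)))))) (.node (.node (.node (.node
    (.node (.leaf (nat_lit 345888344992605470751)) (.leaf (nat_lit
    2534794099611041072212202553465))) (.leaf (nat_lit 4838996854614738010158))) (.node (.leaf
    (nat_lit 2684094722505886072905)) (.leaf (nat_lit 0)))) (.node (.node (.node (.leaf (nat_lit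
    0)) (.leaf (nat_lit 10970656206746038763568))) (.leaf (nat_lit 6248010700509965123613))) (.node
    (.leaf (nat_lit 2263388786273458257968)) (.leaf (nat_lit 8611695840315459174412))))) (.node
    (.node (.node (.node (.leaf (nat_lit 454278309002313138207)) (.leaf (nat_lit
    9424451887918538227728))) (.leaf (nat_lit 0))) (.node (.leaf (nat_lit 2548068001551220932625))
    (.leaf (nat_lit 0)))) (.node (.node (.node (.leaf (nat_lit 0)) (.leaf (nat_lit
    11558728861377143963694))) (.leaf (nat_lit 489507185192903984816554419326208639149))) (.node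
    (.leaf (nat_lit 0)) (.leaf (nat_lit 506337392492412982))))))) (.node (.node (.node (.node
    (.node (.node (.leaf (nat_lit 196001652698440204306)) (.leaf (nat_lit 0))) (.leaf (nat_lit
    245605252395565110))) (.node (.leaf (nat_lit 32382169833250877678686935764780525644612698153))
    (.leaf (nat_lit 5428178947114270916616)))) (.node (.node (.node (.leaf (nat_lit
    22536287014564742549471331)) (.leaf (nat_lit 0))) (.leaf (nat_lit 6098133569826613035087)))
    (.node (.leaf (nat_lit 2631092143814630113283)) (.leaf (nat_lit 516397374130749470))))) (.node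
    (.node (.node (.node (.leaf (nat_lit 12883198025745155408265240)) (.leaf (nat_lit
    10228183627475106070575))) (.leaf (nat_lit 90315859949452251311112300))) (.node (.leaf (nat_lit
    3096855400240682041360)) (.leaf (nat_lit 2112949106342539918046830854153)))) (.node (.node
    (.node (.leaf (nat_lit 101549429357674550)) (.leaf (nat_lit 11404224008976878207023))) (.leaf
    (nat_lit 6688458239633948606511))) (.node (.leaf (nat_lit 4327123769600315162653)) (.leaf
    (nat_lit 9054440500147467255869)))))) (.node (.node (.node (.node (.node (.leaf (nat_lit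
    410454905287600177164)) (.leaf (nat_lit 9892670873320068153373))) (.leaf (nat_lit
    5217286340087008919613))) (.node (.leaf (nat_lit 2001569273689780977691)) (.leaf (nat_lit
    5160724169715750207496)))) (.node (.node (.node (.leaf (nat_lit 1422762282345709109251)) (.leaf
    (nat_lit 0))) (.leaf (nat_lit 6395628352008171487260))) (.node (.leaf (nat_lit
    4036600987399194083373)) (.leaf (nat_lit 8754586542200297029659))))) (.node (.node (.node
    (.node (.leaf (nat_lit 64602548719452190)) (.leaf (nat_lit 560033692102295565))) (.leaf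
    (nat_lit 5803007548798418485277))) (.node (.leaf (nat_lit 2808632413898030645265)) (.leaf
    (nat_lit 8080152442157855342604)))) (.node (.node (.leaf (nat_lit 0)) (.leaf (nat_lit
    6959954123824297386702721106066829430227142))) (.node (.leaf (nat_lit 0)) (.leaf (nat_lit
    0)))))))) (.node (.node (.node (.node (.node (.node (.node (.leaf (nat_lit 7037342569332749))
    (.leaf (nat_lit 0))) (.leaf (nat_lit 4843718589794211790864))) (.node (.leaf (nat_lit 0))
    (.leaf (nat_lit 5910098095071473893468)))) (.node (.node (.node (.leaf (nat_lit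
    1302843737416084422668)) (.leaf (nat_lit 10589007387997333815324))) (.leaf (nat_lit
    3707973332704616972323))) (.node (.leaf (nat_lit 3667589259807502303305)) (.leaf (nat_lit
    8387931045053149151244))))) (.node (.node (.node (.node (.leaf (nat_lit 0)) (.leaf (nat_lit
    9834882583690966401041))) (.leaf (nat_lit 4707618692084405567515))) (.node (.leaf (nat_lit
    213102511805411668896483045597839294515)) (.leaf (nat_lit 6788660945896631107587)))) (.node
    (.node (.node (.leaf (nat_lit 0)) (.leaf (nat_lit 11330393683809049706528))) (.leaf (nat_lit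
    208175402684907535))) (.node (.leaf (nat_lit 4255692105537552580654)) (.leaf (nat_lit
    7282224859050766696546)))))) (.node (.node (.node (.node (.node (.leaf (nat_lit
    392006823915693473819)) (.leaf (nat_lit 9863806596945044242491))) (.leaf (nat_lit
    4470126079349960671249))) (.node (.leaf (nat_lit 2778637171268446781458)) (.leaf (nat_lit
    7497784793075653214237)))) (.node (.node (.node (.leaf (nat_lit 1339782192299134615580)) (.leaf
    (nat_lit 2415015621798725528068360044553))) (.leaf (nat_lit 0))) (.node (.leaf (nat_lit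
    241098079355404301)) (.leaf (nat_lit 2298674323111576804354347565269))))) (.node (.node (.node
    (.node (.leaf (nat_lit 868197325260628099086)) (.leaf (nat_lit 9382954454589429186576))) (.leaf
    (nat_lit 0))) (.node (.leaf (nat_lit 0)) (.leaf (nat_lit 8090475818124522487855)))) (.node
    (.node (.node (.leaf (nat_lit 0)) (.leaf (nat_lit 566933952200310814))) (.leaf (nat_lit 0)))
    (.node (.leaf (nat_lit 990711349715591041808257581065)) (.leaf (nat_lit
    539129502157111326))))))) (.node (.node (.node (.node (.node (.node (.leaf (nat_lit 0)) (.leaf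
    (nat_lit 9718498796154459979829))) (.leaf (nat_lit 3049721577820320366640))) (.node (.leaf
    (nat_lit 43165030771718159742533657)) (.leaf (nat_lit 0)))) (.node (.node (.node (.leaf
    (nat_lit 49756118087499806)) (.leaf (nat_lit 10894509559518809227311))) (.leaf (nat_lit
    4466600749843848822798))) (.node (.leaf (nat_lit 0)) (.leaf (nat_lit
    8527528278943542214670))))) (.node (.node (.node (.node (.leaf (nat_lit
    219747731117430271127394254929)) (.leaf (nat_lit 10301951604385109966876))) (.leaf (nat_lit
    296352661717510450382812524739641671731))) (.node (.leaf (nat_lit 0)) (.leaf (nat_lit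
    7743449681646042939440)))) (.node (.node (.node (.leaf (nat_lit 2040762057546728144928)) (.leaf
    (nat_lit 11482607470022198755407))) (.leaf (nat_lit 412526785532657677))) (.node (.leaf
    (nat_lit 0)) (.leaf (nat_lit 2450317633521023240330818158641)))))) (.node (.node (.node (.node
    (.node (.leaf (nat_lit 560336882592437698563)) (.leaf (nat_lit
    2688039993760437473720777637930))) (.leaf (nat_lit 216473966695546910))) (.node (.leaf (nat_lit
    0)) (.leaf (nat_lit 0)))) (.node (.node (.node (.leaf (nat_lit 1749087482068779335694)) (.leaf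
    (nat_lit 11192002712211250413584))) (.leaf (nat_lit 282413878036529167))) (.node (.leaf
    (nat_lit 4060725929163089969155)) (.leaf (nat_lit 0))))) (.node (.node (.node (.node (.leaf
    (nat_lit 786327514084322508812)) (.leaf (nat_lit 10599453693581644202000))) (.leaf (nat_lit
    5881411140230901334044))) (.node (.leaf (nat_lit 15476096916341570224398334570135562)) (.leaf
    (nat_lit 453838735923085325)))) (.node (.node (.leaf (nat_lit 1897792966306805514258)) (.leaf
    (nat_lit 7057463000870290653196))) (.node (.leaf (nat_lit 0)) (.leaf (nat_lit 0))))))))))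
    (.node (.node (.node (.node (.node (.node (.node (.node (.node (.leaf (nat_lit
    8046836939323357980914941961)) (.leaf (nat_lit 0))) (.leaf (nat_lit 2647268866340893687835)))
    (.node (.leaf (nat_lit 0)) (.leaf (nat_lit 7112806327203039215632)))) (.node (.node (.node
    (.leaf (nat_lit 1214090735900871032877)) (.leaf (nat_lit 10657069160809155985487))) (.leaf
    (nat_lit 4867809691991818829841))) (.node (.leaf (nat_lit 15724610286758258910692661050867848))
    (.leaf (nat_lit 7464301096949340373084))))) (.node (.node (.node (.node (.leaf (nat_lit 0))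
    (.leaf (nat_lit 10064315721024958300187))) (.leaf (nat_lit 5006223250363066286128))) (.node
    (.leaf (nat_lit 2430460858984938274832)) (.leaf (nat_lit 6827858869334782967866)))) (.node
    (.node (.node (.leaf (nat_lit 1799794635533300465676)) (.leaf (nat_lit
    11249691926084523851821))) (.leaf (nat_lit 269536604010446878))) (.node (.leaf (nat_lit
    4161147050953908879376)) (.leaf (nat_lit 0)))))) (.node (.node (.node (.node (.node (.leaf
    (nat_lit 343016256951190485089267352455947271798824)) (.leaf (nat_lit 9140803570276212342801)))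
    (.leaf (nat_lit 4026154050119683735570))) (.node (.leaf (nat_lit 2687623147725640630351))
    (.leaf (nat_lit 6292878379545075580945)))) (.node (.node (.node (.leaf (nat_lit 0)) (.leaf
    (nat_lit 8801908617508303339523))) (.leaf (nat_lit 372555337384984589))) (.node (.leaf (nat_lit
    3868231800097209516061)) (.leaf (nat_lit 162246182518355511676090925443902986096044736724)))))
    (.node (.node (.node (.node (.leaf (nat_lit 0)) (.leaf (nat_lit
    691323286381429151817565423467575574591))) (.leaf (nat_lit 195575746754904077))) (.node (.leaf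
    (nat_lit 3279019602093134774275)) (.leaf (nat_lit 0)))) (.node (.node (.node (.leaf (nat_lit
    2097284201777725636677)) (.leaf (nat_lit 10421895415812768071692))) (.leaf (nat_lit 0))) (.node
    (.leaf (nat_lit 4456309877317799444509)) (.leaf (nat_lit
    10569602676154107670558341789908605050814664))))))) (.node (.node (.node (.node (.node (.node
    (.leaf (nat_lit 174101421676529123340)) (.leaf (nat_lit 2581530646368477400549600591881)))
    (.leaf (nat_lit 244338546280890422))) (.node (.leaf (nat_lit 0)) (.leaf (nat_lit 0)))) (.node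
    (.node (.node (.leaf (nat_lit 1348964327349958148104)) (.leaf (nat_lit 0))) (.leaf (nat_lit
    5306007265760640240849478009550015251873885))) (.node (.leaf (nat_lit 3592681244022741860387))
    (.leaf (nat_lit 5126192119115260559458))))) (.node (.node (.node (.node (.leaf (nat_lit
    759821928886635266121)) (.leaf (nat_lit 8540284731150131462172))) (.leaf (nat_lit
    5489294684212665974800))) (.node (.leaf (nat_lit 3087632028135107788858)) (.leaf (nat_lit
    7003106386636064358412)))) (.node (.node (.node (.leaf (nat_lit 102956744111685686)) (.leaf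
    (nat_lit 0))) (.leaf (nat_lit 6667751526770296422428))) (.node (.leaf (nat_lit
    3382813503594889936908)) (.leaf (nat_lit 8276046503533233766427)))))) (.node (.node (.node
    (.node (.node (.leaf (nat_lit 473874594411302813725)) (.leaf (nat_lit
    40876155678105417880673033155641348))) (.leaf (nat_lit 0))) (.node (.leaf (nat_lit
    2474270186751792447519)) (.leaf (nat_lit 7560161126568895381531)))) (.node (.node (.node (.leaf
    (nat_lit 0)) (.leaf (nat_lit 0))) (.leaf (nat_lit 4628016516652752633914))) (.node (.leaf
    (nat_lit 0)) (.leaf (nat_lit 6325269539658911645794))))) (.node (.node (.node (.node (.leaf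
    (nat_lit 19179209840218830984862406711086221050404995163)) (.leaf (nat_lit
    10509520257228959055888))) (.leaf (nat_lit 5789170523472021094453))) (.node (.leaf (nat_lit
    908678401977926404139892670540)) (.leaf (nat_lit 8143581700730686472204)))) (.node (.node
    (.node (.leaf (nat_lit 2242568779667255525392)) (.leaf (nat_lit 11680936856353526448175)))
    (.leaf (nat_lit 6863014006222570303235824024510421558362300))) (.node (.leaf (nat_lit
    4594672280618506846240)) (.leaf (nat_lit 523859690828988446)))))))) (.node (.node (.node (.node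
    (.node (.node (.node (.leaf (nat_lit 102615854704754884636)) (.leaf (nat_lit
    9552537143136636567568))) (.leaf (nat_lit 4026151445660105375761))) (.node (.leaf (nat_lit 0))
    (.leaf (nat_lit 0)))) (.node (.node (.node (.leaf (nat_lit 1287878625597814145069)) (.leaf
    (nat_lit 10728520948507392278556))) (.leaf (nat_lit 5220606276302746615820))) (.node (.leaf
    (nat_lit 59788754661761953629995159)) (.leaf (nat_lit 0))))) (.node (.node (.node (.node (.leaf
    (nat_lit 476411349200819870061661820281382985269308)) (.leaf (nat_lit 8784650750343818444829)))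
    (.leaf (nat_lit 307109390232715277))) (.node (.leaf (nat_lit 2483497500271544827907)) (.leaf
    (nat_lit 0)))) (.node (.node (.node (.leaf (nat_lit 114285837046382622)) (.leaf (nat_lit
    2427083626630562149388725321737))) (.leaf (nat_lit 6596265898689727496208))) (.node (.leaf
    (nat_lit 3385117024152077926427)) (.leaf (nat_lit 529276709741133837)))))) (.node (.node (.node
    (.node (.node (.leaf (nat_lit 0)) (.leaf (nat_lit 2643432348791274117385282715761))) (.leaf
    (nat_lit 0))) (.node (.leaf (nat_lit 0)) (.leaf (nat_lit 7481763871785132163101)))) (.node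
    (.node (.node (.leaf (nat_lit 1471182029699753902094)) (.leaf (nat_lit
    10560252960938528014367))) (.leaf (nat_lit 5331295537963307565154))) (.node (.leaf (nat_lit
    3108464416397585481776)) (.leaf (nat_lit 0))))) (.node (.node (.node (.node (.leaf (nat_lit
    991542122901154234371)) (.leaf (nat_lit 9476376351117517455392))) (.leaf (nat_lit
    3198369782347262525458))) (.node (.leaf (nat_lit 3351736621319218987097)) (.leaf (nat_lit
    8076641807435670159405)))) (.node (.node (.node (.leaf (nat_lit 132160597579137037)) (.leaf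
    (nat_lit 9304611106438414270467))) (.leaf (nat_lit 30272424591790464772146616282251444)))
    (.node (.leaf (nat_lit 2395916355650759884835)) (.leaf (nat_lit 0))))))) (.node (.node (.node
    (.node (.node (.node (.leaf (nat_lit 253651387318228156428)) (.leaf (nat_lit
    9363332760750916829211))) (.leaf (nat_lit 4923274825160450048014))) (.node (.leaf (nat_lit
    47346191692915867013870126000877323390691115133)) (.leaf (nat_lit 0)))) (.node (.node (.node
    (.leaf (nat_lit 217883983055716976376441798665)) (.leaf (nat_lit 8894177944177937154083)))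
    (.leaf (nat_lit 5471928225013604619258038162048552882667606))) (.node (.leaf (nat_lit
    3792189508536479449104)) (.leaf (nat_lit 8514746007330599665691))))) (.node (.node (.node
    (.node (.leaf (nat_lit 0)) (.leaf (nat_lit 8941514644343507583004))) (.leaf (nat_lit
    5567789608567079895093))) (.node (.leaf (nat_lit 3186784262968593022979)) (.leaf (nat_lit
    2128436939135571705632703971337)))) (.node (.node (.node (.leaf (nat_lit
    2021194128151776788525)) (.leaf (nat_lit 11114804406382913323040))) (.leaf (nat_lit 0))) (.node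
    (.leaf (nat_lit 3479659965787905654798)) (.leaf (nat_lit 0)))))) (.node (.node (.node (.node
    (.node (.leaf (nat_lit 524066416185589889539297100288456774910016)) (.leaf (nat_lit 0))) (.leaf
    (nat_lit 4519609943678093819918))) (.node (.leaf (nat_lit 2032756982816226607152)) (.leaf
    (nat_lit 7627011632364597215261)))) (.node (.node (.node (.leaf (nat_lit
    1722524195901025746979)) (.leaf (nat_lit 8909136721799914127395))) (.leaf (nat_lit
    1385322986845129740552566538249))) (.node (.leaf (nat_lit 65115567869843149473185825)) (.leaf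
    (nat_lit 8812307138991580446749))))) (.node (.node (.node (.node (.leaf (nat_lit
    1133377855890380750894)) (.leaf (nat_lit 9376043540696187207697))) (.leaf (nat_lit 0))) (.node
    (.leaf (nat_lit 809043328464807149867465244748)) (.leaf (nat_lit 8212761355587223224332))))
    (.node (.node (.leaf (nat_lit 2316360328641975091216)) (.leaf (nat_lit 0))) (.node (.leaf
    (nat_lit 241030390670819358)) (.leaf (nat_lit 154090771609605031025967245))))))))) (.node
    (.node (.node (.node (.node (.node (.node (.node (.leaf (nat_lit
    1025850613101440115241960323405533488588849174)) (.leaf (nat_lit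
    11148142346161314477023706807571287074406426))) (.leaf (nat_lit 292048142516486157))) (.node
    (.leaf (nat_lit 0)) (.leaf (nat_lit 7149701989995479498764)))) (.node (.node (.node (.leaf
    (nat_lit 1164490412284671361082)) (.leaf (nat_lit 10691657791620880990253))) (.leaf (nat_lit
    5969021703565187678226))) (.node (.leaf (nat_lit 3612295755305840738383)) (.leaf (nat_lit
    6256047241558151594076))))) (.node (.node (.node (.node (.leaf (nat_lit 590315093855626788922))
    (.leaf (nat_lit 10027540453454384398368))) (.leaf (nat_lit 306264827863629837))) (.node (.leaf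
    (nat_lit 2395874762096543727632)) (.leaf (nat_lit 126868682987150082025193623)))) (.node (.node
    (.node (.leaf (nat_lit 0)) (.leaf (nat_lit 688879090324865078))) (.leaf (nat_lit
    399718918178078733))) (.node (.leaf (nat_lit 256017146474266654)) (.leaf (nat_lit
    7425177273774492549128)))))) (.node (.node (.node (.node (.node (.leaf (nat_lit
    362029949804672647180)) (.leaf (nat_lit 7452926909881692389468))) (.leaf (nat_lit
    5083401928740616470540))) (.node (.leaf (nat_lit 2726824101087126159433)) (.leaf (nat_lit
    6816482705328048373808)))) (.node (.node (.node (.leaf (nat_lit 1541549013357438369820)) (.leaf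
    (nat_lit 10991424067793523507248))) (.leaf (nat_lit 3699950381968042164255))) (.node (.leaf
    (nat_lit 3594938744400490201102)) (.leaf (nat_lit 345753787975204918))))) (.node (.node (.node
    (.node (.leaf (nat_lit 0)) (.leaf (nat_lit 0))) (.leaf (nat_lit 0))) (.node (.leaf (nat_lit
    238524950437394178437989008871560511539)) (.leaf (nat_lit 6936242217720465260558)))) (.node
    (.node (.node (.leaf (nat_lit 1934730574900909768718)) (.leaf (nat_lit
    11579470052077879885903))) (.leaf (nat_lit 0))) (.node (.leaf (nat_lit
    1206411481991284127618545549321)) (.leaf (nat_lit 9218159013199675064366))))))) (.node (.node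
    (.node (.node (.node (.node (.leaf (nat_lit 214450930115659628562)) (.leaf (nat_lit
    8259964714567489224716))) (.leaf (nat_lit 0))) (.node (.leaf (nat_lit 0)) (.leaf (nat_lit
    6342610363197595779133)))) (.node (.node (.node (.leaf (nat_lit 0)) (.leaf (nat_lit 0))) (.leaf
    (nat_lit 0))) (.node (.leaf (nat_lit 3755291516278331867164)) (.leaf (nat_lit 0))))) (.node
    (.node (.node (.node (.leaf (nat_lit 868424859776912776952216511287094680223818)) (.leaf
    (nat_lit 624912643441950750))) (.leaf (nat_lit 5519354313899575017503))) (.node (.leaf (nat_lit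
    0)) (.leaf (nat_lit 6754075552901836767235)))) (.node (.node (.node (.leaf (nat_lit
    103590191658303542)) (.leaf (nat_lit 10963823269422869708812))) (.leaf (nat_lit
    6260567160686857355362))) (.node (.leaf (nat_lit 0)) (.leaf (nat_lit 0)))))) (.node (.node
    (.node (.node (.node (.leaf (nat_lit 508468784297983279116)) (.leaf (nat_lit
    8822607298413744816146))) (.leaf (nat_lit 0))) (.node (.leaf (nat_lit 0)) (.leaf (nat_lit
    19634009444028865011783355144208394)))) (.node (.node (.node (.leaf (nat_lit
    1691438661216168509456)) (.leaf (nat_lit 678818400016924702))) (.leaf (nat_lit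
    385855725819265037))) (.node (.leaf (nat_lit 66362049014007012117446789)) (.leaf (nat_lit
    5677330820809380528220))))) (.node (.node (.node (.node (.leaf (nat_lit
    1081474433895098417160)) (.leaf (nat_lit 172792472779327100625879148))) (.leaf (nat_lit
    5826067324422204882960))) (.node (.leaf (nat_lit 0)) (.leaf (nat_lit 8180458793390208909340))))
    (.node (.node (.leaf (nat_lit 1856286454937251151889)) (.leaf (nat_lit 0))) (.node (.leaf
    (nat_lit 75013754175664495305949311)) (.leaf (nat_lit 8999093021405977182267)))))))) (.node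
    (.node (.node (.node (.node (.node (.node (.leaf (nat_lit
    10219048700717211280606263784306573346)) (.leaf (nat_lit 0))) (.leaf (nat_lit 0))) (.node
    (.leaf (nat_lit 0)) (.leaf (nat_lit 346241146504216630)))) (.node (.node (.node (.leaf (nat_lit
    0)) (.leaf (nat_lit 10763164115924783661135))) (.leaf (nat_lit 99081163566467315675693081)))
    (.node (.leaf (nat_lit 0)) (.leaf (nat_lit 4941722426432322469896))))) (.node (.node (.node
    (.node (.leaf (nat_lit 0)) (.leaf (nat_lit 9825659211705651232803))) (.leaf (nat_lit
    320198114088714253))) (.node (.leaf (nat_lit 0)) (.leaf (nat_lit 6800190723961372475395))))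
    (.node (.node (.node (.leaf (nat_lit 0)) (.leaf (nat_lit 11351069993290703241263))) (.leaf
    (nat_lit 6630855787179545919516))) (.node (.leaf (nat_lit 70065256007863720304967812)) (.leaf
    (nat_lit 135331605320344626845188120)))))) (.node (.node (.node (.node (.node (.leaf (nat_lit
    0)) (.leaf (nat_lit 592471277986512926))) (.leaf (nat_lit
    81691647851327754195367396306200190510940356775))) (.node (.leaf (nat_lit
    2543441536249680298000)) (.leaf (nat_lit 4861031358241446232092)))) (.node (.node (.node (.leaf
    (nat_lit 0)) (.leaf (nat_lit 0))) (.leaf (nat_lit 0))) (.node (.leaf (nat_lit 0)) (.leaf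
    (nat_lit 5469793268476556804127))))) (.node (.node (.node (.node (.leaf (nat_lit
    34484520052981814)) (.leaf (nat_lit 9429071807415041851410))) (.leaf (nat_lit
    22697131798448898564521685516943370))) (.node (.leaf (nat_lit 183393578825941007)) (.leaf
    (nat_lit 6823258232703840092172)))) (.node (.node (.node (.leaf (nat_lit
    2210284582393916620889)) (.leaf (nat_lit 542867910411026462))) (.leaf (nat_lit
    1855476072053668821263536422921))) (.node (.leaf (nat_lit 1112024241035992197985904951305))
    (.leaf (nat_lit 2494882470208027522628835409962))))))) (.node (.node (.node (.node (.node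
    (.node (.leaf (nat_lit 17593272671272990)) (.leaf (nat_lit 8462884177308985524242))) (.leaf
    (nat_lit 4626868867718717833233))) (.node (.leaf (nat_lit 0)) (.leaf (nat_lit
    6205255641387254349916)))) (.node (.node (.node (.leaf (nat_lit 816318040710966345759)) (.leaf
    (nat_lit 10915335253645259374653))) (.leaf (nat_lit 6190252314792525234194))) (.node (.leaf
    (nat_lit 62811289425282193170890883)) (.leaf (nat_lit
    8010794260987189033378644160298192787210447))))) (.node (.node (.node (.node (.leaf (nat_lit
    1029044616950074566751775751819691297341480)) (.leaf (nat_lit 10327330792748238438489))) (.leaf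
    (nat_lit 194449709409107981))) (.node (.leaf (nat_lit 3243337089522535170095)) (.leaf (nat_lit
    0)))) (.node (.node (.node (.leaf (nat_lit 0)) (.leaf (nat_lit 701966555755446326))) (.leaf
    (nat_lit 3868423009086289936431))) (.node (.leaf (nat_lit 4421723354699361615884)) (.leaf
    (nat_lit 9146677176166479233052)))))) (.node (.node (.node (.node (.node (.leaf (nat_lit
    692839822917724912176425623208714438180904)) (.leaf (nat_lit 8896396315677042081810))) (.leaf
    (nat_lit 0))) (.node (.leaf (nat_lit 10577844549359586338425827479650308)) (.leaf (nat_lit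
    5990834971734261825628)))) (.node (.node (.node (.leaf (nat_lit
    2081293322447242542013497843515663187443751)) (.leaf (nat_lit 11210524896127088787535))) (.leaf
    (nat_lit 22332301913962564779561314668642314))) (.node (.leaf (nat_lit 4124249552720079552558))
    (.leaf (nat_lit 8678388101202235817992))))) (.node (.node (.node (.node (.leaf (nat_lit
    4188493071770833281238445469335556)) (.leaf (nat_lit 0))) (.leaf (nat_lit 0))) (.node (.leaf
    (nat_lit 0)) (.leaf (nat_lit 4623497372542305501215)))) (.node (.node (.leaf (nat_lit 0))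
    (.leaf (nat_lit 311619174612992054))) (.node (.leaf (nat_lit 287890304936312847)) (.leaf
    (nat_lit 0))))))))))))))

/-- Certificate data. -/
def tK_rel : Trie :=
    (.node (.node (.node (.node (.node (.node (.node (.node (.leaf (nat_lit 0)) (.leaf (nat_lit
    2831298444724751))) (.node (.leaf (nat_lit 66390411494810712542983)) (.leaf (nat_lit
    2826887563382028)))) (.node (.node (.leaf (nat_lit 867521336045144591)) (.leaf (nat_lit
    61594402708278144142603))) (.leaf (nat_lit 218631431)))) (.node (.node (.node (.leaf (nat_lit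
    185207817)) (.leaf (nat_lit 7748239230732))) (.node (.leaf (nat_lit 13224406092807)) (.leaf
    (nat_lit 221941338047700142607)))) (.node (.node (.leaf (nat_lit 7748256008203)) (.leaf
    (nat_lit 277498028923948961293))) (.leaf (nat_lit 4233184410209546))))) (.node (.node (.node
    (.node (.leaf (nat_lit 3670234406784266)) (.leaf (nat_lit 71020543694344626833927))) (.node
    (.leaf (nat_lit 277496062980045409287)) (.leaf (nat_lit 1083691914857548046)))) (.node (.node
    (.leaf (nat_lit 16548761505549)) (.leaf (nat_lit 61576100081595794918667))) (.leaf (nat_lit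
    13228684282888)))) (.node (.node (.node (.leaf (nat_lit 203494879847013420047)) (.leaf (nat_lit
    9955919334923))) (.node (.leaf (nat_lit 1011351750609406479)) (.leaf (nat_lit
    867521336011786767)))) (.node (.node (.leaf (nat_lit 134809609)) (.leaf (nat_lit
    71002457517534290578955))) (.leaf (nat_lit 1084251566275955726)))))) (.node (.node (.node
    (.node (.node (.leaf (nat_lit 60297907721)) (.leaf (nat_lit 2831285609958671))) (.node (.leaf
    (nat_lit 723969097889025551)) (.leaf (nat_lit 203997876725662354951)))) (.node (.node (.leaf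
    (nat_lit 203854888541233285903)) (.leaf (nat_lit 1084814503344737034))) (.leaf (nat_lit
    240603976722803330318)))) (.node (.node (.node (.leaf (nat_lit 56853949209653510343437)) (.leaf
    (nat_lit 4233184360073741))) (.node (.leaf (nat_lit 240891649633708346638)) (.leaf (nat_lit
    71057941299798830155787)))) (.node (.node (.leaf (nat_lit 526344)) (.leaf (nat_lit
    2831285643708941))) (.leaf (nat_lit 277495777124152182540))))) (.node (.node (.node (.node
    (.leaf (nat_lit 118032137)) (.leaf (nat_lit 222301632597796195853))) (.node (.leaf (nat_lit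
    129996133893950868495)) (.leaf (nat_lit 222444897880530422792)))) (.node (.node (.leaf (nat_lit
    151652618)) (.leaf (nat_lit 724813497032969739))) (.leaf (nat_lit 56909001772240877521933))))
    (.node (.node (.node (.leaf (nat_lit 723723)) (.leaf (nat_lit 61594618318114549140748))) (.node
    (.leaf (nat_lit 38823266827)) (.leaf (nat_lit 579008381025978893)))) (.node (.node (.leaf
    (nat_lit 42631150361247098538511)) (.leaf (nat_lit 277570082107122256647))) (.leaf (nat_lit
    71020473320094317873672))))))) (.node (.node (.node (.node (.node (.node (.leaf (nat_lit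
    4236461470256906)) (.leaf (nat_lit 60281456906))) (.node (.leaf (nat_lit
    240820150600083574028)) (.leaf (nat_lit 277568120578261322760)))) (.node (.node (.leaf (nat_lit
    52186634447145308851213)) (.leaf (nat_lit 221940216515808463368))) (.leaf (nat_lit
    52131438329025629326093)))) (.node (.node (.node (.leaf (nat_lit 203998442944036014855)) (.leaf
    (nat_lit 51708102922))) (.node (.leaf (nat_lit 12124877753351)) (.leaf (nat_lit
    71057366806051403990795)))) (.node (.node (.leaf (nat_lit 8847750792971)) (.leaf (nat_lit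
    2546512098299147))) (.leaf (nat_lit 66390771501305959157517))))) (.node (.node (.node (.node
    (.leaf (nat_lit 134874894)) (.leaf (nat_lit 222301632597796456973))) (.node (.leaf (nat_lit
    8843455891468)) (.leaf (nat_lit 30300309518)))) (.node (.node (.leaf (nat_lit
    42686848913333943930632)) (.leaf (nat_lit 2829086587030031))) (.leaf (nat_lit 43084549639))))
    (.node (.node (.node (.leaf (nat_lit 151980303)) (.leaf (nat_lit 7743961040651))) (.node (.leaf
    (nat_lit 218565896)) (.leaf (nat_lit 1083691914857679371)))) (.node (.node (.leaf (nat_lit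
    240532203893687192843)) (.leaf (nat_lit 277498029993412725512))) (.leaf (nat_lit
    1011637619287265036)))))) (.node (.node (.node (.node (.node (.leaf (nat_lit 218696969)) (.leaf
    (nat_lit 3670225816848911))) (.node (.leaf (nat_lit 60247902728)) (.leaf (nat_lit
    277570082107122452235)))) (.node (.node (.leaf (nat_lit 203421700738280524815)) (.leaf (nat_lit
    203997313745644357647))) (.leaf (nat_lit 56835358631862389771021)))) (.node (.node (.node
    (.leaf (nat_lit 34528429834)) (.leaf (nat_lit 37964193918578894440460))) (.node (.leaf (nat_lit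
    38823397646)) (.leaf (nat_lit 1083694100996033035)))) (.node (.node (.leaf (nat_lit
    61557653336422573804812)) (.leaf (nat_lit 724528749341182735))) (.leaf (nat_lit
    70983796001439167874826))))) (.node (.node (.node (.node (.leaf (nat_lit 201919242)) (.leaf
    (nat_lit 70983940117748112953096))) (.node (.leaf (nat_lit 43101391116)) (.leaf (nat_lit
    52223599150665204238095)))) (.node (.node (.leaf (nat_lit 168692238)) (.leaf (nat_lit
    47427518872799903746573))) (.leaf (nat_lit 1012480940461329933)))) (.node (.node (.node (.leaf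
    (nat_lit 118294541)) (.leaf (nat_lit 579287626965061131))) (.leaf (nat_lit 43134880012)))
    (.node (.node (.leaf (nat_lit 203998159300117596943)) (.leaf (nat_lit 30233071114))) (.leaf
    (nat_lit 71076029729517098437902)))))))) (.node (.node (.node (.node (.node (.node (.node
    (.leaf (nat_lit 252251913)) (.leaf (nat_lit 43101587726))) (.node (.leaf (nat_lit
    3675710573645066)) (.leaf (nat_lit 277425130203515848972)))) (.node (.node (.leaf (nat_lit
    185469710)) (.leaf (nat_lit 60247641608))) (.leaf (nat_lit 43084809998)))) (.node (.node (.node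
    (.leaf (nat_lit 222445467418980453391)) (.leaf (nat_lit 7743944198156))) (.node (.leaf (nat_lit
    867521336045013775)) (.leaf (nat_lit 66390700567395624881932)))) (.node (.node (.leaf (nat_lit
    1084816698073024779)) (.leaf (nat_lit 43134814732))) (.leaf (nat_lit 277496062980045670412)))))
    (.node (.node (.node (.node (.leaf (nat_lit 61576316256585555513102)) (.leaf (nat_lit
    71002240502509039716110))) (.node (.leaf (nat_lit 61612850016405596802827)) (.leaf (nat_lit
    43067770894)))) (.node (.node (.leaf (nat_lit 38890179086)) (.leaf (nat_lit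
    240388366894837402894))) (.leaf (nat_lit 12129172720392)))) (.node (.node (.node (.leaf
    (nat_lit 118360074)) (.leaf (nat_lit 56853949203047934463752))) (.node (.leaf (nat_lit
    61649958837308279820043)) (.leaf (nat_lit 43084810759)))) (.node (.node (.leaf (nat_lit
    235671052)) (.leaf (nat_lit 277208958503666519820))) (.leaf (nat_lit 1083691914857418251))))))
    (.node (.node (.node (.node (.node (.leaf (nat_lit 1013041674211756556)) (.leaf (nat_lit
    47413005322))) (.node (.leaf (nat_lit 38890244366)) (.leaf (nat_lit 66390554765543843892999))))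
    (.node (.node (.leaf (nat_lit 203853763732264783373)) (.leaf (nat_lit
    61576100081595795179787))) (.leaf (nat_lit 723969097922644751)))) (.node (.node (.node (.leaf
    (nat_lit 940703726166740238)) (.leaf (nat_lit 43185015304))) (.node (.leaf (nat_lit
    129924071919112882959)) (.leaf (nat_lit 1084815602856102926)))) (.node (.node (.leaf (nat_lit
    51707972361)) (.leaf (nat_lit 148440630583022783247))) (.leaf (nat_lit
    66390771501305992907279))))) (.node (.node (.node (.node (.leaf (nat_lit 789516)) (.leaf
    (nat_lit 2548711155109646))) (.node (.leaf (nat_lit 151521544)) (.leaf (nat_lit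
    277208677011577308939)))) (.node (.node (.leaf (nat_lit 151849229)) (.leaf (nat_lit
    148368572993396739087))) (.leaf (nat_lit 30233070094)))) (.node (.node (.node (.leaf (nat_lit
    135071501)) (.leaf (nat_lit 203494879846946572047))) (.node (.leaf (nat_lit 2546512131854091))
    (.leaf (nat_lit 2829108011534861)))) (.node (.node (.leaf (nat_lit 867239861001391631)) (.leaf
    (nat_lit 277641864823253503756))) (.leaf (nat_lit 30233462798))))))) (.node (.node (.node
    (.node (.node (.node (.leaf (nat_lit 235539978)) (.leaf (nat_lit 60297775624))) (.node (.leaf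
    (nat_lit 168364553)) (.leaf (nat_lit 277281570251698998795)))) (.node (.node (.leaf (nat_lit
    47445965898344294976013)) (.leaf (nat_lit 1011913601051069199))) (.leaf (nat_lit
    203998161486255885583)))) (.node (.node (.node (.leaf (nat_lit 166600262479661369099)) (.leaf
    (nat_lit 33242116234532895657483))) (.node (.leaf (nat_lit 9925854628871)) (.leaf (nat_lit
    8843472603147)))) (.node (.node (.leaf (nat_lit 151718412)) (.leaf (nat_lit
    939580021021478159))) (.leaf (nat_lit 66353663245552320317967))))) (.node (.node (.node (.node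
    (.leaf (nat_lit 460551)) (.leaf (nat_lit 43185081863))) (.node (.leaf (nat_lit
    129924077433717001995)) (.leaf (nat_lit 56927736460839106514695)))) (.node (.node (.leaf
    (nat_lit 151456007)) (.leaf (nat_lit 1084821113299406606))) (.leaf (nat_lit 12129189432071))))
    (.node (.node (.node (.leaf (nat_lit 168560907)) (.leaf (nat_lit 148586145445105633292)))
    (.node (.leaf (nat_lit 240818747610445057294)) (.leaf (nat_lit 34595276554)))) (.node (.node
    (.leaf (nat_lit 235605515)) (.leaf (nat_lit 277209238887838781194))) (.leaf (nat_lit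
    33242116225749754579471)))))) (.node (.node (.node (.node (.node (.leaf (nat_lit
    14358294760719)) (.leaf (nat_lit 222444896763905838855))) (.node (.leaf (nat_lit 235407879))
    (.leaf (nat_lit 277570088712748666636)))) (.node (.node (.leaf (nat_lit
    71076029729525738376974)) (.leaf (nat_lit 61613065065478203705868))) (.leaf (nat_lit
    1013043899004816911)))) (.node (.node (.node (.leaf (nat_lit 43101456907)) (.leaf (nat_lit
    15432019740940))) (.node (.leaf (nat_lit 168234504)) (.leaf (nat_lit 868642837871857167))))
    (.node (.node (.leaf (nat_lit 61557653339721108883726)) (.leaf (nat_lit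
    71020760989749620706572))) (.leaf (nat_lit 12124894530568))))) (.node (.node (.node (.node
    (.leaf (nat_lit 202247182)) (.leaf (nat_lit 15432053098764))) (.node (.leaf (nat_lit
    13224389315336)) (.leaf (nat_lit 221941624990220421135)))) (.node (.node (.leaf (nat_lit
    8847767570188)) (.leaf (nat_lit 1011913601017581071))) (.leaf (nat_lit 13228701125383))))
    (.node (.node (.node (.leaf (nat_lit 51708103177)) (.leaf (nat_lit 650784500087262733))) (.leaf
    (nat_lit 34595080718))) (.node (.node (.leaf (nat_lit 70983938718052614016782)) (.leaf (nat_lit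
    2548711121554702))) (.leaf (nat_lit 71020472199709115485704)))))))))

/-- Certificate data. -/
def tK_rc : Trie :=
    (.node (.node (.node (.node (.node (.node (.node (.node (.leaf (nat_lit 150)) (.leaf (nat_lit
    655385))) (.node (.leaf (nat_lit 393338)) (.leaf (nat_lit 131197)))) (.node (.node (.leaf
    (nat_lit 655441)) (.leaf (nat_lit 786564))) (.leaf (nat_lit 262148)))) (.node (.node (.node
    (.leaf (nat_lit 393272)) (.leaf (nat_lit 69))) (.node (.leaf (nat_lit 131141)) (.leaf (nat_lit
    262238)))) (.node (.node (.leaf (nat_lit 655424)) (.leaf (nat_lit 131201))) (.leaf (nat_lit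
    786457))))) (.node (.node (.node (.node (.leaf (nat_lit 131097)) (.leaf (nat_lit 393258)))
    (.node (.leaf (nat_lit 1048679)) (.leaf (nat_lit 393294)))) (.node (.node (.leaf (nat_lit
    131094)) (.leaf (nat_lit 393352))) (.leaf (nat_lit 262208)))) (.node (.node (.node (.leaf
    (nat_lit 917602)) (.leaf (nat_lit 262215))) (.node (.leaf (nat_lit 655439)) (.leaf (nat_lit
    131156)))) (.node (.node (.leaf (nat_lit 131074)) (.leaf (nat_lit 1179787))) (.leaf (nat_lit
    917582)))))) (.node (.node (.node (.node (.node (.leaf (nat_lit 131093)) (.leaf (nat_lit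
    393240))) (.node (.leaf (nat_lit 262222)) (.leaf (nat_lit 1048673)))) (.node (.node (.leaf
    (nat_lit 655489)) (.leaf (nat_lit 786511))) (.leaf (nat_lit 131203)))) (.node (.node (.node
    (.leaf (nat_lit 393365)) (.leaf (nat_lit 524312))) (.node (.leaf (nat_lit 262273)) (.leaf
    (nat_lit 524406)))) (.node (.node (.leaf (nat_lit 0)) (.leaf (nat_lit 25))) (.leaf (nat_lit
    262243))))) (.node (.node (.node (.node (.leaf (nat_lit 3)) (.leaf (nat_lit 524419))) (.node
    (.leaf (nat_lit 524387)) (.leaf (nat_lit 98)))) (.node (.node (.leaf (nat_lit 8)) (.leaf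
    (nat_lit 917583))) (.leaf (nat_lit 1179780)))) (.node (.node (.node (.leaf (nat_lit 55)) (.leaf
    (nat_lit 1048708))) (.node (.leaf (nat_lit 393276)) (.leaf (nat_lit 655391)))) (.node (.node
    (.leaf (nat_lit 131115)) (.leaf (nat_lit 917606))) (.leaf (nat_lit 786474))))))) (.node (.node
    (.node (.node (.node (.node (.leaf (nat_lit 524313)) (.leaf (nat_lit 20))) (.node (.leaf
    (nat_lit 393347)) (.leaf (nat_lit 92)))) (.node (.node (.leaf (nat_lit 917636)) (.leaf (nat_lit
    262234))) (.leaf (nat_lit 655492)))) (.node (.node (.node (.leaf (nat_lit 1048675)) (.leaf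
    (nat_lit 131132))) (.node (.leaf (nat_lit 655425)) (.leaf (nat_lit 1048685)))) (.node (.node
    (.leaf (nat_lit 262209)) (.leaf (nat_lit 786559))) (.leaf (nat_lit 917555))))) (.node (.node
    (.node (.node (.leaf (nat_lit 131078)) (.leaf (nat_lit 131202))) (.node (.leaf (nat_lit
    131136)) (.leaf (nat_lit 524306)))) (.node (.node (.leaf (nat_lit 786479)) (.leaf (nat_lit
    131096))) (.leaf (nat_lit 524305)))) (.node (.node (.node (.leaf (nat_lit 12)) (.leaf (nat_lit
    524353))) (.node (.leaf (nat_lit 4)) (.leaf (nat_lit 393296)))) (.node (.node (.leaf (nat_lit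
    1048707)) (.leaf (nat_lit 655458))) (.leaf (nat_lit 524371)))))) (.node (.node (.node (.node
    (.node (.leaf (nat_lit 14)) (.leaf (nat_lit 393241))) (.node (.leaf (nat_lit 18)) (.leaf
    (nat_lit 917603)))) (.node (.node (.leaf (nat_lit 131171)) (.leaf (nat_lit 524391))) (.leaf
    (nat_lit 655501)))) (.node (.node (.node (.leaf (nat_lit 393233)) (.leaf (nat_lit 131178)))
    (.node (.leaf (nat_lit 262164)) (.leaf (nat_lit 917589)))) (.node (.node (.leaf (nat_lit
    786569)) (.leaf (nat_lit 786517))) (.leaf (nat_lit 1048619))))) (.node (.node (.node (.node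
    (.leaf (nat_lit 131128)) (.leaf (nat_lit 262260))) (.node (.leaf (nat_lit 262207)) (.leaf
    (nat_lit 393335)))) (.node (.node (.leaf (nat_lit 131082)) (.leaf (nat_lit 1048720))) (.leaf
    (nat_lit 38)))) (.node (.node (.node (.leaf (nat_lit 393220)) (.leaf (nat_lit 786508))) (.leaf
    (nat_lit 131133))) (.node (.node (.leaf (nat_lit 917633)) (.leaf (nat_lit 393232))) (.leaf
    (nat_lit 786483)))))))) (.node (.node (.node (.node (.node (.node (.node (.leaf (nat_lit
    131084)) (.leaf (nat_lit 21))) (.node (.leaf (nat_lit 655384)) (.leaf (nat_lit 393320))))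
    (.node (.node (.leaf (nat_lit 59)) (.leaf (nat_lit 131091))) (.leaf (nat_lit 262162)))) (.node
    (.node (.node (.leaf (nat_lit 131200)) (.leaf (nat_lit 65))) (.node (.leaf (nat_lit 786519))
    (.leaf (nat_lit 138)))) (.node (.node (.leaf (nat_lit 262223)) (.leaf (nat_lit 60))) (.leaf
    (nat_lit 1048674))))) (.node (.node (.node (.node (.leaf (nat_lit 131123)) (.leaf (nat_lit
    917548))) (.node (.leaf (nat_lit 524437)) (.leaf (nat_lit 524304)))) (.node (.node (.leaf
    (nat_lit 524308)) (.leaf (nat_lit 262184))) (.leaf (nat_lit 68)))) (.node (.node (.node (.leaf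
    (nat_lit 393222)) (.leaf (nat_lit 524403))) (.node (.leaf (nat_lit 524434)) (.leaf (nat_lit
    262160)))) (.node (.node (.leaf (nat_lit 58)) (.leaf (nat_lit 655459))) (.leaf (nat_lit
    393298)))))) (.node (.node (.node (.node (.node (.leaf (nat_lit 78)) (.leaf (nat_lit 61)))
    (.node (.leaf (nat_lit 262165)) (.leaf (nat_lit 524336)))) (.node (.node (.leaf (nat_lit 131))
    (.leaf (nat_lit 393350))) (.leaf (nat_lit 262224)))) (.node (.node (.node (.leaf (nat_lit
    131110)) (.leaf (nat_lit 262161))) (.node (.leaf (nat_lit 93)) (.leaf (nat_lit 917584))))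
    (.node (.node (.leaf (nat_lit 393279)) (.leaf (nat_lit 262247))) (.leaf (nat_lit 393269)))))
    (.node (.node (.node (.node (.leaf (nat_lit 54)) (.leaf (nat_lit 262171))) (.node (.leaf
    (nat_lit 2)) (.leaf (nat_lit 131165)))) (.node (.node (.leaf (nat_lit 131086)) (.leaf (nat_lit
    131174))) (.leaf (nat_lit 17)))) (.node (.node (.node (.leaf (nat_lit 131076)) (.leaf (nat_lit
    917607))) (.node (.leaf (nat_lit 786507)) (.leaf (nat_lit 786456)))) (.node (.node (.leaf
    (nat_lit 786510)) (.leaf (nat_lit 128))) (.leaf (nat_lit 19))))))) (.node (.node (.node (.node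
    (.node (.node (.leaf (nat_lit 10)) (.leaf (nat_lit 16))) (.node (.leaf (nat_lit 131080)) (.leaf
    (nat_lit 393311)))) (.node (.node (.leaf (nat_lit 262276)) (.leaf (nat_lit 131151))) (.leaf
    (nat_lit 129)))) (.node (.node (.node (.leaf (nat_lit 917605)) (.leaf (nat_lit 655473))) (.node
    (.leaf (nat_lit 131139)) (.leaf (nat_lit 131140)))) (.node (.node (.leaf (nat_lit 56)) (.leaf
    (nat_lit 786466))) (.leaf (nat_lit 262195))))) (.node (.node (.node (.node (.leaf (nat_lit 1))
    (.leaf (nat_lit 524307))) (.node (.leaf (nat_lit 99)) (.leaf (nat_lit 917624)))) (.node (.node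
    (.leaf (nat_lit 131075)) (.leaf (nat_lit 131108))) (.leaf (nat_lit 393281)))) (.node (.node
    (.node (.leaf (nat_lit 262200)) (.leaf (nat_lit 131160))) (.node (.leaf (nat_lit 786473))
    (.leaf (nat_lit 131088)))) (.node (.node (.leaf (nat_lit 131131)) (.leaf (nat_lit 131113)))
    (.leaf (nat_lit 524331)))))) (.node (.node (.node (.node (.node (.leaf (nat_lit 22)) (.leaf
    (nat_lit 393315))) (.node (.leaf (nat_lit 262150)) (.leaf (nat_lit 262272)))) (.node (.node
    (.leaf (nat_lit 262197)) (.leaf (nat_lit 132))) (.leaf (nat_lit 36)))) (.node (.node (.node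
    (.leaf (nat_lit 524349)) (.leaf (nat_lit 70))) (.node (.leaf (nat_lit 6)) (.leaf (nat_lit
    655444)))) (.node (.node (.leaf (nat_lit 393358)) (.leaf (nat_lit 148))) (.leaf (nat_lit
    64))))) (.node (.node (.node (.node (.leaf (nat_lit 131130)) (.leaf (nat_lit 72))) (.node
    (.leaf (nat_lit 131137)) (.leaf (nat_lit 262236)))) (.node (.node (.leaf (nat_lit 393280))
    (.leaf (nat_lit 131153))) (.leaf (nat_lit 524352)))) (.node (.node (.node (.leaf (nat_lit
    262205)) (.leaf (nat_lit 262176))) (.leaf (nat_lit 262163))) (.node (.node (.leaf (nat_lit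
    786547)) (.leaf (nat_lit 262173))) (.leaf (nat_lit 262255)))))))))

/-- Certificate data. -/
def tK_lv : Trie :=
    (.node (.node (.node (.node (.node (.node (.node (.node (.node (.node (.node (.leaf (nat_lit
    0)) (.leaf (nat_lit 1024))) (.leaf (nat_lit 512))) (.node (.leaf (nat_lit 256)) (.leaf (nat_lit
    768)))) (.node (.node (.leaf (nat_lit 128)) (.leaf (nat_lit 640))) (.node (.leaf (nat_lit 384))
    (.leaf (nat_lit 896))))) (.node (.node (.node (.node (.leaf (nat_lit 64)) (.leaf (nat_lit
    1088))) (.leaf (nat_lit 576))) (.node (.leaf (nat_lit 320)) (.leaf (nat_lit 832)))) (.node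
    (.node (.leaf (nat_lit 192)) (.leaf (nat_lit 704))) (.node (.leaf (nat_lit 448)) (.leaf
    (nat_lit 960)))))) (.node (.node (.node (.node (.node (.leaf (nat_lit 32)) (.leaf (nat_lit
    1056))) (.leaf (nat_lit 544))) (.node (.leaf (nat_lit 288)) (.leaf (nat_lit 800)))) (.node
    (.node (.leaf (nat_lit 160)) (.leaf (nat_lit 672))) (.node (.leaf (nat_lit 416)) (.leaf
    (nat_lit 928))))) (.node (.node (.node (.leaf (nat_lit 96)) (.leaf (nat_lit 608))) (.node
    (.leaf (nat_lit 352)) (.leaf (nat_lit 864)))) (.node (.node (.leaf (nat_lit 224)) (.leaf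
    (nat_lit 736))) (.node (.leaf (nat_lit 480)) (.leaf (nat_lit 992))))))) (.node (.node (.node
    (.node (.node (.node (.leaf (nat_lit 16)) (.leaf (nat_lit 1040))) (.leaf (nat_lit 528))) (.node
    (.leaf (nat_lit 272)) (.leaf (nat_lit 784)))) (.node (.node (.leaf (nat_lit 144)) (.leaf
    (nat_lit 656))) (.node (.leaf (nat_lit 400)) (.leaf (nat_lit 912))))) (.node (.node (.node
    (.leaf (nat_lit 80)) (.leaf (nat_lit 592))) (.node (.leaf (nat_lit 336)) (.leaf (nat_lit
    848)))) (.node (.node (.leaf (nat_lit 208)) (.leaf (nat_lit 720))) (.node (.leaf (nat_lit 464))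
    (.leaf (nat_lit 976)))))) (.node (.node (.node (.node (.node (.leaf (nat_lit 48)) (.leaf
    (nat_lit 1072))) (.leaf (nat_lit 560))) (.node (.leaf (nat_lit 304)) (.leaf (nat_lit 816))))
    (.node (.node (.leaf (nat_lit 176)) (.leaf (nat_lit 688))) (.node (.leaf (nat_lit 432)) (.leaf
    (nat_lit 944))))) (.node (.node (.node (.leaf (nat_lit 112)) (.leaf (nat_lit 624))) (.node
    (.leaf (nat_lit 368)) (.leaf (nat_lit 880)))) (.node (.node (.leaf (nat_lit 240)) (.leaf
    (nat_lit 752))) (.node (.leaf (nat_lit 496)) (.leaf (nat_lit 1008)))))))) (.node (.node (.node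
    (.node (.node (.node (.node (.leaf (nat_lit 8)) (.leaf (nat_lit 1032))) (.leaf (nat_lit 520)))
    (.node (.leaf (nat_lit 264)) (.leaf (nat_lit 776)))) (.node (.node (.leaf (nat_lit 136)) (.leaf
    (nat_lit 648))) (.node (.leaf (nat_lit 392)) (.leaf (nat_lit 904))))) (.node (.node (.node
    (.node (.leaf (nat_lit 72)) (.leaf (nat_lit 1096))) (.leaf (nat_lit 584))) (.node (.leaf
    (nat_lit 328)) (.leaf (nat_lit 840)))) (.node (.node (.leaf (nat_lit 200)) (.leaf (nat_lit
    712))) (.node (.leaf (nat_lit 456)) (.leaf (nat_lit 968)))))) (.node (.node (.node (.node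
    (.node (.leaf (nat_lit 40)) (.leaf (nat_lit 1064))) (.leaf (nat_lit 552))) (.node (.leaf
    (nat_lit 296)) (.leaf (nat_lit 808)))) (.node (.node (.leaf (nat_lit 168)) (.leaf (nat_lit
    680))) (.node (.leaf (nat_lit 424)) (.leaf (nat_lit 936))))) (.node (.node (.node (.leaf
    (nat_lit 104)) (.leaf (nat_lit 616))) (.node (.leaf (nat_lit 360)) (.leaf (nat_lit 872))))
    (.node (.node (.leaf (nat_lit 232)) (.leaf (nat_lit 744))) (.node (.leaf (nat_lit 488)) (.leaf
    (nat_lit 1000))))))) (.node (.node (.node (.node (.node (.node (.leaf (nat_lit 24)) (.leaf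
    (nat_lit 1048))) (.leaf (nat_lit 536))) (.node (.leaf (nat_lit 280)) (.leaf (nat_lit 792))))
    (.node (.node (.leaf (nat_lit 152)) (.leaf (nat_lit 664))) (.node (.leaf (nat_lit 408)) (.leaf
    (nat_lit 920))))) (.node (.node (.node (.leaf (nat_lit 88)) (.leaf (nat_lit 600))) (.node
    (.leaf (nat_lit 344)) (.leaf (nat_lit 856)))) (.node (.node (.leaf (nat_lit 216)) (.leaf
    (nat_lit 728))) (.node (.leaf (nat_lit 472)) (.leaf (nat_lit 984)))))) (.node (.node (.node
    (.node (.node (.leaf (nat_lit 56)) (.leaf (nat_lit 1080))) (.leaf (nat_lit 568))) (.node (.leaf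
    (nat_lit 312)) (.leaf (nat_lit 824)))) (.node (.node (.leaf (nat_lit 184)) (.leaf (nat_lit
    696))) (.node (.leaf (nat_lit 440)) (.leaf (nat_lit 952))))) (.node (.node (.node (.leaf
    (nat_lit 120)) (.leaf (nat_lit 632))) (.node (.leaf (nat_lit 376)) (.leaf (nat_lit 888))))
    (.node (.node (.leaf (nat_lit 248)) (.leaf (nat_lit 760))) (.node (.leaf (nat_lit 504)) (.leaf
    (nat_lit 1016))))))))) (.node (.node (.node (.node (.node (.node (.node (.node (.leaf (nat_lit
    4)) (.leaf (nat_lit 1028))) (.leaf (nat_lit 516))) (.node (.leaf (nat_lit 260)) (.leaf (nat_lit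
    772)))) (.node (.node (.leaf (nat_lit 132)) (.leaf (nat_lit 644))) (.node (.leaf (nat_lit 388))
    (.leaf (nat_lit 900))))) (.node (.node (.node (.node (.leaf (nat_lit 68)) (.leaf (nat_lit
    1092))) (.leaf (nat_lit 580))) (.node (.leaf (nat_lit 324)) (.leaf (nat_lit 836)))) (.node
    (.node (.leaf (nat_lit 196)) (.leaf (nat_lit 708))) (.node (.leaf (nat_lit 452)) (.leaf
    (nat_lit 964)))))) (.node (.node (.node (.node (.node (.leaf (nat_lit 36)) (.leaf (nat_lit
    1060))) (.leaf (nat_lit 548))) (.node (.leaf (nat_lit 292)) (.leaf (nat_lit 804)))) (.node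
    (.node (.leaf (nat_lit 164)) (.leaf (nat_lit 676))) (.node (.leaf (nat_lit 420)) (.leaf
    (nat_lit 932))))) (.node (.node (.node (.leaf (nat_lit 100)) (.leaf (nat_lit 612))) (.node
    (.leaf (nat_lit 356)) (.leaf (nat_lit 868)))) (.node (.node (.leaf (nat_lit 228)) (.leaf
    (nat_lit 740))) (.node (.leaf (nat_lit 484)) (.leaf (nat_lit 996))))))) (.node (.node (.node
    (.node (.node (.node (.leaf (nat_lit 20)) (.leaf (nat_lit 1044))) (.leaf (nat_lit 532))) (.node
    (.leaf (nat_lit 276)) (.leaf (nat_lit 788)))) (.node (.node (.leaf (nat_lit 148)) (.leaf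
    (nat_lit 660))) (.node (.leaf (nat_lit 404)) (.leaf (nat_lit 916))))) (.node (.node (.node
    (.leaf (nat_lit 84)) (.leaf (nat_lit 596))) (.node (.leaf (nat_lit 340)) (.leaf (nat_lit
    852)))) (.node (.node (.leaf (nat_lit 212)) (.leaf (nat_lit 724))) (.node (.leaf (nat_lit 468))
    (.leaf (nat_lit 980)))))) (.node (.node (.node (.node (.node (.leaf (nat_lit 52)) (.leaf
    (nat_lit 1076))) (.leaf (nat_lit 564))) (.node (.leaf (nat_lit 308)) (.leaf (nat_lit 820))))
    (.node (.node (.leaf (nat_lit 180)) (.leaf (nat_lit 692))) (.node (.leaf (nat_lit 436)) (.leaf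
    (nat_lit 948))))) (.node (.node (.node (.leaf (nat_lit 116)) (.leaf (nat_lit 628))) (.node
    (.leaf (nat_lit 372)) (.leaf (nat_lit 884)))) (.node (.node (.leaf (nat_lit 244)) (.leaf
    (nat_lit 756))) (.node (.leaf (nat_lit 500)) (.leaf (nat_lit 1012)))))))) (.node (.node (.node
    (.node (.node (.node (.node (.leaf (nat_lit 12)) (.leaf (nat_lit 1036))) (.leaf (nat_lit 524)))
    (.node (.leaf (nat_lit 268)) (.leaf (nat_lit 780)))) (.node (.node (.leaf (nat_lit 140)) (.leaf
    (nat_lit 652))) (.node (.leaf (nat_lit 396)) (.leaf (nat_lit 908))))) (.node (.node (.node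
    (.leaf (nat_lit 76)) (.leaf (nat_lit 588))) (.node (.leaf (nat_lit 332)) (.leaf (nat_lit
    844)))) (.node (.node (.leaf (nat_lit 204)) (.leaf (nat_lit 716))) (.node (.leaf (nat_lit 460))
    (.leaf (nat_lit 972)))))) (.node (.node (.node (.node (.node (.leaf (nat_lit 44)) (.leaf
    (nat_lit 1068))) (.leaf (nat_lit 556))) (.node (.leaf (nat_lit 300)) (.leaf (nat_lit 812))))
    (.node (.node (.leaf (nat_lit 172)) (.leaf (nat_lit 684))) (.node (.leaf (nat_lit 428)) (.leaf
    (nat_lit 940))))) (.node (.node (.node (.leaf (nat_lit 108)) (.leaf (nat_lit 620))) (.node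
    (.leaf (nat_lit 364)) (.leaf (nat_lit 876)))) (.node (.node (.leaf (nat_lit 236)) (.leaf
    (nat_lit 748))) (.node (.leaf (nat_lit 492)) (.leaf (nat_lit 1004))))))) (.node (.node (.node
    (.node (.node (.node (.leaf (nat_lit 28)) (.leaf (nat_lit 1052))) (.leaf (nat_lit 540))) (.node
    (.leaf (nat_lit 284)) (.leaf (nat_lit 796)))) (.node (.node (.leaf (nat_lit 156)) (.leaf
    (nat_lit 668))) (.node (.leaf (nat_lit 412)) (.leaf (nat_lit 924))))) (.node (.node (.node
    (.leaf (nat_lit 92)) (.leaf (nat_lit 604))) (.node (.leaf (nat_lit 348)) (.leaf (nat_lit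
    860)))) (.node (.node (.leaf (nat_lit 220)) (.leaf (nat_lit 732))) (.node (.leaf (nat_lit 476))
    (.leaf (nat_lit 988)))))) (.node (.node (.node (.node (.node (.leaf (nat_lit 60)) (.leaf
    (nat_lit 1084))) (.leaf (nat_lit 572))) (.node (.leaf (nat_lit 316)) (.leaf (nat_lit 828))))
    (.node (.node (.leaf (nat_lit 188)) (.leaf (nat_lit 700))) (.node (.leaf (nat_lit 444)) (.leaf
    (nat_lit 956))))) (.node (.node (.node (.leaf (nat_lit 124)) (.leaf (nat_lit 636))) (.node
    (.leaf (nat_lit 380)) (.leaf (nat_lit 892)))) (.node (.node (.leaf (nat_lit 252)) (.leaf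
    (nat_lit 764))) (.node (.leaf (nat_lit 508)) (.leaf (nat_lit 1020)))))))))) (.node (.node
    (.node (.node (.node (.node (.node (.node (.node (.leaf (nat_lit 2)) (.leaf (nat_lit 1026)))
    (.leaf (nat_lit 514))) (.node (.leaf (nat_lit 258)) (.leaf (nat_lit 770)))) (.node (.node
    (.leaf (nat_lit 130)) (.leaf (nat_lit 642))) (.node (.leaf (nat_lit 386)) (.leaf (nat_lit
    898))))) (.node (.node (.node (.node (.leaf (nat_lit 66)) (.leaf (nat_lit 1090))) (.leaf
    (nat_lit 578))) (.node (.leaf (nat_lit 322)) (.leaf (nat_lit 834)))) (.node (.node (.leaf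
    (nat_lit 194)) (.leaf (nat_lit 706))) (.node (.leaf (nat_lit 450)) (.leaf (nat_lit 962))))))
    (.node (.node (.node (.node (.node (.leaf (nat_lit 34)) (.leaf (nat_lit 1058))) (.leaf (nat_lit
    546))) (.node (.leaf (nat_lit 290)) (.leaf (nat_lit 802)))) (.node (.node (.leaf (nat_lit 162))
    (.leaf (nat_lit 674))) (.node (.leaf (nat_lit 418)) (.leaf (nat_lit 930))))) (.node (.node
    (.node (.leaf (nat_lit 98)) (.leaf (nat_lit 610))) (.node (.leaf (nat_lit 354)) (.leaf (nat_lit
    866)))) (.node (.node (.leaf (nat_lit 226)) (.leaf (nat_lit 738))) (.node (.leaf (nat_lit 482))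
    (.leaf (nat_lit 994))))))) (.node (.node (.node (.node (.node (.node (.leaf (nat_lit 18))
    (.leaf (nat_lit 1042))) (.leaf (nat_lit 530))) (.node (.leaf (nat_lit 274)) (.leaf (nat_lit
    786)))) (.node (.node (.leaf (nat_lit 146)) (.leaf (nat_lit 658))) (.node (.leaf (nat_lit 402))
    (.leaf (nat_lit 914))))) (.node (.node (.node (.leaf (nat_lit 82)) (.leaf (nat_lit 594)))
    (.node (.leaf (nat_lit 338)) (.leaf (nat_lit 850)))) (.node (.node (.leaf (nat_lit 210)) (.leaf
    (nat_lit 722))) (.node (.leaf (nat_lit 466)) (.leaf (nat_lit 978)))))) (.node (.node (.node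
    (.node (.node (.leaf (nat_lit 50)) (.leaf (nat_lit 1074))) (.leaf (nat_lit 562))) (.node (.leaf
    (nat_lit 306)) (.leaf (nat_lit 818)))) (.node (.node (.leaf (nat_lit 178)) (.leaf (nat_lit
    690))) (.node (.leaf (nat_lit 434)) (.leaf (nat_lit 946))))) (.node (.node (.node (.leaf
    (nat_lit 114)) (.leaf (nat_lit 626))) (.node (.leaf (nat_lit 370)) (.leaf (nat_lit 882))))
    (.node (.node (.leaf (nat_lit 242)) (.leaf (nat_lit 754))) (.node (.leaf (nat_lit 498)) (.leaf
    (nat_lit 1010)))))))) (.node (.node (.node (.node (.node (.node (.node (.leaf (nat_lit 10))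
    (.leaf (nat_lit 1034))) (.leaf (nat_lit 522))) (.node (.leaf (nat_lit 266)) (.leaf (nat_lit
    778)))) (.node (.node (.leaf (nat_lit 138)) (.leaf (nat_lit 650))) (.node (.leaf (nat_lit 394))
    (.leaf (nat_lit 906))))) (.node (.node (.node (.node (.leaf (nat_lit 74)) (.leaf (nat_lit
    1098))) (.leaf (nat_lit 586))) (.node (.leaf (nat_lit 330)) (.leaf (nat_lit 842)))) (.node
    (.node (.leaf (nat_lit 202)) (.leaf (nat_lit 714))) (.node (.leaf (nat_lit 458)) (.leaf
    (nat_lit 970)))))) (.node (.node (.node (.node (.node (.leaf (nat_lit 42)) (.leaf (nat_lit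
    1066))) (.leaf (nat_lit 554))) (.node (.leaf (nat_lit 298)) (.leaf (nat_lit 810)))) (.node
    (.node (.leaf (nat_lit 170)) (.leaf (nat_lit 682))) (.node (.leaf (nat_lit 426)) (.leaf
    (nat_lit 938))))) (.node (.node (.node (.leaf (nat_lit 106)) (.leaf (nat_lit 618))) (.node
    (.leaf (nat_lit 362)) (.leaf (nat_lit 874)))) (.node (.node (.leaf (nat_lit 234)) (.leaf
    (nat_lit 746))) (.node (.leaf (nat_lit 490)) (.leaf (nat_lit 1002))))))) (.node (.node (.node
    (.node (.node (.node (.leaf (nat_lit 26)) (.leaf (nat_lit 1050))) (.leaf (nat_lit 538))) (.node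
    (.leaf (nat_lit 282)) (.leaf (nat_lit 794)))) (.node (.node (.leaf (nat_lit 154)) (.leaf
    (nat_lit 666))) (.node (.leaf (nat_lit 410)) (.leaf (nat_lit 922))))) (.node (.node (.node
    (.leaf (nat_lit 90)) (.leaf (nat_lit 602))) (.node (.leaf (nat_lit 346)) (.leaf (nat_lit
    858)))) (.node (.node (.leaf (nat_lit 218)) (.leaf (nat_lit 730))) (.node (.leaf (nat_lit 474))
    (.leaf (nat_lit 986)))))) (.node (.node (.node (.node (.node (.leaf (nat_lit 58)) (.leaf
    (nat_lit 1082))) (.leaf (nat_lit 570))) (.node (.leaf (nat_lit 314)) (.leaf (nat_lit 826))))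
    (.node (.node (.leaf (nat_lit 186)) (.leaf (nat_lit 698))) (.node (.leaf (nat_lit 442)) (.leaf
    (nat_lit 954))))) (.node (.node (.node (.leaf (nat_lit 122)) (.leaf (nat_lit 634))) (.node
    (.leaf (nat_lit 378)) (.leaf (nat_lit 890)))) (.node (.node (.leaf (nat_lit 250)) (.leaf
    (nat_lit 762))) (.node (.leaf (nat_lit 506)) (.leaf (nat_lit 1018))))))))) (.node (.node (.node
    (.node (.node (.node (.node (.node (.leaf (nat_lit 6)) (.leaf (nat_lit 1030))) (.leaf (nat_lit
    518))) (.node (.leaf (nat_lit 262)) (.leaf (nat_lit 774)))) (.node (.node (.leaf (nat_lit 134))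
    (.leaf (nat_lit 646))) (.node (.leaf (nat_lit 390)) (.leaf (nat_lit 902))))) (.node (.node
    (.node (.node (.leaf (nat_lit 70)) (.leaf (nat_lit 1094))) (.leaf (nat_lit 582))) (.node (.leaf
    (nat_lit 326)) (.leaf (nat_lit 838)))) (.node (.node (.leaf (nat_lit 198)) (.leaf (nat_lit
    710))) (.node (.leaf (nat_lit 454)) (.leaf (nat_lit 966)))))) (.node (.node (.node (.node
    (.node (.leaf (nat_lit 38)) (.leaf (nat_lit 1062))) (.leaf (nat_lit 550))) (.node (.leaf
    (nat_lit 294)) (.leaf (nat_lit 806)))) (.node (.node (.leaf (nat_lit 166)) (.leaf (nat_lit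
    678))) (.node (.leaf (nat_lit 422)) (.leaf (nat_lit 934))))) (.node (.node (.node (.leaf
    (nat_lit 102)) (.leaf (nat_lit 614))) (.node (.leaf (nat_lit 358)) (.leaf (nat_lit 870))))
    (.node (.node (.leaf (nat_lit 230)) (.leaf (nat_lit 742))) (.node (.leaf (nat_lit 486)) (.leaf
    (nat_lit 998))))))) (.node (.node (.node (.node (.node (.node (.leaf (nat_lit 22)) (.leaf
    (nat_lit 1046))) (.leaf (nat_lit 534))) (.node (.leaf (nat_lit 278)) (.leaf (nat_lit 790))))
    (.node (.node (.leaf (nat_lit 150)) (.leaf (nat_lit 662))) (.node (.leaf (nat_lit 406)) (.leaf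
    (nat_lit 918))))) (.node (.node (.node (.leaf (nat_lit 86)) (.leaf (nat_lit 598))) (.node
    (.leaf (nat_lit 342)) (.leaf (nat_lit 854)))) (.node (.node (.leaf (nat_lit 214)) (.leaf
    (nat_lit 726))) (.node (.leaf (nat_lit 470)) (.leaf (nat_lit 982)))))) (.node (.node (.node
    (.node (.node (.leaf (nat_lit 54)) (.leaf (nat_lit 1078))) (.leaf (nat_lit 566))) (.node (.leaf
    (nat_lit 310)) (.leaf (nat_lit 822)))) (.node (.node (.leaf (nat_lit 182)) (.leaf (nat_lit
    694))) (.node (.leaf (nat_lit 438)) (.leaf (nat_lit 950))))) (.node (.node (.node (.leaf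
    (nat_lit 118)) (.leaf (nat_lit 630))) (.node (.leaf (nat_lit 374)) (.leaf (nat_lit 886))))
    (.node (.node (.leaf (nat_lit 246)) (.leaf (nat_lit 758))) (.node (.leaf (nat_lit 502)) (.leaf
    (nat_lit 1014)))))))) (.node (.node (.node (.node (.node (.node (.node (.leaf (nat_lit 14))
    (.leaf (nat_lit 1038))) (.leaf (nat_lit 526))) (.node (.leaf (nat_lit 270)) (.leaf (nat_lit
    782)))) (.node (.node (.leaf (nat_lit 142)) (.leaf (nat_lit 654))) (.node (.leaf (nat_lit 398))
    (.leaf (nat_lit 910))))) (.node (.node (.node (.leaf (nat_lit 78)) (.leaf (nat_lit 590)))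
    (.node (.leaf (nat_lit 334)) (.leaf (nat_lit 846)))) (.node (.node (.leaf (nat_lit 206)) (.leaf
    (nat_lit 718))) (.node (.leaf (nat_lit 462)) (.leaf (nat_lit 974)))))) (.node (.node (.node
    (.node (.node (.leaf (nat_lit 46)) (.leaf (nat_lit 1070))) (.leaf (nat_lit 558))) (.node (.leaf
    (nat_lit 302)) (.leaf (nat_lit 814)))) (.node (.node (.leaf (nat_lit 174)) (.leaf (nat_lit
    686))) (.node (.leaf (nat_lit 430)) (.leaf (nat_lit 942))))) (.node (.node (.node (.leaf
    (nat_lit 110)) (.leaf (nat_lit 622))) (.node (.leaf (nat_lit 366)) (.leaf (nat_lit 878))))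
    (.node (.node (.leaf (nat_lit 238)) (.leaf (nat_lit 750))) (.node (.leaf (nat_lit 494)) (.leaf
    (nat_lit 1006))))))) (.node (.node (.node (.node (.node (.node (.leaf (nat_lit 30)) (.leaf
    (nat_lit 1054))) (.leaf (nat_lit 542))) (.node (.leaf (nat_lit 286)) (.leaf (nat_lit 798))))
    (.node (.node (.leaf (nat_lit 158)) (.leaf (nat_lit 670))) (.node (.leaf (nat_lit 414)) (.leaf
    (nat_lit 926))))) (.node (.node (.node (.leaf (nat_lit 94)) (.leaf (nat_lit 606))) (.node
    (.leaf (nat_lit 350)) (.leaf (nat_lit 862)))) (.node (.node (.leaf (nat_lit 222)) (.leaf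
    (nat_lit 734))) (.node (.leaf (nat_lit 478)) (.leaf (nat_lit 990)))))) (.node (.node (.node
    (.node (.node (.leaf (nat_lit 62)) (.leaf (nat_lit 1086))) (.leaf (nat_lit 574))) (.node (.leaf
    (nat_lit 318)) (.leaf (nat_lit 830)))) (.node (.node (.leaf (nat_lit 190)) (.leaf (nat_lit
    702))) (.node (.leaf (nat_lit 446)) (.leaf (nat_lit 958))))) (.node (.node (.node (.leaf
    (nat_lit 126)) (.leaf (nat_lit 638))) (.node (.leaf (nat_lit 382)) (.leaf (nat_lit 894))))
    (.node (.node (.leaf (nat_lit 254)) (.leaf (nat_lit 766))) (.node (.leaf (nat_lit 510)) (.leaf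
    (nat_lit 1022))))))))))) (.node (.node (.node (.node (.node (.node (.node (.node (.node (.node
    (.leaf (nat_lit 1)) (.leaf (nat_lit 1025))) (.leaf (nat_lit 513))) (.node (.leaf (nat_lit 257))
    (.leaf (nat_lit 769)))) (.node (.node (.leaf (nat_lit 129)) (.leaf (nat_lit 641))) (.node
    (.leaf (nat_lit 385)) (.leaf (nat_lit 897))))) (.node (.node (.node (.node (.leaf (nat_lit 65))
    (.leaf (nat_lit 1089))) (.leaf (nat_lit 577))) (.node (.leaf (nat_lit 321)) (.leaf (nat_lit
    833)))) (.node (.node (.leaf (nat_lit 193)) (.leaf (nat_lit 705))) (.node (.leaf (nat_lit 449))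
    (.leaf (nat_lit 961)))))) (.node (.node (.node (.node (.node (.leaf (nat_lit 33)) (.leaf
    (nat_lit 1057))) (.leaf (nat_lit 545))) (.node (.leaf (nat_lit 289)) (.leaf (nat_lit 801))))
    (.node (.node (.leaf (nat_lit 161)) (.leaf (nat_lit 673))) (.node (.leaf (nat_lit 417)) (.leaf
    (nat_lit 929))))) (.node (.node (.node (.leaf (nat_lit 97)) (.leaf (nat_lit 609))) (.node
    (.leaf (nat_lit 353)) (.leaf (nat_lit 865)))) (.node (.node (.leaf (nat_lit 225)) (.leaf
    (nat_lit 737))) (.node (.leaf (nat_lit 481)) (.leaf (nat_lit 993))))))) (.node (.node (.node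
    (.node (.node (.node (.leaf (nat_lit 17)) (.leaf (nat_lit 1041))) (.leaf (nat_lit 529))) (.node
    (.leaf (nat_lit 273)) (.leaf (nat_lit 785)))) (.node (.node (.leaf (nat_lit 145)) (.leaf
    (nat_lit 657))) (.node (.leaf (nat_lit 401)) (.leaf (nat_lit 913))))) (.node (.node (.node
    (.leaf (nat_lit 81)) (.leaf (nat_lit 593))) (.node (.leaf (nat_lit 337)) (.leaf (nat_lit
    849)))) (.node (.node (.leaf (nat_lit 209)) (.leaf (nat_lit 721))) (.node (.leaf (nat_lit 465))
    (.leaf (nat_lit 977)))))) (.node (.node (.node (.node (.node (.leaf (nat_lit 49)) (.leaf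
    (nat_lit 1073))) (.leaf (nat_lit 561))) (.node (.leaf (nat_lit 305)) (.leaf (nat_lit 817))))
    (.node (.node (.leaf (nat_lit 177)) (.leaf (nat_lit 689))) (.node (.leaf (nat_lit 433)) (.leaf
    (nat_lit 945))))) (.node (.node (.node (.leaf (nat_lit 113)) (.leaf (nat_lit 625))) (.node
    (.leaf (nat_lit 369)) (.leaf (nat_lit 881)))) (.node (.node (.leaf (nat_lit 241)) (.leaf
    (nat_lit 753))) (.node (.leaf (nat_lit 497)) (.leaf (nat_lit 1009)))))))) (.node (.node (.node
    (.node (.node (.node (.node (.leaf (nat_lit 9)) (.leaf (nat_lit 1033))) (.leaf (nat_lit 521)))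
    (.node (.leaf (nat_lit 265)) (.leaf (nat_lit 777)))) (.node (.node (.leaf (nat_lit 137)) (.leaf
    (nat_lit 649))) (.node (.leaf (nat_lit 393)) (.leaf (nat_lit 905))))) (.node (.node (.node
    (.node (.leaf (nat_lit 73)) (.leaf (nat_lit 1097))) (.leaf (nat_lit 585))) (.node (.leaf
    (nat_lit 329)) (.leaf (nat_lit 841)))) (.node (.node (.leaf (nat_lit 201)) (.leaf (nat_lit
    713))) (.node (.leaf (nat_lit 457)) (.leaf (nat_lit 969)))))) (.node (.node (.node (.node
    (.node (.leaf (nat_lit 41)) (.leaf (nat_lit 1065))) (.leaf (nat_lit 553))) (.node (.leaf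
    (nat_lit 297)) (.leaf (nat_lit 809)))) (.node (.node (.leaf (nat_lit 169)) (.leaf (nat_lit
    681))) (.node (.leaf (nat_lit 425)) (.leaf (nat_lit 937))))) (.node (.node (.node (.leaf
    (nat_lit 105)) (.leaf (nat_lit 617))) (.node (.leaf (nat_lit 361)) (.leaf (nat_lit 873))))
    (.node (.node (.leaf (nat_lit 233)) (.leaf (nat_lit 745))) (.node (.leaf (nat_lit 489)) (.leaf
    (nat_lit 1001))))))) (.node (.node (.node (.node (.node (.node (.leaf (nat_lit 25)) (.leaf
    (nat_lit 1049))) (.leaf (nat_lit 537))) (.node (.leaf (nat_lit 281)) (.leaf (nat_lit 793))))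
    (.node (.node (.leaf (nat_lit 153)) (.leaf (nat_lit 665))) (.node (.leaf (nat_lit 409)) (.leaf
    (nat_lit 921))))) (.node (.node (.node (.leaf (nat_lit 89)) (.leaf (nat_lit 601))) (.node
    (.leaf (nat_lit 345)) (.leaf (nat_lit 857)))) (.node (.node (.leaf (nat_lit 217)) (.leaf
    (nat_lit 729))) (.node (.leaf (nat_lit 473)) (.leaf (nat_lit 985)))))) (.node (.node (.node
    (.node (.node (.leaf (nat_lit 57)) (.leaf (nat_lit 1081))) (.leaf (nat_lit 569))) (.node (.leaf
    (nat_lit 313)) (.leaf (nat_lit 825)))) (.node (.node (.leaf (nat_lit 185)) (.leaf (nat_lit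
    697))) (.node (.leaf (nat_lit 441)) (.leaf (nat_lit 953))))) (.node (.node (.node (.leaf
    (nat_lit 121)) (.leaf (nat_lit 633))) (.node (.leaf (nat_lit 377)) (.leaf (nat_lit 889))))
    (.node (.node (.leaf (nat_lit 249)) (.leaf (nat_lit 761))) (.node (.leaf (nat_lit 505)) (.leaf
    (nat_lit 1017))))))))) (.node (.node (.node (.node (.node (.node (.node (.node (.leaf (nat_lit
    5)) (.leaf (nat_lit 1029))) (.leaf (nat_lit 517))) (.node (.leaf (nat_lit 261)) (.leaf (nat_lit
    773)))) (.node (.node (.leaf (nat_lit 133)) (.leaf (nat_lit 645))) (.node (.leaf (nat_lit 389))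
    (.leaf (nat_lit 901))))) (.node (.node (.node (.node (.leaf (nat_lit 69)) (.leaf (nat_lit
    1093))) (.leaf (nat_lit 581))) (.node (.leaf (nat_lit 325)) (.leaf (nat_lit 837)))) (.node
    (.node (.leaf (nat_lit 197)) (.leaf (nat_lit 709))) (.node (.leaf (nat_lit 453)) (.leaf
    (nat_lit 965)))))) (.node (.node (.node (.node (.node (.leaf (nat_lit 37)) (.leaf (nat_lit
    1061))) (.leaf (nat_lit 549))) (.node (.leaf (nat_lit 293)) (.leaf (nat_lit 805)))) (.node
    (.node (.leaf (nat_lit 165)) (.leaf (nat_lit 677))) (.node (.leaf (nat_lit 421)) (.leaf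
    (nat_lit 933))))) (.node (.node (.node (.leaf (nat_lit 101)) (.leaf (nat_lit 613))) (.node
    (.leaf (nat_lit 357)) (.leaf (nat_lit 869)))) (.node (.node (.leaf (nat_lit 229)) (.leaf
    (nat_lit 741))) (.node (.leaf (nat_lit 485)) (.leaf (nat_lit 997))))))) (.node (.node (.node
    (.node (.node (.node (.leaf (nat_lit 21)) (.leaf (nat_lit 1045))) (.leaf (nat_lit 533))) (.node
    (.leaf (nat_lit 277)) (.leaf (nat_lit 789)))) (.node (.node (.leaf (nat_lit 149)) (.leaf
    (nat_lit 661))) (.node (.leaf (nat_lit 405)) (.leaf (nat_lit 917))))) (.node (.node (.node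
    (.leaf (nat_lit 85)) (.leaf (nat_lit 597))) (.node (.leaf (nat_lit 341)) (.leaf (nat_lit
    853)))) (.node (.node (.leaf (nat_lit 213)) (.leaf (nat_lit 725))) (.node (.leaf (nat_lit 469))
    (.leaf (nat_lit 981)))))) (.node (.node (.node (.node (.node (.leaf (nat_lit 53)) (.leaf
    (nat_lit 1077))) (.leaf (nat_lit 565))) (.node (.leaf (nat_lit 309)) (.leaf (nat_lit 821))))
    (.node (.node (.leaf (nat_lit 181)) (.leaf (nat_lit 693))) (.node (.leaf (nat_lit 437)) (.leaf
    (nat_lit 949))))) (.node (.node (.node (.leaf (nat_lit 117)) (.leaf (nat_lit 629))) (.node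
    (.leaf (nat_lit 373)) (.leaf (nat_lit 885)))) (.node (.node (.leaf (nat_lit 245)) (.leaf
    (nat_lit 757))) (.node (.leaf (nat_lit 501)) (.leaf (nat_lit 1013)))))))) (.node (.node (.node
    (.node (.node (.node (.node (.leaf (nat_lit 13)) (.leaf (nat_lit 1037))) (.leaf (nat_lit 525)))
    (.node (.leaf (nat_lit 269)) (.leaf (nat_lit 781)))) (.node (.node (.leaf (nat_lit 141)) (.leaf
    (nat_lit 653))) (.node (.leaf (nat_lit 397)) (.leaf (nat_lit 909))))) (.node (.node (.node
    (.leaf (nat_lit 77)) (.leaf (nat_lit 589))) (.node (.leaf (nat_lit 333)) (.leaf (nat_lit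
    845)))) (.node (.node (.leaf (nat_lit 205)) (.leaf (nat_lit 717))) (.node (.leaf (nat_lit 461))
    (.leaf (nat_lit 973)))))) (.node (.node (.node (.node (.node (.leaf (nat_lit 45)) (.leaf
    (nat_lit 1069))) (.leaf (nat_lit 557))) (.node (.leaf (nat_lit 301)) (.leaf (nat_lit 813))))
    (.node (.node (.leaf (nat_lit 173)) (.leaf (nat_lit 685))) (.node (.leaf (nat_lit 429)) (.leaf
    (nat_lit 941))))) (.node (.node (.node (.leaf (nat_lit 109)) (.leaf (nat_lit 621))) (.node
    (.leaf (nat_lit 365)) (.leaf (nat_lit 877)))) (.node (.node (.leaf (nat_lit 237)) (.leaf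
    (nat_lit 749))) (.node (.leaf (nat_lit 493)) (.leaf (nat_lit 1005))))))) (.node (.node (.node
    (.node (.node (.node (.leaf (nat_lit 29)) (.leaf (nat_lit 1053))) (.leaf (nat_lit 541))) (.node
    (.leaf (nat_lit 285)) (.leaf (nat_lit 797)))) (.node (.node (.leaf (nat_lit 157)) (.leaf
    (nat_lit 669))) (.node (.leaf (nat_lit 413)) (.leaf (nat_lit 925))))) (.node (.node (.node
    (.leaf (nat_lit 93)) (.leaf (nat_lit 605))) (.node (.leaf (nat_lit 349)) (.leaf (nat_lit
    861)))) (.node (.node (.leaf (nat_lit 221)) (.leaf (nat_lit 733))) (.node (.leaf (nat_lit 477))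
    (.leaf (nat_lit 989)))))) (.node (.node (.node (.node (.node (.leaf (nat_lit 61)) (.leaf
    (nat_lit 1085))) (.leaf (nat_lit 573))) (.node (.leaf (nat_lit 317)) (.leaf (nat_lit 829))))
    (.node (.node (.leaf (nat_lit 189)) (.leaf (nat_lit 701))) (.node (.leaf (nat_lit 445)) (.leaf
    (nat_lit 957))))) (.node (.node (.node (.leaf (nat_lit 125)) (.leaf (nat_lit 637))) (.node
    (.leaf (nat_lit 381)) (.leaf (nat_lit 893)))) (.node (.node (.leaf (nat_lit 253)) (.leaf
    (nat_lit 765))) (.node (.leaf (nat_lit 509)) (.leaf (nat_lit 1021)))))))))) (.node (.node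
    (.node (.node (.node (.node (.node (.node (.node (.leaf (nat_lit 3)) (.leaf (nat_lit 1027)))
    (.leaf (nat_lit 515))) (.node (.leaf (nat_lit 259)) (.leaf (nat_lit 771)))) (.node (.node
    (.leaf (nat_lit 131)) (.leaf (nat_lit 643))) (.node (.leaf (nat_lit 387)) (.leaf (nat_lit
    899))))) (.node (.node (.node (.node (.leaf (nat_lit 67)) (.leaf (nat_lit 1091))) (.leaf
    (nat_lit 579))) (.node (.leaf (nat_lit 323)) (.leaf (nat_lit 835)))) (.node (.node (.leaf
    (nat_lit 195)) (.leaf (nat_lit 707))) (.node (.leaf (nat_lit 451)) (.leaf (nat_lit 963))))))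
    (.node (.node (.node (.node (.node (.leaf (nat_lit 35)) (.leaf (nat_lit 1059))) (.leaf (nat_lit
    547))) (.node (.leaf (nat_lit 291)) (.leaf (nat_lit 803)))) (.node (.node (.leaf (nat_lit 163))
    (.leaf (nat_lit 675))) (.node (.leaf (nat_lit 419)) (.leaf (nat_lit 931))))) (.node (.node
    (.node (.leaf (nat_lit 99)) (.leaf (nat_lit 611))) (.node (.leaf (nat_lit 355)) (.leaf (nat_lit
    867)))) (.node (.node (.leaf (nat_lit 227)) (.leaf (nat_lit 739))) (.node (.leaf (nat_lit 483))
    (.leaf (nat_lit 995))))))) (.node (.node (.node (.node (.node (.node (.leaf (nat_lit 19))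
    (.leaf (nat_lit 1043))) (.leaf (nat_lit 531))) (.node (.leaf (nat_lit 275)) (.leaf (nat_lit
    787)))) (.node (.node (.leaf (nat_lit 147)) (.leaf (nat_lit 659))) (.node (.leaf (nat_lit 403))
    (.leaf (nat_lit 915))))) (.node (.node (.node (.leaf (nat_lit 83)) (.leaf (nat_lit 595)))
    (.node (.leaf (nat_lit 339)) (.leaf (nat_lit 851)))) (.node (.node (.leaf (nat_lit 211)) (.leaf
    (nat_lit 723))) (.node (.leaf (nat_lit 467)) (.leaf (nat_lit 979)))))) (.node (.node (.node
    (.node (.node (.leaf (nat_lit 51)) (.leaf (nat_lit 1075))) (.leaf (nat_lit 563))) (.node (.leaf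
    (nat_lit 307)) (.leaf (nat_lit 819)))) (.node (.node (.leaf (nat_lit 179)) (.leaf (nat_lit
    691))) (.node (.leaf (nat_lit 435)) (.leaf (nat_lit 947))))) (.node (.node (.node (.leaf
    (nat_lit 115)) (.leaf (nat_lit 627))) (.node (.leaf (nat_lit 371)) (.leaf (nat_lit 883))))
    (.node (.node (.leaf (nat_lit 243)) (.leaf (nat_lit 755))) (.node (.leaf (nat_lit 499)) (.leaf
    (nat_lit 1011)))))))) (.node (.node (.node (.node (.node (.node (.node (.leaf (nat_lit 11))
    (.leaf (nat_lit 1035))) (.leaf (nat_lit 523))) (.node (.leaf (nat_lit 267)) (.leaf (nat_lit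
    779)))) (.node (.node (.leaf (nat_lit 139)) (.leaf (nat_lit 651))) (.node (.leaf (nat_lit 395))
    (.leaf (nat_lit 907))))) (.node (.node (.node (.node (.leaf (nat_lit 75)) (.leaf (nat_lit
    1099))) (.leaf (nat_lit 587))) (.node (.leaf (nat_lit 331)) (.leaf (nat_lit 843)))) (.node
    (.node (.leaf (nat_lit 203)) (.leaf (nat_lit 715))) (.node (.leaf (nat_lit 459)) (.leaf
    (nat_lit 971)))))) (.node (.node (.node (.node (.node (.leaf (nat_lit 43)) (.leaf (nat_lit
    1067))) (.leaf (nat_lit 555))) (.node (.leaf (nat_lit 299)) (.leaf (nat_lit 811)))) (.node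
    (.node (.leaf (nat_lit 171)) (.leaf (nat_lit 683))) (.node (.leaf (nat_lit 427)) (.leaf
    (nat_lit 939))))) (.node (.node (.node (.leaf (nat_lit 107)) (.leaf (nat_lit 619))) (.node
    (.leaf (nat_lit 363)) (.leaf (nat_lit 875)))) (.node (.node (.leaf (nat_lit 235)) (.leaf
    (nat_lit 747))) (.node (.leaf (nat_lit 491)) (.leaf (nat_lit 1003))))))) (.node (.node (.node
    (.node (.node (.node (.leaf (nat_lit 27)) (.leaf (nat_lit 1051))) (.leaf (nat_lit 539))) (.node
    (.leaf (nat_lit 283)) (.leaf (nat_lit 795)))) (.node (.node (.leaf (nat_lit 155)) (.leaf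
    (nat_lit 667))) (.node (.leaf (nat_lit 411)) (.leaf (nat_lit 923))))) (.node (.node (.node
    (.leaf (nat_lit 91)) (.leaf (nat_lit 603))) (.node (.leaf (nat_lit 347)) (.leaf (nat_lit
    859)))) (.node (.node (.leaf (nat_lit 219)) (.leaf (nat_lit 731))) (.node (.leaf (nat_lit 475))
    (.leaf (nat_lit 987)))))) (.node (.node (.node (.node (.node (.leaf (nat_lit 59)) (.leaf
    (nat_lit 1083))) (.leaf (nat_lit 571))) (.node (.leaf (nat_lit 315)) (.leaf (nat_lit 827))))
    (.node (.node (.leaf (nat_lit 187)) (.leaf (nat_lit 699))) (.node (.leaf (nat_lit 443)) (.leaf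
    (nat_lit 955))))) (.node (.node (.node (.leaf (nat_lit 123)) (.leaf (nat_lit 635))) (.node
    (.leaf (nat_lit 379)) (.leaf (nat_lit 891)))) (.node (.node (.leaf (nat_lit 251)) (.leaf
    (nat_lit 763))) (.node (.leaf (nat_lit 507)) (.leaf (nat_lit 1019))))))))) (.node (.node (.node
    (.node (.node (.node (.node (.node (.leaf (nat_lit 7)) (.leaf (nat_lit 1031))) (.leaf (nat_lit
    519))) (.node (.leaf (nat_lit 263)) (.leaf (nat_lit 775)))) (.node (.node (.leaf (nat_lit 135))
    (.leaf (nat_lit 647))) (.node (.leaf (nat_lit 391)) (.leaf (nat_lit 903))))) (.node (.node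
    (.node (.node (.leaf (nat_lit 71)) (.leaf (nat_lit 1095))) (.leaf (nat_lit 583))) (.node (.leaf
    (nat_lit 327)) (.leaf (nat_lit 839)))) (.node (.node (.leaf (nat_lit 199)) (.leaf (nat_lit
    711))) (.node (.leaf (nat_lit 455)) (.leaf (nat_lit 967)))))) (.node (.node (.node (.node
    (.node (.leaf (nat_lit 39)) (.leaf (nat_lit 1063))) (.leaf (nat_lit 551))) (.node (.leaf
    (nat_lit 295)) (.leaf (nat_lit 807)))) (.node (.node (.leaf (nat_lit 167)) (.leaf (nat_lit
    679))) (.node (.leaf (nat_lit 423)) (.leaf (nat_lit 935))))) (.node (.node (.node (.leaf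
    (nat_lit 103)) (.leaf (nat_lit 615))) (.node (.leaf (nat_lit 359)) (.leaf (nat_lit 871))))
    (.node (.node (.leaf (nat_lit 231)) (.leaf (nat_lit 743))) (.node (.leaf (nat_lit 487)) (.leaf
    (nat_lit 999))))))) (.node (.node (.node (.node (.node (.node (.leaf (nat_lit 23)) (.leaf
    (nat_lit 1047))) (.leaf (nat_lit 535))) (.node (.leaf (nat_lit 279)) (.leaf (nat_lit 791))))
    (.node (.node (.leaf (nat_lit 151)) (.leaf (nat_lit 663))) (.node (.leaf (nat_lit 407)) (.leaf
    (nat_lit 919))))) (.node (.node (.node (.leaf (nat_lit 87)) (.leaf (nat_lit 599))) (.node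
    (.leaf (nat_lit 343)) (.leaf (nat_lit 855)))) (.node (.node (.leaf (nat_lit 215)) (.leaf
    (nat_lit 727))) (.node (.leaf (nat_lit 471)) (.leaf (nat_lit 983)))))) (.node (.node (.node
    (.node (.node (.leaf (nat_lit 55)) (.leaf (nat_lit 1079))) (.leaf (nat_lit 567))) (.node (.leaf
    (nat_lit 311)) (.leaf (nat_lit 823)))) (.node (.node (.leaf (nat_lit 183)) (.leaf (nat_lit
    695))) (.node (.leaf (nat_lit 439)) (.leaf (nat_lit 951))))) (.node (.node (.node (.leaf
    (nat_lit 119)) (.leaf (nat_lit 631))) (.node (.leaf (nat_lit 375)) (.leaf (nat_lit 887))))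
    (.node (.node (.leaf (nat_lit 247)) (.leaf (nat_lit 759))) (.node (.leaf (nat_lit 503)) (.leaf
    (nat_lit 1015)))))))) (.node (.node (.node (.node (.node (.node (.node (.leaf (nat_lit 15))
    (.leaf (nat_lit 1039))) (.leaf (nat_lit 527))) (.node (.leaf (nat_lit 271)) (.leaf (nat_lit
    783)))) (.node (.node (.leaf (nat_lit 143)) (.leaf (nat_lit 655))) (.node (.leaf (nat_lit 399))
    (.leaf (nat_lit 911))))) (.node (.node (.node (.leaf (nat_lit 79)) (.leaf (nat_lit 591)))
    (.node (.leaf (nat_lit 335)) (.leaf (nat_lit 847)))) (.node (.node (.leaf (nat_lit 207)) (.leaf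
    (nat_lit 719))) (.node (.leaf (nat_lit 463)) (.leaf (nat_lit 975)))))) (.node (.node (.node
    (.node (.node (.leaf (nat_lit 47)) (.leaf (nat_lit 1071))) (.leaf (nat_lit 559))) (.node (.leaf
    (nat_lit 303)) (.leaf (nat_lit 815)))) (.node (.node (.leaf (nat_lit 175)) (.leaf (nat_lit
    687))) (.node (.leaf (nat_lit 431)) (.leaf (nat_lit 943))))) (.node (.node (.node (.leaf
    (nat_lit 111)) (.leaf (nat_lit 623))) (.node (.leaf (nat_lit 367)) (.leaf (nat_lit 879))))
    (.node (.node (.leaf (nat_lit 239)) (.leaf (nat_lit 751))) (.node (.leaf (nat_lit 495)) (.leaf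
    (nat_lit 1007))))))) (.node (.node (.node (.node (.node (.node (.leaf (nat_lit 31)) (.leaf
    (nat_lit 1055))) (.leaf (nat_lit 543))) (.node (.leaf (nat_lit 287)) (.leaf (nat_lit 799))))
    (.node (.node (.leaf (nat_lit 159)) (.leaf (nat_lit 671))) (.node (.leaf (nat_lit 415)) (.leaf
    (nat_lit 927))))) (.node (.node (.node (.leaf (nat_lit 95)) (.leaf (nat_lit 607))) (.node
    (.leaf (nat_lit 351)) (.leaf (nat_lit 863)))) (.node (.node (.leaf (nat_lit 223)) (.leaf
    (nat_lit 735))) (.node (.leaf (nat_lit 479)) (.leaf (nat_lit 991)))))) (.node (.node (.node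
    (.node (.node (.leaf (nat_lit 63)) (.leaf (nat_lit 1087))) (.leaf (nat_lit 575))) (.node (.leaf
    (nat_lit 319)) (.leaf (nat_lit 831)))) (.node (.node (.leaf (nat_lit 191)) (.leaf (nat_lit
    703))) (.node (.leaf (nat_lit 447)) (.leaf (nat_lit 959))))) (.node (.node (.node (.leaf
    (nat_lit 127)) (.leaf (nat_lit 639))) (.node (.leaf (nat_lit 383)) (.leaf (nat_lit 895))))
    (.node (.node (.leaf (nat_lit 255)) (.leaf (nat_lit 767))) (.node (.leaf (nat_lit 511)) (.leaf
    (nat_lit 1023))))))))))))

/-- Certificate data. -/
def tK_tb : Trie :=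
    (.node (.node (.node (.node (.node (.node (.node (.node (.node (.node (.node (.node (.node
    (.leaf (nat_lit 0)) (.leaf (nat_lit 11590397))) (.node (.leaf (nat_lit 15556633)) (.leaf
    (nat_lit 9802964)))) (.node (.node (.leaf (nat_lit 15262531)) (.leaf (nat_lit 13179753)))
    (.node (.leaf (nat_lit 9772428)) (.leaf (nat_lit 9261484))))) (.node (.node (.node (.leaf
    (nat_lit 5476238)) (.leaf (nat_lit 3737427))) (.node (.leaf (nat_lit 11015648)) (.leaf (nat_lit
    901596)))) (.node (.node (.leaf (nat_lit 12392728)) (.leaf (nat_lit 2163825))) (.node (.leaf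
    (nat_lit 2508991)) (.leaf (nat_lit 17753738)))))) (.node (.node (.node (.node (.leaf (nat_lit
    8556498)) (.leaf (nat_lit 13313215))) (.node (.leaf (nat_lit 1459040)) (.leaf (nat_lit
    15900879)))) (.node (.node (.leaf (nat_lit 5655122)) (.leaf (nat_lit 16556700))) (.node (.leaf
    (nat_lit 901591)) (.leaf (nat_lit 15228822))))) (.node (.node (.node (.leaf (nat_lit 12442012))
    (.leaf (nat_lit 6737382))) (.node (.leaf (nat_lit 10163143)) (.leaf (nat_lit 5163385)))) (.node
    (.node (.leaf (nat_lit 15310784)) (.leaf (nat_lit 6359961))) (.leaf (nat_lit 10015611))))))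
    (.node (.node (.node (.node (.node (.leaf (nat_lit 2114633)) (.leaf (nat_lit 16376338))) (.node
    (.leaf (nat_lit 17901349)) (.leaf (nat_lit 10901961)))) (.node (.node (.leaf (nat_lit 442803))
    (.leaf (nat_lit 12131538))) (.node (.leaf (nat_lit 12526103)) (.leaf (nat_lit 11409131)))))
    (.node (.node (.node (.leaf (nat_lit 10655007)) (.leaf (nat_lit 4065830))) (.node (.leaf
    (nat_lit 4001457)) (.leaf (nat_lit 4229172)))) (.node (.node (.leaf (nat_lit 4936071)) (.leaf
    (nat_lit 8343414))) (.leaf (nat_lit 3427367))))) (.node (.node (.node (.node (.leaf (nat_lit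
    8818822)) (.leaf (nat_lit 1622837))) (.node (.leaf (nat_lit 3671925)) (.leaf (nat_lit
    15344494)))) (.node (.node (.leaf (nat_lit 10015600)) (.leaf (nat_lit 131151))) (.node (.leaf
    (nat_lit 1426709)) (.leaf (nat_lit 15360040))))) (.node (.node (.node (.leaf (nat_lit
    12721746)) (.leaf (nat_lit 10523833))) (.node (.leaf (nat_lit 16081212)) (.leaf (nat_lit
    4803850)))) (.node (.node (.leaf (nat_lit 14786208)) (.leaf (nat_lit 10966467))) (.leaf
    (nat_lit 9655734))))))) (.node (.node (.node (.node (.node (.node (.leaf (nat_lit 1999874))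
    (.leaf (nat_lit 16048433))) (.node (.leaf (nat_lit 16605887)) (.leaf (nat_lit 11933677))))
    (.node (.node (.leaf (nat_lit 15771353)) (.leaf (nat_lit 11426388))) (.node (.leaf (nat_lit
    17163394)) (.leaf (nat_lit 11769747))))) (.node (.node (.node (.leaf (nat_lit 4674053)) (.leaf
    (nat_lit 9081130))) (.node (.leaf (nat_lit 5639296)) (.leaf (nat_lit 1967099)))) (.node (.node
    (.leaf (nat_lit 12327159)) (.leaf (nat_lit 3983326))) (.leaf (nat_lit 4147818))))) (.node
    (.node (.node (.node (.leaf (nat_lit 2754983)) (.leaf (nat_lit 262309))) (.node (.leaf (nat_lit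
    2819478)) (.leaf (nat_lit 17179783)))) (.node (.node (.leaf (nat_lit 4016109)) (.leaf (nat_lit
    17081388))) (.node (.leaf (nat_lit 1508095)) (.leaf (nat_lit 16655081))))) (.node (.node (.node
    (.leaf (nat_lit 12344416)) (.leaf (nat_lit 9474589))) (.node (.leaf (nat_lit 11212391)) (.leaf
    (nat_lit 4197210)))) (.node (.node (.leaf (nat_lit 12048666)) (.leaf (nat_lit 7605738))) (.leaf
    (nat_lit 4952885)))))) (.node (.node (.node (.node (.node (.leaf (nat_lit 3163703)) (.leaf
    (nat_lit 13476247))) (.node (.leaf (nat_lit 1327797)) (.leaf (nat_lit 15278002)))) (.node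
    (.node (.leaf (nat_lit 3294828)) (.leaf (nat_lit 16474715))) (.node (.leaf (nat_lit 14476653))
    (.leaf (nat_lit 12638656))))) (.node (.node (.node (.leaf (nat_lit 6313763)) (.leaf (nat_lit
    7999155))) (.node (.leaf (nat_lit 13901004)) (.leaf (nat_lit 7687709)))) (.node (.node (.leaf
    (nat_lit 10310697)) (.leaf (nat_lit 4082132))) (.leaf (nat_lit 12818996))))) (.node (.node
    (.node (.node (.leaf (nat_lit 12507490)) (.leaf (nat_lit 3442357))) (.node (.leaf (nat_lit
    6917235)) (.leaf (nat_lit 15263521)))) (.node (.node (.leaf (nat_lit 5819180)) (.leaf (nat_lit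
    918065))) (.node (.leaf (nat_lit 7146730)) (.leaf (nat_lit 14557928))))) (.node (.node (.node
    (.leaf (nat_lit 17737338)) (.leaf (nat_lit 11999249))) (.node (.leaf (nat_lit 13245357)) (.leaf
    (nat_lit 10474655)))) (.node (.node (.leaf (nat_lit 15146863)) (.leaf (nat_lit 9130554)))
    (.leaf (nat_lit 7428117)))))))) (.node (.node (.node (.node (.node (.node (.node (.leaf
    (nat_lit 1196642)) (.leaf (nat_lit 15966454))) (.node (.leaf (nat_lit 17245384)) (.leaf
    (nat_lit 12769819)))) (.node (.node (.leaf (nat_lit 17835741)) (.leaf (nat_lit 8689904)))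
    (.node (.leaf (nat_lit 10690232)) (.leaf (nat_lit 9868071))))) (.node (.node (.node (.leaf
    (nat_lit 5591239)) (.leaf (nat_lit 3246016))) (.node (.leaf (nat_lit 11654994)) (.leaf (nat_lit
    2016276)))) (.node (.node (.leaf (nat_lit 7687705)) (.leaf (nat_lit 3639060))) (.leaf (nat_lit
    4753794))))) (.node (.node (.node (.node (.leaf (nat_lit 4737245)) (.leaf (nat_lit 14657180)))
    (.node (.leaf (nat_lit 1246355)) (.leaf (nat_lit 13705139)))) (.node (.node (.leaf (nat_lit
    6835276)) (.leaf (nat_lit 15016572))) (.node (.leaf (nat_lit 442861)) (.leaf (nat_lit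
    14130491))))) (.node (.node (.node (.leaf (nat_lit 13130557)) (.leaf (nat_lit 6459132))) (.node
    (.leaf (nat_lit 9803013)) (.leaf (nat_lit 7146733)))) (.node (.node (.leaf (nat_lit 15736932))
    (.leaf (nat_lit 7425413))) (.leaf (nat_lit 12491100)))))) (.node (.node (.node (.node (.node
    (.leaf (nat_lit 4901128)) (.leaf (nat_lit 15441989))) (.node (.leaf (nat_lit 229519)) (.leaf
    (nat_lit 13097837)))) (.node (.node (.leaf (nat_lit 2458863)) (.leaf (nat_lit 17360159)))
    (.node (.leaf (nat_lit 15508402)) (.leaf (nat_lit 11605999))))) (.node (.node (.node (.leaf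
    (nat_lit 8541666)) (.leaf (nat_lit 5114620))) (.node (.leaf (nat_lit 7393225)) (.leaf (nat_lit
    5327327)))) (.node (.node (.leaf (nat_lit 12277971)) (.leaf (nat_lit 7228690))) (.leaf (nat_lit
    9327034))))) (.node (.node (.node (.node (.leaf (nat_lit 11048439)) (.leaf (nat_lit 1868735)))
    (.node (.leaf (nat_lit 4524173)) (.leaf (nat_lit 16262442)))) (.node (.node (.leaf (nat_lit
    5589573)) (.leaf (nat_lit 557376))) (.node (.leaf (nat_lit 5933772)) (.leaf (nat_lit
    16425529))))) (.node (.node (.node (.leaf (nat_lit 14622605)) (.leaf (nat_lit 10081274)))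
    (.node (.leaf (nat_lit 7707133)) (.leaf (nat_lit 6868531)))) (.node (.node (.leaf (nat_lit
    13982971)) (.leaf (nat_lit 7442665))) (.leaf (nat_lit 6264581))))))) (.node (.node (.node
    (.node (.node (.node (.leaf (nat_lit 1590049)) (.leaf (nat_lit 10001965))) (.node (.leaf
    (nat_lit 17130583)) (.leaf (nat_lit 12343552)))) (.node (.node (.leaf (nat_lit 754040)) (.leaf
    (nat_lit 16146789))) (.node (.leaf (nat_lit 12017839)) (.leaf (nat_lit 9606542))))) (.node
    (.node (.node (.leaf (nat_lit 7246693)) (.leaf (nat_lit 5048647))) (.node (.leaf (nat_lit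
    12589466)) (.leaf (nat_lit 3147313)))) (.node (.node (.leaf (nat_lit 10868099)) (.leaf (nat_lit
    3884970))) (.leaf (nat_lit 11392738))))) (.node (.node (.node (.node (.leaf (nat_lit 7081169))
    (.leaf (nat_lit 622980))) (.node (.leaf (nat_lit 1885795)) (.leaf (nat_lit 17671738)))) (.node
    (.node (.leaf (nat_lit 8884412)) (.leaf (nat_lit 17409500))) (.node (.leaf (nat_lit 1049623))
    (.leaf (nat_lit 13377341))))) (.node (.node (.node (.leaf (nat_lit 9428297)) (.leaf (nat_lit
    10736957))) (.node (.leaf (nat_lit 6461282)) (.leaf (nat_lit 7556559)))) (.node (.node (.leaf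
    (nat_lit 11491987)) (.leaf (nat_lit 7982763))) (.leaf (nat_lit 10638603)))))) (.node (.node
    (.node (.node (.node (.leaf (nat_lit 3704637)) (.leaf (nat_lit 15803166))) (.node (.leaf
    (nat_lit 524887)) (.leaf (nat_lit 16376336)))) (.node (.node (.leaf (nat_lit 4393060)) (.leaf
    (nat_lit 16983008))) (.node (.leaf (nat_lit 14624615)) (.leaf (nat_lit 11803338))))) (.node
    (.node (.node (.leaf (nat_lit 6740023)) (.leaf (nat_lit 5475535))) (.node (.leaf (nat_lit
    14212455)) (.leaf (nat_lit 6097711)))) (.node (.node (.leaf (nat_lit 9622884)) (.leaf (nat_lit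
    4983459))) (.leaf (nat_lit 6950766))))) (.node (.node (.node (.node (.leaf (nat_lit 7884403))
    (.leaf (nat_lit 2295220))) (.node (.leaf (nat_lit 4606451)) (.leaf (nat_lit 393439)))) (.node
    (.node (.leaf (nat_lit 8081125)) (.leaf (nat_lit 1983487))) (.node (.leaf (nat_lit 4999480))
    (.leaf (nat_lit 17196179))))) (.node (.node (.node (.leaf (nat_lit 16491112)) (.leaf (nat_lit
    10245800))) (.node (.leaf (nat_lit 8936603)) (.leaf (nat_lit 7475308)))) (.node (.node (.leaf
    (nat_lit 10805009)) (.leaf (nat_lit 9229182))) (.leaf (nat_lit 7756158))))))))) (.node (.node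
    (.node (.node (.node (.node (.node (.node (.leaf (nat_lit 557356)) (.leaf (nat_lit 17245374)))
    (.node (.leaf (nat_lit 15818885)) (.leaf (nat_lit 9016678)))) (.node (.node (.leaf (nat_lit
    17704535)) (.leaf (nat_lit 10770490))) (.node (.leaf (nat_lit 15999243)) (.leaf (nat_lit
    10655001))))) (.node (.node (.node (.leaf (nat_lit 4821019)) (.leaf (nat_lit 2852646))) (.node
    (.leaf (nat_lit 11327174)) (.leaf (nat_lit 1180253)))) (.node (.node (.leaf (nat_lit 3739007))
    (.leaf (nat_lit 4376670))) (.node (.leaf (nat_lit 7294272)) (.leaf (nat_lit 17327976))))))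
    (.node (.node (.node (.node (.leaf (nat_lit 4573345)) (.leaf (nat_lit 15230381))) (.node (.leaf
    (nat_lit 1033206)) (.leaf (nat_lit 17852138)))) (.node (.node (.leaf (nat_lit 1836619)) (.leaf
    (nat_lit 14475710))) (.node (.leaf (nat_lit 1475298)) (.leaf (nat_lit 13851836))))) (.node
    (.node (.node (.leaf (nat_lit 12868193)) (.leaf (nat_lit 6278762))) (.node (.leaf (nat_lit
    5313613)) (.leaf (nat_lit 3459573)))) (.node (.node (.leaf (nat_lit 15540240)) (.leaf (nat_lit
    6458356))) (.leaf (nat_lit 4477249)))))) (.node (.node (.node (.node (.node (.leaf (nat_lit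
    2901441)) (.leaf (nat_lit 15376358))) (.node (.leaf (nat_lit 14509859)) (.leaf (nat_lit
    12835473)))) (.node (.node (.leaf (nat_lit 492073)) (.leaf (nat_lit 16179589))) (.node (.leaf
    (nat_lit 16671476)) (.leaf (nat_lit 12786211))))) (.node (.node (.node (.leaf (nat_lit
    12359949)) (.leaf (nat_lit 5573248))) (.node (.leaf (nat_lit 4083515)) (.leaf (nat_lit
    2737771)))) (.node (.node (.leaf (nat_lit 9523781)) (.leaf (nat_lit 2951310))) (.leaf (nat_lit
    3558563))))) (.node (.node (.node (.node (.leaf (nat_lit 11851706)) (.leaf (nat_lit 1917911)))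
    (.node (.leaf (nat_lit 8195872)) (.leaf (nat_lit 15606856)))) (.node (.node (.leaf (nat_lit
    2787789)) (.leaf (nat_lit 491785))) (.node (.leaf (nat_lit 1557905)) (.leaf (nat_lit
    13312181))))) (.node (.node (.node (.leaf (nat_lit 15310787)) (.leaf (nat_lit 5968734))) (.node
    (.leaf (nat_lit 7231809)) (.leaf (nat_lit 8786029)))) (.node (.node (.leaf (nat_lit 13720713))
    (.leaf (nat_lit 9441801))) (.leaf (nat_lit 7984753))))))) (.node (.node (.node (.node (.node
    (.node (.leaf (nat_lit 1327795)) (.leaf (nat_lit 16032036))) (.node (.leaf (nat_lit 16868221))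
    (.leaf (nat_lit 11540420)))) (.node (.node (.leaf (nat_lit 81981)) (.leaf (nat_lit 11754288)))
    (.node (.leaf (nat_lit 15786106)) (.leaf (nat_lit 7591164))))) (.node (.node (.node (.leaf
    (nat_lit 7000751)) (.leaf (nat_lit 4851965))) (.node (.leaf (nat_lit 12441908)) (.leaf (nat_lit
    1836185)))) (.node (.node (.leaf (nat_lit 6770610)) (.leaf (nat_lit 4507780))) (.leaf (nat_lit
    10310708))))) (.node (.node (.node (.node (.leaf (nat_lit 10589410)) (.leaf (nat_lit 524569)))
    (.node (.leaf (nat_lit 3737428)) (.leaf (nat_lit 14999860)))) (.node (.node (.leaf (nat_lit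
    8638468)) (.leaf (nat_lit 17474947))) (.node (.leaf (nat_lit 1917920)) (.leaf (nat_lit
    16294360))))) (.node (.node (.node (.leaf (nat_lit 12557518)) (.leaf (nat_lit 9015555))) (.node
    (.leaf (nat_lit 6264552)) (.leaf (nat_lit 5180344)))) (.node (.node (.leaf (nat_lit 9591245))
    (.leaf (nat_lit 7589390))) (.leaf (nat_lit 6640590)))))) (.node (.node (.node (.node (.node
    (.leaf (nat_lit 6687762)) (.leaf (nat_lit 15295061))) (.node (.leaf (nat_lit 1803162)) (.leaf
    (nat_lit 17606151)))) (.node (.node (.leaf (nat_lit 3802990)) (.leaf (nat_lit 17966943)))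
    (.node (.leaf (nat_lit 13805139)) (.leaf (nat_lit 12130818))))) (.node (.node (.node (.leaf
    (nat_lit 10131358)) (.leaf (nat_lit 4885576))) (.node (.leaf (nat_lit 4592039)) (.leaf (nat_lit
    3770445)))) (.node (.node (.leaf (nat_lit 7263441)) (.leaf (nat_lit 4147774))) (.leaf (nat_lit
    13163354))))) (.node (.node (.node (.node (.leaf (nat_lit 10769751)) (.leaf (nat_lit 2671929)))
    (.node (.leaf (nat_lit 5114209)) (.leaf (nat_lit 131149)))) (.node (.node (.leaf (nat_lit
    9376215)) (.leaf (nat_lit 1753989))) (.node (.leaf (nat_lit 4589739)) (.leaf (nat_lit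
    16933819))))) (.node (.node (.node (.leaf (nat_lit 17917740)) (.leaf (nat_lit 14146881)))
    (.node (.leaf (nat_lit 8707108)) (.leaf (nat_lit 4755398)))) (.node (.node (.leaf (nat_lit
    15294397)) (.leaf (nat_lit 9605852))) (.leaf (nat_lit 12327156)))))))) (.node (.node (.node
    (.node (.node (.node (.node (.leaf (nat_lit 1606442)) (.leaf (nat_lit 8953009))) (.node (.leaf
    (nat_lit 12411365)) (.leaf (nat_lit 11671397)))) (.node (.node (.leaf (nat_lit 17016291))
    (.leaf (nat_lit 13786279))) (.node (.leaf (nat_lit 10886967)) (.leaf (nat_lit 11146803)))))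
    (.node (.node (.node (.leaf (nat_lit 4493665)) (.leaf (nat_lit 4556953))) (.node (.leaf
    (nat_lit 5835796)) (.leaf (nat_lit 2671931)))) (.node (.node (.leaf (nat_lit 7868051)) (.leaf
    (nat_lit 4524175))) (.leaf (nat_lit 9474600))))) (.node (.node (.node (.node (.leaf (nat_lit
    8638481)) (.leaf (nat_lit 3))) (.node (.leaf (nat_lit 1393918)) (.leaf (nat_lit 16917419))))
    (.node (.node (.leaf (nat_lit 7392628)) (.leaf (nat_lit 16819034))) (.node (.leaf (nat_lit
    557707)) (.leaf (nat_lit 16015638))))) (.node (.node (.node (.leaf (nat_lit 14163275)) (.leaf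
    (nat_lit 9687707))) (.node (.leaf (nat_lit 15081270)) (.leaf (nat_lit 4967104)))) (.node (.node
    (.leaf (nat_lit 14901004)) (.leaf (nat_lit 7638526))) (.leaf (nat_lit 7688832)))))) (.node
    (.node (.node (.node (.node (.leaf (nat_lit 2295222)) (.leaf (nat_lit 15048936))) (.node (.leaf
    (nat_lit 590141)) (.leaf (nat_lit 14786207)))) (.node (.node (.leaf (nat_lit 1753990)) (.leaf
    (nat_lit 12721750))) (.node (.leaf (nat_lit 15475850)) (.leaf (nat_lit 8607894))))) (.node
    (.node (.node (.leaf (nat_lit 13097764)) (.leaf (nat_lit 5344133))) (.node (.leaf (nat_lit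
    13589572)) (.leaf (nat_lit 3819389)))) (.node (.node (.leaf (nat_lit 10409088)) (.leaf (nat_lit
    5753467))) (.leaf (nat_lit 3804611))))) (.node (.node (.node (.node (.leaf (nat_lit 9687714))
    (.leaf (nat_lit 1967166))) (.node (.leaf (nat_lit 9310630)) (.leaf (nat_lit 16688675)))) (.node
    (.node (.leaf (nat_lit 10458267)) (.leaf (nat_lit 639409))) (.node (.leaf (nat_lit 3196546))
    (.leaf (nat_lit 14164513))))) (.node (.node (.node (.leaf (nat_lit 14983162)) (.leaf (nat_lit
    9622696))) (.node (.leaf (nat_lit 11475653)) (.leaf (nat_lit 6442678)))) (.node (.node (.leaf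
    (nat_lit 14802608)) (.leaf (nat_lit 5034376))) (.leaf (nat_lit 11736995))))))) (.node (.node
    (.node (.node (.node (.node (.leaf (nat_lit 3130917)) (.leaf (nat_lit 15835294))) (.node (.leaf
    (nat_lit 14132532)) (.leaf (nat_lit 10590492)))) (.node (.node (.leaf (nat_lit 1081884)) (.leaf
    (nat_lit 12344420))) (.node (.leaf (nat_lit 17606149)) (.leaf (nat_lit 10098226))))) (.node
    (.node (.node (.leaf (nat_lit 11818927)) (.leaf (nat_lit 4311466))) (.node (.leaf (nat_lit
    9327031)) (.leaf (nat_lit 1983850)))) (.node (.node (.leaf (nat_lit 5247211)) (.leaf (nat_lit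
    4032505))) (.leaf (nat_lit 11786138))))) (.node (.node (.node (.node (.leaf (nat_lit 6081321))
    (.leaf (nat_lit 1049097))) (.node (.leaf (nat_lit 6146895)) (.leaf (nat_lit 17524145)))) (.node
    (.node (.leaf (nat_lit 9638514)) (.leaf (nat_lit 15001307))) (.node (.leaf (nat_lit 4065290))
    (.leaf (nat_lit 15622191))))) (.node (.node (.node (.leaf (nat_lit 17606142)) (.leaf (nat_lit
    12310755))) (.node (.leaf (nat_lit 6641642)) (.leaf (nat_lit 5442690)))) (.node (.node (.leaf
    (nat_lit 12917617)) (.leaf (nat_lit 12638655))) (.leaf (nat_lit 9278765)))))) (.node (.node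
    (.node (.node (.node (.leaf (nat_lit 7818836)) (.leaf (nat_lit 17146991))) (.node (.leaf
    (nat_lit 721628)) (.leaf (nat_lit 17294577)))) (.node (.node (.leaf (nat_lit 5065038)) (.leaf
    (nat_lit 16720665))) (.node (.leaf (nat_lit 196735)) (.leaf (nat_lit 13163438))))) (.node
    (.node (.node (.leaf (nat_lit 16015635)) (.leaf (nat_lit 6655322))) (.node (.leaf (nat_lit
    14343590)) (.leaf (nat_lit 9720496)))) (.node (.node (.leaf (nat_lit 13737101)) (.leaf (nat_lit
    6409133))) (.leaf (nat_lit 5017578))))) (.node (.node (.node (.node (.leaf (nat_lit 4034297))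
    (.leaf (nat_lit 3278439))) (.node (.leaf (nat_lit 6950017)) (.leaf (nat_lit 868798)))) (.node
    (.node (.leaf (nat_lit 6900839)) (.leaf (nat_lit 2262189))) (.node (.leaf (nat_lit 8917184))
    (.leaf (nat_lit 17934153))))) (.node (.node (.node (.leaf (nat_lit 15803012)) (.leaf (nat_lit
    12786207))) (.node (.leaf (nat_lit 9149701)) (.leaf (nat_lit 4477202)))) (.node (.node (.leaf
    (nat_lit 17622539)) (.leaf (nat_lit 8836124))) (.leaf (nat_lit 11672101)))))))))) (.node (.node
    (.node (.node (.node (.node (.node (.node (.node (.leaf (nat_lit 147543)) (.leaf (nat_lit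
    8084327))) (.node (.leaf (nat_lit 15687755)) (.leaf (nat_lit 12507498)))) (.node (.node (.leaf
    (nat_lit 15016877)) (.leaf (nat_lit 13261751))) (.node (.leaf (nat_lit 17819344)) (.leaf
    (nat_lit 9704109))))) (.node (.node (.node (.leaf (nat_lit 8572902)) (.leaf (nat_lit 3589889)))
    (.node (.leaf (nat_lit 6032127)) (.leaf (nat_lit 688652)))) (.node (.node (.leaf (nat_lit
    4263225)) (.leaf (nat_lit 2885043))) (.node (.leaf (nat_lit 2574569)) (.leaf (nat_lit
    17491670)))))) (.node (.node (.node (.node (.leaf (nat_lit 2394183)) (.leaf (nat_lit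
    13493545))) (.node (.leaf (nat_lit 934827)) (.leaf (nat_lit 17442150)))) (.node (.node (.leaf
    (nat_lit 5900990)) (.leaf (nat_lit 17753735))) (.node (.leaf (nat_lit 1278616)) (.leaf (nat_lit
    14687834))))) (.node (.node (.node (.leaf (nat_lit 10361342)) (.leaf (nat_lit 7786053))) (.node
    (.leaf (nat_lit 11277998)) (.leaf (nat_lit 2951601)))) (.node (.node (.leaf (nat_lit 11392774))
    (.leaf (nat_lit 6491081))) (.leaf (nat_lit 4411619)))))) (.node (.node (.node (.node (.node
    (.leaf (nat_lit 2721109)) (.leaf (nat_lit 11083695))) (.node (.leaf (nat_lit 17786529)) (.leaf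
    (nat_lit 13048570)))) (.node (.node (.leaf (nat_lit 1475304)) (.leaf (nat_lit 10722570)))
    (.node (.leaf (nat_lit 16114307)) (.leaf (nat_lit 12950188))))) (.node (.node (.node (.leaf
    (nat_lit 10622209)) (.leaf (nat_lit 4491856))) (.node (.leaf (nat_lit 13212555)) (.leaf
    (nat_lit 2491952)))) (.node (.node (.leaf (nat_lit 9310680)) (.leaf (nat_lit 5655125))) (.leaf
    (nat_lit 12195976))))) (.node (.node (.node (.node (.leaf (nat_lit 7490985)) (.leaf (nat_lit
    1426138))) (.node (.leaf (nat_lit 7802444)) (.leaf (nat_lit 15737820)))) (.node (.node (.leaf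
    (nat_lit 5196167)) (.leaf (nat_lit 196731))) (.node (.leaf (nat_lit 4098071)) (.leaf (nat_lit
    17163385))))) (.node (.node (.node (.leaf (nat_lit 13754036)) (.leaf (nat_lit 5919494))) (.node
    (.leaf (nat_lit 7100655)) (.leaf (nat_lit 5786974)))) (.node (.node (.leaf (nat_lit 17458544))
    (.leaf (nat_lit 8917187))) (.leaf (nat_lit 15277998))))))) (.node (.node (.node (.node (.node
    (.node (.leaf (nat_lit 2163818)) (.leaf (nat_lit 17917734))) (.node (.leaf (nat_lit 16737059))
    (.leaf (nat_lit 13114169)))) (.node (.node (.leaf (nat_lit 15460193)) (.leaf (nat_lit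
    11393726))) (.node (.leaf (nat_lit 17179787)) (.leaf (nat_lit 8492202))))) (.node (.node (.node
    (.leaf (nat_lit 4772445)) (.leaf (nat_lit 4589735))) (.node (.leaf (nat_lit 4754644)) (.leaf
    (nat_lit 1606722)))) (.node (.node (.leaf (nat_lit 8999161)) (.leaf (nat_lit 3294848))) (.leaf
    (nat_lit 4508325))))) (.node (.node (.node (.node (.leaf (nat_lit 7736885)) (.leaf (nat_lit
    409829))) (.node (.leaf (nat_lit 3442364)) (.leaf (nat_lit 17392957)))) (.node (.node (.leaf
    (nat_lit 8359808)) (.leaf (nat_lit 15541385))) (.node (.leaf (nat_lit 787259)) (.leaf (nat_lit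
    13639259))))) (.node (.node (.node (.leaf (nat_lit 9378972)) (.leaf (nat_lit 4477034))) (.node
    (.leaf (nat_lit 10229423)) (.leaf (nat_lit 5524354)))) (.node (.node (.leaf (nat_lit 12065140))
    (.leaf (nat_lit 5508548))) (.leaf (nat_lit 12032037)))))) (.node (.node (.node (.node (.node
    (.leaf (nat_lit 2066020)) (.leaf (nat_lit 16228844))) (.node (.leaf (nat_lit 344451)) (.leaf
    (nat_lit 17737330)))) (.node (.node (.leaf (nat_lit 2081851)) (.leaf (nat_lit 13442874)))
    (.node (.leaf (nat_lit 16098791)) (.leaf (nat_lit 9099680))))) (.node (.node (.node (.leaf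
    (nat_lit 11687785)) (.leaf (nat_lit 7376241))) (.node (.leaf (nat_lit 7049572)) (.leaf (nat_lit
    6163291)))) (.node (.node (.leaf (nat_lit 7853193)) (.leaf (nat_lit 10376288))) (.leaf (nat_lit
    10097571))))) (.node (.node (.node (.node (.leaf (nat_lit 7212451)) (.leaf (nat_lit 2737503)))
    (.node (.leaf (nat_lit 5442067)) (.leaf (nat_lit 11)))) (.node (.node (.leaf (nat_lit
    11245196)) (.leaf (nat_lit 967308))) (.node (.leaf (nat_lit 2115409)) (.leaf (nat_lit
    16802637))))) (.node (.node (.node (.leaf (nat_lit 16392731)) (.leaf (nat_lit 8508812))) (.node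
    (.leaf (nat_lit 8379385)) (.leaf (nat_lit 6803346)))) (.node (.node (.leaf (nat_lit 17507745))
    (.leaf (nat_lit 8393334))) (.leaf (nat_lit 15950058)))))))) (.node (.node (.node (.node (.node
    (.node (.node (.leaf (nat_lit 295253)) (.leaf (nat_lit 13622424))) (.node (.leaf (nat_lit
    12345745)) (.leaf (nat_lit 10196586)))) (.node (.node (.leaf (nat_lit 15345000)) (.leaf
    (nat_lit 8476994))) (.node (.leaf (nat_lit 13967094)) (.leaf (nat_lit 5018464))))) (.node
    (.node (.node (.leaf (nat_lit 7426325)) (.leaf (nat_lit 5507623))) (.node (.leaf (nat_lit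
    3345377)) (.leaf (nat_lit 1360662)))) (.node (.node (.leaf (nat_lit 9228671)) (.leaf (nat_lit
    2393493))) (.leaf (nat_lit 3721687))))) (.node (.node (.node (.node (.leaf (nat_lit 2607353))
    (.leaf (nat_lit 14116633))) (.node (.leaf (nat_lit 2294992)) (.leaf (nat_lit 16786241))))
    (.node (.node (.leaf (nat_lit 7113952)) (.leaf (nat_lit 16048870))) (.node (.leaf (nat_lit
    1229448)) (.leaf (nat_lit 16392736))))) (.node (.node (.node (.leaf (nat_lit 11197351)) (.leaf
    (nat_lit 8261437))) (.node (.leaf (nat_lit 14917344)) (.leaf (nat_lit 8572899)))) (.node (.node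
    (.leaf (nat_lit 12015641)) (.leaf (nat_lit 5393575))) (.leaf (nat_lit 5902912)))))) (.node
    (.node (.node (.node (.node (.leaf (nat_lit 5228954)) (.leaf (nat_lit 16720671))) (.node (.leaf
    (nat_lit 262313)) (.leaf (nat_lit 15081278)))) (.node (.node (.leaf (nat_lit 738037)) (.leaf
    (nat_lit 14081556))) (.node (.leaf (nat_lit 16999445)) (.leaf (nat_lit 8230975))))) (.node
    (.node (.node (.leaf (nat_lit 11163199)) (.leaf (nat_lit 5704541))) (.node (.leaf (nat_lit
    5984280)) (.leaf (nat_lit 2836264)))) (.node (.node (.leaf (nat_lit 10884491)) (.leaf (nat_lit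
    2656532))) (.leaf (nat_lit 8523722))))) (.node (.node (.node (.node (.leaf (nat_lit 6966409))
    (.leaf (nat_lit 2098239))) (.node (.leaf (nat_lit 9097524)) (.leaf (nat_lit 16049575)))) (.node
    (.node (.leaf (nat_lit 5409382)) (.leaf (nat_lit 655726))) (.node (.leaf (nat_lit 4048904))
    (.leaf (nat_lit 14426560))))) (.node (.node (.node (.leaf (nat_lit 16212386)) (.leaf (nat_lit
    10359887))) (.node (.leaf (nat_lit 7871062)) (.leaf (nat_lit 6377068)))) (.node (.node (.leaf
    (nat_lit 14917351)) (.leaf (nat_lit 7491900))) (.leaf (nat_lit 13278156))))))) (.node (.node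
    (.node (.node (.node (.node (.leaf (nat_lit 3081734)) (.leaf (nat_lit 15261613))) (.node (.leaf
    (nat_lit 13771978)) (.leaf (nat_lit 9558211)))) (.node (.node (.leaf (nat_lit 475391)) (.leaf
    (nat_lit 14441947))) (.node (.leaf (nat_lit 14557450)) (.leaf (nat_lit 8902118))))) (.node
    (.node (.node (.leaf (nat_lit 10113959)) (.leaf (nat_lit 6032125))) (.node (.leaf (nat_lit
    12655044)) (.leaf (nat_lit 1459491)))) (.node (.node (.leaf (nat_lit 8868005)) (.leaf (nat_lit
    3819423))) (.leaf (nat_lit 11622212))))) (.node (.node (.node (.node (.leaf (nat_lit 4197058))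
    (.leaf (nat_lit 1229443))) (.node (.leaf (nat_lit 3065508)) (.leaf (nat_lit 17884942)))) (.node
    (.node (.leaf (nat_lit 6654980)) (.leaf (nat_lit 17917737))) (.node (.leaf (nat_lit 3835780))
    (.leaf (nat_lit 13983624))))) (.node (.node (.node (.leaf (nat_lit 14310801)) (.leaf (nat_lit
    9310635))) (.node (.leaf (nat_lit 11802529)) (.leaf (nat_lit 6933629)))) (.node (.node (.leaf
    (nat_lit 16983002)) (.leaf (nat_lit 6573783))) (.leaf (nat_lit 5493959)))))) (.node (.node
    (.node (.node (.node (.leaf (nat_lit 3524466)) (.leaf (nat_lit 16753528))) (.node (.leaf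
    (nat_lit 639660)) (.leaf (nat_lit 13344187)))) (.node (.node (.leaf (nat_lit 4753632)) (.leaf
    (nat_lit 15704149))) (.node (.leaf (nat_lit 131155)) (.leaf (nat_lit 13114165))))) (.node
    (.node (.node (.leaf (nat_lit 7231629)) (.leaf (nat_lit 4623629))) (.node (.leaf (nat_lit
    14278018)) (.leaf (nat_lit 7277879)))) (.node (.node (.leaf (nat_lit 9557434)) (.leaf (nat_lit
    9835272))) (.leaf (nat_lit 11097616))))) (.node (.node (.node (.node (.leaf (nat_lit 13048562))
    (.leaf (nat_lit 3065347))) (.node (.leaf (nat_lit 10573016)) (.leaf (nat_lit 508186)))) (.node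
    (.node (.leaf (nat_lit 10392683)) (.leaf (nat_lit 1852344))) (.node (.leaf (nat_lit 8654870))
    (.leaf (nat_lit 16622842))))) (.node (.node (.node (.leaf (nat_lit 12640792)) (.leaf (nat_lit
    12868195))) (.node (.leaf (nat_lit 9051341)) (.leaf (nat_lit 11097611)))) (.node (.node (.leaf
    (nat_lit 11018093)) (.leaf (nat_lit 11245195))) (.leaf (nat_lit 11311563))))))))) (.node (.node
    (.node (.node (.node (.node (.node (.node (.leaf (nat_lit 409827)) (.leaf (nat_lit 14605867)))
    (.node (.leaf (nat_lit 12132581)) (.leaf (nat_lit 12491098)))) (.node (.node (.leaf (nat_lit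
    17343766)) (.leaf (nat_lit 8493194))) (.node (.leaf (nat_lit 10329681)) (.leaf (nat_lit
    9441964))))) (.node (.node (.node (.leaf (nat_lit 4690033)) (.leaf (nat_lit 3852179))) (.node
    (.leaf (nat_lit 11507476)) (.leaf (nat_lit 1950703)))) (.node (.node (.leaf (nat_lit 10556627))
    (.leaf (nat_lit 3688242))) (.leaf (nat_lit 2656581))))) (.node (.node (.node (.node (.leaf
    (nat_lit 8884405)) (.leaf (nat_lit 13690395))) (.node (.leaf (nat_lit 1147968)) (.leaf (nat_lit
    17474950)))) (.node (.node (.leaf (nat_lit 3360391)) (.leaf (nat_lit 14098972))) (.node (.leaf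
    (nat_lit 1163856)) (.leaf (nat_lit 14261633))))) (.node (.node (.node (.leaf (nat_lit
    11279041)) (.leaf (nat_lit 6557362))) (.node (.leaf (nat_lit 14720620)) (.leaf (nat_lit
    7605737)))) (.node (.node (.leaf (nat_lit 15638578)) (.leaf (nat_lit 4672555))) (.leaf (nat_lit
    7770507)))))) (.node (.node (.node (.node (.node (.leaf (nat_lit 2508037)) (.leaf (nat_lit
    15507476))) (.node (.leaf (nat_lit 9)) (.leaf (nat_lit 12786427)))) (.node (.node (.leaf
    (nat_lit 1409741)) (.leaf (nat_lit 13360522))) (.node (.leaf (nat_lit 15819589)) (.leaf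
    (nat_lit 12982987))))) (.node (.node (.node (.leaf (nat_lit 12195982)) (.leaf (nat_lit
    9277849))) (.node (.leaf (nat_lit 4149133)) (.leaf (nat_lit 6671366)))) (.node (.node (.leaf
    (nat_lit 6115956)) (.leaf (nat_lit 5425672))) (.leaf (nat_lit 3607787))))) (.node (.node (.node
    (.node (.leaf (nat_lit 6704153)) (.leaf (nat_lit 1704799))) (.node (.leaf (nat_lit 8540108))
    (.leaf (nat_lit 16524486)))) (.node (.node (.leaf (nat_lit 5557214)) (.leaf (nat_lit 508177)))
    (.node (.leaf (nat_lit 5687900)) (.leaf (nat_lit 17819335))))) (.node (.node (.node (.leaf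
    (nat_lit 16081217)) (.leaf (nat_lit 10113961))) (.node (.leaf (nat_lit 7477659)) (.leaf
    (nat_lit 5508584)))) (.node (.node (.leaf (nat_lit 15245215)) (.leaf (nat_lit 8884407))) (.leaf
    (nat_lit 13261758))))))) (.node (.node (.node (.node (.node (.node (.leaf (nat_lit 688855))
    (.leaf (nat_lit 9919977))) (.node (.leaf (nat_lit 16999401)) (.leaf (nat_lit 12523895))))
    (.node (.node (.leaf (nat_lit 213123)) (.leaf (nat_lit 11721636))) (.node (.leaf (nat_lit
    17146993)) (.leaf (nat_lit 12048431))))) (.node (.node (.node (.leaf (nat_lit 5952267)) (.leaf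
    (nat_lit 4720892))) (.node (.leaf (nat_lit 12491094)) (.leaf (nat_lit 2344142)))) (.node (.node
    (.leaf (nat_lit 8605681)) (.leaf (nat_lit 5261754))) (.leaf (nat_lit 4279090))))) (.node (.node
    (.node (.node (.leaf (nat_lit 10736952)) (.leaf (nat_lit 803213))) (.node (.leaf (nat_lit
    1771054)) (.leaf (nat_lit 17819336)))) (.node (.node (.leaf (nat_lit 4409449)) (.leaf (nat_lit
    17884939))) (.node (.leaf (nat_lit 1901521)) (.leaf (nat_lit 16048429))))) (.node (.node (.node
    (.leaf (nat_lit 12180742)) (.leaf (nat_lit 6836503))) (.node (.leaf (nat_lit 6346534)) (.leaf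
    (nat_lit 6310882)))) (.node (.node (.leaf (nat_lit 16720658)) (.leaf (nat_lit 6442576))) (.leaf
    (nat_lit 12310760)))))) (.node (.node (.node (.node (.node (.leaf (nat_lit 6950014)) (.leaf
    (nat_lit 13640377))) (.node (.leaf (nat_lit 475655)) (.leaf (nat_lit 13425959)))) (.node (.node
    (.leaf (nat_lit 2311361)) (.leaf (nat_lit 15441905))) (.node (.leaf (nat_lit 17508062)) (.leaf
    (nat_lit 12851801))))) (.node (.node (.node (.leaf (nat_lit 6608871)) (.leaf (nat_lit
    7064773))) (.node (.leaf (nat_lit 14163277)) (.leaf (nat_lit 9064737)))) (.node (.node (.leaf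
    (nat_lit 10523951)) (.leaf (nat_lit 4541032))) (.leaf (nat_lit 8540111))))) (.node (.node
    (.node (.node (.leaf (nat_lit 9720499)) (.leaf (nat_lit 2393453))) (.node (.leaf (nat_lit
    4442540)) (.leaf (nat_lit 278705)))) (.node (.node (.leaf (nat_lit 11769740)) (.leaf (nat_lit
    1737594))) (.node (.leaf (nat_lit 3966953)) (.leaf (nat_lit 17064989))))) (.node (.node (.node
    (.leaf (nat_lit 15638879)) (.leaf (nat_lit 11163201))) (.node (.leaf (nat_lit 8838239)) (.leaf
    (nat_lit 6787105)))) (.node (.node (.leaf (nat_lit 10723033)) (.leaf (nat_lit 10458261)))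
    (.leaf (nat_lit 8837414)))))))) (.node (.node (.node (.node (.node (.node (.node (.leaf
    (nat_lit 1819552)) (.leaf (nat_lit 12606738))) (.node (.leaf (nat_lit 12575307)) (.leaf
    (nat_lit 11573040)))) (.node (.node (.leaf (nat_lit 16557652)) (.leaf (nat_lit 14687831)))
    (.node (.leaf (nat_lit 16032039)) (.leaf (nat_lit 10146808))))) (.node (.node (.node (.leaf
    (nat_lit 13687933)) (.leaf (nat_lit 5228957))) (.node (.leaf (nat_lit 12114014)) (.leaf
    (nat_lit 2229400)))) (.node (.node (.leaf (nat_lit 10113969)) (.leaf (nat_lit 4901133))) (.leaf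
    (nat_lit 5065280))))) (.node (.node (.node (.node (.leaf (nat_lit 6032131)) (.leaf (nat_lit
    147545))) (.node (.leaf (nat_lit 1983787)) (.leaf (nat_lit 17048593)))) (.node (.node (.leaf
    (nat_lit 2181015)) (.leaf (nat_lit 15803312))) (.node (.leaf (nat_lit 2409695)) (.leaf (nat_lit
    16261569))))) (.node (.node (.node (.leaf (nat_lit 13524009)) (.leaf (nat_lit 9638522))) (.node
    (.leaf (nat_lit 5903841)) (.leaf (nat_lit 6081316)))) (.node (.node (.leaf (nat_lit 11376833))
    (.leaf (nat_lit 8999158))) (.leaf (nat_lit 8770267)))))) (.node (.node (.node (.node (.node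
    (.leaf (nat_lit 5737074)) (.leaf (nat_lit 12181811))) (.node (.leaf (nat_lit 1180246)) (.leaf
    (nat_lit 14146886)))) (.node (.node (.leaf (nat_lit 1295247)) (.leaf (nat_lit 14180022)))
    (.node (.leaf (nat_lit 14869750)) (.leaf (nat_lit 10672379))))) (.node (.node (.node (.leaf
    (nat_lit 11425519)) (.leaf (nat_lit 6425527))) (.node (.leaf (nat_lit 13753488)) (.leaf
    (nat_lit 3213246)))) (.node (.node (.leaf (nat_lit 7820236)) (.leaf (nat_lit 4573566))) (.leaf
    (nat_lit 4541972))))) (.node (.node (.node (.node (.leaf (nat_lit 8868012)) (.leaf (nat_lit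
    2245791))) (.node (.leaf (nat_lit 7458202)) (.leaf (nat_lit 16098962)))) (.node (.node (.leaf
    (nat_lit 3099351)) (.leaf (nat_lit 1262226))) (.node (.leaf (nat_lit 6868058)) (.leaf (nat_lit
    16097918))))) (.node (.node (.node (.leaf (nat_lit 16277960)) (.leaf (nat_lit 9803007))) (.node
    (.leaf (nat_lit 8067890)) (.leaf (nat_lit 6524671)))) (.node (.node (.leaf (nat_lit 15163256))
    (.leaf (nat_lit 9458196))) (.leaf (nat_lit 13015774))))))) (.node (.node (.node (.node (.node
    (.node (.leaf (nat_lit 1000435)) (.leaf (nat_lit 14212890))) (.node (.leaf (nat_lit 13608351))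
    (.leaf (nat_lit 11999606)))) (.node (.node (.leaf (nat_lit 819617)) (.leaf (nat_lit 10804384)))
    (.node (.leaf (nat_lit 17884950)) (.leaf (nat_lit 11179690))))) (.node (.node (.node (.leaf
    (nat_lit 14687829)) (.leaf (nat_lit 4704752))) (.node (.leaf (nat_lit 12851799)) (.leaf
    (nat_lit 3721033)))) (.node (.node (.leaf (nat_lit 4510019)) (.leaf (nat_lit 6917229))) (.leaf
    (nat_lit 11130410))))) (.node (.node (.node (.node (.leaf (nat_lit 9835276)) (.leaf (nat_lit
    1180249))) (.node (.leaf (nat_lit 3802996)) (.leaf (nat_lit 15475476)))) (.node (.node (.leaf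
    (nat_lit 8556506)) (.leaf (nat_lit 15214430))) (.node (.leaf (nat_lit 4425834)) (.leaf (nat_lit
    16901021))))) (.node (.node (.node (.leaf (nat_lit 17688135)) (.leaf (nat_lit 9950033))) (.node
    (.leaf (nat_lit 15900877)) (.leaf (nat_lit 9540178)))) (.node (.node (.leaf (nat_lit 13310949))
    (.leaf (nat_lit 4116325))) (.leaf (nat_lit 9868652)))))) (.node (.node (.node (.node (.node
    (.leaf (nat_lit 8212258)) (.leaf (nat_lit 16819278))) (.node (.leaf (nat_lit 2786689)) (.leaf
    (nat_lit 16638679)))) (.node (.node (.leaf (nat_lit 2131353)) (.leaf (nat_lit 14114994)))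
    (.node (.leaf (nat_lit 164035)) (.leaf (nat_lit 15081276))))) (.node (.node (.node (.leaf
    (nat_lit 15081273)) (.leaf (nat_lit 8966367))) (.node (.leaf (nat_lit 14540292)) (.leaf
    (nat_lit 7458205)))) (.node (.node (.leaf (nat_lit 6215278)) (.leaf (nat_lit 7884407))) (.leaf
    (nat_lit 6836291))))) (.node (.node (.node (.node (.leaf (nat_lit 12425521)) (.leaf (nat_lit
    3147366))) (.node (.leaf (nat_lit 9540177)) (.leaf (nat_lit 786825)))) (.node (.node (.leaf
    (nat_lit 9343425)) (.leaf (nat_lit 2196613))) (.node (.leaf (nat_lit 7572954)) (.leaf (nat_lit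
    14624222))))) (.node (.node (.node (.leaf (nat_lit 15196907)) (.leaf (nat_lit 13212553)))
    (.node (.leaf (nat_lit 9444684)) (.leaf (nat_lit 9490997)))) (.node (.node (.leaf (nat_lit
    15425515)) (.leaf (nat_lit 8262790))) (.leaf (nat_lit 7887499))))))))))) (.node (.node (.node
    (.node (.node (.node (.node (.node (.node (.node (.leaf (nat_lit 81963)) (.leaf (nat_lit
    11852599))) (.node (.leaf (nat_lit 15622189)) (.leaf (nat_lit 8246522)))) (.node (.node (.leaf
    (nat_lit 17589744)) (.leaf (nat_lit 13048565))) (.node (.leaf (nat_lit 9854387)) (.leaf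
    (nat_lit 11655002))))) (.node (.node (.node (.leaf (nat_lit 4165551)) (.leaf (nat_lit
    3770209))) (.node (.leaf (nat_lit 11081216)) (.leaf (nat_lit 1295017)))) (.node (.node (.leaf
    (nat_lit 7032070)) (.leaf (nat_lit 1836182))) (.node (.leaf (nat_lit 9490986)) (.leaf (nat_lit
    17245844)))))) (.node (.node (.node (.node (.leaf (nat_lit 2377785)) (.leaf (nat_lit
    13362421))) (.node (.leaf (nat_lit 3147311)) (.leaf (nat_lit 14294715)))) (.node (.node (.leaf
    (nat_lit 5769854)) (.leaf (nat_lit 16507505))) (.node (.leaf (nat_lit 475422)) (.leaf (nat_lit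
    13687938))))) (.node (.node (.node (.leaf (nat_lit 14933741)) (.leaf (nat_lit 6721041))) (.node
    (.leaf (nat_lit 10097606)) (.leaf (nat_lit 6425529)))) (.node (.node (.leaf (nat_lit 15376340))
    (.leaf (nat_lit 5819323))) (.leaf (nat_lit 4395201)))))) (.node (.node (.node (.node (.node
    (.leaf (nat_lit 2180213)) (.leaf (nat_lit 11034503))) (.node (.leaf (nat_lit 14263901)) (.leaf
    (nat_lit 12556801)))) (.node (.node (.leaf (nat_lit 377305)) (.leaf (nat_lit 17737333))) (.node
    (.leaf (nat_lit 15983191)) (.leaf (nat_lit 11573039))))) (.node (.node (.node (.leaf (nat_lit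
    6722763)) (.leaf (nat_lit 5769857))) (.node (.leaf (nat_lit 13114163)) (.leaf (nat_lit
    2639370)))) (.node (.node (.leaf (nat_lit 6361519)) (.leaf (nat_lit 2443338))) (.leaf (nat_lit
    10622211))))) (.node (.node (.node (.node (.leaf (nat_lit 11589432)) (.leaf (nat_lit 1524483)))
    (.node (.leaf (nat_lit 3000228)) (.leaf (nat_lit 15541162)))) (.node (.node (.leaf (nat_lit
    10130354)) (.leaf (nat_lit 65614))) (.node (.leaf (nat_lit 1754408)) (.leaf (nat_lit
    17097787))))) (.node (.node (.node (.leaf (nat_lit 10509953)) (.leaf (nat_lit 8360664))) (.node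
    (.leaf (nat_lit 7002297)) (.leaf (nat_lit 4721974)))) (.node (.node (.leaf (nat_lit 14163281))
    (.leaf (nat_lit 9687710))) (.leaf (nat_lit 15163252))))))) (.node (.node (.node (.node (.node
    (.node (.leaf (nat_lit 1852340)) (.leaf (nat_lit 17671747))) (.node (.leaf (nat_lit 12755683))
    (.leaf (nat_lit 11343716)))) (.node (.node (.leaf (nat_lit 17983355)) (.leaf (nat_lit
    11475596))) (.node (.leaf (nat_lit 16966614)) (.leaf (nat_lit 11441913))))) (.node (.node
    (.node (.leaf (nat_lit 5886525)) (.leaf (nat_lit 4376714))) (.node (.leaf (nat_lit 12294356))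
    (.leaf (nat_lit 2409697)))) (.node (.node (.leaf (nat_lit 6246208)) (.leaf (nat_lit 3278441)))
    (.leaf (nat_lit 6130505))))) (.node (.node (.node (.node (.leaf (nat_lit 10327107)) (.leaf
    (nat_lit 377049))) (.node (.leaf (nat_lit 2753943)) (.leaf (nat_lit 13377718)))) (.node (.node
    (.leaf (nat_lit 8245038)) (.leaf (nat_lit 17015885))) (.node (.leaf (nat_lit 1885133)) (.leaf
    (nat_lit 17573343))))) (.node (.node (.node (.leaf (nat_lit 15507461)) (.leaf (nat_lit
    12163194))) (.node (.leaf (nat_lit 11146854)) (.leaf (nat_lit 6392742)))) (.node (.node (.leaf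
    (nat_lit 13032173)) (.leaf (nat_lit 6835616))) (.leaf (nat_lit 7132009)))))) (.node (.node
    (.node (.node (.node (.leaf (nat_lit 6261622)) (.leaf (nat_lit 15131075))) (.node (.leaf
    (nat_lit 1442525)) (.leaf (nat_lit 13917406)))) (.node (.node (.leaf (nat_lit 3425958)) (.leaf
    (nat_lit 16523901))) (.node (.leaf (nat_lit 17835743)) (.leaf (nat_lit 12671450))))) (.node
    (.node (.node (.leaf (nat_lit 6362943)) (.leaf (nat_lit 8179481))) (.node (.leaf (nat_lit
    13950193)) (.leaf (nat_lit 5048652)))) (.node (.node (.leaf (nat_lit 8049746)) (.leaf (nat_lit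
    4819447))) (.leaf (nat_lit 12900988))))) (.node (.node (.node (.node (.leaf (nat_lit 12392741))
    (.leaf (nat_lit 2950607))) (.node (.leaf (nat_lit 3492114)) (.leaf (nat_lit 16312165)))) (.node
    (.node (.leaf (nat_lit 4197208)) (.leaf (nat_lit 1180251))) (.node (.leaf (nat_lit 7245080))
    (.leaf (nat_lit 15590166))))) (.node (.node (.node (.leaf (nat_lit 17294572)) (.leaf (nat_lit
    8590697))) (.node (.leaf (nat_lit 8215522)) (.leaf (nat_lit 8294248)))) (.node (.node (.leaf
    (nat_lit 14573083)) (.leaf (nat_lit 8508000))) (.leaf (nat_lit 8509505)))))))) (.node (.node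
    (.node (.node (.node (.node (.node (.leaf (nat_lit 606533)) (.leaf (nat_lit 16589496))) (.node
    (.leaf (nat_lit 16195987)) (.leaf (nat_lit 11114037)))) (.node (.node (.leaf (nat_lit
    13968685)) (.leaf (nat_lit 12359969))) (.node (.leaf (nat_lit 13819612)) (.leaf (nat_lit
    12228773))))) (.node (.node (.node (.leaf (nat_lit 5198055)) (.leaf (nat_lit 3344358))) (.node
    (.leaf (nat_lit 3312583)) (.leaf (nat_lit 1721193)))) (.node (.node (.leaf (nat_lit 10687793))
    (.leaf (nat_lit 2458984))) (.leaf (nat_lit 6966414))))) (.node (.node (.node (.node (.leaf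
    (nat_lit 9605734)) (.leaf (nat_lit 14690016))) (.node (.leaf (nat_lit 2360529)) (.leaf (nat_lit
    16851823)))) (.node (.node (.leaf (nat_lit 6982800)) (.leaf (nat_lit 16212660))) (.node (.leaf
    (nat_lit 2032662)) (.leaf (nat_lit 14769809))))) (.node (.node (.node (.leaf (nat_lit
    11803506)) (.leaf (nat_lit 10573019))) (.node (.leaf (nat_lit 14819001)) (.leaf (nat_lit
    7245089)))) (.node (.node (.leaf (nat_lit 15802494)) (.leaf (nat_lit 9327032))) (.leaf (nat_lit
    7164431)))))) (.node (.node (.node (.node (.node (.leaf (nat_lit 2737501)) (.leaf (nat_lit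
    16917428))) (.node (.leaf (nat_lit 278711)) (.leaf (nat_lit 13163435)))) (.node (.node (.leaf
    (nat_lit 2573590)) (.leaf (nat_lit 17458550))) (.node (.leaf (nat_lit 15541221)) (.leaf
    (nat_lit 10606606))))) (.node (.node (.node (.leaf (nat_lit 14359991)) (.leaf (nat_lit
    6409137))) (.node (.leaf (nat_lit 13474840)) (.leaf (nat_lit 3901363)))) (.node (.node (.leaf
    (nat_lit 4903683)) (.leaf (nat_lit 8654879))) (.leaf (nat_lit 3706201))))) (.node (.node (.node
    (.node (.leaf (nat_lit 5065826)) (.leaf (nat_lit 1934309))) (.node (.leaf (nat_lit 8900798))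
    (.leaf (nat_lit 14886247)))) (.node (.node (.leaf (nat_lit 10753354)) (.leaf (nat_lit 721263)))
    (.node (.leaf (nat_lit 6114100)) (.leaf (nat_lit 16409131))))) (.node (.node (.node (.leaf
    (nat_lit 15523854)) (.leaf (nat_lit 7164963))) (.node (.leaf (nat_lit 7821856)) (.leaf (nat_lit
    6196818)))) (.node (.node (.leaf (nat_lit 14982916)) (.leaf (nat_lit 8966416))) (.leaf (nat_lit
    13212560))))))) (.node (.node (.node (.node (.node (.node (.leaf (nat_lit 2934214)) (.leaf
    (nat_lit 17835745))) (.node (.leaf (nat_lit 17196175)) (.leaf (nat_lit 9787537)))) (.node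
    (.node (.leaf (nat_lit 803218)) (.leaf (nat_lit 15081275))) (.node (.leaf (nat_lit 16687875))
    (.leaf (nat_lit 9590200))))) (.node (.node (.node (.leaf (nat_lit 14032137)) (.leaf (nat_lit
    4983110))) (.node (.leaf (nat_lit 12638650)) (.leaf (nat_lit 4704466)))) (.node (.node (.leaf
    (nat_lit 4329575)) (.leaf (nat_lit 3852173))) (.leaf (nat_lit 4868998))))) (.node (.node (.node
    (.node (.leaf (nat_lit 5851817)) (.leaf (nat_lit 868795))) (.node (.leaf (nat_lit 6556640))
    (.leaf (nat_lit 16081439)))) (.node (.node (.leaf (nat_lit 2492579)) (.leaf (nat_lit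
    13739548))) (.node (.leaf (nat_lit 3688238)) (.leaf (nat_lit 13705074))))) (.node (.node (.node
    (.leaf (nat_lit 14245235)) (.leaf (nat_lit 4968836))) (.node (.leaf (nat_lit 6510466)) (.leaf
    (nat_lit 6999199)))) (.node (.node (.leaf (nat_lit 11803335)) (.leaf (nat_lit 6196917))) (.leaf
    (nat_lit 8443057)))))) (.node (.node (.node (.node (.node (.leaf (nat_lit 7359842)) (.leaf
    (nat_lit 17015804))) (.node (.leaf (nat_lit 2229394)) (.leaf (nat_lit 14819002)))) (.node
    (.node (.leaf (nat_lit 4573342)) (.leaf (nat_lit 17179784))) (.node (.leaf (nat_lit 16396))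
    (.leaf (nat_lit 11344632))))) (.node (.node (.node (.leaf (nat_lit 9656426)) (.leaf (nat_lit
    7195901))) (.node (.leaf (nat_lit 7590530)) (.leaf (nat_lit 3066053)))) (.node (.node (.leaf
    (nat_lit 5756297)) (.leaf (nat_lit 5950165))) (.leaf (nat_lit 4165529))))) (.node (.node (.node
    (.node (.leaf (nat_lit 3968651)) (.leaf (nat_lit 2426318))) (.node (.leaf (nat_lit 4983314))
    (.leaf (nat_lit 475395)))) (.node (.node (.leaf (nat_lit 7376253)) (.leaf (nat_lit 1459042)))
    (.node (.leaf (nat_lit 2361383)) (.leaf (nat_lit 17770133))))) (.node (.node (.node (.leaf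
    (nat_lit 14475754)) (.leaf (nat_lit 12950185))) (.node (.leaf (nat_lit 17753728)) (.leaf
    (nat_lit 8753306)))) (.node (.node (.leaf (nat_lit 13442881)) (.leaf (nat_lit 10048412)))
    (.leaf (nat_lit 15179645))))))))) (.node (.node (.node (.node (.node (.node (.node (.node
    (.leaf (nat_lit 737650)) (.leaf (nat_lit 16114009))) (.node (.leaf (nat_lit 15868089)) (.leaf
    (nat_lit 9950609)))) (.node (.node (.leaf (nat_lit 17409350)) (.leaf (nat_lit 13901011)))
    (.node (.leaf (nat_lit 17966950)) (.leaf (nat_lit 7311992))))) (.node (.node (.node (.leaf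
    (nat_lit 4296765)) (.leaf (nat_lit 3409746))) (.node (.leaf (nat_lit 11359965)) (.leaf (nat_lit
    1278620)))) (.node (.node (.leaf (nat_lit 7490983)) (.leaf (nat_lit 2491649))) (.leaf (nat_lit
    2640171))))) (.node (.node (.node (.node (.leaf (nat_lit 2459783)) (.leaf (nat_lit 16016869)))
    (.node (.leaf (nat_lit 2196611)) (.leaf (nat_lit 13311807)))) (.node (.node (.leaf (nat_lit
    6409130)) (.leaf (nat_lit 16491109))) (.node (.leaf (nat_lit 1639226)) (.leaf (nat_lit
    16327145))))) (.node (.node (.node (.leaf (nat_lit 13163360)) (.leaf (nat_lit 6213262))) (.node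
    (.leaf (nat_lit 5362819)) (.leaf (nat_lit 6950019)))) (.node (.node (.leaf (nat_lit 15573020))
    (.leaf (nat_lit 9490995))) (.leaf (nat_lit 6689131)))))) (.node (.node (.node (.node (.node
    (.leaf (nat_lit 2442475)) (.leaf (nat_lit 15310844))) (.node (.leaf (nat_lit 18016145)) (.leaf
    (nat_lit 12901059)))) (.node (.node (.leaf (nat_lit 1049184)) (.leaf (nat_lit 14802601)))
    (.node (.leaf (nat_lit 15311645)) (.leaf (nat_lit 11736965))))) (.node (.node (.node (.leaf
    (nat_lit 10966463)) (.leaf (nat_lit 5753502))) (.node (.leaf (nat_lit 4247405)) (.leaf (nat_lit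
    3360393)))) (.node (.node (.leaf (nat_lit 5837411)) (.leaf (nat_lit 5196170))) (.leaf (nat_lit
    5295314))))) (.node (.node (.node (.node (.leaf (nat_lit 6638585)) (.leaf (nat_lit 1344316)))
    (.node (.leaf (nat_lit 7654921)) (.leaf (nat_lit 15803526)))) (.node (.node (.leaf (nat_lit
    6933626)) (.leaf (nat_lit 426221))) (.node (.leaf (nat_lit 5507620)) (.leaf (nat_lit
    16556699))))) (.node (.node (.node (.leaf (nat_lit 14835478)) (.leaf (nat_lit 11310785)))
    (.node (.leaf (nat_lit 16392726)) (.leaf (nat_lit 7409096)))) (.node (.node (.leaf (nat_lit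
    16064822)) (.leaf (nat_lit 5623919))) (.leaf (nat_lit 10245808))))))) (.node (.node (.node
    (.node (.node (.node (.leaf (nat_lit 2491644)) (.leaf (nat_lit 9887187))) (.node (.leaf
    (nat_lit 16933817)) (.leaf (nat_lit 11605996)))) (.node (.node (.leaf (nat_lit 131153)) (.leaf
    (nat_lit 11803496))) (.node (.leaf (nat_lit 15327303)) (.leaf (nat_lit 10917281))))) (.node
    (.node (.node (.leaf (nat_lit 9786083)) (.leaf (nat_lit 6933623))) (.node (.leaf (nat_lit
    7146804)) (.leaf (nat_lit 3393179)))) (.node (.node (.leaf (nat_lit 4706244)) (.leaf (nat_lit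
    2868962))) (.leaf (nat_lit 3115771))))) (.node (.node (.node (.node (.leaf (nat_lit 8392592))
    (.leaf (nat_lit 606535))) (.node (.leaf (nat_lit 2639368)) (.leaf (nat_lit 17556941)))) (.node
    (.node (.leaf (nat_lit 8769628)) (.leaf (nat_lit 17802931))) (.node (.leaf (nat_lit 2262187))
    (.leaf (nat_lit 16245173))))) (.node (.node (.node (.leaf (nat_lit 16720667)) (.leaf (nat_lit
    6901988))) (.node (.leaf (nat_lit 12982980)) (.leaf (nat_lit 8048335)))) (.node (.node (.leaf
    (nat_lit 16556694)) (.leaf (nat_lit 4836912))) (.leaf (nat_lit 6001661)))))) (.node (.node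
    (.node (.node (.node (.leaf (nat_lit 3491531)) (.leaf (nat_lit 14525057))) (.node (.leaf
    (nat_lit 1934306)) (.leaf (nat_lit 13557005)))) (.node (.node (.leaf (nat_lit 3934140)) (.leaf
    (nat_lit 14393264))) (.node (.leaf (nat_lit 18016158)) (.leaf (nat_lit 11672098))))) (.node
    (.node (.node (.leaf (nat_lit 6559679)) (.leaf (nat_lit 8736839))) (.node (.leaf (nat_lit
    4641235)) (.leaf (nat_lit 7441807)))) (.node (.node (.leaf (nat_lit 6182136)) (.leaf (nat_lit
    7359848))) (.leaf (nat_lit 10195943))))) (.node (.node (.node (.node (.leaf (nat_lit 8245044))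
    (.leaf (nat_lit 2508102))) (.node (.leaf (nat_lit 10261510)) (.leaf (nat_lit 213127)))) (.node
    (.node (.leaf (nat_lit 3279795)) (.leaf (nat_lit 2016275))) (.node (.leaf (nat_lit 3246018))
    (.leaf (nat_lit 15328222))))) (.node (.node (.node (.leaf (nat_lit 15278393)) (.leaf (nat_lit
    14540299))) (.node (.leaf (nat_lit 8772669)) (.leaf (nat_lit 10933676)))) (.node (.node (.leaf
    (nat_lit 14098109)) (.leaf (nat_lit 5968649))) (.leaf (nat_lit 12261621)))))))) (.node (.node
    (.node (.node (.node (.node (.node (.leaf (nat_lit 868793)) (.leaf (nat_lit 16097614))) (.node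
    (.leaf (nat_lit 15229475)) (.leaf (nat_lit 12851805)))) (.node (.node (.leaf (nat_lit
    16786975)) (.leaf (nat_lit 12032454))) (.node (.leaf (nat_lit 17261783)) (.leaf (nat_lit
    10163145))))) (.node (.node (.node (.leaf (nat_lit 5017986)) (.leaf (nat_lit 5442065))) (.node
    (.leaf (nat_lit 12081220)) (.leaf (nat_lit 1475468)))) (.node (.node (.leaf (nat_lit 9359825))
    (.leaf (nat_lit 2328036))) (.leaf (nat_lit 2886181))))) (.node (.node (.node (.node (.leaf
    (nat_lit 4229448)) (.leaf (nat_lit 81965))) (.node (.leaf (nat_lit 4655298)) (.leaf (nat_lit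
    17114185)))) (.node (.node (.leaf (nat_lit 3819385)) (.leaf (nat_lit 16753523))) (.node (.leaf
    (nat_lit 2327750)) (.leaf (nat_lit 14507510))))) (.node (.node (.node (.leaf (nat_lit 8477707))
    (.leaf (nat_lit 10917279))) (.node (.leaf (nat_lit 5805491)) (.leaf (nat_lit 8556505)))) (.node
    (.node (.leaf (nat_lit 10934419)) (.leaf (nat_lit 6130952))) (.leaf (nat_lit 10966470))))))
    (.node (.node (.node (.node (.node (.leaf (nat_lit 1639883)) (.leaf (nat_lit 12149001))) (.node
    (.leaf (nat_lit 999920)) (.leaf (nat_lit 13868228)))) (.node (.node (.leaf (nat_lit 1803167))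
    (.leaf (nat_lit 16163189))) (.node (.leaf (nat_lit 16704704)) (.leaf (nat_lit 10901693)))))
    (.node (.node (.node (.leaf (nat_lit 11359963)) (.leaf (nat_lit 7949975))) (.node (.leaf
    (nat_lit 13655142)) (.leaf (nat_lit 3852188)))) (.node (.node (.leaf (nat_lit 6640544)) (.leaf
    (nat_lit 6032128))) (.leaf (nat_lit 9540180))))) (.node (.node (.node (.node (.leaf (nat_lit
    9736904)) (.leaf (nat_lit 2180215))) (.node (.leaf (nat_lit 2558147)) (.leaf (nat_lit
    16574041)))) (.node (.node (.leaf (nat_lit 5917383)) (.leaf (nat_lit 1114672))) (.node (.leaf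
    (nat_lit 1951395)) (.leaf (nat_lit 14459472))))) (.node (.node (.node (.leaf (nat_lit
    14049298)) (.leaf (nat_lit 8246472))) (.node (.leaf (nat_lit 8018678)) (.leaf (nat_lit
    6622932)))) (.node (.node (.leaf (nat_lit 16081225)) (.leaf (nat_lit 10982864))) (.leaf
    (nat_lit 6510493))))))) (.node (.node (.node (.node (.node (.node (.leaf (nat_lit 3114521))
    (.leaf (nat_lit 13557493))) (.node (.leaf (nat_lit 13559139)) (.leaf (nat_lit 9427269))))
    (.node (.node (.leaf (nat_lit 852405)) (.leaf (nat_lit 16622285))) (.node (.leaf (nat_lit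
    14590363)) (.leaf (nat_lit 11212393))))) (.node (.node (.node (.leaf (nat_lit 7722017)) (.leaf
    (nat_lit 5310929))) (.node (.leaf (nat_lit 3935821)) (.leaf (nat_lit 2131356)))) (.node (.node
    (.leaf (nat_lit 9064733)) (.leaf (nat_lit 7622128))) (.leaf (nat_lit 11884486))))) (.node
    (.node (.node (.node (.leaf (nat_lit 8753238)) (.leaf (nat_lit 770604))) (.node (.leaf (nat_lit
    3901361)) (.leaf (nat_lit 17425752)))) (.node (.node (.leaf (nat_lit 9392619)) (.leaf (nat_lit
    17999745))) (.node (.leaf (nat_lit 4196390)) (.leaf (nat_lit 16835431))))) (.node (.node (.node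
    (.leaf (nat_lit 16097617)) (.leaf (nat_lit 10687787))) (.node (.leaf (nat_lit 15851680)) (.leaf
    (nat_lit 5491883)))) (.node (.node (.leaf (nat_lit 13163442)) (.leaf (nat_lit 10425479)))
    (.leaf (nat_lit 9672016)))))) (.node (.node (.node (.node (.node (.leaf (nat_lit 8015544))
    (.leaf (nat_lit 17081394))) (.node (.leaf (nat_lit 2721104)) (.leaf (nat_lit 16474716))))
    (.node (.node (.leaf (nat_lit 1983846)) (.leaf (nat_lit 16917425))) (.node (.leaf (nat_lit
    262311)) (.leaf (nat_lit 15868084))))) (.node (.node (.node (.leaf (nat_lit 11999523)) (.leaf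
    (nat_lit 7687707))) (.node (.leaf (nat_lit 14441942)) (.leaf (nat_lit 3098903)))) (.node (.node
    (.leaf (nat_lit 8181303)) (.leaf (nat_lit 7523769))) (.leaf (nat_lit 4263959))))) (.node (.node
    (.node (.node (.leaf (nat_lit 13310944)) (.leaf (nat_lit 3950537))) (.node (.leaf (nat_lit
    10835310)) (.leaf (nat_lit 819612)))) (.node (.node (.leaf (nat_lit 4852868)) (.leaf (nat_lit
    1328120))) (.node (.leaf (nat_lit 9130310)) (.leaf (nat_lit 14083492))))) (.node (.node (.node
    (.leaf (nat_lit 15442615)) (.leaf (nat_lit 12999375))) (.node (.leaf (nat_lit 9198883)) (.leaf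
    (nat_lit 9081151)))) (.node (.node (.leaf (nat_lit 15359951)) (.leaf (nat_lit 10638605)))
    (.leaf (nat_lit 12851803)))))))))) (.node (.node (.node (.node (.node (.node (.node (.node
    (.node (.leaf (nat_lit 393436)) (.leaf (nat_lit 8117155))) (.node (.leaf (nat_lit 15753321))
    (.leaf (nat_lit 9196876)))) (.node (.node (.leaf (nat_lit 17671742)) (.leaf (nat_lit
    10754064))) (.node (.leaf (nat_lit 17655347)) (.leaf (nat_lit 10966468))))) (.node (.node
    (.node (.leaf (nat_lit 5722092)) (.leaf (nat_lit 3622667))) (.node (.leaf (nat_lit 11294386))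
    (.leaf (nat_lit 754222)))) (.node (.node (.leaf (nat_lit 8572895)) (.leaf (nat_lit 3671850)))
    (.node (.leaf (nat_lit 9736898)) (.leaf (nat_lit 15165214)))))) (.node (.node (.node (.node
    (.leaf (nat_lit 4589737)) (.leaf (nat_lit 14738798))) (.node (.leaf (nat_lit 967631)) (.leaf
    (nat_lit 14081778)))) (.node (.node (.leaf (nat_lit 6097706)) (.leaf (nat_lit 15933844)))
    (.node (.leaf (nat_lit 1360570)) (.leaf (nat_lit 15146867))))) (.node (.node (.node (.leaf
    (nat_lit 12802603)) (.leaf (nat_lit 6311502))) (.node (.leaf (nat_lit 14655032)) (.leaf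
    (nat_lit 5294546)))) (.node (.node (.leaf (nat_lit 15474680)) (.leaf (nat_lit 7900798))) (.leaf
    (nat_lit 12163201)))))) (.node (.node (.node (.node (.node (.leaf (nat_lit 3393180)) (.leaf
    (nat_lit 15638581))) (.node (.leaf (nat_lit 17852133)) (.leaf (nat_lit 11410012)))) (.node
    (.node (.leaf (nat_lit 688654)) (.leaf (nat_lit 16392733))) (.node (.leaf (nat_lit 16491195))
    (.leaf (nat_lit 11933678))))) (.node (.node (.node (.leaf (nat_lit 8918312)) (.leaf (nat_lit
    6163292))) (.node (.leaf (nat_lit 4067105)) (.leaf (nat_lit 3934143)))) (.node (.node (.leaf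
    (nat_lit 8458764)) (.leaf (nat_lit 5605961))) (.leaf (nat_lit 8327023))))) (.node (.node (.node
    (.node (.leaf (nat_lit 11736960)) (.leaf (nat_lit 1508089))) (.node (.leaf (nat_lit 7999152))
    (.leaf (nat_lit 15672336)))) (.node (.node (.leaf (nat_lit 9671317)) (.leaf (nat_lit 262307)))
    (.node (.leaf (nat_lit 1803630)) (.leaf (nat_lit 15556736))))) (.node (.node (.node (.leaf
    (nat_lit 15622193)) (.leaf (nat_lit 8704822))) (.node (.leaf (nat_lit 16294350)) (.leaf
    (nat_lit 7540169)))) (.node (.node (.leaf (nat_lit 17556936)) (.leaf (nat_lit 4853790))) (.leaf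
    (nat_lit 6592058))))))) (.node (.node (.node (.node (.node (.node (.leaf (nat_lit 1508091))
    (.leaf (nat_lit 17474954))) (.node (.leaf (nat_lit 16802633)) (.leaf (nat_lit 11900892))))
    (.node (.node (.leaf (nat_lit 6)) (.leaf (nat_lit 11868916))) (.node (.leaf (nat_lit 16983012))
    (.leaf (nat_lit 7394518))))) (.node (.node (.node (.leaf (nat_lit 9343613)) (.leaf (nat_lit
    4098240))) (.node (.leaf (nat_lit 7277877)) (.leaf (nat_lit 2163823)))) (.node (.node (.leaf
    (nat_lit 5377941)) (.leaf (nat_lit 3835785))) (.leaf (nat_lit 9507393))))) (.node (.node (.node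
    (.node (.leaf (nat_lit 5458455)) (.leaf (nat_lit 508179))) (.node (.leaf (nat_lit 5278149))
    (.leaf (nat_lit 16409129)))) (.node (.node (.leaf (nat_lit 3180584)) (.leaf (nat_lit
    17852135))) (.node (.leaf (nat_lit 836445)) (.leaf (nat_lit 13409927))))) (.node (.node (.node
    (.leaf (nat_lit 17360165)) (.leaf (nat_lit 5656736))) (.node (.leaf (nat_lit 6215382)) (.leaf
    (nat_lit 6605809)))) (.node (.node (.leaf (nat_lit 15212427)) (.leaf (nat_lit 7409131))) (.leaf
    (nat_lit 7934882)))))) (.node (.node (.node (.node (.node (.leaf (nat_lit 6573028)) (.leaf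
    (nat_lit 16655086))) (.node (.leaf (nat_lit 1672011)) (.leaf (nat_lit 13638869)))) (.node
    (.node (.leaf (nat_lit 3655448)) (.leaf (nat_lit 14851952))) (.node (.leaf (nat_lit 14411301))
    (.leaf (nat_lit 9558480))))) (.node (.node (.node (.leaf (nat_lit 11753353)) (.leaf (nat_lit
    5393448))) (.node (.leaf (nat_lit 14130489)) (.leaf (nat_lit 8622068)))) (.node (.node (.leaf
    (nat_lit 5461157)) (.leaf (nat_lit 7540165))) (.leaf (nat_lit 13081356))))) (.node (.node
    (.node (.node (.leaf (nat_lit 12015648)) (.leaf (nat_lit 2606369))) (.node (.leaf (nat_lit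
    4262219)) (.leaf (nat_lit 65575)))) (.node (.node (.leaf (nat_lit 5524350)) (.leaf (nat_lit
    1311407))) (.node (.leaf (nat_lit 7540162)) (.leaf (nat_lit 15721328))))) (.node (.node (.node
    (.leaf (nat_lit 17097792)) (.leaf (nat_lit 10851764))) (.node (.leaf (nat_lit 8510478)) (.leaf
    (nat_lit 9130315)))) (.node (.node (.leaf (nat_lit 15032095)) (.leaf (nat_lit 12097623)))
    (.leaf (nat_lit 6887561)))))))) (.node (.node (.node (.node (.node (.node (.node (.leaf
    (nat_lit 311657)) (.leaf (nat_lit 16409136))) (.node (.leaf (nat_lit 12378555)) (.leaf (nat_lit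
    10245805)))) (.node (.node (.leaf (nat_lit 16885161)) (.leaf (nat_lit 9197945))) (.node (.leaf
    (nat_lit 14065433)) (.leaf (nat_lit 10343497))))) (.node (.node (.node (.leaf (nat_lit
    4460855)) (.leaf (nat_lit 5540403))) (.node (.leaf (nat_lit 11917281)) (.leaf (nat_lit
    2458865)))) (.node (.node (.leaf (nat_lit 10212339)) (.leaf (nat_lit 2295218))) (.leaf (nat_lit
    2804207))))) (.node (.node (.node (.node (.leaf (nat_lit 2623759)) (.leaf (nat_lit 14346077)))
    (.node (.leaf (nat_lit 4343889)) (.leaf (nat_lit 16720661)))) (.node (.node (.leaf (nat_lit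
    2098979)) (.leaf (nat_lit 15737624))) (.node (.leaf (nat_lit 2196606)) (.leaf (nat_lit
    14638644))))) (.node (.node (.node (.leaf (nat_lit 13327337)) (.leaf (nat_lit 8638478))) (.node
    (.leaf (nat_lit 15048482)) (.leaf (nat_lit 5540512)))) (.node (.node (.leaf (nat_lit 7362627))
    (.leaf (nat_lit 6982860))) (.leaf (nat_lit 12228778)))))) (.node (.node (.node (.node (.node
    (.leaf (nat_lit 4376674)) (.leaf (nat_lit 17999754))) (.node (.leaf (nat_lit 491783)) (.leaf
    (nat_lit 15868087)))) (.node (.node (.leaf (nat_lit 1245977)) (.leaf (nat_lit 16032035)))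
    (.node (.leaf (nat_lit 16933971)) (.leaf (nat_lit 12720643))))) (.node (.node (.node (.leaf
    (nat_lit 11228789)) (.leaf (nat_lit 7917187))) (.node (.leaf (nat_lit 13524011)) (.leaf
    (nat_lit 7261487)))) (.node (.node (.leaf (nat_lit 5002075)) (.leaf (nat_lit 5835426))) (.leaf
    (nat_lit 8228653))))) (.node (.node (.node (.node (.leaf (nat_lit 12310750)) (.leaf (nat_lit
    2032665))) (.node (.leaf (nat_lit 4327564)) (.leaf (nat_lit 14575073)))) (.node (.node (.leaf
    (nat_lit 5786245)) (.leaf (nat_lit 1131062))) (.node (.leaf (nat_lit 4819187)) (.leaf (nat_lit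
    13836776))))) (.node (.node (.node (.leaf (nat_lit 14000100)) (.leaf (nat_lit 10425477)))
    (.node (.leaf (nat_lit 11393684)) (.leaf (nat_lit 6278801)))) (.node (.node (.leaf (nat_lit
    16228783)) (.leaf (nat_lit 7557478))) (.leaf (nat_lit 12786212))))))) (.node (.node (.node
    (.node (.node (.node (.leaf (nat_lit 1786771)) (.leaf (nat_lit 16425536))) (.node (.leaf
    (nat_lit 14148863)) (.leaf (nat_lit 9754867)))) (.node (.node (.leaf (nat_lit 246037)) (.leaf
    (nat_lit 10705986))) (.node (.leaf (nat_lit 17868546)) (.leaf (nat_lit 9999876))))) (.node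
    (.node (.node (.leaf (nat_lit 10179539)) (.leaf (nat_lit 4573568))) (.node (.leaf (nat_lit
    9343432)) (.leaf (nat_lit 3639062)))) (.node (.node (.leaf (nat_lit 10491047)) (.leaf (nat_lit
    3966931))) (.leaf (nat_lit 3820476))))) (.node (.node (.node (.node (.leaf (nat_lit 9851679))
    (.leaf (nat_lit 967150))) (.node (.leaf (nat_lit 4901131)) (.leaf (nat_lit 17245383)))) (.node
    (.node (.leaf (nat_lit 5851828)) (.leaf (nat_lit 14050969))) (.node (.leaf (nat_lit 2229397))
    (.leaf (nat_lit 17474949))))) (.node (.node (.node (.leaf (nat_lit 10476980)) (.leaf (nat_lit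
    9458195))) (.node (.leaf (nat_lit 6592450)) (.leaf (nat_lit 8933583)))) (.node (.node (.leaf
    (nat_lit 17048590)) (.leaf (nat_lit 8179483))) (.leaf (nat_lit 6821122)))))) (.node (.node
    (.node (.node (.node (.leaf (nat_lit 2590626)) (.leaf (nat_lit 15737781))) (.node (.leaf
    (nat_lit 672449)) (.leaf (nat_lit 14982915)))) (.node (.node (.leaf (nat_lit 1705255)) (.leaf
    (nat_lit 15638594))) (.node (.leaf (nat_lit 65618)) (.leaf (nat_lit 11492214))))) (.node (.node
    (.node (.leaf (nat_lit 16163184)) (.leaf (nat_lit 6786354))) (.node (.leaf (nat_lit 14294413))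
    (.leaf (nat_lit 7327061)))) (.node (.node (.leaf (nat_lit 14491117)) (.leaf (nat_lit 5114625)))
    (.leaf (nat_lit 7409611))))) (.node (.node (.node (.node (.leaf (nat_lit 8081117)) (.leaf
    (nat_lit 3098129))) (.node (.leaf (nat_lit 8408991)) (.leaf (nat_lit 590143)))) (.node (.node
    (.leaf (nat_lit 3460165)) (.leaf (nat_lit 2229399))) (.node (.leaf (nat_lit 4737247)) (.leaf
    (nat_lit 14984495))))) (.node (.node (.node (.leaf (nat_lit 13820499)) (.leaf (nat_lit
    12917389))) (.node (.leaf (nat_lit 14950135)) (.leaf (nat_lit 5656814)))) (.node (.node (.leaf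
    (nat_lit 16491107)) (.leaf (nat_lit 10228727))) (.leaf (nat_lit 14999307))))))))) (.node (.node
    (.node (.node (.node (.node (.node (.node (.leaf (nat_lit 1016314)) (.leaf (nat_lit 17392950)))
    (.node (.leaf (nat_lit 17704539)) (.leaf (nat_lit 10704357)))) (.node (.node (.leaf (nat_lit
    15557827)) (.leaf (nat_lit 10508474))) (.node (.leaf (nat_lit 10542724)) (.leaf (nat_lit
    9950035))))) (.node (.node (.node (.leaf (nat_lit 7442590)) (.leaf (nat_lit 3868571))) (.node
    (.leaf (nat_lit 3263383)) (.leaf (nat_lit 1753992)))) (.node (.node (.leaf (nat_lit 3837411))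
    (.leaf (nat_lit 2671932))) (.leaf (nat_lit 2705759))))) (.node (.node (.node (.node (.leaf
    (nat_lit 7458198)) (.leaf (nat_lit 14804574))) (.node (.leaf (nat_lit 1197164)) (.leaf (nat_lit
    17655339)))) (.node (.node (.leaf (nat_lit 6720544)) (.leaf (nat_lit 14885454))) (.node (.leaf
    (nat_lit 770526)) (.leaf (nat_lit 16491111))))) (.node (.node (.node (.leaf (nat_lit 13064961))
    (.leaf (nat_lit 6524626))) (.node (.leaf (nat_lit 8574159)) (.leaf (nat_lit 8671275)))) (.node
    (.node (.leaf (nat_lit 12835408)) (.leaf (nat_lit 4770891))) (.leaf (nat_lit 10277907))))))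
    (.node (.node (.node (.node (.node (.leaf (nat_lit 4720856)) (.leaf (nat_lit 15704151))) (.node
    (.leaf (nat_lit 163943)) (.leaf (nat_lit 11737912)))) (.node (.node (.leaf (nat_lit 2294972))
    (.leaf (nat_lit 10001848))) (.node (.leaf (nat_lit 15491958)) (.leaf (nat_lit 13212558)))))
    (.node (.node (.node (.leaf (nat_lit 15048485)) (.leaf (nat_lit 9966431))) (.node (.leaf
    (nat_lit 13409285)) (.leaf (nat_lit 2934470)))) (.node (.node (.leaf (nat_lit 4838057)) (.leaf
    (nat_lit 9474584))) (.leaf (nat_lit 7392633))))) (.node (.node (.node (.node (.leaf (nat_lit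
    10015608)) (.leaf (nat_lit 1885127))) (.node (.leaf (nat_lit 5048650)) (.leaf (nat_lit
    14853373)))) (.node (.node (.leaf (nat_lit 10622198)) (.leaf (nat_lit 475421))) (.node (.leaf
    (nat_lit 1672675)) (.leaf (nat_lit 17786533))))) (.node (.node (.node (.leaf (nat_lit
    17228984)) (.leaf (nat_lit 10179541))) (.node (.leaf (nat_lit 7608773)) (.leaf (nat_lit
    8245043)))) (.node (.node (.leaf (nat_lit 17753743)) (.leaf (nat_lit 8589506))) (.leaf (nat_lit
    12933794))))))) (.node (.node (.node (.node (.node (.node (.leaf (nat_lit 1262333)) (.leaf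
    (nat_lit 13590039))) (.node (.leaf (nat_lit 17064985)) (.leaf (nat_lit 9214012)))) (.node
    (.node (.leaf (nat_lit 278701)) (.leaf (nat_lit 14786203))) (.node (.leaf (nat_lit 17212589))
    (.leaf (nat_lit 11982851))))) (.node (.node (.node (.leaf (nat_lit 7099193)) (.leaf (nat_lit
    4933915))) (.node (.leaf (nat_lit 12540288)) (.leaf (nat_lit 3753819)))) (.node (.node (.leaf
    (nat_lit 5738532)) (.leaf (nat_lit 2361131))) (.leaf (nat_lit 5868384))))) (.node (.node (.node
    (.node (.leaf (nat_lit 9818879)) (.leaf (nat_lit 704876))) (.node (.leaf (nat_lit 6245234))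
    (.leaf (nat_lit 17376555)))) (.node (.node (.leaf (nat_lit 4475003)) (.leaf (nat_lit
    17425826))) (.node (.leaf (nat_lit 3458752)) (.leaf (nat_lit 14049044))))) (.node (.node (.node
    (.leaf (nat_lit 14114093)) (.leaf (nat_lit 6852922))) (.node (.leaf (nat_lit 6395714)) (.leaf
    (nat_lit 8064725)))) (.node (.node (.leaf (nat_lit 16786238)) (.leaf (nat_lit 6327919))) (.leaf
    (nat_lit 10359889)))))) (.node (.node (.node (.node (.node (.leaf (nat_lit 3622665)) (.leaf
    (nat_lit 16392943))) (.node (.leaf (nat_lit 2081842)) (.leaf (nat_lit 13327694)))) (.node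
    (.node (.leaf (nat_lit 1328331)) (.leaf (nat_lit 15376354))) (.node (.leaf (nat_lit 17278746))
    (.leaf (nat_lit 12917399))))) (.node (.node (.node (.leaf (nat_lit 7411731)) (.leaf (nat_lit
    4672676))) (.node (.leaf (nat_lit 14179666)) (.leaf (nat_lit 3491985)))) (.node (.node (.leaf
    (nat_lit 10769749)) (.leaf (nat_lit 5868207))) (.leaf (nat_lit 8261439))))) (.node (.node
    (.node (.node (.leaf (nat_lit 12786204)) (.leaf (nat_lit 2459026))) (.node (.leaf (nat_lit
    10359884)) (.leaf (nat_lit 491786)))) (.node (.node (.leaf (nat_lit 10835318)) (.leaf (nat_lit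
    1393437))) (.node (.leaf (nat_lit 2295819)) (.leaf (nat_lit 15459402))))) (.node (.node (.node
    (.leaf (nat_lit 16425533)) (.leaf (nat_lit 11228791))) (.node (.leaf (nat_lit 14835396)) (.leaf
    (nat_lit 12097624)))) (.node (.node (.leaf (nat_lit 14966523)) (.leaf (nat_lit 5919587)))
    (.leaf (nat_lit 9591111)))))))) (.node (.node (.node (.node (.node (.node (.node (.leaf
    (nat_lit 1278623)) (.leaf (nat_lit 17556949))) (.node (.leaf (nat_lit 12608121)) (.leaf
    (nat_lit 11868101)))) (.node (.node (.leaf (nat_lit 17180311)) (.leaf (nat_lit 11541022)))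
    (.node (.leaf (nat_lit 16638689)) (.leaf (nat_lit 8819742))))) (.node (.node (.node (.leaf
    (nat_lit 9163220)) (.leaf (nat_lit 8884402))) (.node (.leaf (nat_lit 12179586)) (.leaf (nat_lit
    2262190)))) (.node (.node (.leaf (nat_lit 6508289)) (.leaf (nat_lit 3147315))) (.leaf (nat_lit
    2935375))))) (.node (.node (.node (.node (.leaf (nat_lit 9081133)) (.leaf (nat_lit 196733)))
    (.node (.leaf (nat_lit 1475907)) (.leaf (nat_lit 16983005)))) (.node (.node (.leaf (nat_lit
    3950535)) (.leaf (nat_lit 15475681))) (.node (.leaf (nat_lit 2606366)) (.leaf (nat_lit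
    13721066))))) (.node (.node (.node (.leaf (nat_lit 10705982)) (.leaf (nat_lit 10818920)))
    (.node (.leaf (nat_lit 5969409)) (.leaf (nat_lit 4590382)))) (.node (.node (.leaf (nat_lit
    11557113)) (.leaf (nat_lit 5721437))) (.leaf (nat_lit 5034766)))))) (.node (.node (.node (.node
    (.node (.leaf (nat_lit 3098127)) (.leaf (nat_lit 12214619))) (.node (.leaf (nat_lit 393532))
    (.leaf (nat_lit 13901012)))) (.node (.node (.leaf (nat_lit 3196488)) (.leaf (nat_lit
    16458319))) (.node (.leaf (nat_lit 17950554)) (.leaf (nat_lit 10770718))))) (.node (.node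
    (.node (.leaf (nat_lit 10229512)) (.leaf (nat_lit 8048331))) (.node (.leaf (nat_lit 13851826))
    (.leaf (nat_lit 3311588)))) (.node (.node (.leaf (nat_lit 10245121)) (.leaf (nat_lit 3492270)))
    (.leaf (nat_lit 3903023))))) (.node (.node (.node (.node (.leaf (nat_lit 7294269)) (.leaf
    (nat_lit 2885045))) (.node (.leaf (nat_lit 9589348)) (.leaf (nat_lit 16508628)))) (.node (.node
    (.leaf (nat_lit 11179596)) (.leaf (nat_lit 1049099))) (.node (.leaf (nat_lit 2000609)) (.leaf
    (nat_lit 13820594))))) (.node (.node (.node (.leaf (nat_lit 17753733)) (.leaf (nat_lit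
    9508138))) (.node (.leaf (nat_lit 13179759)) (.leaf (nat_lit 9425411)))) (.node (.node (.leaf
    (nat_lit 14884571)) (.leaf (nat_lit 8720904))) (.leaf (nat_lit 12950190))))))) (.node (.node
    (.node (.node (.node (.node (.leaf (nat_lit 3606276)) (.leaf (nat_lit 16359938))) (.node (.leaf
    (nat_lit 13657561)) (.leaf (nat_lit 12409247)))) (.node (.node (.leaf (nat_lit 622982)) (.leaf
    (nat_lit 17606139))) (.node (.leaf (nat_lit 16212463)) (.leaf (nat_lit 13048569))))) (.node
    (.node (.node (.leaf (nat_lit 12769815)) (.leaf (nat_lit 4262416))) (.node (.leaf (nat_lit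
    12950187)) (.leaf (nat_lit 5245360)))) (.node (.node (.leaf (nat_lit 9179497)) (.leaf (nat_lit
    5409279))) (.leaf (nat_lit 9179498))))) (.node (.node (.node (.node (.leaf (nat_lit 3197807))
    (.leaf (nat_lit 1262225))) (.node (.leaf (nat_lit 3016533)) (.leaf (nat_lit 15409984)))) (.node
    (.node (.leaf (nat_lit 8704057)) (.leaf (nat_lit 5))) (.node (.leaf (nat_lit 4606124)) (.leaf
    (nat_lit 15818889))))) (.node (.node (.node (.leaf (nat_lit 16868228)) (.leaf (nat_lit
    8524411))) (.node (.leaf (nat_lit 6838377)) (.leaf (nat_lit 5639404)))) (.node (.node (.leaf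
    (nat_lit 16146798)) (.leaf (nat_lit 9638519))) (.leaf (nat_lit 10769812)))))) (.node (.node
    (.node (.node (.node (.leaf (nat_lit 2328603)) (.leaf (nat_lit 17212587))) (.node (.leaf
    (nat_lit 2770292)) (.leaf (nat_lit 14261849)))) (.node (.node (.leaf (nat_lit 2901435)) (.leaf
    (nat_lit 16195989))) (.node (.leaf (nat_lit 934368)) (.leaf (nat_lit 14114094))))) (.node
    (.node (.node (.leaf (nat_lit 7543163)) (.leaf (nat_lit 7622127))) (.node (.leaf (nat_lit
    5067645)) (.leaf (nat_lit 4131149)))) (.node (.node (.leaf (nat_lit 6084261)) (.leaf (nat_lit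
    5344128))) (.leaf (nat_lit 6852724))))) (.node (.node (.node (.node (.leaf (nat_lit 5050214))
    (.leaf (nat_lit 3999719))) (.node (.leaf (nat_lit 6687765)) (.leaf (nat_lit 704942)))) (.node
    (.node (.leaf (nat_lit 7097561)) (.leaf (nat_lit 1606725))) (.node (.leaf (nat_lit 3868842))
    (.leaf (nat_lit 17983347))))) (.node (.node (.node (.leaf (nat_lit 17376563)) (.leaf (nat_lit
    13130559))) (.node (.leaf (nat_lit 9608556)) (.leaf (nat_lit 9818873)))) (.node (.node (.leaf
    (nat_lit 15491073)) (.leaf (nat_lit 9032877))) (.leaf (nat_lit 7920317)))))))))))) (.node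
    (.node (.node (.node (.node (.node (.node (.node (.node (.node (.node (.leaf (nat_lit 131146))
    (.leaf (nat_lit 8002317))) (.node (.leaf (nat_lit 15589409)) (.leaf (nat_lit 12392733))))
    (.node (.node (.leaf (nat_lit 13738841)) (.leaf (nat_lit 10344370))) (.node (.leaf (nat_lit
    9821595)) (.leaf (nat_lit 5476802))))) (.node (.node (.node (.leaf (nat_lit 13392892)) (.leaf
    (nat_lit 2361012))) (.node (.leaf (nat_lit 9474598)) (.leaf (nat_lit 1262228)))) (.node (.node
    (.leaf (nat_lit 3624181)) (.leaf (nat_lit 2032772))) (.node (.leaf (nat_lit 2541773)) (.leaf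
    (nat_lit 17671798)))))) (.node (.node (.node (.node (.leaf (nat_lit 8327018)) (.leaf (nat_lit
    16540900))) (.node (.leaf (nat_lit 3130912)) (.leaf (nat_lit 13442718)))) (.node (.node (.leaf
    (nat_lit 2999771)) (.leaf (nat_lit 14623010))) (.node (.leaf (nat_lit 229637)) (.leaf (nat_lit
    14376390))))) (.node (.node (.node (.leaf (nat_lit 14376385)) (.leaf (nat_lit 7572984))) (.node
    (.leaf (nat_lit 10130361)) (.leaf (nat_lit 6048521)))) (.node (.node (.leaf (nat_lit 10852064))
    (.leaf (nat_lit 6343588))) (.leaf (nat_lit 9015556)))))) (.node (.node (.node (.node (.node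
    (.leaf (nat_lit 3753814)) (.leaf (nat_lit 12590972))) (.node (.leaf (nat_lit 13788727)) (.leaf
    (nat_lit 10574311)))) (.node (.node (.leaf (nat_lit 1721188)) (.leaf (nat_lit 9100520))) (.node
    (.leaf (nat_lit 16343614)) (.leaf (nat_lit 10426104))))) (.node (.node (.node (.leaf (nat_lit
    10540225)) (.leaf (nat_lit 4131378))) (.node (.leaf (nat_lit 13064965)) (.leaf (nat_lit
    3032568)))) (.node (.node (.leaf (nat_lit 9966429)) (.leaf (nat_lit 6999200))) (.leaf (nat_lit
    8622082))))) (.node (.node (.node (.node (.leaf (nat_lit 6343571)) (.leaf (nat_lit 1639229)))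
    (.node (.leaf (nat_lit 2918278)) (.leaf (nat_lit 15311756)))) (.node (.node (.leaf (nat_lit
    5097817)) (.leaf (nat_lit 98355))) (.node (.leaf (nat_lit 4802794)) (.leaf (nat_lit
    15654973))))) (.node (.node (.node (.leaf (nat_lit 14802599)) (.leaf (nat_lit 9491140))) (.node
    (.leaf (nat_lit 16146784)) (.leaf (nat_lit 5704992)))) (.node (.node (.leaf (nat_lit 14638646))
    (.leaf (nat_lit 11048433))) (.leaf (nat_lit 10982873))))))) (.node (.node (.node (.node (.node
    (.node (.leaf (nat_lit 475669)) (.leaf (nat_lit 17458557))) (.node (.leaf (nat_lit 17343761))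
    (.leaf (nat_lit 11835316)))) (.node (.node (.leaf (nat_lit 16639734)) (.leaf (nat_lit
    11459182))) (.node (.leaf (nat_lit 17228988)) (.leaf (nat_lit 6984814))))) (.node (.node (.node
    (.leaf (nat_lit 7508506)) (.leaf (nat_lit 5638737))) (.node (.leaf (nat_lit 7310669)) (.leaf
    (nat_lit 1999879)))) (.node (.node (.leaf (nat_lit 12671457)) (.leaf (nat_lit 3196506))) (.leaf
    (nat_lit 8999163))))) (.node (.node (.node (.node (.leaf (nat_lit 2771391)) (.leaf (nat_lit
    344265))) (.node (.leaf (nat_lit 1574272)) (.leaf (nat_lit 14196889)))) (.node (.node (.leaf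
    (nat_lit 4048897)) (.leaf (nat_lit 17048621))) (.node (.leaf (nat_lit 1852342)) (.leaf (nat_lit
    17278175))))) (.node (.node (.node (.leaf (nat_lit 12590194)) (.leaf (nat_lit 12327153)))
    (.node (.leaf (nat_lit 11179605)) (.leaf (nat_lit 7802451)))) (.node (.node (.leaf (nat_lit
    16343536)) (.leaf (nat_lit 8982760))) (.leaf (nat_lit 4969279)))))) (.node (.node (.node (.node
    (.node (.leaf (nat_lit 2967104)) (.leaf (nat_lit 16327149))) (.node (.leaf (nat_lit 311647))
    (.leaf (nat_lit 14589473)))) (.node (.node (.leaf (nat_lit 3343998)) (.leaf (nat_lit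
    16441927))) (.node (.leaf (nat_lit 15967629)) (.leaf (nat_lit 12081504))))) (.node (.node
    (.node (.leaf (nat_lit 10147635)) (.leaf (nat_lit 8015547))) (.node (.leaf (nat_lit 13933794))
    (.leaf (nat_lit 2328595)))) (.node (.node (.leaf (nat_lit 9933880)) (.leaf (nat_lit 6294401)))
    (.leaf (nat_lit 12835398))))) (.node (.node (.node (.node (.leaf (nat_lit 3738989)) (.leaf
    (nat_lit 2753900))) (.node (.leaf (nat_lit 9753300)) (.leaf (nat_lit 16246593)))) (.node (.node
    (.leaf (nat_lit 4688706)) (.leaf (nat_lit 1065539))) (.node (.leaf (nat_lit 6671374)) (.leaf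
    (nat_lit 16360188))))) (.node (.node (.node (.leaf (nat_lit 17310968)) (.leaf (nat_lit
    13655149))) (.node (.leaf (nat_lit 8182726)) (.leaf (nat_lit 8327017)))) (.node (.node (.leaf
    (nat_lit 14245378)) (.leaf (nat_lit 10392688))) (.leaf (nat_lit 10033188)))))))) (.node (.node
    (.node (.node (.node (.node (.node (.leaf (nat_lit 573749)) (.leaf (nat_lit 16245175))) (.node
    (.leaf (nat_lit 16114005)) (.leaf (nat_lit 11146804)))) (.node (.node (.leaf (nat_lit
    17770139)) (.leaf (nat_lit 12392736))) (.node (.leaf (nat_lit 13999823)) (.leaf (nat_lit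
    9835302))))) (.node (.node (.node (.leaf (nat_lit 9359823)) (.leaf (nat_lit 3196885))) (.node
    (.leaf (nat_lit 11671395)) (.leaf (nat_lit 1770381)))) (.node (.node (.leaf (nat_lit 7720489))
    (.leaf (nat_lit 2721113))) (.leaf (nat_lit 2738575))))) (.node (.node (.node (.node (.leaf
    (nat_lit 5868211)) (.leaf (nat_lit 13887153))) (.node (.leaf (nat_lit 1279143)) (.leaf (nat_lit
    16884621)))) (.node (.node (.leaf (nat_lit 3524311)) (.leaf (nat_lit 15999645))) (.node (.leaf
    (nat_lit 868863)) (.leaf (nat_lit 14999305))))) (.node (.node (.node (.leaf (nat_lit 12966733))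
    (.leaf (nat_lit 6639372))) (.node (.leaf (nat_lit 14802594)) (.leaf (nat_lit 9671311)))) (.node
    (.node (.leaf (nat_lit 11474904)) (.leaf (nat_lit 4131948))) (.leaf (nat_lit 4772347))))))
    (.node (.node (.node (.node (.node (.leaf (nat_lit 1459503)) (.leaf (nat_lit 15605846))) (.node
    (.leaf (nat_lit 65638)) (.leaf (nat_lit 12950412)))) (.node (.node (.leaf (nat_lit 1573659))
    (.leaf (nat_lit 17934139))) (.node (.leaf (nat_lit 15573965)) (.leaf (nat_lit 12245171)))))
    (.node (.node (.node (.leaf (nat_lit 8361461)) (.leaf (nat_lit 6064915))) (.node (.leaf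
    (nat_lit 13458455)) (.leaf (nat_lit 2574070)))) (.node (.node (.leaf (nat_lit 6673137)) (.leaf
    (nat_lit 5376502))) (.leaf (nat_lit 5344586))))) (.node (.node (.node (.node (.leaf (nat_lit
    5180505)) (.leaf (nat_lit 1835966))) (.node (.leaf (nat_lit 2443352)) (.leaf (nat_lit
    14968141)))) (.node (.node (.leaf (nat_lit 5622349)) (.leaf (nat_lit 999923))) (.node (.leaf
    (nat_lit 6032122)) (.leaf (nat_lit 13885816))))) (.node (.node (.node (.leaf (nat_lit
    15359953)) (.leaf (nat_lit 9294856))) (.node (.leaf (nat_lit 7756301)) (.leaf (nat_lit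
    8835217)))) (.node (.node (.leaf (nat_lit 14605863)) (.leaf (nat_lit 10818919))) (.leaf
    (nat_lit 11294492))))))) (.node (.node (.node (.node (.node (.node (.leaf (nat_lit 1622835))
    (.leaf (nat_lit 17770141))) (.node (.leaf (nat_lit 17163381)) (.leaf (nat_lit 12310758))))
    (.node (.node (.leaf (nat_lit 180427)) (.leaf (nat_lit 15097671))) (.node (.leaf (nat_lit
    12067020)) (.leaf (nat_lit 10687904))))) (.node (.node (.node (.leaf (nat_lit 14540297)) (.leaf
    (nat_lit 9868072))) (.node (.leaf (nat_lit 8343420)) (.leaf (nat_lit 2540819)))) (.node (.node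
    (.leaf (nat_lit 4313167)) (.leaf (nat_lit 4442227))) (.leaf (nat_lit 11474692))))) (.node
    (.node (.node (.node (.leaf (nat_lit 10818923)) (.leaf (nat_lit 639386))) (.node (.leaf
    (nat_lit 6491078)) (.leaf (nat_lit 17983348)))) (.node (.node (.leaf (nat_lit 2476181)) (.leaf
    (nat_lit 13837818))) (.node (.leaf (nat_lit 2671934)) (.leaf (nat_lit 14212957))))) (.node
    (.node (.node (.leaf (nat_lit 14704223)) (.leaf (nat_lit 12015643))) (.node (.leaf (nat_lit
    13228961)) (.leaf (nat_lit 9802477)))) (.node (.node (.leaf (nat_lit 16884618)) (.leaf (nat_lit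
    7818913))) (.leaf (nat_lit 5657751)))))) (.node (.node (.node (.node (.node (.leaf (nat_lit
    3655483)) (.leaf (nat_lit 16851833))) (.node (.leaf (nat_lit 2180217)) (.leaf (nat_lit
    14687832)))) (.node (.node (.leaf (nat_lit 1344749)) (.leaf (nat_lit 17212580))) (.node (.leaf
    (nat_lit 17983373)) (.leaf (nat_lit 13278154))))) (.node (.node (.node (.leaf (nat_lit
    6756433)) (.leaf (nat_lit 8835218))) (.node (.leaf (nat_lit 14228845)) (.leaf (nat_lit
    4638905)))) (.node (.node (.leaf (nat_lit 12261567)) (.leaf (nat_lit 5769902))) (.leaf (nat_lit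
    5607300))))) (.node (.node (.node (.node (.leaf (nat_lit 12933784)) (.leaf (nat_lit 2328004)))
    (.node (.leaf (nat_lit 10474652)) (.leaf (nat_lit 426219)))) (.node (.node (.leaf (nat_lit
    9409007)) (.leaf (nat_lit 1672015))) (.node (.leaf (nat_lit 8392600)) (.leaf (nat_lit
    16966818))))) (.node (.node (.node (.leaf (nat_lit 15851984)) (.leaf (nat_lit 10032832)))
    (.node (.leaf (nat_lit 17704530)) (.leaf (nat_lit 10294303)))) (.node (.node (.leaf (nat_lit
    15048491)) (.leaf (nat_lit 11163203))) (.leaf (nat_lit 14458639))))))))) (.node (.node (.node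
    (.node (.node (.node (.node (.node (.leaf (nat_lit 639312)) (.leaf (nat_lit 17294566))) (.node
    (.leaf (nat_lit 13394075)) (.leaf (nat_lit 11966459)))) (.node (.node (.leaf (nat_lit
    16000046)) (.leaf (nat_lit 9525332))) (.node (.leaf (nat_lit 16195994)) (.leaf (nat_lit
    10884495))))) (.node (.node (.node (.leaf (nat_lit 13507618)) (.leaf (nat_lit 3376958))) (.node
    (.leaf (nat_lit 3197803)) (.leaf (nat_lit 1032823)))) (.node (.node (.leaf (nat_lit 3755403))
    (.leaf (nat_lit 2753897))) (.node (.leaf (nat_lit 9900852)) (.leaf (nat_lit 17262466))))))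
    (.node (.node (.node (.node (.leaf (nat_lit 6671372)) (.leaf (nat_lit 14198214))) (.node (.leaf
    (nat_lit 1065988)) (.leaf (nat_lit 14638889)))) (.node (.node (.leaf (nat_lit 3262047)) (.leaf
    (nat_lit 16228820))) (.node (.leaf (nat_lit 344445)) (.leaf (nat_lit 16605891))))) (.node
    (.node (.node (.leaf (nat_lit 11623033)) (.leaf (nat_lit 6196860))) (.node (.leaf (nat_lit
    6722681)) (.leaf (nat_lit 7523771)))) (.node (.node (.leaf (nat_lit 8001357)) (.leaf (nat_lit
    5803008))) (.leaf (nat_lit 5673309)))))) (.node (.node (.node (.node (.node (.leaf (nat_lit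
    4311106)) (.leaf (nat_lit 15671364))) (.node (.leaf (nat_lit 17803077)) (.leaf (nat_lit
    13212557)))) (.node (.node (.leaf (nat_lit 1016390)) (.leaf (nat_lit 15917275))) (.node (.leaf
    (nat_lit 15934210)) (.leaf (nat_lit 11950067))))) (.node (.node (.node (.leaf (nat_lit
    11294389)) (.leaf (nat_lit 5720716))) (.node (.leaf (nat_lit 4837204)) (.leaf (nat_lit
    3999717)))) (.node (.node (.leaf (nat_lit 5214807)) (.leaf (nat_lit 7245084))) (.leaf (nat_lit
    4312255))))) (.node (.node (.node (.node (.leaf (nat_lit 3345385)) (.leaf (nat_lit 1327916)))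
    (.node (.leaf (nat_lit 2607124)) (.leaf (nat_lit 15574118)))) (.node (.node (.leaf (nat_lit
    5360103)) (.leaf (nat_lit 311507))) (.node (.leaf (nat_lit 5409276)) (.leaf (nat_lit
    13492433))))) (.node (.node (.node (.leaf (nat_lit 18016154)) (.leaf (nat_lit 14359993)))
    (.node (.leaf (nat_lit 7346519)) (.leaf (nat_lit 4738483)))) (.node (.node (.leaf (nat_lit
    15261609)) (.leaf (nat_lit 6901845))) (.leaf (nat_lit 6346385))))))) (.node (.node (.node
    (.node (.node (.node (.leaf (nat_lit 2426086)) (.leaf (nat_lit 14540304))) (.node (.leaf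
    (nat_lit 16901019)) (.leaf (nat_lit 11802589)))) (.node (.node (.leaf (nat_lit 32816)) (.leaf
    (nat_lit 11787082))) (.node (.leaf (nat_lit 15589430)) (.leaf (nat_lit 9573656))))) (.node
    (.node (.node (.leaf (nat_lit 7262919)) (.leaf (nat_lit 6802493))) (.node (.leaf (nat_lit
    11441919)) (.leaf (nat_lit 1901743)))) (.node (.node (.leaf (nat_lit 11097609)) (.leaf (nat_lit
    3557095))) (.leaf (nat_lit 10228732))))) (.node (.node (.node (.node (.leaf (nat_lit 5556793))
    (.leaf (nat_lit 573751))) (.node (.leaf (nat_lit 3048959)) (.leaf (nat_lit 17770131)))) (.node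
    (.node (.leaf (nat_lit 2377791)) (.leaf (nat_lit 17622541))) (.node (.leaf (nat_lit 2753903))
    (.leaf (nat_lit 14393034))))) (.node (.node (.node (.leaf (nat_lit 12147940)) (.leaf (nat_lit
    13671543))) (.node (.leaf (nat_lit 7247614)) (.leaf (nat_lit 6573031)))) (.node (.node (.leaf
    (nat_lit 8690155)) (.leaf (nat_lit 7753273))) (.leaf (nat_lit 8131558)))))) (.node (.node
    (.node (.node (.node (.leaf (nat_lit 2361022)) (.leaf (nat_lit 16294507))) (.node (.leaf
    (nat_lit 1868730)) (.leaf (nat_lit 15163255)))) (.node (.node (.leaf (nat_lit 1557639)) (.leaf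
    (nat_lit 13983648))) (.node (.leaf (nat_lit 16475775)) (.leaf (nat_lit 9984530))))) (.node
    (.node (.node (.leaf (nat_lit 13605969)) (.leaf (nat_lit 9113915))) (.node (.leaf (nat_lit
    7672265)) (.leaf (nat_lit 3917917)))) (.node (.node (.leaf (nat_lit 10605811)) (.leaf (nat_lit
    4459080))) (.leaf (nat_lit 13228946))))) (.node (.node (.node (.node (.leaf (nat_lit 7654917))
    (.leaf (nat_lit 2639154))) (.node (.leaf (nat_lit 6064920)) (.leaf (nat_lit 163945)))) (.node
    (.node (.leaf (nat_lit 6228904)) (.leaf (nat_lit 2147426))) (.node (.leaf (nat_lit 7736878))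
    (.leaf (nat_lit 17228981))))) (.node (.node (.node (.leaf (nat_lit 17966946)) (.leaf (nat_lit
    9786872))) (.node (.leaf (nat_lit 8739885)) (.leaf (nat_lit 5967832)))) (.node (.node (.leaf
    (nat_lit 15081283)) (.leaf (nat_lit 10556629))) (.leaf (nat_lit 12294361)))))))) (.node (.node
    (.node (.node (.node (.node (.node (.leaf (nat_lit 344471)) (.leaf (nat_lit 14409168))) (.node
    (.leaf (nat_lit 12427771)) (.leaf (nat_lit 13228952)))) (.node (.node (.leaf (nat_lit
    15590909)) (.leaf (nat_lit 9230766))) (.node (.leaf (nat_lit 10936152)) (.leaf (nat_lit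
    10245123))))) (.node (.node (.node (.leaf (nat_lit 7623034)) (.leaf (nat_lit 5425669))) (.node
    (.leaf (nat_lit 10392696)) (.leaf (nat_lit 1491832)))) (.node (.node (.leaf (nat_lit 7884451))
    (.leaf (nat_lit 3032553))) (.leaf (nat_lit 6540251))))) (.node (.node (.node (.node (.leaf
    (nat_lit 4540735)) (.leaf (nat_lit 32791))) (.node (.leaf (nat_lit 2524429)) (.leaf (nat_lit
    17146983)))) (.node (.node (.leaf (nat_lit 7474590)) (.leaf (nat_lit 16786267))) (.node (.leaf
    (nat_lit 590489)) (.leaf (nat_lit 13786533))))) (.node (.node (.node (.leaf (nat_lit 8428545))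
    (.leaf (nat_lit 10900889))) (.node (.leaf (nat_lit 15097673)) (.leaf (nat_lit 4426448))))
    (.node (.node (.leaf (nat_lit 10918006)) (.leaf (nat_lit 10310702))) (.leaf (nat_lit
    10753361)))))) (.node (.node (.node (.node (.node (.leaf (nat_lit 5540400)) (.leaf (nat_lit
    13574391))) (.node (.leaf (nat_lit 426217)) (.leaf (nat_lit 14704229)))) (.node (.node (.leaf
    (nat_lit 2983382)) (.leaf (nat_lit 14245488))) (.node (.leaf (nat_lit 15803564)) (.leaf
    (nat_lit 9902244))))) (.node (.node (.node (.leaf (nat_lit 13540401)) (.leaf (nat_lit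
    7835229))) (.node (.leaf (nat_lit 13622358)) (.leaf (nat_lit 6179686)))) (.node (.node (.leaf
    (nat_lit 6624144)) (.leaf (nat_lit 5999335))) (.leaf (nat_lit 4525531))))) (.node (.node (.node
    (.node (.leaf (nat_lit 5524706)) (.leaf (nat_lit 1983572))) (.node (.leaf (nat_lit 9359820))
    (.leaf (nat_lit 16328251)))) (.node (.node (.leaf (nat_lit 5884601)) (.leaf (nat_lit 885197)))
    (.node (.leaf (nat_lit 6654974)) (.leaf (nat_lit 16130616))))) (.node (.node (.node (.leaf
    (nat_lit 14065670)) (.leaf (nat_lit 9704632))) (.node (.leaf (nat_lit 7985884)) (.leaf (nat_lit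
    8179484)))) (.node (.node (.leaf (nat_lit 15999245)) (.leaf (nat_lit 9818871))) (.leaf (nat_lit
    10852246))))))) (.node (.node (.node (.node (.node (.node (.leaf (nat_lit 1835964)) (.leaf
    (nat_lit 15245221))) (.node (.leaf (nat_lit 14378319)) (.leaf (nat_lit 10000691)))) (.node
    (.node (.leaf (nat_lit 999924)) (.leaf (nat_lit 8952950))) (.node (.leaf (nat_lit 12280182))
    (.leaf (nat_lit 11277995))))) (.node (.node (.node (.leaf (nat_lit 13933799)) (.leaf (nat_lit
    4344258))) (.node (.leaf (nat_lit 12769812)) (.leaf (nat_lit 2786691)))) (.node (.node (.leaf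
    (nat_lit 9031945)) (.leaf (nat_lit 3999736))) (.leaf (nat_lit 11818916))))) (.node (.node
    (.node (.node (.leaf (nat_lit 11245188)) (.leaf (nat_lit 1065496))) (.node (.leaf (nat_lit
    2983675)) (.leaf (nat_lit 14394065)))) (.node (.node (.leaf (nat_lit 7228693)) (.leaf (nat_lit
    17327864))) (.node (.leaf (nat_lit 1311943)) (.leaf (nat_lit 15392733))))) (.node (.node (.node
    (.leaf (nat_lit 17524151)) (.leaf (nat_lit 8655388))) (.node (.leaf (nat_lit 6658039)) (.leaf
    (nat_lit 10392687)))) (.node (.node (.leaf (nat_lit 17146980)) (.leaf (nat_lit 12359941)))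
    (.leaf (nat_lit 14900958)))))) (.node (.node (.node (.node (.node (.leaf (nat_lit 7917184))
    (.leaf (nat_lit 16786429))) (.node (.leaf (nat_lit 2688322)) (.leaf (nat_lit 15884480))))
    (.node (.node (.leaf (nat_lit 5130594)) (.leaf (nat_lit 16950217))) (.node (.leaf (nat_lit
    491780)) (.leaf (nat_lit 13016011))))) (.node (.node (.node (.leaf (nat_lit 7690503)) (.leaf
    (nat_lit 6688112))) (.node (.leaf (nat_lit 14376380)) (.leaf (nat_lit 7228694)))) (.node (.node
    (.leaf (nat_lit 6460957)) (.leaf (nat_lit 7212297))) (.leaf (nat_lit 6787075))))) (.node (.node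
    (.node (.node (.leaf (nat_lit 8179479)) (.leaf (nat_lit 3786601))) (.node (.leaf (nat_lit
    10802524)) (.leaf (nat_lit 1049101)))) (.node (.node (.leaf (nat_lit 9605737)) (.leaf (nat_lit
    2278582))) (.node (.leaf (nat_lit 2426987)) (.leaf (nat_lit 15279492))))) (.node (.node (.node
    (.leaf (nat_lit 17048595)) (.leaf (nat_lit 12835401))) (.node (.leaf (nat_lit 15015704)) (.leaf
    (nat_lit 9113918)))) (.node (.node (.leaf (nat_lit 15327175)) (.leaf (nat_lit 8803386))) (.leaf
    (nat_lit 7805493)))))))))) (.node (.node (.node (.node (.node (.node (.node (.node (.node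
    (.leaf (nat_lit 180335)) (.leaf (nat_lit 11541393))) (.node (.leaf (nat_lit 15720541)) (.leaf
    (nat_lit 12573078)))) (.node (.node (.leaf (nat_lit 15000519)) (.leaf (nat_lit 12491097)))
    (.node (.leaf (nat_lit 13983202)) (.leaf (nat_lit 8999454))))) (.node (.node (.node (.leaf
    (nat_lit 5902292)) (.leaf (nat_lit 2590452))) (.node (.leaf (nat_lit 5147417)) (.leaf (nat_lit
    1163854)))) (.node (.node (.leaf (nat_lit 7327057)) (.leaf (nat_lit 3016165))) (.node (.leaf
    (nat_lit 3279090)) (.leaf (nat_lit 17655546)))))) (.node (.node (.node (.node (.leaf (nat_lit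
    2410581)) (.leaf (nat_lit 13526339))) (.node (.leaf (nat_lit 951227)) (.leaf (nat_lit
    15228827)))) (.node (.node (.leaf (nat_lit 5999332)) (.leaf (nat_lit 14754164))) (.node (.leaf
    (nat_lit 1344184)) (.leaf (nat_lit 14343600))))) (.node (.node (.node (.leaf (nat_lit
    10344974)) (.leaf (nat_lit 9933633))) (.node (.leaf (nat_lit 5182471)) (.leaf (nat_lit
    3623369)))) (.node (.node (.leaf (nat_lit 8099611)) (.leaf (nat_lit 8031941))) (.leaf (nat_lit
    8884485)))))) (.node (.node (.node (.node (.node (.leaf (nat_lit 2704717)) (.leaf (nat_lit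
    15474685))) (.node (.leaf (nat_lit 14673595)) (.leaf (nat_lit 11885117)))) (.node (.node (.leaf
    (nat_lit 557564)) (.leaf (nat_lit 16114007))) (.node (.leaf (nat_lit 14082720)) (.leaf (nat_lit
    11474734))))) (.node (.node (.node (.leaf (nat_lit 6935835)) (.leaf (nat_lit 8933581))) (.node
    (.leaf (nat_lit 13261753)) (.leaf (nat_lit 3180101)))) (.node (.node (.leaf (nat_lit 4657645))
    (.leaf (nat_lit 4245612))) (.leaf (nat_lit 3492971))))) (.node (.node (.node (.node (.leaf
    (nat_lit 6474693)) (.leaf (nat_lit 1409764))) (.node (.leaf (nat_lit 7900794)) (.leaf (nat_lit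
    15705080)))) (.node (.node (.leaf (nat_lit 5392891)) (.leaf (nat_lit 229523))) (.node (.leaf
    (nat_lit 5163378)) (.leaf (nat_lit 15786103))))) (.node (.node (.node (.leaf (nat_lit
    17491352)) (.leaf (nat_lit 5018409))) (.node (.leaf (nat_lit 16228772)) (.leaf (nat_lit
    10736961)))) (.node (.node (.leaf (nat_lit 14622255)) (.leaf (nat_lit 7065592))) (.leaf
    (nat_lit 6395419))))))) (.node (.node (.node (.node (.node (.node (.leaf (nat_lit 524911))
    (.leaf (nat_lit 17934136))) (.node (.leaf (nat_lit 16769847)) (.leaf (nat_lit 9656208))))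
    (.node (.node (.leaf (nat_lit 15427463)) (.leaf (nat_lit 11590362))) (.node (.leaf (nat_lit
    16917427)) (.leaf (nat_lit 12163193))))) (.node (.node (.node (.leaf (nat_lit 9622125)) (.leaf
    (nat_lit 7212300))) (.node (.leaf (nat_lit 12343548)) (.leaf (nat_lit 2819485)))) (.node (.node
    (.leaf (nat_lit 8376201)) (.leaf (nat_lit 3704631))) (.leaf (nat_lit 6163297))))) (.node (.node
    (.node (.node (.leaf (nat_lit 5966555)) (.leaf (nat_lit 442611))) (.node (.leaf (nat_lit
    3835783)) (.leaf (nat_lit 17688139)))) (.node (.node (.leaf (nat_lit 2328609)) (.leaf (nat_lit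
    15508645))) (.node (.leaf (nat_lit 3016162)) (.leaf (nat_lit 14196339))))) (.node (.node (.node
    (.leaf (nat_lit 14081312)) (.leaf (nat_lit 7721090))) (.node (.leaf (nat_lit 6133437)) (.leaf
    (nat_lit 6212492)))) (.node (.node (.leaf (nat_lit 16409126)) (.leaf (nat_lit 7196118))) (.leaf
    (nat_lit 7967635)))))) (.node (.node (.node (.node (.node (.leaf (nat_lit 6507466)) (.leaf
    (nat_lit 15081987))) (.node (.leaf (nat_lit 1622839)) (.leaf (nat_lit 13507781)))) (.node
    (.node (.leaf (nat_lit 2819483)) (.leaf (nat_lit 13393750))) (.node (.leaf (nat_lit 16131588))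
    (.leaf (nat_lit 11835825))))) (.node (.node (.node (.leaf (nat_lit 11704871)) (.leaf (nat_lit
    7671312))) (.node (.leaf (nat_lit 14114088)) (.leaf (nat_lit 3016757)))) (.node (.node (.leaf
    (nat_lit 9573529)) (.leaf (nat_lit 4278814))) (.leaf (nat_lit 10064786))))) (.node (.node
    (.node (.node (.leaf (nat_lit 6114735)) (.leaf (nat_lit 3557100))) (.node (.leaf (nat_lit
    9982826)) (.leaf (nat_lit 16403)))) (.node (.node (.leaf (nat_lit 11261603)) (.leaf (nat_lit
    934554))) (.node (.leaf (nat_lit 7507370)) (.leaf (nat_lit 15426390))))) (.node (.node (.node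
    (.leaf (nat_lit 12034247)) (.leaf (nat_lit 8459678))) (.node (.leaf (nat_lit 8461316)) (.leaf
    (nat_lit 12474705)))) (.node (.node (.leaf (nat_lit 17966955)) (.leaf (nat_lit 8737425)))
    (.leaf (nat_lit 9050240)))))))) (.node (.node (.node (.node (.node (.node (.node (.leaf
    (nat_lit 1426128)) (.leaf (nat_lit 8903819))) (.node (.leaf (nat_lit 13509041)) (.leaf (nat_lit
    10163850)))) (.node (.node (.leaf (nat_lit 16950665)) (.leaf (nat_lit 11966808))) (.node (.leaf
    (nat_lit 17343769)) (.leaf (nat_lit 11081221))))) (.node (.node (.node (.leaf (nat_lit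
    6852913)) (.leaf (nat_lit 4655297))) (.node (.leaf (nat_lit 11868099)) (.leaf (nat_lit
    2098243)))) (.node (.node (.leaf (nat_lit 10195939)) (.leaf (nat_lit 3442360))) (.leaf (nat_lit
    7310667))))) (.node (.node (.node (.node (.leaf (nat_lit 9769686)) (.leaf (nat_lit 14264121)))
    (.node (.leaf (nat_lit 2458869)) (.leaf (nat_lit 16753455)))) (.node (.node (.leaf (nat_lit
    7212292)) (.leaf (nat_lit 14590720))) (.node (.leaf (nat_lit 2147418)) (.leaf (nat_lit
    14720626))))) (.node (.node (.node (.leaf (nat_lit 8149953)) (.leaf (nat_lit 9392607))) (.node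
    (.leaf (nat_lit 5657945)) (.leaf (nat_lit 4164239)))) (.node (.node (.leaf (nat_lit 12081228))
    (.leaf (nat_lit 5934269))) (.leaf (nat_lit 7606869)))))) (.node (.node (.node (.node (.node
    (.leaf (nat_lit 2803081)) (.leaf (nat_lit 14885023))) (.node (.leaf (nat_lit 622926)) (.leaf
    (nat_lit 14359994)))) (.node (.node (.leaf (nat_lit 1262349)) (.leaf (nat_lit 16687873)))
    (.node (.leaf (nat_lit 16737328)) (.leaf (nat_lit 8722521))))) (.node (.node (.node (.leaf
    (nat_lit 11491087)) (.leaf (nat_lit 7900797))) (.node (.leaf (nat_lit 4296757)) (.leaf (nat_lit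
    2901816)))) (.node (.node (.leaf (nat_lit 5280583)) (.leaf (nat_lit 5015869))) (.leaf (nat_lit
    9064742))))) (.node (.node (.node (.node (.leaf (nat_lit 4869270)) (.leaf (nat_lit 2016271)))
    (.node (.leaf (nat_lit 7064775)) (.leaf (nat_lit 15197633)))) (.node (.node (.leaf (nat_lit
    7064776)) (.leaf (nat_lit 901589))) (.node (.leaf (nat_lit 3934147)) (.leaf (nat_lit
    14819801))))) (.node (.node (.node (.leaf (nat_lit 14606294)) (.leaf (nat_lit 9344108))) (.node
    (.leaf (nat_lit 11950714)) (.leaf (nat_lit 8097517)))) (.node (.node (.leaf (nat_lit 16671480))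
    (.leaf (nat_lit 4477263))) (.leaf (nat_lit 10409803))))))) (.node (.node (.node (.node (.node
    (.node (.leaf (nat_lit 951166)) (.leaf (nat_lit 17852144))) (.node (.leaf (nat_lit 13346011))
    (.leaf (nat_lit 8476891)))) (.node (.node (.leaf (nat_lit 1098270)) (.leaf (nat_lit 12180530)))
    (.node (.leaf (nat_lit 15212838)) (.leaf (nat_lit 9033202))))) (.node (.node (.node (.leaf
    (nat_lit 13179754)) (.leaf (nat_lit 5146991))) (.node (.leaf (nat_lit 4115962)) (.leaf (nat_lit
    4999468)))) (.node (.node (.leaf (nat_lit 8933585)) (.leaf (nat_lit 4343891))) (.leaf (nat_lit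
    11114010))))) (.node (.node (.node (.node (.leaf (nat_lit 8343416)) (.leaf (nat_lit 934372)))
    (.node (.leaf (nat_lit 2885309)) (.leaf (nat_lit 18016150)))) (.node (.node (.leaf (nat_lit
    3164369)) (.leaf (nat_lit 13969012))) (.node (.leaf (nat_lit 1180799)) (.leaf (nat_lit
    16310753))))) (.node (.node (.node (.leaf (nat_lit 11034012)) (.leaf (nat_lit 10392685)))
    (.node (.leaf (nat_lit 6543281)) (.leaf (nat_lit 5606486)))) (.node (.node (.leaf (nat_lit
    12688153)) (.leaf (nat_lit 6311659))) (.leaf (nat_lit 8967399)))))) (.node (.node (.node (.node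
    (.node (.leaf (nat_lit 7556554)) (.leaf (nat_lit 15770516))) (.node (.leaf (nat_lit 2409692))
    (.leaf (nat_lit 16622288)))) (.node (.node (.leaf (nat_lit 1443099)) (.leaf (nat_lit
    15671363))) (.node (.leaf (nat_lit 32824)) (.leaf (nat_lit 12966742))))) (.node (.node (.node
    (.leaf (nat_lit 7018665)) (.leaf (nat_lit 5410074))) (.node (.leaf (nat_lit 7295693)) (.leaf
    (nat_lit 8523719)))) (.node (.node (.leaf (nat_lit 7951831)) (.leaf (nat_lit 5081830))) (.leaf
    (nat_lit 8736845))))) (.node (.node (.node (.node (.leaf (nat_lit 4001471)) (.leaf (nat_lit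
    3048951))) (.node (.leaf (nat_lit 7556557)) (.leaf (nat_lit 557361)))) (.node (.node (.leaf
    (nat_lit 8343411)) (.leaf (nat_lit 1803165))) (.node (.leaf (nat_lit 8572900)) (.leaf (nat_lit
    17294610))))) (.node (.node (.node (.leaf (nat_lit 15688251)) (.leaf (nat_lit 10475259)))
    (.node (.leaf (nat_lit 9084131)) (.leaf (nat_lit 12737035)))) (.node (.node (.leaf (nat_lit
    15196035)) (.leaf (nat_lit 11212395))) (.leaf (nat_lit 10476009))))))))) (.node (.node (.node
    (.node (.node (.node (.node (.node (.leaf (nat_lit 442609)) (.leaf (nat_lit 16195990))) (.node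
    (.leaf (nat_lit 15982845)) (.leaf (nat_lit 9311697)))) (.node (.node (.leaf (nat_lit 16622760))
    (.leaf (nat_lit 8378530))) (.node (.leaf (nat_lit 10493549)) (.leaf (nat_lit 7656146)))))
    (.node (.node (.node (.leaf (nat_lit 7164042)) (.leaf (nat_lit 3884969))) (.node (.leaf
    (nat_lit 11523873)) (.leaf (nat_lit 2393300)))) (.node (.node (.leaf (nat_lit 12359946)) (.leaf
    (nat_lit 3524316))) (.leaf (nat_lit 10081172))))) (.node (.node (.node (.node (.leaf (nat_lit
    8966365)) (.leaf (nat_lit 14165570))) (.node (.leaf (nat_lit 2671936)) (.leaf (nat_lit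
    16212383)))) (.node (.node (.leaf (nat_lit 3393175)) (.leaf (nat_lit 16573095))) (.node (.leaf
    (nat_lit 737745)) (.leaf (nat_lit 14655042))))) (.node (.node (.node (.leaf (nat_lit 7953111))
    (.leaf (nat_lit 6573762))) (.node (.leaf (nat_lit 14737019)) (.leaf (nat_lit 5835425)))) (.node
    (.node (.leaf (nat_lit 10639246)) (.leaf (nat_lit 9720501))) (.leaf (nat_lit 10687788))))))
    (.node (.node (.node (.node (.node (.leaf (nat_lit 3819390)) (.leaf (nat_lit 16950218))) (.node
    (.leaf (nat_lit 114752)) (.leaf (nat_lit 11557653)))) (.node (.node (.leaf (nat_lit 1360573))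
    (.leaf (nat_lit 11066784))) (.node (.leaf (nat_lit 15557470)) (.leaf (nat_lit 12622256)))))
    (.node (.node (.node (.leaf (nat_lit 10933673)) (.leaf (nat_lit 5982943))) (.node (.leaf
    (nat_lit 4165545)) (.leaf (nat_lit 3425974)))) (.node (.node (.leaf (nat_lit 8983187)) (.leaf
    (nat_lit 4802797))) (.leaf (nat_lit 8818824))))) (.node (.node (.node (.node (.leaf (nat_lit
    7392634)) (.leaf (nat_lit 1737591))) (.node (.leaf (nat_lit 2377775)) (.leaf (nat_lit
    14607585)))) (.node (.node (.leaf (nat_lit 5491235)) (.leaf (nat_lit 327944))) (.node (.leaf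
    (nat_lit 5720684)) (.leaf (nat_lit 14967070))))) (.node (.node (.node (.leaf (nat_lit
    10903379)) (.leaf (nat_lit 10130357))) (.node (.leaf (nat_lit 7526827)) (.leaf (nat_lit
    7359996)))) (.node (.node (.leaf (nat_lit 14769810)) (.leaf (nat_lit 8851638))) (.leaf (nat_lit
    6199007))))))) (.node (.node (.node (.node (.node (.node (.leaf (nat_lit 1540873)) (.leaf
    (nat_lit 16523904))) (.node (.leaf (nat_lit 17032193)) (.leaf (nat_lit 8427558)))) (.node
    (.node (.leaf (nat_lit 459002)) (.leaf (nat_lit 11918276))) (.node (.leaf (nat_lit 16884630))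
    (.leaf (nat_lit 12179590))))) (.node (.node (.node (.leaf (nat_lit 4969259)) (.leaf (nat_lit
    6818889))) (.node (.leaf (nat_lit 5754226)) (.leaf (nat_lit 1344725)))) (.node (.node (.leaf
    (nat_lit 4722682)) (.leaf (nat_lit 2688789))) (.leaf (nat_lit 5770056))))) (.node (.node (.node
    (.node (.leaf (nat_lit 8786035)) (.leaf (nat_lit 688481))) (.node (.leaf (nat_lit 1820226))
    (.leaf (nat_lit 13525419)))) (.node (.node (.leaf (nat_lit 9015548)) (.leaf (nat_lit
    17311106))) (.node (.leaf (nat_lit 1934311)) (.leaf (nat_lit 17376558))))) (.node (.node (.node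
    (.leaf (nat_lit 13704474)) (.leaf (nat_lit 4460843))) (.node (.leaf (nat_lit 11573045)) (.leaf
    (nat_lit 8081122)))) (.node (.node (.leaf (nat_lit 12638777)) (.leaf (nat_lit 6278750))) (.leaf
    (nat_lit 11048442)))))) (.node (.node (.node (.node (.node (.leaf (nat_lit 3868576)) (.leaf
    (nat_lit 12739275))) (.node (.leaf (nat_lit 2016273)) (.leaf (nat_lit 14671436)))) (.node
    (.node (.leaf (nat_lit 4147230)) (.leaf (nat_lit 15409123))) (.node (.leaf (nat_lit 16066307))
    (.leaf (nat_lit 11557492))))) (.node (.node (.node (.leaf (nat_lit 15835278)) (.leaf (nat_lit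
    4279442))) (.node (.leaf (nat_lit 5935655)) (.leaf (nat_lit 7572952)))) (.node (.node (.leaf
    (nat_lit 14425557)) (.leaf (nat_lit 8294230))) (.leaf (nat_lit 7474988))))) (.node (.node
    (.node (.node (.leaf (nat_lit 9933641)) (.leaf (nat_lit 3327609))) (.node (.leaf (nat_lit
    2951620)) (.leaf (nat_lit 311489)))) (.node (.node (.leaf (nat_lit 11130415)) (.leaf (nat_lit
    1917918))) (.node (.leaf (nat_lit 3295228)) (.leaf (nat_lit 15688746))))) (.node (.node (.node
    (.leaf (nat_lit 14279026)) (.leaf (nat_lit 11179601))) (.node (.leaf (nat_lit 8871025)) (.leaf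
    (nat_lit 12704251)))) (.node (.node (.leaf (nat_lit 14819049)) (.leaf (nat_lit 7721797)))
    (.leaf (nat_lit 14835395)))))))) (.node (.node (.node (.node (.node (.node (.node (.leaf
    (nat_lit 934379)) (.leaf (nat_lit 9100541))) (.node (.leaf (nat_lit 12591713)) (.leaf (nat_lit
    9295641)))) (.node (.node (.leaf (nat_lit 17802934)) (.leaf (nat_lit 13605971))) (.node (.leaf
    (nat_lit 17934146)) (.leaf (nat_lit 9360396))))) (.node (.node (.node (.leaf (nat_lit 8311238))
    (.leaf (nat_lit 5261749))) (.node (.leaf (nat_lit 12146796)) (.leaf (nat_lit 1868737)))) (.node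
    (.node (.leaf (nat_lit 12622265)) (.leaf (nat_lit 3114525))) (.leaf (nat_lit 8359813)))))
    (.node (.node (.node (.node (.leaf (nat_lit 10195934)) (.leaf (nat_lit 180337))) (.node (.leaf
    (nat_lit 3098131)) (.leaf (nat_lit 17015801)))) (.node (.node (.leaf (nat_lit 7704096)) (.leaf
    (nat_lit 15770568))) (.node (.leaf (nat_lit 705230)) (.leaf (nat_lit 16458321))))) (.node
    (.node (.node (.leaf (nat_lit 10722350)) (.leaf (nat_lit 4952022))) (.node (.leaf (nat_lit
    15228814)) (.leaf (nat_lit 5131028)))) (.node (.node (.leaf (nat_lit 11622621)) (.leaf (nat_lit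
    6802756))) (.leaf (nat_lit 4887275)))))) (.node (.node (.node (.node (.node (.leaf (nat_lit
    3048956)) (.leaf (nat_lit 13902159))) (.node (.leaf (nat_lit 557359)) (.leaf (nat_lit
    13540437)))) (.node (.node (.leaf (nat_lit 2622757)) (.leaf (nat_lit 15146865))) (.node (.leaf
    (nat_lit 14984472)) (.leaf (nat_lit 9214217))))) (.node (.node (.node (.leaf (nat_lit
    10000125)) (.leaf (nat_lit 8130301))) (.node (.leaf (nat_lit 4411609)) (.leaf (nat_lit
    3983325)))) (.node (.node (.leaf (nat_lit 7984100)) (.leaf (nat_lit 4213141))) (.leaf (nat_lit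
    9786089))))) (.node (.node (.node (.node (.leaf (nat_lit 5033250)) (.leaf (nat_lit 2278581)))
    (.node (.leaf (nat_lit 7081173)) (.leaf (nat_lit 14476985)))) (.node (.node (.leaf (nat_lit
    6015729)) (.leaf (nat_lit 1196646))) (.node (.leaf (nat_lit 6933620)) (.leaf (nat_lit
    15934106))))) (.node (.node (.node (.leaf (nat_lit 17819340)) (.leaf (nat_lit 9606429))) (.node
    (.leaf (nat_lit 11623247)) (.leaf (nat_lit 6508302)))) (.node (.node (.leaf (nat_lit 14409165))
    (.leaf (nat_lit 8573429))) (.leaf (nat_lit 6576083))))))) (.node (.node (.node (.node (.node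
    (.node (.leaf (nat_lit 2016269)) (.leaf (nat_lit 15933673))) (.node (.leaf (nat_lit 13624765))
    (.leaf (nat_lit 12720640)))) (.node (.node (.leaf (nat_lit 770433)) (.leaf (nat_lit 17688132)))
    (.node (.leaf (nat_lit 12394959)) (.leaf (nat_lit 11638609))))) (.node (.node (.node (.leaf
    (nat_lit 8524915)) (.leaf (nat_lit 7245083))) (.node (.leaf (nat_lit 3968635)) (.leaf (nat_lit
    5425677)))) (.node (.node (.leaf (nat_lit 5230939)) (.leaf (nat_lit 5884604))) (.leaf (nat_lit
    3378175))))) (.node (.node (.node (.node (.leaf (nat_lit 11343572)) (.leaf (nat_lit 1196658)))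
    (.node (.leaf (nat_lit 3524416)) (.leaf (nat_lit 15442734)))) (.node (.node (.leaf (nat_lit
    4966697)) (.leaf (nat_lit 17901440))) (.node (.leaf (nat_lit 2082035)) (.leaf (nat_lit
    15523853))))) (.node (.node (.node (.leaf (nat_lit 16343543)) (.leaf (nat_lit 10655004)))
    (.node (.leaf (nat_lit 15917277)) (.leaf (nat_lit 7720491)))) (.node (.node (.leaf (nat_lit
    17261772)) (.leaf (nat_lit 10654999))) (.leaf (nat_lit 11769751)))))) (.node (.node (.node
    (.node (.node (.leaf (nat_lit 8294224)) (.leaf (nat_lit 16983150))) (.node (.leaf (nat_lit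
    803630)) (.leaf (nat_lit 13786689)))) (.node (.node (.leaf (nat_lit 1607079)) (.leaf (nat_lit
    14934218))) (.node (.leaf (nat_lit 311508)) (.leaf (nat_lit 14753414))))) (.node (.node (.node
    (.leaf (nat_lit 16376326)) (.leaf (nat_lit 6868396))) (.node (.leaf (nat_lit 5034863)) (.leaf
    (nat_lit 9966433)))) (.node (.node (.leaf (nat_lit 6395534)) (.leaf (nat_lit 7917190))) (.leaf
    (nat_lit 7491674))))) (.node (.node (.node (.node (.leaf (nat_lit 6917970)) (.leaf (nat_lit
    4016111))) (.node (.leaf (nat_lit 10950066)) (.leaf (nat_lit 721309)))) (.node (.node (.leaf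
    (nat_lit 12195989)) (.leaf (nat_lit 1524783))) (.node (.leaf (nat_lit 3442845)) (.leaf (nat_lit
    18016149))))) (.node (.node (.node (.leaf (nat_lit 16802640)) (.leaf (nat_lit 13228949)))
    (.node (.leaf (nat_lit 9526623)) (.leaf (nat_lit 12359944)))) (.node (.node (.leaf (nat_lit
    15458293)) (.leaf (nat_lit 9901204))) (.leaf (nat_lit 11934383))))))))))) (.node (.node (.node
    (.node (.node (.node (.node (.node (.node (.node (.leaf (nat_lit 98363)) (.leaf (nat_lit
    8051529))) (.node (.leaf (nat_lit 15654971)) (.leaf (nat_lit 8361238)))) (.node (.node (.leaf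
    (nat_lit 14869395)) (.leaf (nat_lit 13097761))) (.node (.leaf (nat_lit 16277959)) (.leaf
    (nat_lit 5870066))))) (.node (.node (.node (.leaf (nat_lit 8507325)) (.leaf (nat_lit 2574030)))
    (.node (.leaf (nat_lit 5081836)) (.leaf (nat_lit 1147457)))) (.node (.node (.leaf (nat_lit
    3788063)) (.leaf (nat_lit 1901740))) (.node (.leaf (nat_lit 5179779)) (.leaf (nat_lit
    17360574)))))) (.node (.node (.node (.node (.leaf (nat_lit 8704054)) (.leaf (nat_lit
    14705947))) (.node (.leaf (nat_lit 918427)) (.leaf (nat_lit 17310972)))) (.node (.node (.leaf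
    (nat_lit 1689075)) (.leaf (nat_lit 15950156))) (.node (.leaf (nat_lit 1245834)) (.leaf (nat_lit
    13655150))))) (.node (.node (.node (.leaf (nat_lit 14097701)) (.leaf (nat_lit 10327102)))
    (.node (.leaf (nat_lit 11245191)) (.leaf (nat_lit 3590547)))) (.node (.node (.leaf (nat_lit
    8263412)) (.leaf (nat_lit 6622197))) (.leaf (nat_lit 13835440)))))) (.node (.node (.node (.node
    (.node (.leaf (nat_lit 3901358)) (.leaf (nat_lit 14917540))) (.node (.leaf (nat_lit 17868541))
    (.leaf (nat_lit 12179985)))) (.node (.node (.leaf (nat_lit 1655622)) (.leaf (nat_lit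
    17261778))) (.node (.leaf (nat_lit 16589498)) (.leaf (nat_lit 12441919))))) (.node (.node
    (.node (.leaf (nat_lit 10605805)) (.leaf (nat_lit 8769637))) (.node (.leaf (nat_lit 4034279))
    (.leaf (nat_lit 2704927)))) (.node (.node (.leaf (nat_lit 4608447)) (.leaf (nat_lit 3623002)))
    (.leaf (nat_lit 8786037))))) (.node (.node (.node (.node (.leaf (nat_lit 3263393)) (.leaf
    (nat_lit 1475301))) (.node (.leaf (nat_lit 3606448)) (.leaf (nat_lit 15508420)))) (.node (.node
    (.leaf (nat_lit 2722155)) (.leaf (nat_lit 163947))) (.node (.leaf (nat_lit 5048644)) (.leaf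
    (nat_lit 16868225))))) (.node (.node (.node (.leaf (nat_lit 10575511)) (.leaf (nat_lit
    10622206))) (.node (.leaf (nat_lit 7018709)) (.leaf (nat_lit 9638521)))) (.node (.node (.leaf
    (nat_lit 16277964)) (.leaf (nat_lit 9868069))) (.leaf (nat_lit 10327547))))))) (.node (.node
    (.node (.node (.node (.node (.leaf (nat_lit 1163851)) (.leaf (nat_lit 17540551))) (.node (.leaf
    (nat_lit 16704265)) (.leaf (nat_lit 12966584)))) (.node (.node (.leaf (nat_lit 15722301))
    (.leaf (nat_lit 11344552))) (.node (.leaf (nat_lit 16901029)) (.leaf (nat_lit 10540226)))))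
    (.node (.node (.node (.leaf (nat_lit 4756043)) (.leaf (nat_lit 4196504))) (.node (.leaf
    (nat_lit 9179493)) (.leaf (nat_lit 2065457)))) (.node (.node (.leaf (nat_lit 9327036)) (.leaf
    (nat_lit 4048902))) (.leaf (nat_lit 3033739))))) (.node (.node (.node (.node (.leaf (nat_lit
    10294309)) (.leaf (nat_lit 360655))) (.node (.leaf (nat_lit 3852181)) (.leaf (nat_lit
    14753998)))) (.node (.node (.leaf (nat_lit 5802640)) (.leaf (nat_lit 15311979))) (.node (.leaf
    (nat_lit 2868652)) (.leaf (nat_lit 13934147))))) (.node (.node (.node (.leaf (nat_lit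
    16704272)) (.leaf (nat_lit 7442514))) (.node (.leaf (nat_lit 10196614)) (.leaf (nat_lit
    7966367)))) (.node (.node (.leaf (nat_lit 10508639)) (.leaf (nat_lit 7294385))) (.leaf (nat_lit
    14622252)))))) (.node (.node (.node (.node (.node (.leaf (nat_lit 6327178)) (.leaf (nat_lit
    16491114))) (.node (.leaf (nat_lit 1524480)) (.leaf (nat_lit 14868180)))) (.node (.node (.leaf
    (nat_lit 3507916)) (.leaf (nat_lit 13475622))) (.node (.leaf (nat_lit 17802941)) (.leaf
    (nat_lit 12343697))))) (.node (.node (.node (.leaf (nat_lit 13655147)) (.leaf (nat_lit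
    7343451))) (.node (.leaf (nat_lit 14032132)) (.leaf (nat_lit 5802638)))) (.node (.node (.leaf
    (nat_lit 5330025)) (.leaf (nat_lit 4196862))) (.leaf (nat_lit 12966576))))) (.node (.node
    (.node (.node (.leaf (nat_lit 6409617)) (.leaf (nat_lit 2819475))) (.node (.leaf (nat_lit
    9884462)) (.leaf (nat_lit 16705413)))) (.node (.node (.leaf (nat_lit 11327187)) (.leaf (nat_lit
    1163892))) (.node (.leaf (nat_lit 7343448)) (.leaf (nat_lit 17032197))))) (.node (.node (.node
    (.leaf (nat_lit 14016656)) (.leaf (nat_lit 10950069))) (.node (.leaf (nat_lit 8281074)) (.leaf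
    (nat_lit 8507327)))) (.node (.node (.leaf (nat_lit 17999743)) (.leaf (nat_lit 9769693))) (.leaf
    (nat_lit 8607835)))))))) (.node (.node (.node (.node (.node (.node (.node (.leaf (nat_lit
    1311402)) (.leaf (nat_lit 17606136))) (.node (.leaf (nat_lit 15917437)) (.leaf (nat_lit
    10131022)))) (.node (.node (.leaf (nat_lit 16311624)) (.leaf (nat_lit 13343729))) (.node (.leaf
    (nat_lit 10755809)) (.leaf (nat_lit 7164746))))) (.node (.node (.node (.leaf (nat_lit 9507391))
    (.leaf (nat_lit 3295227))) (.node (.leaf (nat_lit 11753355)) (.leaf (nat_lit 1655620)))) (.node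
    (.node (.leaf (nat_lit 3919421)) (.leaf (nat_lit 2786693))) (.leaf (nat_lit 6704158))))) (.node
    (.node (.node (.node (.leaf (nat_lit 6868062)) (.leaf (nat_lit 16082693))) (.node (.leaf
    (nat_lit 3884972)) (.leaf (nat_lit 16819029)))) (.node (.node (.leaf (nat_lit 2017009)) (.leaf
    (nat_lit 13705932))) (.node (.leaf (nat_lit 2049050)) (.leaf (nat_lit 14032186))))) (.node
    (.node (.node (.leaf (nat_lit 8100741)) (.leaf (nat_lit 10589413))) (.node (.leaf (nat_lit
    5625143)) (.leaf (nat_lit 4115060)))) (.node (.node (.leaf (nat_lit 12474706)) (.leaf (nat_lit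
    7081165))) (.leaf (nat_lit 5444137)))))) (.node (.node (.node (.node (.node (.leaf (nat_lit
    2245970)) (.leaf (nat_lit 16884629))) (.node (.leaf (nat_lit 131214)) (.leaf (nat_lit
    13016008)))) (.node (.node (.leaf (nat_lit 1393386)) (.leaf (nat_lit 14212606))) (.node (.leaf
    (nat_lit 17196186)) (.leaf (nat_lit 10508328))))) (.node (.node (.node (.leaf (nat_lit
    11130403)) (.leaf (nat_lit 5065543))) (.node (.leaf (nat_lit 7786496)) (.leaf (nat_lit
    2688791)))) (.node (.node (.leaf (nat_lit 9245474)) (.leaf (nat_lit 7327062))) (.leaf (nat_lit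
    10736964))))) (.node (.node (.node (.node (.leaf (nat_lit 4099183)) (.leaf (nat_lit 1901540)))
    (.node (.leaf (nat_lit 8999152)) (.leaf (nat_lit 15148423)))) (.node (.node (.leaf (nat_lit
    2951767)) (.leaf (nat_lit 688483))) (.node (.leaf (nat_lit 6179682)) (.leaf (nat_lit
    13361581))))) (.node (.node (.node (.leaf (nat_lit 17950550)) (.leaf (nat_lit 7705663))) (.node
    (.leaf (nat_lit 11557442)) (.leaf (nat_lit 7982764)))) (.node (.node (.leaf (nat_lit 9166103))
    (.leaf (nat_lit 8769838))) (.leaf (nat_lit 6330157))))))) (.node (.node (.node (.node (.node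
    (.node (.leaf (nat_lit 1688403)) (.leaf (nat_lit 17720944))) (.node (.leaf (nat_lit 17228977))
    (.leaf (nat_lit 10541223)))) (.node (.node (.leaf (nat_lit 721264)) (.leaf (nat_lit 15048487)))
    (.node (.leaf (nat_lit 17474956)) (.leaf (nat_lit 8541651))))) (.node (.node (.node (.leaf
    (nat_lit 5084043)) (.leaf (nat_lit 5999339))) (.node (.leaf (nat_lit 5557716)) (.leaf (nat_lit
    3557097)))) (.node (.node (.leaf (nat_lit 4345983)) (.leaf (nat_lit 3409800))) (.leaf (nat_lit
    11573036))))) (.node (.node (.node (.node (.leaf (nat_lit 9540173)) (.leaf (nat_lit 737736)))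
    (.node (.leaf (nat_lit 2541203)) (.leaf (nat_lit 17917742)))) (.node (.node (.leaf (nat_lit
    4638903)) (.leaf (nat_lit 18016147))) (.node (.leaf (nat_lit 1131603)) (.leaf (nat_lit
    15982849))))) (.node (.node (.node (.leaf (nat_lit 12131706)) (.leaf (nat_lit 5902744))) (.node
    (.leaf (nat_lit 7034776)) (.leaf (nat_lit 8654880)))) (.node (.node (.leaf (nat_lit 16950210))
    (.leaf (nat_lit 6524612))) (.leaf (nat_lit 10868103)))))) (.node (.node (.node (.node (.node
    (.leaf (nat_lit 2131805)) (.leaf (nat_lit 17114191))) (.node (.leaf (nat_lit 2262182)) (.leaf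
    (nat_lit 13933987)))) (.node (.node (.leaf (nat_lit 2540817)) (.leaf (nat_lit 16884625)))
    (.node (.leaf (nat_lit 98361)) (.leaf (nat_lit 11623196))))) (.node (.node (.node (.leaf
    (nat_lit 9902206)) (.leaf (nat_lit 8277831))) (.node (.leaf (nat_lit 14261631)) (.leaf (nat_lit
    6130501)))) (.node (.node (.leaf (nat_lit 6870435)) (.leaf (nat_lit 7048380))) (.leaf (nat_lit
    10835313))))) (.node (.node (.node (.node (.leaf (nat_lit 7982759)) (.leaf (nat_lit 3032558)))
    (.node (.leaf (nat_lit 6802499)) (.leaf (nat_lit 327947)))) (.node (.node (.leaf (nat_lit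
    6736933)) (.leaf (nat_lit 1508219))) (.node (.leaf (nat_lit 2476080)) (.leaf (nat_lit
    14591198))))) (.node (.node (.node (.leaf (nat_lit 15409665)) (.leaf (nat_lit 12966579)))
    (.node (.leaf (nat_lit 9018559)) (.leaf (nat_lit 6901947)))) (.node (.node (.leaf (nat_lit
    16163199)) (.leaf (nat_lit 11179599))) (.leaf (nat_lit 10672565))))))))) (.node (.node (.node
    (.node (.node (.node (.node (.node (.leaf (nat_lit 852396)) (.leaf (nat_lit 15982850))) (.node
    (.leaf (nat_lit 14196947)) (.leaf (nat_lit 10868132)))) (.node (.node (.leaf (nat_lit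
    16475244)) (.leaf (nat_lit 8722555))) (.node (.leaf (nat_lit 10296889)) (.leaf (nat_lit
    5673614))))) (.node (.node (.node (.leaf (nat_lit 5656664)) (.leaf (nat_lit 3475296))) (.node
    (.leaf (nat_lit 11409129)) (.leaf (nat_lit 1245853)))) (.node (.node (.leaf (nat_lit 12310765))
    (.leaf (nat_lit 2573593))) (.leaf (nat_lit 8589291))))) (.node (.node (.node (.node (.leaf
    (nat_lit 9277844)) (.leaf (nat_lit 13673977))) (.node (.leaf (nat_lit 1098795)) (.leaf (nat_lit
    14278490)))) (.node (.node (.leaf (nat_lit 1902191)) (.leaf (nat_lit 14606846))) (.node (.leaf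
    (nat_lit 1196652)) (.leaf (nat_lit 14917348))))) (.node (.node (.node (.leaf (nat_lit 7903909))
    (.leaf (nat_lit 6393500))) (.node (.leaf (nat_lit 14704227)) (.leaf (nat_lit 9343427)))) (.node
    (.node (.leaf (nat_lit 10950512)) (.leaf (nat_lit 7392631))) (.leaf (nat_lit 12671452))))))
    (.node (.node (.node (.node (.node (.leaf (nat_lit 4507774)) (.leaf (nat_lit 15540245))) (.node
    (.leaf (nat_lit 14542717)) (.leaf (nat_lit 13278153)))) (.node (.node (.leaf (nat_lit 574075))
    (.leaf (nat_lit 12557692))) (.node (.leaf (nat_lit 15754035)) (.leaf (nat_lit 10360722)))))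
    (.node (.node (.node (.leaf (nat_lit 15064876)) (.leaf (nat_lit 4147889))) (.node (.leaf
    (nat_lit 13360116)) (.leaf (nat_lit 2311820)))) (.node (.node (.leaf (nat_lit 12228769)) (.leaf
    (nat_lit 5065043))) (.leaf (nat_lit 12359938))))) (.node (.node (.node (.node (.leaf (nat_lit
    11982844)) (.leaf (nat_lit 1688405))) (.node (.leaf (nat_lit 8425384)) (.leaf (nat_lit
    15770784)))) (.node (.node (.leaf (nat_lit 2968065)) (.leaf (nat_lit 393452))) (.node (.leaf
    (nat_lit 1623491)) (.leaf (nat_lit 15196402))))) (.node (.node (.node (.leaf (nat_lit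
    15130465)) (.leaf (nat_lit 11114005))) (.node (.leaf (nat_lit 7428493)) (.leaf (nat_lit
    4492761)))) (.node (.node (.leaf (nat_lit 13819055)) (.leaf (nat_lit 7770245))) (.leaf (nat_lit
    12655050))))))) (.node (.node (.node (.node (.node (.node (.leaf (nat_lit 672457)) (.leaf
    (nat_lit 12558094))) (.node (.leaf (nat_lit 16966609)) (.leaf (nat_lit 10852346)))) (.node
    (.node (.leaf (nat_lit 295096)) (.leaf (nat_lit 11672456))) (.node (.leaf (nat_lit 15523928))
    (.leaf (nat_lit 12376340))))) (.node (.node (.node (.leaf (nat_lit 9802482)) (.leaf (nat_lit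
    6114103))) (.node (.leaf (nat_lit 6982988)) (.leaf (nat_lit 4098066)))) (.node (.node (.leaf
    (nat_lit 9851667)) (.leaf (nat_lit 2541305))) (.leaf (nat_lit 5147418))))) (.node (.node (.node
    (.node (.leaf (nat_lit 5819032)) (.leaf (nat_lit 786821))) (.node (.leaf (nat_lit 1721877))
    (.leaf (nat_lit 14934395)))) (.node (.node (.leaf (nat_lit 8835212)) (.leaf (nat_lit
    17573341))) (.node (.leaf (nat_lit 2278584)) (.leaf (nat_lit 13868773))))) (.node (.node (.node
    (.leaf (nat_lit 16359941)) (.leaf (nat_lit 8917250))) (.node (.leaf (nat_lit 6297365)) (.leaf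
    (nat_lit 8130302)))) (.node (.node (.leaf (nat_lit 16638676)) (.leaf (nat_lit 8818820))) (.leaf
    (nat_lit 10343495)))))) (.node (.node (.node (.node (.node (.leaf (nat_lit 2541264)) (.leaf
    (nat_lit 13951646))) (.node (.leaf (nat_lit 1950701)) (.leaf (nat_lit 17786534)))) (.node
    (.node (.leaf (nat_lit 3999714)) (.leaf (nat_lit 17146986))) (.node (.leaf (nat_lit 17540796))
    (.leaf (nat_lit 13032175))))) (.node (.node (.node (.leaf (nat_lit 10246100)) (.leaf (nat_lit
    7458197))) (.node (.leaf (nat_lit 8671740)) (.leaf (nat_lit 5933777)))) (.node (.node (.leaf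
    (nat_lit 10540308)) (.leaf (nat_lit 8868010))) (.leaf (nat_lit 10179544))))) (.node (.node
    (.node (.node (.leaf (nat_lit 5312037)) (.leaf (nat_lit 2721111))) (.node (.leaf (nat_lit
    4704664)) (.leaf (nat_lit 229521)))) (.node (.node (.leaf (nat_lit 8113910)) (.leaf (nat_lit
    1819556))) (.node (.leaf (nat_lit 3999720)) (.leaf (nat_lit 16770042))))) (.node (.node (.node
    (.leaf (nat_lit 17196182)) (.leaf (nat_lit 10065428))) (.node (.leaf (nat_lit 8805453)) (.leaf
    (nat_lit 4263925)))) (.node (.node (.leaf (nat_lit 10706631)) (.leaf (nat_lit 8557348))) (.leaf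
    (nat_lit 7117059)))))))) (.node (.node (.node (.node (.node (.node (.node (.leaf (nat_lit
    377285)) (.leaf (nat_lit 17261785))) (.node (.leaf (nat_lit 12558901)) (.leaf (nat_lit
    10475254)))) (.node (.node (.leaf (nat_lit 16442940)) (.leaf (nat_lit 12638692))) (.node (.leaf
    (nat_lit 14966655)) (.leaf (nat_lit 10195937))))) (.node (.node (.node (.leaf (nat_lit
    4952470)) (.leaf (nat_lit 7097563))) (.node (.leaf (nat_lit 7195906)) (.leaf (nat_lit
    2213009)))) (.node (.node (.leaf (nat_lit 10097566)) (.leaf (nat_lit 2999803))) (.leaf (nat_lit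
    4901429))))) (.node (.node (.node (.node (.leaf (nat_lit 10048386)) (.leaf (nat_lit 98359)))
    (.node (.leaf (nat_lit 3032561)) (.leaf (nat_lit 17081385)))) (.node (.node (.leaf (nat_lit
    7589340)) (.leaf (nat_lit 15573904))) (.node (.leaf (nat_lit 623289)) (.leaf (nat_lit
    14851787))))) (.node (.node (.node (.leaf (nat_lit 10853402)) (.leaf (nat_lit 12195979)))
    (.node (.leaf (nat_lit 5821899)) (.leaf (nat_lit 5098216)))) (.node (.node (.leaf (nat_lit
    6920351)) (.leaf (nat_lit 4558109))) (.leaf (nat_lit 4854467)))))) (.node (.node (.node (.node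
    (.node (.leaf (nat_lit 2999777)) (.leaf (nat_lit 14360869))) (.node (.leaf (nat_lit 327942))
    (.leaf (nat_lit 13605972)))) (.node (.node (.leaf (nat_lit 885619)) (.leaf (nat_lit 13311642)))
    (.node (.leaf (nat_lit 17901339)) (.leaf (nat_lit 12687853))))) (.node (.node (.node (.leaf
    (nat_lit 11786820)) (.leaf (nat_lit 7966365))) (.node (.leaf (nat_lit 13687928)) (.leaf
    (nat_lit 3606450)))) (.node (.node (.leaf (nat_lit 10146749)) (.leaf (nat_lit 5146993))) (.leaf
    (nat_lit 4378113))))) (.node (.node (.node (.node (.leaf (nat_lit 8277829)) (.leaf (nat_lit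
    2196609))) (.node (.leaf (nat_lit 9458192)) (.leaf (nat_lit 13837939)))) (.node (.node (.leaf
    (nat_lit 11048428)) (.leaf (nat_lit 1295014))) (.node (.leaf (nat_lit 4556956)) (.leaf (nat_lit
    13967974))))) (.node (.node (.node (.leaf (nat_lit 17425754)) (.leaf (nat_lit 8230116))) (.node
    (.leaf (nat_lit 12966679)) (.leaf (nat_lit 7900908)))) (.node (.node (.leaf (nat_lit 17737337))
    (.leaf (nat_lit 8409541))) (.leaf (nat_lit 9295799))))))) (.node (.node (.node (.node (.node
    (.node (.leaf (nat_lit 2262185)) (.leaf (nat_lit 10788609))) (.node (.leaf (nat_lit 13575551))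
    (.leaf (nat_lit 10951003)))) (.node (.node (.leaf (nat_lit 1180255)) (.leaf (nat_lit
    17638941))) (.node (.leaf (nat_lit 12362149)) (.leaf (nat_lit 11245193))))) (.node (.node
    (.node (.leaf (nat_lit 7705665)) (.leaf (nat_lit 6294404))) (.node (.leaf (nat_lit 12802607))
    (.leaf (nat_lit 3655453)))) (.node (.node (.leaf (nat_lit 9146711)) (.leaf (nat_lit 4229171)))
    (.leaf (nat_lit 11146811))))) (.node (.node (.node (.node (.leaf (nat_lit 8736840)) (.leaf
    (nat_lit 1032766))) (.node (.leaf (nat_lit 2049805)) (.leaf (nat_lit 17638946)))) (.node (.node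
    (.leaf (nat_lit 2607365)) (.leaf (nat_lit 14460730))) (.node (.leaf (nat_lit 2213082)) (.leaf
    (nat_lit 17130587))))) (.node (.node (.node (.leaf (nat_lit 13491706)) (.leaf (nat_lit
    8409678))) (.node (.leaf (nat_lit 6740003)) (.leaf (nat_lit 4246714)))) (.node (.node (.leaf
    (nat_lit 17212574)) (.leaf (nat_lit 5738327))) (.leaf (nat_lit 14982912)))))) (.node (.node
    (.node (.node (.node (.leaf (nat_lit 8113902)) (.leaf (nat_lit 17048627))) (.node (.leaf
    (nat_lit 2737505)) (.leaf (nat_lit 13737504)))) (.node (.node (.leaf (nat_lit 5294538)) (.leaf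
    (nat_lit 15294610))) (.node (.leaf (nat_lit 672090)) (.leaf (nat_lit 14540302))))) (.node
    (.node (.node (.leaf (nat_lit 13343727)) (.leaf (nat_lit 8753235))) (.node (.leaf (nat_lit
    14507502)) (.leaf (nat_lit 5917385)))) (.node (.node (.leaf (nat_lit 11195993)) (.leaf (nat_lit
    7999156))) (.leaf (nat_lit 10507445))))) (.node (.node (.node (.node (.leaf (nat_lit 4067111))
    (.leaf (nat_lit 3934145))) (.node (.leaf (nat_lit 7359847)) (.leaf (nat_lit 1114671)))) (.node
    (.node (.leaf (nat_lit 6999195)) (.leaf (nat_lit 1426440))) (.node (.leaf (nat_lit 2443389))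
    (.leaf (nat_lit 17688142))))) (.node (.node (.node (.leaf (nat_lit 16114383)) (.leaf (nat_lit
    11294536))) (.node (.leaf (nat_lit 9248056)) (.leaf (nat_lit 8966484)))) (.node (.node (.leaf
    (nat_lit 15392731)) (.leaf (nat_lit 9540721))) (.leaf (nat_lit 7854701)))))))))) (.node (.node
    (.node (.node (.node (.node (.node (.node (.node (.leaf (nat_lit 245911)) (.leaf (nat_lit
    11606989))) (.node (.leaf (nat_lit 15786099)) (.leaf (nat_lit 9983322)))) (.node (.node (.leaf
    (nat_lit 17655343)) (.leaf (nat_lit 12655047))) (.node (.leaf (nat_lit 9952761)) (.leaf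
    (nat_lit 7082579))))) (.node (.node (.node (.leaf (nat_lit 5214205)) (.leaf (nat_lit 3163922)))
    (.node (.leaf (nat_lit 11310780)) (.leaf (nat_lit 1016384)))) (.node (.node (.leaf (nat_lit
    9736913)) (.leaf (nat_lit 2819476))) (.node (.leaf (nat_lit 9802474)) (.leaf (nat_lit
    17442632)))))) (.node (.node (.node (.node (.leaf (nat_lit 8622071)) (.leaf (nat_lit
    14296459))) (.node (.leaf (nat_lit 984035)) (.leaf (nat_lit 14425858)))) (.node (.node (.leaf
    (nat_lit 6163286)) (.leaf (nat_lit 16294357))) (.node (.leaf (nat_lit 1458910)) (.leaf (nat_lit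
    14605865))))) (.node (.node (.node (.leaf (nat_lit 12819006)) (.leaf (nat_lit 6327900))) (.node
    (.leaf (nat_lit 14687824)) (.leaf (nat_lit 5360107)))) (.node (.node (.leaf (nat_lit 12901001))
    (.leaf (nat_lit 6638587))) (.leaf (nat_lit 12507500)))))) (.node (.node (.node (.node (.node
    (.leaf (nat_lit 4114456)) (.leaf (nat_lit 15409127))) (.node (.leaf (nat_lit 14329601)) (.leaf
    (nat_lit 11623031)))) (.node (.node (.leaf (nat_lit 1163861)) (.leaf (nat_lit 9919798))) (.node
    (.leaf (nat_lit 17294574)) (.leaf (nat_lit 11310928))))) (.node (.node (.node (.leaf (nat_lit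
    11310783)) (.leaf (nat_lit 5851819))) (.node (.leaf (nat_lit 13327339)) (.leaf (nat_lit
    3262049)))) (.node (.node (.leaf (nat_lit 8294949)) (.leaf (nat_lit 6704157))) (.leaf (nat_lit
    6409365))))) (.node (.node (.node (.node (.leaf (nat_lit 3312589)) (.leaf (nat_lit 1393418)))
    (.node (.leaf (nat_lit 8097510)) (.leaf (nat_lit 15639592)))) (.node (.node (.leaf (nat_lit
    10327094)) (.leaf (nat_lit 344263))) (.node (.leaf (nat_lit 5327320)) (.leaf (nat_lit
    15065238))))) (.node (.node (.node (.leaf (nat_lit 16228777)) (.leaf (nat_lit 7770944))) (.node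
    (.leaf (nat_lit 7182639)) (.leaf (nat_lit 4394382)))) (.node (.node (.leaf (nat_lit 14868179))
    (.leaf (nat_lit 12114021))) (.leaf (nat_lit 6051411))))))) (.node (.node (.node (.node (.node
    (.node (.leaf (nat_lit 1491697)) (.leaf (nat_lit 17688141))) (.node (.leaf (nat_lit 16835427))
    (.leaf (nat_lit 11638709)))) (.node (.node (.leaf (nat_lit 16408)) (.leaf (nat_lit 11885326)))
    (.node (.leaf (nat_lit 16950220)) (.leaf (nat_lit 12015645))))) (.node (.node (.node (.leaf
    (nat_lit 6836874)) (.leaf (nat_lit 4638926))) (.node (.leaf (nat_lit 12425518)) (.leaf (nat_lit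
    2770300)))) (.node (.node (.leaf (nat_lit 12245173)) (.leaf (nat_lit 2852537))) (.leaf (nat_lit
    3082957))))) (.node (.node (.node (.node (.leaf (nat_lit 5573597)) (.leaf (nat_lit 540963)))
    (.node (.leaf (nat_lit 3573498)) (.leaf (nat_lit 16277963)))) (.node (.node (.leaf (nat_lit
    7343457)) (.leaf (nat_lit 17983345))) (.node (.leaf (nat_lit 1737601)) (.leaf (nat_lit
    16146795))))) (.node (.node (.node (.leaf (nat_lit 14179671)) (.leaf (nat_lit 4395187))) (.node
    (.leaf (nat_lit 11884489)) (.leaf (nat_lit 6228903)))) (.node (.node (.leaf (nat_lit 11508151))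
    (.leaf (nat_lit 7147007))) (.leaf (nat_lit 5133238)))))) (.node (.node (.node (.node (.node
    (.leaf (nat_lit 2852496)) (.leaf (nat_lit 14819905))) (.node (.leaf (nat_lit 737738)) (.leaf
    (nat_lit 14327202)))) (.node (.node (.leaf (nat_lit 2065497)) (.leaf (nat_lit 17524148)))
    (.node (.leaf (nat_lit 14050881)) (.leaf (nat_lit 12294636))))) (.node (.node (.node (.leaf
    (nat_lit 13901009)) (.leaf (nat_lit 7277875))) (.node (.leaf (nat_lit 14146883)) (.leaf
    (nat_lit 4671689)))) (.node (.node (.leaf (nat_lit 7738555)) (.leaf (nat_lit 7458200))) (.leaf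
    (nat_lit 13097758))))) (.node (.node (.node (.node (.leaf (nat_lit 3837393)) (.leaf (nat_lit
    3573493))) (.node (.leaf (nat_lit 5999341)) (.leaf (nat_lit 98357)))) (.node (.node (.leaf
    (nat_lit 11212396)) (.leaf (nat_lit 2131030))) (.node (.leaf (nat_lit 2164613)) (.leaf (nat_lit
    15491982))))) (.node (.node (.node (.leaf (nat_lit 15573240)) (.leaf (nat_lit 10982863)))
    (.node (.leaf (nat_lit 8592409)) (.leaf (nat_lit 10491051)))) (.node (.node (.leaf (nat_lit
    13491829)) (.leaf (nat_lit 7377611))) (.leaf (nat_lit 9574571)))))))) (.node (.node (.node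
    (.node (.node (.node (.node (.leaf (nat_lit 1475302)) (.leaf (nat_lit 11067095))) (.node (.leaf
    (nat_lit 13869531)) (.leaf (nat_lit 12622258)))) (.node (.node (.leaf (nat_lit 17147330))
    (.leaf (nat_lit 14261629))) (.node (.leaf (nat_lit 10821411)) (.leaf (nat_lit 10113962)))))
    (.node (.node (.node (.leaf (nat_lit 6885712)) (.leaf (nat_lit 5786247))) (.node (.leaf
    (nat_lit 11966454)) (.leaf (nat_lit 1672013)))) (.node (.node (.leaf (nat_lit 12441917)) (.leaf
    (nat_lit 3065348))) (.leaf (nat_lit 2853373))))) (.node (.node (.node (.node (.leaf (nat_lit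
    4557092)) (.leaf (nat_lit 15869835))) (.node (.leaf (nat_lit 2393332)) (.leaf (nat_lit
    16950213)))) (.node (.node (.leaf (nat_lit 3721029)) (.leaf (nat_lit 16851826))) (.node (.leaf
    (nat_lit 639609)) (.leaf (nat_lit 13901184))))) (.node (.node (.node (.leaf (nat_lit 8264685))
    (.leaf (nat_lit 9769689))) (.node (.leaf (nat_lit 5723515)) (.leaf (nat_lit 9409011)))) (.node
    (.node (.leaf (nat_lit 7788637)) (.leaf (nat_lit 7163121))) (.leaf (nat_lit 9818881))))))
    (.node (.node (.node (.node (.node (.leaf (nat_lit 2344362)) (.leaf (nat_lit 17786540))) (.node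
    (.leaf (nat_lit 836002)) (.leaf (nat_lit 13491232)))) (.node (.node (.leaf (nat_lit 2835870))
    (.leaf (nat_lit 12410430))) (.node (.leaf (nat_lit 15737968)) (.leaf (nat_lit 10524792)))))
    (.node (.node (.node (.leaf (nat_lit 11261589)) (.leaf (nat_lit 7884405))) (.node (.leaf
    (nat_lit 13556788)) (.leaf (nat_lit 4327500)))) (.node (.node (.leaf (nat_lit 13999359)) (.leaf
    (nat_lit 4950332))) (.leaf (nat_lit 3771819))))) (.node (.node (.node (.node (.leaf (nat_lit
    7064771)) (.leaf (nat_lit 1754156))) (.node (.leaf (nat_lit 9261452)) (.leaf (nat_lit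
    13968902)))) (.node (.node (.leaf (nat_lit 8310621)) (.leaf (nat_lit 868797))) (.node (.leaf
    (nat_lit 3983328)) (.leaf (nat_lit 16687869))))) (.node (.node (.node (.leaf (nat_lit
    17884946)) (.leaf (nat_lit 10015890))) (.node (.leaf (nat_lit 7936682)) (.leaf (nat_lit
    6262430)))) (.node (.node (.leaf (nat_lit 14278022)) (.leaf (nat_lit 12064829))) (.leaf
    (nat_lit 6444911))))))) (.node (.node (.node (.node (.node (.node (.leaf (nat_lit 3180094))
    (.leaf (nat_lit 14016204))) (.node (.leaf (nat_lit 13460751)) (.leaf (nat_lit 8231172))))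
    (.node (.node (.leaf (nat_lit 1147460)) (.leaf (nat_lit 12754002))) (.node (.leaf (nat_lit
    17573350)) (.leaf (nat_lit 10049048))))) (.node (.node (.node (.leaf (nat_lit 10212331)) (.leaf
    (nat_lit 4606352))) (.node (.leaf (nat_lit 12720636)) (.leaf (nat_lit 3130922)))) (.node (.node
    (.leaf (nat_lit 13802666)) (.leaf (nat_lit 3934162))) (.leaf (nat_lit 10212334))))) (.node
    (.node (.node (.node (.leaf (nat_lit 11114002)) (.leaf (nat_lit 1163853))) (.node (.leaf
    (nat_lit 2344659)) (.leaf (nat_lit 15032984)))) (.node (.node (.leaf (nat_lit 4770021)) (.leaf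
    (nat_lit 17376946))) (.node (.leaf (nat_lit 1836202)) (.leaf (nat_lit 16999405))))) (.node
    (.node (.node (.leaf (nat_lit 16507508)) (.leaf (nat_lit 8671728))) (.node (.leaf (nat_lit
    13163362)) (.leaf (nat_lit 5753969)))) (.node (.node (.leaf (nat_lit 8428369)) (.leaf (nat_lit
    8015633))) (.leaf (nat_lit 5952800)))))) (.node (.node (.node (.node (.node (.leaf (nat_lit
    3917751)) (.leaf (nat_lit 15573963))) (.node (.leaf (nat_lit 2508039)) (.leaf (nat_lit
    16671478)))) (.node (.node (.leaf (nat_lit 5015866)) (.leaf (nat_lit 15605844))) (.node (.leaf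
    (nat_lit 327874)) (.leaf (nat_lit 11869071))))) (.node (.node (.node (.leaf (nat_lit 16179584))
    (.leaf (nat_lit 4869447))) (.node (.leaf (nat_lit 10622212)) (.leaf (nat_lit 2607345)))) (.node
    (.node (.leaf (nat_lit 8443374)) (.leaf (nat_lit 6064919))) (.leaf (nat_lit 8704058))))) (.node
    (.node (.node (.node (.leaf (nat_lit 13196152)) (.leaf (nat_lit 2704922))) (.node (.leaf
    (nat_lit 10704178)) (.leaf (nat_lit 999928)))) (.node (.node (.leaf (nat_lit 3476563)) (.leaf
    (nat_lit 2245792))) (.node (.leaf (nat_lit 5458458)) (.leaf (nat_lit 16278858))))) (.node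
    (.node (.node (.leaf (nat_lit 16901026)) (.leaf (nat_lit 10409750))) (.node (.leaf (nat_lit
    14851790)) (.leaf (nat_lit 8442110)))) (.node (.node (.leaf (nat_lit 11067293)) (.leaf (nat_lit
    10409085))) (.leaf (nat_lit 16671472))))))))) (.node (.node (.node (.node (.node (.node (.node
    (.node (.leaf (nat_lit 885191)) (.leaf (nat_lit 16507510))) (.node (.leaf (nat_lit 16048427))
    (.leaf (nat_lit 8492528)))) (.node (.node (.leaf (nat_lit 17999752)) (.leaf (nat_lit 9427158)))
    (.node (.leaf (nat_lit 10608284)) (.leaf (nat_lit 6722284))))) (.node (.node (.node (.leaf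
    (nat_lit 4395193)) (.leaf (nat_lit 3917753))) (.node (.leaf (nat_lit 11605827)) (.leaf (nat_lit
    1590050)))) (.node (.node (.leaf (nat_lit 8228650)) (.leaf (nat_lit 4917525))) (.leaf (nat_lit
    6064923))))) (.node (.node (.node (.node (.leaf (nat_lit 5671515)) (.leaf (nat_lit 13919869)))
    (.node (.leaf (nat_lit 2032770)) (.leaf (nat_lit 17327371)))) (.node (.node (.leaf (nat_lit
    1967793)) (.leaf (nat_lit 16327268))) (.node (.leaf (nat_lit 410083)) (.leaf (nat_lit
    15261611))))) (.node (.node (.node (.leaf (nat_lit 12884753)) (.leaf (nat_lit 6442728))) (.node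
    (.leaf (nat_lit 14769807)) (.leaf (nat_lit 6851671)))) (.node (.node (.leaf (nat_lit 7903161))
    (.leaf (nat_lit 9064738))) (.leaf (nat_lit 5886410)))))) (.node (.node (.node (.node (.node
    (.leaf (nat_lit 3573500)) (.leaf (nat_lit 15343668))) (.node (.leaf (nat_lit 98367)) (.leaf
    (nat_lit 11950937)))) (.node (.node (.leaf (nat_lit 1376963)) (.leaf (nat_lit 15278001)))
    (.node (.leaf (nat_lit 15770519)) (.leaf (nat_lit 12900998))))) (.node (.node (.node (.leaf
    (nat_lit 13573185)) (.leaf (nat_lit 5081834))) (.node (.leaf (nat_lit 13425673)) (.leaf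
    (nat_lit 3524315)))) (.node (.node (.leaf (nat_lit 6689487)) (.leaf (nat_lit 4868353))) (.leaf
    (nat_lit 3673369))))) (.node (.node (.node (.node (.leaf (nat_lit 3460149)) (.leaf (nat_lit
    2213003))) (.node (.leaf (nat_lit 8687668)) (.leaf (nat_lit 13722901)))) (.node (.node (.leaf
    (nat_lit 10654994)) (.leaf (nat_lit 590145))) (.node (.leaf (nat_lit 5819026)) (.leaf (nat_lit
    16523903))))) (.node (.node (.node (.leaf (nat_lit 17934142)) (.leaf (nat_lit 10212333)))
    (.node (.leaf (nat_lit 7625187)) (.leaf (nat_lit 7130658)))) (.node (.node (.leaf (nat_lit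
    17606147)) (.leaf (nat_lit 12146800))) (.leaf (nat_lit 12638653))))))) (.node (.node (.node
    (.node (.node (.node (.leaf (nat_lit 754439)) (.leaf (nat_lit 9985567))) (.node (.leaf (nat_lit
    17097783)) (.leaf (nat_lit 9705558)))) (.node (.node (.leaf (nat_lit 311485)) (.leaf (nat_lit
    12426224))) (.node (.leaf (nat_lit 11985044)) (.leaf (nat_lit 10442108))))) (.node (.node
    (.node (.leaf (nat_lit 5362499)) (.leaf (nat_lit 8556503))) (.node (.leaf (nat_lit 12573074))
    (.leaf (nat_lit 1639664)))) (.node (.node (.leaf (nat_lit 13081371)) (.leaf (nat_lit 3376950)))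
    (.leaf (nat_lit 11376350))))) (.node (.node (.node (.node (.leaf (nat_lit 5753465)) (.leaf
    (nat_lit 672122))) (.node (.leaf (nat_lit 6310792)) (.leaf (nat_lit 16015831)))) (.node (.node
    (.leaf (nat_lit 9195884)) (.leaf (nat_lit 17950543))) (.node (.leaf (nat_lit 3540704)) (.leaf
    (nat_lit 16376335))))) (.node (.node (.node (.leaf (nat_lit 9985332)) (.leaf (nat_lit
    5624146))) (.node (.leaf (nat_lit 6412103)) (.leaf (nat_lit 5884931)))) (.node (.node (.leaf
    (nat_lit 10672753)) (.leaf (nat_lit 6557311))) (.leaf (nat_lit 5592183)))))) (.node (.node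
    (.node (.node (.node (.leaf (nat_lit 3278606)) (.leaf (nat_lit 14377733))) (.node (.leaf
    (nat_lit 2098241)) (.leaf (nat_lit 15835288)))) (.node (.node (.leaf (nat_lit 1639641)) (.leaf
    (nat_lit 15343600))) (.node (.leaf (nat_lit 15247171)) (.leaf (nat_lit 11541165))))) (.node
    (.node (.node (.leaf (nat_lit 15884474)) (.leaf (nat_lit 6966456))) (.node (.leaf (nat_lit
    5771856)) (.leaf (nat_lit 4540570)))) (.node (.node (.leaf (nat_lit 14950128)) (.leaf (nat_lit
    6654977))) (.leaf (nat_lit 4116313))))) (.node (.node (.node (.node (.leaf (nat_lit 3935833))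
    (.leaf (nat_lit 3671847))) (.node (.leaf (nat_lit 10409082)) (.leaf (nat_lit 344272)))) (.node
    (.node (.leaf (nat_lit 8064729)) (.leaf (nat_lit 2098244))) (.node (.leaf (nat_lit 2689046))
    (.leaf (nat_lit 15754344))))) (.node (.node (.node (.leaf (nat_lit 12706214)) (.leaf (nat_lit
    11261591))) (.node (.leaf (nat_lit 13720719)) (.leaf (nat_lit 8851611)))) (.node (.node (.leaf
    (nat_lit 17884937)) (.leaf (nat_lit 12425522))) (.leaf (nat_lit 9378141)))))))) (.node (.node
    (.node (.node (.node (.node (.node (.leaf (nat_lit 1032707)) (.leaf (nat_lit 16146792))) (.node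
    (.leaf (nat_lit 16573093)) (.leaf (nat_lit 11474737)))) (.node (.node (.leaf (nat_lit
    15738549)) (.leaf (nat_lit 11557430))) (.node (.leaf (nat_lit 16720668)) (.leaf (nat_lit
    7181372))))) (.node (.node (.node (.leaf (nat_lit 6984183)) (.leaf (nat_lit 5687903))) (.node
    (.leaf (nat_lit 4852850)) (.leaf (nat_lit 1934313)))) (.node (.node (.leaf (nat_lit 6524691))
    (.leaf (nat_lit 2475590))) (.leaf (nat_lit 9146716))))) (.node (.node (.node (.node (.leaf
    (nat_lit 4426134)) (.leaf (nat_lit 245913))) (.node (.leaf (nat_lit 1508689)) (.leaf (nat_lit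
    17212577)))) (.node (.node (.leaf (nat_lit 3983321)) (.leaf (nat_lit 17114188))) (.node (.leaf
    (nat_lit 721635)) (.leaf (nat_lit 14737021))))) (.node (.node (.node (.leaf (nat_lit 12377166))
    (.leaf (nat_lit 9327029))) (.node (.leaf (nat_lit 10049046)) (.leaf (nat_lit 4688708)))) (.node
    (.node (.leaf (nat_lit 8214798)) (.leaf (nat_lit 9736906))) (.leaf (nat_lit 10818925))))))
    (.node (.node (.node (.node (.node (.leaf (nat_lit 2278934)) (.leaf (nat_lit 16704270))) (.node
    (.leaf (nat_lit 295247)) (.leaf (nat_lit 13950195)))) (.node (.node (.leaf (nat_lit 3245656))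
    (.leaf (nat_lit 15851685))) (.node (.leaf (nat_lit 15951172)) (.leaf (nat_lit 12769816)))))
    (.node (.node (.node (.leaf (nat_lit 13622363)) (.leaf (nat_lit 8064723))) (.node (.leaf
    (nat_lit 13868222)) (.leaf (nat_lit 4048901)))) (.node (.node (.leaf (nat_lit 6444043)) (.leaf
    (nat_lit 3918278))) (.leaf (nat_lit 9245066))))) (.node (.node (.node (.node (.leaf (nat_lit
    4279624)) (.leaf (nat_lit 2917829))) (.node (.leaf (nat_lit 5327329)) (.leaf (nat_lit
    13985525)))) (.node (.node (.leaf (nat_lit 3132175)) (.leaf (nat_lit 1032730))) (.node (.leaf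
    (nat_lit 7031980)) (.leaf (nat_lit 17310971))))) (.node (.node (.node (.leaf (nat_lit
    17868542)) (.leaf (nat_lit 14032139))) (.node (.leaf (nat_lit 8133514)) (.leaf (nat_lit
    12064830)))) (.node (.node (.leaf (nat_lit 14474727)) (.leaf (nat_lit 4723225))) (.leaf
    (nat_lit 9459704))))))) (.node (.node (.node (.node (.node (.node (.leaf (nat_lit 3639057))
    (.leaf (nat_lit 16605894))) (.node (.leaf (nat_lit 17327617)) (.leaf (nat_lit 11311539))))
    (.node (.node (.leaf (nat_lit 426399)) (.leaf (nat_lit 13753538))) (.node (.leaf (nat_lit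
    17491354)) (.leaf (nat_lit 13294559))))) (.node (.node (.node (.leaf (nat_lit 5395599)) (.leaf
    (nat_lit 7081166))) (.node (.leaf (nat_lit 12999377)) (.leaf (nat_lit 2999775)))) (.node (.node
    (.leaf (nat_lit 4493685)) (.leaf (nat_lit 4098098))) (.leaf (nat_lit 7523777))))) (.node (.node
    (.node (.node (.leaf (nat_lit 6278011)) (.leaf (nat_lit 1295011))) (.node (.leaf (nat_lit
    4999478)) (.leaf (nat_lit 15377236)))) (.node (.node (.leaf (nat_lit 5032259)) (.leaf (nat_lit
    32789))) (.node (.leaf (nat_lit 4671686)) (.leaf (nat_lit 16737061))))) (.node (.node (.node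
    (.leaf (nat_lit 12738106)) (.leaf (nat_lit 7426700))) (.node (.leaf (nat_lit 16015630)) (.leaf
    (nat_lit 10327101)))) (.node (.node (.leaf (nat_lit 14523904)) (.leaf (nat_lit 12032039)))
    (.leaf (nat_lit 11982854)))))) (.node (.node (.node (.node (.node (.leaf (nat_lit 8441770))
    (.leaf (nat_lit 17179818))) (.node (.leaf (nat_lit 852810)) (.leaf (nat_lit 15064882)))) (.node
    (.node (.leaf (nat_lit 5573180)) (.leaf (nat_lit 14868724))) (.node (.leaf (nat_lit 967142))
    (.leaf (nat_lit 14802605))))) (.node (.node (.node (.leaf (nat_lit 11770254)) (.leaf (nat_lit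
    7638521))) (.node (.leaf (nat_lit 11130407)) (.leaf (nat_lit 6015733)))) (.node (.node (.leaf
    (nat_lit 10262211)) (.leaf (nat_lit 7868014))) (.leaf (nat_lit 7180425))))) (.node (.node
    (.node (.node (.leaf (nat_lit 6819714)) (.leaf (nat_lit 3704639))) (.node (.leaf (nat_lit
    9687718)) (.leaf (nat_lit 737743)))) (.node (.node (.leaf (nat_lit 7130343)) (.leaf (nat_lit
    1344599))) (.node (.leaf (nat_lit 7589344)) (.leaf (nat_lit 17737335))))) (.node (.node (.node
    (.leaf (nat_lit 16671536)) (.leaf (nat_lit 9656213))) (.node (.leaf (nat_lit 9674110)) (.leaf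
    (nat_lit 5034394)))) (.node (.node (.leaf (nat_lit 15523851)) (.leaf (nat_lit 9524412))) (.leaf
    (nat_lit 11868895))))))))))))) (.node (.node (.node (.node (.node (.node (.node (.node (.node
    (.node (.node (.node (.leaf (nat_lit 65572)) (.leaf (nat_lit 11754251))) (.node (.leaf (nat_lit
    11608087)) (.leaf (nat_lit 12687846)))) (.node (.node (.leaf (nat_lit 15164239)) (.leaf
    (nat_lit 13163357))) (.node (.leaf (nat_lit 9788818)) (.leaf (nat_lit 10376287))))) (.node
    (.node (.node (.leaf (nat_lit 4149147)) (.leaf (nat_lit 2836136))) (.node (.leaf (nat_lit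
    11032040)) (.leaf (nat_lit 967145)))) (.node (.node (.leaf (nat_lit 7179511)) (.leaf (nat_lit
    2180219))) (.node (.leaf (nat_lit 2525383)) (.leaf (nat_lit 17524326)))))) (.node (.node (.node
    (.node (.leaf (nat_lit 5933775)) (.leaf (nat_lit 13935832))) (.node (.leaf (nat_lit 3114516))
    (.leaf (nat_lit 16179594)))) (.node (.node (.leaf (nat_lit 5704292)) (.leaf (nat_lit
    13525268))) (.node (.leaf (nat_lit 524575)) (.leaf (nat_lit 14179674))))) (.node (.node (.node
    (.leaf (nat_lit 13917403)) (.leaf (nat_lit 7540206))) (.node (.leaf (nat_lit 10179543)) (.leaf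
    (nat_lit 6064917)))) (.node (.node (.leaf (nat_lit 15343562)) (.leaf (nat_lit 6212508))) (.leaf
    (nat_lit 6901936)))))) (.node (.node (.node (.node (.node (.leaf (nat_lit 1131591)) (.leaf
    (nat_lit 11018101))) (.node (.leaf (nat_lit 17671737)) (.leaf (nat_lit 10607064)))) (.node
    (.node (.leaf (nat_lit 410049)) (.leaf (nat_lit 12606684))) (.node (.leaf (nat_lit 14901810))
    (.leaf (nat_lit 12868200))))) (.node (.node (.node (.leaf (nat_lit 14737014)) (.leaf (nat_lit
    5524011))) (.node (.leaf (nat_lit 13048567)) (.leaf (nat_lit 3048953)))) (.node (.node (.leaf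
    (nat_lit 11655004)) (.leaf (nat_lit 5474847))) (.leaf (nat_lit 4934707))))) (.node (.node
    (.node (.node (.leaf (nat_lit 11523870)) (.leaf (nat_lit 1606445))) (.node (.leaf (nat_lit
    3819395)) (.leaf (nat_lit 16769923)))) (.node (.node (.leaf (nat_lit 4802896)) (.leaf (nat_lit
    147547))) (.node (.leaf (nat_lit 4786408)) (.leaf (nat_lit 15343662))))) (.node (.node (.node
    (.leaf (nat_lit 10444381)) (.leaf (nat_lit 8999613))) (.node (.leaf (nat_lit 6903961)) (.leaf
    (nat_lit 4885783)))) (.node (.node (.leaf (nat_lit 16622291)) (.leaf (nat_lit 12294362)))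
    (.leaf (nat_lit 9704903))))))) (.node (.node (.node (.node (.node (.node (.leaf (nat_lit
    1081879)) (.leaf (nat_lit 17901336))) (.node (.leaf (nat_lit 12739261)) (.leaf (nat_lit
    12884598)))) (.node (.node (.leaf (nat_lit 14411501)) (.leaf (nat_lit 11410018))) (.node (.leaf
    (nat_lit 15720546)) (.leaf (nat_lit 9327710))))) (.node (.node (.node (.leaf (nat_lit
    10802527)) (.leaf (nat_lit 8786027))) (.node (.leaf (nat_lit 10736959)) (.leaf (nat_lit
    2753899)))) (.node (.node (.leaf (nat_lit 7573284)) (.leaf (nat_lit 3229271))) (.leaf (nat_lit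
    2984557))))) (.node (.node (.node (.node (.leaf (nat_lit 5278145)) (.leaf (nat_lit 278703)))
    (.node (.leaf (nat_lit 1639797)) (.leaf (nat_lit 16933820)))) (.node (.node (.leaf (nat_lit
    2263019)) (.leaf (nat_lit 15655962))) (.node (.leaf (nat_lit 2770288)) (.leaf (nat_lit
    16638681))))) (.node (.node (.node (.leaf (nat_lit 12573800)) (.leaf (nat_lit 9409009))) (.node
    (.leaf (nat_lit 11228793)) (.leaf (nat_lit 3836775)))) (.node (.node (.leaf (nat_lit 16310750))
    (.leaf (nat_lit 6884740))) (.leaf (nat_lit 14491112)))))) (.node (.node (.node (.node (.node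
    (.leaf (nat_lit 1754677)) (.leaf (nat_lit 12345757))) (.node (.leaf (nat_lit 1376960)) (.leaf
    (nat_lit 17343764)))) (.node (.node (.leaf (nat_lit 967635)) (.leaf (nat_lit 14573308))) (.node
    (.leaf (nat_lit 16311674)) (.leaf (nat_lit 8427856))))) (.node (.node (.node (.leaf (nat_lit
    11557440)) (.leaf (nat_lit 8031939))) (.node (.leaf (nat_lit 13917398)) (.leaf (nat_lit
    6540247)))) (.node (.node (.leaf (nat_lit 5264423)) (.leaf (nat_lit 4606429))) (.leaf (nat_lit
    11261598))))) (.node (.node (.node (.node (.leaf (nat_lit 7376239)) (.leaf (nat_lit 2868655)))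
    (.node (.leaf (nat_lit 4278530)) (.leaf (nat_lit 16426799)))) (.node (.node (.leaf (nat_lit
    4787007)) (.leaf (nat_lit 786999))) (.node (.leaf (nat_lit 7195898)) (.leaf (nat_lit
    17884941))))) (.node (.node (.node (.leaf (nat_lit 16655084)) (.leaf (nat_lit 12064827)))
    (.node (.leaf (nat_lit 8166328)) (.leaf (nat_lit 7753549)))) (.node (.node (.leaf (nat_lit
    17638951)) (.leaf (nat_lit 10523837))) (.leaf (nat_lit 12048436)))))))) (.node (.node (.node
    (.node (.node (.node (.node (.leaf (nat_lit 327973)) (.leaf (nat_lit 14556694))) (.node (.leaf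
    (nat_lit 15851847)) (.leaf (nat_lit 10933773)))) (.node (.node (.leaf (nat_lit 15607047))
    (.leaf (nat_lit 13638757))) (.node (.leaf (nat_lit 13704901)) (.leaf (nat_lit 5952278)))))
    (.node (.node (.node (.leaf (nat_lit 4640970)) (.leaf (nat_lit 3213256))) (.node (.leaf
    (nat_lit 3296191)) (.leaf (nat_lit 2622754)))) (.node (.node (.leaf (nat_lit 3886615)) (.leaf
    (nat_lit 2704719))) (.leaf (nat_lit 3000716))))) (.node (.node (.node (.node (.leaf (nat_lit
    2558171)) (.leaf (nat_lit 15902381))) (.node (.leaf (nat_lit 1262747)) (.leaf (nat_lit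
    15917279)))) (.node (.node (.leaf (nat_lit 6884448)) (.leaf (nat_lit 15884938))) (.node (.leaf
    (nat_lit 1983484)) (.leaf (nat_lit 15015701))))) (.node (.node (.node (.leaf (nat_lit 8051515))
    (.leaf (nat_lit 6606596))) (.node (.leaf (nat_lit 5526791)) (.leaf (nat_lit 8982767)))) (.node
    (.node (.leaf (nat_lit 10573770)) (.leaf (nat_lit 8753236))) (.leaf (nat_lit 5558759))))))
    (.node (.node (.node (.node (.node (.leaf (nat_lit 2655537)) (.leaf (nat_lit 15327310))) (.node
    (.leaf (nat_lit 245915)) (.leaf (nat_lit 11852673)))) (.node (.node (.leaf (nat_lit 983750))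
    (.leaf (nat_lit 13508058))) (.node (.leaf (nat_lit 17114194)) (.leaf (nat_lit 11704306)))))
    (.node (.node (.node (.leaf (nat_lit 10835434)) (.leaf (nat_lit 6048523))) (.node (.leaf
    (nat_lit 4198349)) (.leaf (nat_lit 2590440)))) (.node (.node (.leaf (nat_lit 11982859)) (.leaf
    (nat_lit 4688108))) (.leaf (nat_lit 4918593))))) (.node (.node (.node (.node (.leaf (nat_lit
    4803665)) (.leaf (nat_lit 1590192))) (.node (.leaf (nat_lit 2426960)) (.leaf (nat_lit
    15934780)))) (.node (.node (.leaf (nat_lit 2918979)) (.leaf (nat_lit 573770))) (.node (.leaf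
    (nat_lit 5982940)) (.leaf (nat_lit 14786922))))) (.node (.node (.node (.leaf (nat_lit
    13361040)) (.leaf (nat_lit 11277993))) (.node (.leaf (nat_lit 7723525)) (.leaf (nat_lit
    8277836)))) (.node (.node (.leaf (nat_lit 9100537)) (.leaf (nat_lit 7278839))) (.leaf (nat_lit
    6280971))))))) (.node (.node (.node (.node (.node (.node (.leaf (nat_lit 770847)) (.leaf
    (nat_lit 17622548))) (.node (.leaf (nat_lit 13198421)) (.leaf (nat_lit 8951921)))) (.node
    (.node (.leaf (nat_lit 360653)) (.leaf (nat_lit 15114071))) (.node (.leaf (nat_lit 12050620))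
    (.leaf (nat_lit 12261564))))) (.node (.node (.node (.leaf (nat_lit 9229164)) (.leaf (nat_lit
    4901173))) (.node (.leaf (nat_lit 12605858)) (.leaf (nat_lit 2508041)))) (.node (.node (.leaf
    (nat_lit 8753233)) (.leaf (nat_lit 4311109))) (.leaf (nat_lit 11458304))))) (.node (.node
    (.node (.node (.leaf (nat_lit 10917276)) (.leaf (nat_lit 655756))) (.node (.leaf (nat_lit
    6441918)) (.leaf (nat_lit 17261775)))) (.node (.node (.leaf (nat_lit 4556951)) (.leaf (nat_lit
    17720933))) (.node (.leaf (nat_lit 1082395)) (.leaf (nat_lit 14933834))))) (.node (.node (.node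
    (.leaf (nat_lit 11001172)) (.leaf (nat_lit 12523896))) (.node (.leaf (nat_lit 6477674)) (.leaf
    (nat_lit 7195902)))) (.node (.node (.leaf (nat_lit 16851820)) (.leaf (nat_lit 7949977))) (.leaf
    (nat_lit 10441869)))))) (.node (.node (.node (.node (.node (.leaf (nat_lit 7277872)) (.leaf
    (nat_lit 15426346))) (.node (.leaf (nat_lit 2163821)) (.leaf (nat_lit 15130471)))) (.node
    (.node (.leaf (nat_lit 4458614)) (.leaf (nat_lit 15753323))) (.node (.leaf (nat_lit 17999756))
    (.leaf (nat_lit 12999379))))) (.node (.node (.node (.leaf (nat_lit 14638643)) (.leaf (nat_lit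
    4295898))) (.node (.leaf (nat_lit 4788837)) (.leaf (nat_lit 2869422)))) (.node (.node (.leaf
    (nat_lit 10343800)) (.leaf (nat_lit 9392611))) (.leaf (nat_lit 7655294))))) (.node (.node
    (.node (.node (.leaf (nat_lit 3952241)) (.leaf (nat_lit 2901437))) (.node (.leaf (nat_lit
    10441866)) (.leaf (nat_lit 442616)))) (.node (.node (.leaf (nat_lit 8031942)) (.leaf (nat_lit
    1786773))) (.node (.leaf (nat_lit 5704299)) (.leaf (nat_lit 17179794))))) (.node (.node (.node
    (.leaf (nat_lit 17327368)) (.leaf (nat_lit 11638601))) (.node (.leaf (nat_lit 8969384)) (.leaf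
    (nat_lit 10310701)))) (.node (.node (.leaf (nat_lit 17917749)) (.leaf (nat_lit 10097565)))
    (.leaf (nat_lit 12441986))))))))) (.node (.node (.node (.node (.node (.node (.node (.node
    (.leaf (nat_lit 590138)) (.leaf (nat_lit 14966526))) (.node (.leaf (nat_lit 11935875)) (.leaf
    (nat_lit 9360754)))) (.node (.node (.leaf (nat_lit 14902306)) (.leaf (nat_lit 10442822)))
    (.node (.leaf (nat_lit 17524153)) (.leaf (nat_lit 10950073))))) (.node (.node (.node (.leaf
    (nat_lit 7311400)) (.leaf (nat_lit 3458864))) (.node (.leaf (nat_lit 3459940)) (.leaf (nat_lit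
    1065572)))) (.node (.node (.leaf (nat_lit 7441805)) (.leaf (nat_lit 4327499))) (.node (.leaf
    (nat_lit 6769714)) (.leaf (nat_lit 17639282)))))) (.node (.node (.node (.node (.leaf (nat_lit
    8933586)) (.leaf (nat_lit 13788602))) (.node (.leaf (nat_lit 2622762)) (.leaf (nat_lit
    16556697)))) (.node (.node (.leaf (nat_lit 6294396)) (.leaf (nat_lit 16638682))) (.node (.leaf
    (nat_lit 885200)) (.leaf (nat_lit 14327204))))) (.node (.node (.node (.leaf (nat_lit 7854687))
    (.leaf (nat_lit 6262388))) (.node (.leaf (nat_lit 6870108)) (.leaf (nat_lit 7097565)))) (.node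
    (.node (.leaf (nat_lit 12704249)) (.leaf (nat_lit 6589434))) (.leaf (nat_lit 4460871))))))
    (.node (.node (.node (.node (.node (.leaf (nat_lit 4245558)) (.leaf (nat_lit 16737067))) (.node
    (.leaf (nat_lit 14690099)) (.leaf (nat_lit 11524769)))) (.node (.node (.leaf (nat_lit 1131065))
    (.leaf (nat_lit 14818999))) (.node (.leaf (nat_lit 16655093)) (.leaf (nat_lit 11360109)))))
    (.node (.node (.node (.leaf (nat_lit 12671445)) (.leaf (nat_lit 4164230))) (.node (.leaf
    (nat_lit 13343731)) (.leaf (nat_lit 4016113)))) (.node (.node (.leaf (nat_lit 4739651)) (.leaf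
    (nat_lit 5704297))) (.leaf (nat_lit 3574957))))) (.node (.node (.node (.node (.leaf (nat_lit
    6589419)) (.leaf (nat_lit 1852337))) (.node (.leaf (nat_lit 8261434)) (.leaf (nat_lit
    17032285)))) (.node (.node (.leaf (nat_lit 6753324)) (.leaf (nat_lit 295110))) (.node (.leaf
    (nat_lit 5392888)) (.leaf (nat_lit 13394110))))) (.node (.node (.node (.leaf (nat_lit
    15245218)) (.leaf (nat_lit 14376387))) (.node (.leaf (nat_lit 7330123)) (.leaf (nat_lit
    8769631)))) (.node (.node (.leaf (nat_lit 8903815)) (.leaf (nat_lit 9671312))) (.leaf (nat_lit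
    6379135))))))) (.node (.node (.node (.node (.node (.node (.leaf (nat_lit 623281)) (.leaf
    (nat_lit 16687876))) (.node (.leaf (nat_lit 12936059)) (.leaf (nat_lit 12819004)))) (.node
    (.node (.leaf (nat_lit 147555)) (.leaf (nat_lit 11737918))) (.node (.leaf (nat_lit 17032205))
    (.leaf (nat_lit 9655568))))) (.node (.node (.node (.leaf (nat_lit 5378747)) (.leaf (nat_lit
    4835575))) (.node (.leaf (nat_lit 12458304)) (.leaf (nat_lit 2245797)))) (.node (.node (.leaf
    (nat_lit 11458307)) (.leaf (nat_lit 5245359))) (.leaf (nat_lit 3099357))))) (.node (.node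
    (.node (.node (.leaf (nat_lit 8835220)) (.leaf (nat_lit 491810))) (.node (.leaf (nat_lit
    2590192)) (.leaf (nat_lit 16392734)))) (.node (.node (.leaf (nat_lit 4294721)) (.leaf (nat_lit
    17868537))) (.node (.leaf (nat_lit 1065881)) (.leaf (nat_lit 14409408))))) (.node (.node (.node
    (.leaf (nat_lit 11656408)) (.leaf (nat_lit 5673164))) (.node (.leaf (nat_lit 6280944)) (.leaf
    (nat_lit 7999159)))) (.node (.node (.leaf (nat_lit 7641567)) (.leaf (nat_lit 6737439))) (.leaf
    (nat_lit 8164313)))))) (.node (.node (.node (.node (.node (.leaf (nat_lit 2836142)) (.leaf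
    (nat_lit 12575321))) (.node (.leaf (nat_lit 1835946)) (.leaf (nat_lit 17868532)))) (.node
    (.node (.leaf (nat_lit 3852170)) (.leaf (nat_lit 14311316))) (.node (.leaf (nat_lit 15197807))
    (.leaf (nat_lit 8952330))))) (.node (.node (.node (.leaf (nat_lit 11474858)) (.leaf (nat_lit
    9048342))) (.node (.leaf (nat_lit 7737782)) (.leaf (nat_lit 5261753)))) (.node (.node (.leaf
    (nat_lit 9753824)) (.leaf (nat_lit 5786248))) (.leaf (nat_lit 13179750))))) (.node (.node
    (.node (.node (.leaf (nat_lit 9195888)) (.leaf (nat_lit 2655539))) (.node (.leaf (nat_lit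
    5097832)) (.leaf (nat_lit 82013)))) (.node (.node (.leaf (nat_lit 6278046)) (.leaf (nat_lit
    1573660))) (.node (.leaf (nat_lit 2181031)) (.leaf (nat_lit 16917434))))) (.node (.node (.node
    (.leaf (nat_lit 14442768)) (.leaf (nat_lit 14343597))) (.node (.leaf (nat_lit 8723498)) (.leaf
    (nat_lit 10982866)))) (.node (.node (.leaf (nat_lit 16294365)) (.leaf (nat_lit 12195984)))
    (.leaf (nat_lit 8214735)))))))) (.node (.node (.node (.node (.node (.node (.node (.leaf
    (nat_lit 819609)) (.leaf (nat_lit 17753740))) (.node (.leaf (nat_lit 16359933)) (.leaf (nat_lit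
    12802609)))) (.node (.node (.leaf (nat_lit 16246258)) (.leaf (nat_lit 13917405))) (.node (.leaf
    (nat_lit 10919752)) (.leaf (nat_lit 10064811))))) (.node (.node (.node (.leaf (nat_lit
    9212281)) (.leaf (nat_lit 5327323))) (.node (.leaf (nat_lit 5852186)) (.leaf (nat_lit
    1508200)))) (.node (.node (.leaf (nat_lit 9458198)) (.leaf (nat_lit 3786602))) (.leaf (nat_lit
    4360731))))) (.node (.node (.node (.node (.leaf (nat_lit 2672947)) (.leaf (nat_lit 16399)))
    (.node (.leaf (nat_lit 1410310)) (.leaf (nat_lit 17196180)))) (.node (.node (.leaf (nat_lit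
    7425410)) (.leaf (nat_lit 15393610))) (.node (.leaf (nat_lit 574095)) (.leaf (nat_lit
    13753748))))) (.node (.node (.node (.leaf (nat_lit 13409283)) (.leaf (nat_lit 9540175))) (.node
    (.leaf (nat_lit 5789079)) (.leaf (nat_lit 4950728)))) (.node (.node (.leaf (nat_lit 15966448))
    (.leaf (nat_lit 7113968))) (.leaf (nat_lit 10950071)))))) (.node (.node (.node (.node (.node
    (.leaf (nat_lit 3442362)) (.leaf (nat_lit 12132587))) (.node (.leaf (nat_lit 606537)) (.leaf
    (nat_lit 13687936)))) (.node (.node (.leaf (nat_lit 1885125)) (.leaf (nat_lit 14638688)))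
    (.node (.leaf (nat_lit 17015963)) (.leaf (nat_lit 12605862))))) (.node (.node (.node (.leaf
    (nat_lit 13556793)) (.leaf (nat_lit 7802447))) (.node (.leaf (nat_lit 13605964)) (.leaf
    (nat_lit 3803004)))) (.node (.node (.leaf (nat_lit 8016774)) (.leaf (nat_lit 4622674))) (.leaf
    (nat_lit 10376290))))) (.node (.node (.node (.node (.leaf (nat_lit 12163196)) (.leaf (nat_lit
    1950794))) (.node (.leaf (nat_lit 5376498)) (.leaf (nat_lit 15214122)))) (.node (.node (.leaf
    (nat_lit 8622078)) (.leaf (nat_lit 819644))) (.node (.leaf (nat_lit 3950543)) (.leaf (nat_lit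
    16196138))))) (.node (.node (.node (.leaf (nat_lit 16605892)) (.leaf (nat_lit 12261563)))
    (.node (.leaf (nat_lit 7969488)) (.leaf (nat_lit 8113907)))) (.node (.node (.leaf (nat_lit
    13409654)) (.leaf (nat_lit 8540561))) (.leaf (nat_lit 13064970))))))) (.node (.node (.node
    (.node (.node (.node (.leaf (nat_lit 1917916)) (.leaf (nat_lit 10723039))) (.node (.leaf
    (nat_lit 13641024)) (.leaf (nat_lit 12589470)))) (.node (.node (.leaf (nat_lit 1032709)) (.leaf
    (nat_lit 10787948))) (.node (.leaf (nat_lit 12231009)) (.leaf (nat_lit 11130437))))) (.node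
    (.node (.node (.leaf (nat_lit 11392741)) (.leaf (nat_lit 4360628))) (.node (.leaf (nat_lit
    12753420)) (.leaf (nat_lit 2196861)))) (.node (.node (.leaf (nat_lit 10376295)) (.leaf (nat_lit
    3360755))) (.leaf (nat_lit 11802524))))) (.node (.node (.node (.node (.leaf (nat_lit 11212388))
    (.leaf (nat_lit 1081881))) (.node (.leaf (nat_lit 3557103)) (.leaf (nat_lit 17950546)))) (.node
    (.node (.leaf (nat_lit 2689263)) (.leaf (nat_lit 17245926))) (.node (.leaf (nat_lit 4081676))
    (.leaf (nat_lit 15605801))))) (.node (.node (.node (.leaf (nat_lit 12328408)) (.leaf (nat_lit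
    9376274))) (.node (.leaf (nat_lit 12884603)) (.leaf (nat_lit 5688461)))) (.node (.node (.leaf
    (nat_lit 17114182)) (.leaf (nat_lit 12048432))) (.leaf (nat_lit 14868176)))))) (.node (.node
    (.node (.node (.node (.leaf (nat_lit 7868008)) (.leaf (nat_lit 16835571))) (.node (.leaf
    (nat_lit 1704801)) (.leaf (nat_lit 14540300)))) (.node (.node (.leaf (nat_lit 5081428)) (.leaf
    (nat_lit 15491178))) (.node (.leaf (nat_lit 278709)) (.leaf (nat_lit 13261755))))) (.node
    (.node (.node (.leaf (nat_lit 10639614)) (.leaf (nat_lit 6704484))) (.node (.leaf (nat_lit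
    14359986)) (.leaf (nat_lit 9687709)))) (.node (.node (.leaf (nat_lit 5985799)) (.leaf (nat_lit
    4705081))) (.leaf (nat_lit 12097626))))) (.node (.node (.node (.node (.leaf (nat_lit 13261748))
    (.leaf (nat_lit 3639059))) (.node (.leaf (nat_lit 10786136)) (.leaf (nat_lit 1229445)))) (.node
    (.node (.leaf (nat_lit 3492965)) (.leaf (nat_lit 1541087))) (.node (.leaf (nat_lit 8982754))
    (.leaf (nat_lit 17622543))))) (.node (.node (.node (.leaf (nat_lit 12657287)) (.leaf (nat_lit
    12818999))) (.node (.leaf (nat_lit 17671744)) (.leaf (nat_lit 4460832)))) (.node (.node (.leaf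
    (nat_lit 14737342)) (.leaf (nat_lit 7181359))) (.leaf (nat_lit 12802611)))))))))) (.node (.node
    (.node (.node (.node (.node (.node (.node (.node (.leaf (nat_lit 32853)) (.leaf (nat_lit
    13196163))) (.node (.leaf (nat_lit 11755593)) (.leaf (nat_lit 11015652)))) (.node (.node (.leaf
    (nat_lit 15950783)) (.leaf (nat_lit 13294545))) (.node (.leaf (nat_lit 9903575)) (.leaf
    (nat_lit 10277909))))) (.node (.node (.node (.leaf (nat_lit 13458448)) (.leaf (nat_lit
    2524909))) (.node (.leaf (nat_lit 6015756)) (.leaf (nat_lit 1196645)))) (.node (.node (.leaf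
    (nat_lit 8720449)) (.leaf (nat_lit 2901438))) (.node (.leaf (nat_lit 2590955)) (.leaf (nat_lit
    15951592)))))) (.node (.node (.node (.node (.leaf (nat_lit 4360279)) (.leaf (nat_lit
    13509943))) (.node (.leaf (nat_lit 3229262)) (.leaf (nat_lit 17753736)))) (.node (.node (.leaf
    (nat_lit 5950162)) (.leaf (nat_lit 13377892))) (.node (.leaf (nat_lit 1295008)) (.leaf (nat_lit
    13605999))))) (.node (.node (.node (.leaf (nat_lit 10410502)) (.leaf (nat_lit 8802425))) (.node
    (.leaf (nat_lit 10081285)) (.leaf (nat_lit 4344248)))) (.node (.node (.leaf (nat_lit 13179765))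
    (.leaf (nat_lit 8113908))) (.leaf (nat_lit 5738746)))))) (.node (.node (.node (.node (.node
    (.leaf (nat_lit 2229404)) (.leaf (nat_lit 16458324))) (.node (.leaf (nat_lit 13854367)) (.leaf
    (nat_lit 11360816)))) (.node (.node (.leaf (nat_lit 786934)) (.leaf (nat_lit 17770136))) (.node
    (.leaf (nat_lit 12673676)) (.leaf (nat_lit 12884597))))) (.node (.node (.node (.leaf (nat_lit
    13638755)) (.leaf (nat_lit 8851617))) (.node (.leaf (nat_lit 4050691)) (.leaf (nat_lit
    3163709)))) (.node (.node (.leaf (nat_lit 6951401)) (.leaf (nat_lit 8933576))) (.leaf (nat_lit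
    8868017))))) (.node (.node (.node (.node (.leaf (nat_lit 11671392)) (.leaf (nat_lit 1458913)))
    (.node (.leaf (nat_lit 7851616)) (.leaf (nat_lit 15492079)))) (.node (.node (.leaf (nat_lit
    2738565)) (.leaf (nat_lit 213129))) (.node (.leaf (nat_lit 5114206)) (.leaf (nat_lit
    17146985))))) (.node (.node (.node (.leaf (nat_lit 16917423)) (.leaf (nat_lit 5034772))) (.node
    (.leaf (nat_lit 7117053)) (.leaf (nat_lit 7638525)))) (.node (.node (.leaf (nat_lit 15950062))
    (.leaf (nat_lit 9622127))) (.leaf (nat_lit 8459793))))))) (.node (.node (.node (.node (.node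
    (.node (.leaf (nat_lit 1213041)) (.leaf (nat_lit 17589750))) (.node (.leaf (nat_lit 12788513))
    (.leaf (nat_lit 13130563)))) (.node (.node (.leaf (nat_lit 16836471)) (.leaf (nat_lit
    11606734))) (.node (.leaf (nat_lit 16851831)) (.leaf (nat_lit 12032041))))) (.node (.node
    (.node (.leaf (nat_lit 14228842)) (.leaf (nat_lit 5212561))) (.node (.leaf (nat_lit 12327150))
    (.leaf (nat_lit 1623121)))) (.node (.node (.leaf (nat_lit 4116337)) (.leaf (nat_lit 4016114)))
    (.leaf (nat_lit 9720513))))) (.node (.node (.node (.node (.leaf (nat_lit 9523783)) (.leaf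
    (nat_lit 393444))) (.node (.leaf (nat_lit 3393185)) (.leaf (nat_lit 14049516)))) (.node (.node
    (.leaf (nat_lit 4163619)) (.leaf (nat_lit 16934032))) (.node (.leaf (nat_lit 803647)) (.leaf
    (nat_lit 14016102))))) (.node (.node (.node (.leaf (nat_lit 8952995)) (.leaf (nat_lit
    7753848))) (.node (.leaf (nat_lit 6100659)) (.leaf (nat_lit 6556643)))) (.node (.node (.leaf
    (nat_lit 8477066)) (.leaf (nat_lit 9179495))) (.leaf (nat_lit 8180617)))))) (.node (.node
    (.node (.node (.node (.leaf (nat_lit 6458304)) (.leaf (nat_lit 14148085))) (.node (.leaf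
    (nat_lit 1606447)) (.leaf (nat_lit 13589691)))) (.node (.node (.leaf (nat_lit 1770533)) (.leaf
    (nat_lit 13410118))) (.node (.leaf (nat_lit 16606708)) (.leaf (nat_lit 12212647))))) (.node
    (.node (.node (.leaf (nat_lit 6444903)) (.leaf (nat_lit 7359845))) (.node (.leaf (nat_lit
    14097698)) (.leaf (nat_lit 2377771)))) (.node (.node (.leaf (nat_lit 13294557)) (.leaf (nat_lit
    5687906))) (.leaf (nat_lit 13032160))))) (.node (.node (.node (.node (.leaf (nat_lit 9064745))
    (.leaf (nat_lit 2688327))) (.node (.leaf (nat_lit 3770679)) (.leaf (nat_lit 32786)))) (.node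
    (.node (.leaf (nat_lit 11441906)) (.leaf (nat_lit 983699))) (.node (.leaf (nat_lit 7458194))
    (.leaf (nat_lit 16786252))))) (.node (.node (.node (.leaf (nat_lit 15900873)) (.leaf (nat_lit
    8426904))) (.node (.leaf (nat_lit 8444926)) (.leaf (nat_lit 4280225)))) (.node (.node (.leaf
    (nat_lit 14704232)) (.leaf (nat_lit 11769745))) (.leaf (nat_lit 15999240)))))))) (.node (.node
    (.node (.node (.node (.node (.node (.leaf (nat_lit 1393348)) (.leaf (nat_lit 13753493))) (.node
    (.leaf (nat_lit 17950541)) (.leaf (nat_lit 10212986)))) (.node (.node (.leaf (nat_lit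
    16934261)) (.leaf (nat_lit 9558348))) (.node (.leaf (nat_lit 15179646)) (.leaf (nat_lit
    12753427))))) (.node (.node (.node (.leaf (nat_lit 6426917)) (.leaf (nat_lit 4081679))) (.node
    (.leaf (nat_lit 11851709)) (.leaf (nat_lit 1409827)))) (.node (.node (.leaf (nat_lit 7917193))
    (.leaf (nat_lit 2344352))) (.leaf (nat_lit 2787801))))) (.node (.node (.node (.node (.leaf
    (nat_lit 9409016)) (.leaf (nat_lit 14231335))) (.node (.leaf (nat_lit 4229166)) (.leaf (nat_lit
    15392749)))) (.node (.node (.leaf (nat_lit 7163118)) (.leaf (nat_lit 16245490))) (.node (.leaf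
    (nat_lit 2131026)) (.leaf (nat_lit 13524315))))) (.node (.node (.node (.leaf (nat_lit
    13278147)) (.leaf (nat_lit 7180102))) (.node (.leaf (nat_lit 14933738)) (.leaf (nat_lit
    7343455)))) (.node (.node (.leaf (nat_lit 6707223)) (.leaf (nat_lit 4639921))) (.leaf (nat_lit
    9032264)))))) (.node (.node (.node (.node (.node (.leaf (nat_lit 5261746)) (.leaf (nat_lit
    15720588))) (.node (.leaf (nat_lit 196790)) (.leaf (nat_lit 14163279)))) (.node (.node (.leaf
    (nat_lit 2753892)) (.leaf (nat_lit 14966525))) (.node (.leaf (nat_lit 15655973)) (.leaf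
    (nat_lit 12491105))))) (.node (.node (.node (.leaf (nat_lit 6018621)) (.leaf (nat_lit
    7261479))) (.node (.leaf (nat_lit 9409021)) (.leaf (nat_lit 6114109)))) (.node (.node (.leaf
    (nat_lit 14458336)) (.leaf (nat_lit 2640153))) (.leaf (nat_lit 11999252))))) (.node (.node
    (.node (.node (.leaf (nat_lit 3542151)) (.leaf (nat_lit 2131029))) (.node (.leaf (nat_lit
    9163102)) (.leaf (nat_lit 16590256)))) (.node (.node (.leaf (nat_lit 8671280)) (.leaf (nat_lit
    737655))) (.node (.leaf (nat_lit 4704470)) (.leaf (nat_lit 17409355))))) (.node (.node (.node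
    (.leaf (nat_lit 14966738)) (.leaf (nat_lit 8344666))) (.node (.leaf (nat_lit 7887460)) (.leaf
    (nat_lit 6344313)))) (.node (.node (.leaf (nat_lit 13376817)) (.leaf (nat_lit 9507387))) (.leaf
    (nat_lit 6362949))))))) (.node (.node (.node (.node (.node (.node (.leaf (nat_lit 1295211))
    (.leaf (nat_lit 14573204))) (.node (.leaf (nat_lit 17278173)) (.leaf (nat_lit 8378573))))
    (.node (.node (.leaf (nat_lit 229629)) (.leaf (nat_lit 16015637))) (.node (.leaf (nat_lit
    12165391)) (.leaf (nat_lit 12146802))))) (.node (.node (.node (.leaf (nat_lit 5100453)) (.leaf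
    (nat_lit 5130599))) (.node (.leaf (nat_lit 12687842)) (.leaf (nat_lit 3081739)))) (.node (.node
    (.leaf (nat_lit 4378787)) (.leaf (nat_lit 3737515))) (.leaf (nat_lit 11228798))))) (.node
    (.node (.node (.node (.leaf (nat_lit 5704395)) (.leaf (nat_lit 950757))) (.node (.leaf (nat_lit
    3425965)) (.leaf (nat_lit 14557789)))) (.node (.node (.leaf (nat_lit 8408995)) (.leaf (nat_lit
    17589860))) (.node (.leaf (nat_lit 3884966)) (.leaf (nat_lit 13508503))))) (.node (.node (.node
    (.leaf (nat_lit 9756047)) (.leaf (nat_lit 8622516))) (.node (.leaf (nat_lit 13097771)) (.leaf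
    (nat_lit 5622862)))) (.node (.node (.leaf (nat_lit 17015798)) (.leaf (nat_lit 6475488))) (.leaf
    (nat_lit 9262301)))))) (.node (.node (.node (.node (.node (.leaf (nat_lit 3557248)) (.leaf
    (nat_lit 16966617))) (.node (.leaf (nat_lit 656052)) (.leaf (nat_lit 13655493)))) (.node (.node
    (.leaf (nat_lit 2589981)) (.leaf (nat_lit 17032195))) (.node (.leaf (nat_lit 147550)) (.leaf
    (nat_lit 11754309))))) (.node (.node (.node (.leaf (nat_lit 13851831)) (.leaf (nat_lit
    4181264))) (.node (.leaf (nat_lit 5690047)) (.leaf (nat_lit 7507378)))) (.node (.node (.leaf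
    (nat_lit 7509449)) (.leaf (nat_lit 6966411))) (.leaf (nat_lit 12245175))))) (.node (.node
    (.node (.node (.leaf (nat_lit 8031937)) (.leaf (nat_lit 2983407))) (.node (.leaf (nat_lit
    10638598)) (.leaf (nat_lit 540971)))) (.node (.node (.leaf (nat_lit 9441802)) (.leaf (nat_lit
    1655700))) (.node (.leaf (nat_lit 6097715)) (.leaf (nat_lit 17966953))))) (.node (.node (.node
    (.leaf (nat_lit 17556947)) (.leaf (nat_lit 12851797))) (.node (.leaf (nat_lit 9067735)) (.leaf
    (nat_lit 6885582)))) (.node (.node (.leaf (nat_lit 17983343)) (.leaf (nat_lit 11261595)))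
    (.leaf (nat_lit 9214429))))))))) (.node (.node (.node (.node (.node (.node (.node (.node (.leaf
    (nat_lit 196833)) (.leaf (nat_lit 17360156))) (.node (.leaf (nat_lit 17491347)) (.leaf (nat_lit
    8459714)))) (.node (.node (.leaf (nat_lit 14492828)) (.leaf (nat_lit 13851833))) (.node (.leaf
    (nat_lit 10460770)) (.leaf (nat_lit 4854449))))) (.node (.node (.node (.leaf (nat_lit 7131260))
    (.leaf (nat_lit 3819387))) (.node (.leaf (nat_lit 3246985)) (.leaf (nat_lit 1327799)))) (.node
    (.node (.leaf (nat_lit 7654922)) (.leaf (nat_lit 2524440))) (.leaf (nat_lit 5573185))))) (.node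
    (.node (.node (.node (.leaf (nat_lit 9327024)) (.leaf (nat_lit 14509621))) (.node (.leaf
    (nat_lit 1164364)) (.leaf (nat_lit 13999990)))) (.node (.node (.leaf (nat_lit 1934981)) (.leaf
    (nat_lit 15032878))) (.node (.leaf (nat_lit 1016318)) (.leaf (nat_lit 13589729))))) (.node
    (.node (.node (.leaf (nat_lit 13015769)) (.leaf (nat_lit 6590138))) (.node (.leaf (nat_lit
    5493939)) (.leaf (nat_lit 6294403)))) (.node (.node (.leaf (nat_lit 15671360)) (.leaf (nat_lit
    6868061))) (.leaf (nat_lit 10573020)))))) (.node (.node (.node (.node (.node (.leaf (nat_lit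
    1377539)) (.leaf (nat_lit 17130590))) (.node (.leaf (nat_lit 49178)) (.leaf (nat_lit
    11688710)))) (.node (.node (.leaf (nat_lit 2147431)) (.leaf (nat_lit 15228821))) (.node (.leaf
    (nat_lit 17097796)) (.leaf (nat_lit 11818919))))) (.node (.node (.node (.leaf (nat_lit
    15097668)) (.leaf (nat_lit 9835271))) (.node (.leaf (nat_lit 5574558)) (.leaf (nat_lit
    3442359)))) (.node (.node (.leaf (nat_lit 10359892)) (.leaf (nat_lit 6753322))) (.leaf (nat_lit
    9441806))))) (.node (.node (.node (.node (.leaf (nat_lit 3410967)) (.leaf (nat_lit 1491822)))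
    (.node (.leaf (nat_lit 6114106)) (.leaf (nat_lit 16344270)))) (.node (.node (.leaf (nat_lit
    8917189)) (.leaf (nat_lit 524572))) (.node (.leaf (nat_lit 5425674)) (.leaf (nat_lit
    14295319))))) (.node (.node (.node (.leaf (nat_lit 15114069)) (.leaf (nat_lit 10097576)))
    (.node (.leaf (nat_lit 7494051)) (.leaf (nat_lit 6737397)))) (.node (.node (.leaf (nat_lit
    17770128)) (.leaf (nat_lit 5673131))) (.leaf (nat_lit 12868202))))))) (.node (.node (.node
    (.node (.node (.node (.leaf (nat_lit 2639148)) (.leaf (nat_lit 17655348))) (.node (.leaf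
    (nat_lit 13050855)) (.leaf (nat_lit 10770463)))) (.node (.node (.leaf (nat_lit 49281)) (.leaf
    (nat_lit 11934646))) (.node (.leaf (nat_lit 16753458)) (.leaf (nat_lit 12392735))))) (.node
    (.node (.node (.leaf (nat_lit 5411611)) (.leaf (nat_lit 7310662))) (.node (.leaf (nat_lit
    5737830)) (.leaf (nat_lit 4212778)))) (.node (.node (.leaf (nat_lit 4247535)) (.leaf (nat_lit
    4360283))) (.leaf (nat_lit 3148597))))) (.node (.node (.node (.node (.leaf (nat_lit 6097712))
    (.leaf (nat_lit 754043))) (.node (.leaf (nat_lit 1787448)) (.leaf (nat_lit 15180190)))) (.node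
    (.node (.leaf (nat_lit 2426983)) (.leaf (nat_lit 14493047))) (.node (.leaf (nat_lit 1770465))
    (.leaf (nat_lit 16032031))))) (.node (.node (.node (.leaf (nat_lit 17622553)) (.leaf (nat_lit
    7491870))) (.node (.leaf (nat_lit 12819011)) (.leaf (nat_lit 6458342)))) (.node (.node (.leaf
    (nat_lit 16753452)) (.leaf (nat_lit 7966368))) (.leaf (nat_lit 5968949)))))) (.node (.node
    (.node (.node (.node (.leaf (nat_lit 2524907)) (.leaf (nat_lit 15114951))) (.node (.leaf
    (nat_lit 1999877)) (.leaf (nat_lit 16146790)))) (.node (.node (.leaf (nat_lit 1311935)) (.leaf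
    (nat_lit 16769849))) (.node (.leaf (nat_lit 15263475)) (.leaf (nat_lit 11426409))))) (.node
    (.node (.node (.leaf (nat_lit 13146963)) (.leaf (nat_lit 7048377))) (.node (.leaf (nat_lit
    4690449)) (.leaf (nat_lit 9048339)))) (.node (.node (.leaf (nat_lit 14835390)) (.leaf (nat_lit
    7343452))) (.leaf (nat_lit 12277966))))) (.node (.node (.node (.node (.leaf (nat_lit 5295675))
    (.leaf (nat_lit 2409842))) (.node (.leaf (nat_lit 2935222)) (.leaf (nat_lit 262320)))) (.node
    (.node (.leaf (nat_lit 11163211)) (.leaf (nat_lit 2065454))) (.node (.leaf (nat_lit 3262453))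
    (.leaf (nat_lit 17048604))))) (.node (.node (.node (.leaf (nat_lit 12296546)) (.leaf (nat_lit
    11146816))) (.node (.leaf (nat_lit 8854631)) (.leaf (nat_lit 5574698)))) (.node (.node (.leaf
    (nat_lit 15933671)) (.leaf (nat_lit 12376343))) (.leaf (nat_lit 14048529)))))))) (.node (.node
    (.node (.node (.node (.node (.node (.leaf (nat_lit 1737596)) (.leaf (nat_lit 15851688))) (.node
    (.leaf (nat_lit 17409361)) (.leaf (nat_lit 11392780)))) (.node (.node (.leaf (nat_lit
    16754274)) (.leaf (nat_lit 13622365))) (.node (.leaf (nat_lit 11050895)) (.leaf (nat_lit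
    10130434))))) (.node (.node (.node (.leaf (nat_lit 5689778)) (.leaf (nat_lit 5278147))) (.node
    (.leaf (nat_lit 12130408)) (.leaf (nat_lit 1819570)))) (.node (.node (.leaf (nat_lit 10064783))
    (.leaf (nat_lit 4999473))) (.leaf (nat_lit 10392694))))) (.node (.node (.node (.node (.leaf
    (nat_lit 10163140)) (.leaf (nat_lit 131160))) (.node (.leaf (nat_lit 3081737)) (.leaf (nat_lit
    15654989)))) (.node (.node (.leaf (nat_lit 7671308)) (.leaf (nat_lit 17196177))) (.node (.leaf
    (nat_lit 1590057)) (.leaf (nat_lit 15851693))))) (.node (.node (.node (.leaf (nat_lit 8690727))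
    (.leaf (nat_lit 9261455))) (.node (.leaf (nat_lit 5920233)) (.leaf (nat_lit 5147400)))) (.node
    (.node (.leaf (nat_lit 7461073)) (.leaf (nat_lit 7507376))) (.leaf (nat_lit 7705320))))))
    (.node (.node (.node (.node (.node (.leaf (nat_lit 2983403)) (.leaf (nat_lit 17868548))) (.node
    (.leaf (nat_lit 377129)) (.leaf (nat_lit 13851834)))) (.node (.node (.leaf (nat_lit 1852335))
    (.leaf (nat_lit 17294569))) (.node (.leaf (nat_lit 16508164)) (.leaf (nat_lit 12556688)))))
    (.node (.node (.node (.leaf (nat_lit 6248173)) (.leaf (nat_lit 8097513))) (.node (.leaf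
    (nat_lit 13769882)) (.leaf (nat_lit 3196874)))) (.node (.node (.leaf (nat_lit 7967707)) (.leaf
    (nat_lit 4589963))) (.leaf (nat_lit 9638529))))) (.node (.node (.node (.node (.leaf (nat_lit
    10884498)) (.leaf (nat_lit 2229406))) (.node (.leaf (nat_lit 9392609)) (.leaf (nat_lit
    14067367)))) (.node (.node (.leaf (nat_lit 8490937)) (.leaf (nat_lit 623090))) (.node (.leaf
    (nat_lit 6917226)) (.leaf (nat_lit 14279313))))) (.node (.node (.node (.leaf (nat_lit
    15982852)) (.leaf (nat_lit 10638601))) (.node (.leaf (nat_lit 8084288)) (.leaf (nat_lit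
    7950089)))) (.node (.node (.leaf (nat_lit 16474719)) (.leaf (nat_lit 5853666))) (.leaf (nat_lit
    6559687))))))) (.node (.node (.node (.node (.node (.node (.leaf (nat_lit 3475140)) (.leaf
    (nat_lit 10805021))) (.node (.leaf (nat_lit 17540543)) (.leaf (nat_lit 10672516)))) (.node
    (.node (.leaf (nat_lit 1491692)) (.leaf (nat_lit 12590246))) (.node (.leaf (nat_lit 14393798))
    (.leaf (nat_lit 9230007))))) (.node (.node (.node (.leaf (nat_lit 5985368)) (.leaf (nat_lit
    6753321))) (.node (.leaf (nat_lit 12868197)) (.leaf (nat_lit 3704633)))) (.node (.node (.leaf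
    (nat_lit 9704107)) (.leaf (nat_lit 5573183))) (.leaf (nat_lit 10163151))))) (.node (.node
    (.node (.node (.leaf (nat_lit 9490992)) (.leaf (nat_lit 1213043))) (.node (.leaf (nat_lit
    7261476)) (.leaf (nat_lit 15754023)))) (.node (.node (.leaf (nat_lit 9868064)) (.leaf (nat_lit
    17278832))) (.node (.leaf (nat_lit 4491388)) (.leaf (nat_lit 16884623))))) (.node (.node (.node
    (.leaf (nat_lit 16769852)) (.leaf (nat_lit 12245167))) (.node (.leaf (nat_lit 6756421)) (.leaf
    (nat_lit 5393628)))) (.node (.node (.leaf (nat_lit 16015643)) (.leaf (nat_lit 4263799))) (.leaf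
    (nat_lit 8426864)))))) (.node (.node (.node (.node (.node (.leaf (nat_lit 7179513)) (.leaf
    (nat_lit 15557727))) (.node (.leaf (nat_lit 2803083)) (.leaf (nat_lit 15048488)))) (.node
    (.node (.leaf (nat_lit 2852265)) (.leaf (nat_lit 16540299))) (.node (.leaf (nat_lit 754044))
    (.leaf (nat_lit 15884479))))) (.node (.node (.node (.leaf (nat_lit 14523901)) (.leaf (nat_lit
    9064735))) (.node (.leaf (nat_lit 5018475)) (.leaf (nat_lit 2656557)))) (.node (.node (.leaf
    (nat_lit 6379137)) (.leaf (nat_lit 6245237))) (.leaf (nat_lit 8491084))))) (.node (.node (.node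
    (.node (.leaf (nat_lit 4083523)) (.leaf (nat_lit 4032506))) (.node (.leaf (nat_lit 10900886))
    (.leaf (nat_lit 639374)))) (.node (.node (.leaf (nat_lit 3640499)) (.leaf (nat_lit 1360931)))
    (.node (.leaf (nat_lit 7671317)) (.leaf (nat_lit 16213484))))) (.node (.node (.node (.leaf
    (nat_lit 17720938)) (.leaf (nat_lit 13196155))) (.node (.leaf (nat_lit 9510227)) (.leaf
    (nat_lit 8212846)))) (.node (.node (.leaf (nat_lit 11427817)) (.leaf (nat_lit 12245168)))
    (.leaf (nat_lit 11410083))))))))))) (.node (.node (.node (.node (.node (.node (.node (.node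
    (.node (.node (.leaf (nat_lit 16425)) (.leaf (nat_lit 13130567))) (.node (.leaf (nat_lit
    11690027)) (.leaf (nat_lit 10360076)))) (.node (.node (.leaf (nat_lit 15213446)) (.leaf
    (nat_lit 13081359))) (.node (.leaf (nat_lit 9870781)) (.leaf (nat_lit 5558757))))) (.node
    (.node (.node (.leaf (nat_lit 13425670)) (.leaf (nat_lit 3753817))) (.node (.leaf (nat_lit
    8654873)) (.leaf (nat_lit 623097)))) (.node (.node (.leaf (nat_lit 9687705)) (.leaf (nat_lit
    1868961))) (.node (.leaf (nat_lit 4327646)) (.leaf (nat_lit 16066212)))))) (.node (.node (.node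
    (.node (.leaf (nat_lit 8671270)) (.leaf (nat_lit 13427971))) (.node (.leaf (nat_lit 3163705))
    (.leaf (nat_lit 17458547)))) (.node (.node (.leaf (nat_lit 3048949)) (.leaf (nat_lit
    13427010))) (.node (.leaf (nat_lit 246049)) (.leaf (nat_lit 13917408))))) (.node (.node (.node
    (.leaf (nat_lit 7608787)) (.leaf (nat_lit 7409178))) (.node (.leaf (nat_lit 10114006)) (.leaf
    (nat_lit 6409135)))) (.node (.node (.leaf (nat_lit 15409120)) (.leaf (nat_lit 7802449))) (.leaf
    (nat_lit 5624023)))))) (.node (.node (.node (.node (.node (.leaf (nat_lit 1180787)) (.leaf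
    (nat_lit 17507756))) (.node (.leaf (nat_lit 13952621)) (.leaf (nat_lit 11033097)))) (.node
    (.node (.leaf (nat_lit 1786774)) (.leaf (nat_lit 15245217))) (.node (.leaf (nat_lit 17737342))
    (.leaf (nat_lit 13179767))))) (.node (.node (.node (.leaf (nat_lit 14769802)) (.leaf (nat_lit
    5884603))) (.node (.leaf (nat_lit 13130561)) (.leaf (nat_lit 4917526)))) (.node (.node (.leaf
    (nat_lit 9474593)) (.leaf (nat_lit 3901522))) (.leaf (nat_lit 8720450))))) (.node (.node (.node
    (.node (.leaf (nat_lit 6392739)) (.leaf (nat_lit 1540875))) (.node (.leaf (nat_lit 2328493))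
    (.leaf (nat_lit 15819709)))) (.node (.node (.leaf (nat_lit 5146989)) (.leaf (nat_lit 82010)))
    (.node (.leaf (nat_lit 4983082)) (.leaf (nat_lit 17081387))))) (.node (.node (.node (.leaf
    (nat_lit 14786201)) (.leaf (nat_lit 11048441))) (.node (.leaf (nat_lit 16163191)) (.leaf
    (nat_lit 7786059)))) (.node (.node (.leaf (nat_lit 13753494)) (.leaf (nat_lit 9261456))) (.leaf
    (nat_lit 15212422))))))) (.node (.node (.node (.node (.node (.node (.leaf (nat_lit 2098236))
    (.leaf (nat_lit 16573100))) (.node (.leaf (nat_lit 17376560)) (.leaf (nat_lit 13064967))))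
    (.node (.node (.leaf (nat_lit 17082155)) (.leaf (nat_lit 11360922))) (.node (.leaf (nat_lit
    16835435)) (.leaf (nat_lit 10851709))))) (.node (.node (.node (.leaf (nat_lit 10458257)) (.leaf
    (nat_lit 7523772))) (.node (.leaf (nat_lit 11769753)) (.leaf (nat_lit 1393704)))) (.node (.node
    (.leaf (nat_lit 4362059)) (.leaf (nat_lit 3344001))) (.leaf (nat_lit 9687716))))) (.node (.node
    (.node (.node (.leaf (nat_lit 10376278)) (.leaf (nat_lit 295112))) (.node (.leaf (nat_lit
    2835877)) (.leaf (nat_lit 14524609)))) (.node (.node (.leaf (nat_lit 3328016)) (.leaf (nat_lit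
    15721560))) (.node (.leaf (nat_lit 1393448)) (.leaf (nat_lit 14229045))))) (.node (.node (.node
    (.leaf (nat_lit 17245380)) (.leaf (nat_lit 6885446))) (.node (.leaf (nat_lit 11163256)) (.leaf
    (nat_lit 7851623)))) (.node (.node (.leaf (nat_lit 12966583)) (.leaf (nat_lit 9113917))) (.leaf
    (nat_lit 14589470)))))) (.node (.node (.node (.node (.node (.leaf (nat_lit 3327607)) (.leaf
    (nat_lit 12378565))) (.node (.leaf (nat_lit 885195)) (.leaf (nat_lit 14655040)))) (.node (.node
    (.leaf (nat_lit 1524737)) (.leaf (nat_lit 16409135))) (.node (.leaf (nat_lit 14575032)) (.leaf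
    (nat_lit 9755015))))) (.node (.node (.node (.leaf (nat_lit 13081362)) (.leaf (nat_lit
    8163085))) (.node (.leaf (nat_lit 14015744)) (.leaf (nat_lit 8310623)))) (.node (.node (.leaf
    (nat_lit 8328293)) (.leaf (nat_lit 7015590))) (.leaf (nat_lit 12917386))))) (.node (.node
    (.node (.node (.leaf (nat_lit 7032201)) (.leaf (nat_lit 2934217))) (.node (.leaf (nat_lit
    3754273)) (.leaf (nat_lit 16361333)))) (.node (.node (.leaf (nat_lit 5507944)) (.leaf (nat_lit
    1016423))) (.node (.leaf (nat_lit 2098991)) (.leaf (nat_lit 15573796))))) (.node (.node (.node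
    (.leaf (nat_lit 17852142)) (.leaf (nat_lit 11327179))) (.node (.leaf (nat_lit 8231914)) (.leaf
    (nat_lit 7065460)))) (.node (.node (.leaf (nat_lit 9985561)) (.leaf (nat_lit 12081226))) (.leaf
    (nat_lit 12081225)))))))) (.node (.node (.node (.node (.node (.node (.node (.leaf (nat_lit
    278851)) (.leaf (nat_lit 16441928))) (.node (.leaf (nat_lit 14115181)) (.leaf (nat_lit
    10065474)))) (.node (.node (.leaf (nat_lit 15672635)) (.leaf (nat_lit 14655039))) (.node (.leaf
    (nat_lit 16409139)) (.leaf (nat_lit 12573081))))) (.node (.node (.node (.leaf (nat_lit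
    7786738)) (.leaf (nat_lit 3311598))) (.node (.leaf (nat_lit 11736963)) (.leaf (nat_lit
    1524485)))) (.node (.node (.leaf (nat_lit 7769663)) (.leaf (nat_lit 2409851))) (.leaf (nat_lit
    4245949))))) (.node (.node (.node (.node (.leaf (nat_lit 9671304)) (.leaf (nat_lit 14788337)))
    (.node (.leaf (nat_lit 2311365)) (.leaf (nat_lit 15458294)))) (.node (.node (.leaf (nat_lit
    3573491)) (.leaf (nat_lit 15196864))) (.node (.leaf (nat_lit 1786776)) (.leaf (nat_lit
    13442351))))) (.node (.node (.node (.leaf (nat_lit 13212551)) (.leaf (nat_lit 10605807)))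
    (.node (.leaf (nat_lit 5608755)) (.leaf (nat_lit 5589616)))) (.node (.node (.leaf (nat_lit
    12655055)) (.leaf (nat_lit 5983370))) (.leaf (nat_lit 11966457)))))) (.node (.node (.node
    (.node (.node (.leaf (nat_lit 1934666)) (.leaf (nat_lit 17064992))) (.node (.leaf (nat_lit
    213131)) (.leaf (nat_lit 12999613)))) (.node (.node (.leaf (nat_lit 2213006)) (.leaf (nat_lit
    12770804))) (.node (.leaf (nat_lit 17048596)) (.leaf (nat_lit 10590236))))) (.node (.node
    (.node (.leaf (nat_lit 7345678)) (.leaf (nat_lit 4819766))) (.node (.leaf (nat_lit 13491228))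
    (.leaf (nat_lit 5278152)))) (.node (.node (.leaf (nat_lit 4920081)) (.leaf (nat_lit 4753664)))
    (.leaf (nat_lit 4345195))))) (.node (.node (.node (.node (.leaf (nat_lit 8982765)) (.leaf
    (nat_lit 1573846))) (.node (.leaf (nat_lit 8949976)) (.leaf (nat_lit 14837106)))) (.node (.node
    (.leaf (nat_lit 5671513)) (.leaf (nat_lit 1098273))) (.node (.leaf (nat_lit 6146892)) (.leaf
    (nat_lit 17589741))))) (.node (.node (.node (.leaf (nat_lit 12492728)) (.leaf (nat_lit
    7132202))) (.node (.leaf (nat_lit 7838254)) (.leaf (nat_lit 7917189)))) (.node (.node (.leaf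
    (nat_lit 14064921)) (.leaf (nat_lit 6852899))) (.leaf (nat_lit 6313769))))))) (.node (.node
    (.node (.node (.node (.node (.leaf (nat_lit 918339)) (.leaf (nat_lit 17343770))) (.node (.leaf
    (nat_lit 13264013)) (.leaf (nat_lit 9164957)))) (.node (.node (.leaf (nat_lit 704871)) (.leaf
    (nat_lit 9886740))) (.node (.leaf (nat_lit 17409349)) (.leaf (nat_lit 9508293))))) (.node
    (.node (.node (.leaf (nat_lit 10064781)) (.leaf (nat_lit 6130502))) (.node (.leaf (nat_lit
    5541324)) (.leaf (nat_lit 3573495)))) (.node (.node (.leaf (nat_lit 8818817)) (.leaf (nat_lit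
    3868574))) (.leaf (nat_lit 11556648))))) (.node (.node (.node (.node (.leaf (nat_lit 3066535))
    (.leaf (nat_lit 852410))) (.node (.leaf (nat_lit 6605804)) (.leaf (nat_lit 15999528)))) (.node
    (.node (.leaf (nat_lit 7015593)) (.leaf (nat_lit 16311856))) (.node (.leaf (nat_lit 3737424))
    (.leaf (nat_lit 17901343))))) (.node (.node (.node (.leaf (nat_lit 9592177)) (.leaf (nat_lit
    8540558))) (.node (.leaf (nat_lit 6526858)) (.leaf (nat_lit 4836400)))) (.node (.node (.leaf
    (nat_lit 16917416)) (.leaf (nat_lit 8163088))) (.leaf (nat_lit 8688820)))))) (.node (.node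
    (.node (.node (.node (.leaf (nat_lit 3770207)) (.leaf (nat_lit 17163392))) (.node (.leaf
    (nat_lit 2245786)) (.leaf (nat_lit 15851686)))) (.node (.node (.leaf (nat_lit 4622512)) (.leaf
    (nat_lit 15818887))) (.node (.leaf (nat_lit 13)) (.leaf (nat_lit 12802825))))) (.node (.node
    (.node (.leaf (nat_lit 10262638)) (.leaf (nat_lit 10294306))) (.node (.leaf (nat_lit 4805253))
    (.leaf (nat_lit 4294856)))) (.node (.node (.leaf (nat_lit 10442138)) (.leaf (nat_lit 9966434)))
    (.leaf (nat_lit 6737830))))) (.node (.node (.node (.node (.leaf (nat_lit 12999372)) (.leaf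
    (nat_lit 2475476))) (.node (.leaf (nat_lit 8638483)) (.leaf (nat_lit 459010)))) (.node (.node
    (.leaf (nat_lit 11999244)) (.leaf (nat_lit 1491814))) (.node (.leaf (nat_lit 3328044)) (.leaf
    (nat_lit 17999747))))) (.node (.node (.node (.leaf (nat_lit 15393272)) (.leaf (nat_lit
    12933787))) (.node (.leaf (nat_lit 8985779)) (.leaf (nat_lit 8736936)))) (.node (.node (.leaf
    (nat_lit 15884484)) (.leaf (nat_lit 11130409))) (.leaf (nat_lit 13966611))))))))) (.node (.node
    (.node (.node (.node (.node (.node (.node (.leaf (nat_lit 803210)) (.leaf (nat_lit 15196037)))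
    (.node (.leaf (nat_lit 15065283)) (.leaf (nat_lit 12655048)))) (.node (.node (.leaf (nat_lit
    14460002)) (.leaf (nat_lit 13950191))) (.node (.leaf (nat_lit 10018353)) (.leaf (nat_lit
    10638609))))) (.node (.node (.node (.leaf (nat_lit 5623882)) (.leaf (nat_lit 3491672))) (.node
    (.leaf (nat_lit 3214195)) (.leaf (nat_lit 950933)))) (.node (.node (.leaf (nat_lit 3771813))
    (.leaf (nat_lit 3163707))) (.leaf (nat_lit 4131129))))) (.node (.node (.node (.node (.leaf
    (nat_lit 9245056)) (.leaf (nat_lit 14247415))) (.node (.leaf (nat_lit 3639052)) (.leaf (nat_lit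
    13885261)))) (.node (.node (.leaf (nat_lit 3311217)) (.leaf (nat_lit 15163890))) (.node (.leaf
    (nat_lit 1655614)) (.leaf (nat_lit 13769917))))) (.node (.node (.node (.leaf (nat_lit
    12950183)) (.leaf (nat_lit 6360726))) (.node (.leaf (nat_lit 5395595)) (.leaf (nat_lit
    5982946)))) (.node (.node (.leaf (nat_lit 15605798)) (.leaf (nat_lit 4492316))) (.leaf (nat_lit
    8802674)))))) (.node (.node (.node (.node (.node (.leaf (nat_lit 1344745)) (.leaf (nat_lit
    15654975))) (.node (.leaf (nat_lit 14362477)) (.leaf (nat_lit 13261756)))) (.node (.node (.leaf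
    (nat_lit 606825)) (.leaf (nat_lit 14720625))) (.node (.leaf (nat_lit 17081393)) (.leaf (nat_lit
    13130564))))) (.node (.node (.node (.leaf (nat_lit 14327199)) (.leaf (nat_lit 5737130))) (.node
    (.leaf (nat_lit 7507837)) (.leaf (nat_lit 3344008)))) (.node (.node (.leaf (nat_lit 11950069))
    (.leaf (nat_lit 5327324))) (.leaf (nat_lit 8310624))))) (.node (.node (.node (.node (.leaf
    (nat_lit 3361783)) (.leaf (nat_lit 1360704))) (.node (.leaf (nat_lit 8392588)) (.leaf (nat_lit
    15557781)))) (.node (.node (.leaf (nat_lit 9540185)) (.leaf (nat_lit 442615))) (.node (.leaf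
    (nat_lit 5524008)) (.leaf (nat_lit 17852137))))) (.node (.node (.node (.leaf (nat_lit
    17064990)) (.leaf (nat_lit 11130405))) (.node (.leaf (nat_lit 7412097)) (.leaf (nat_lit
    6688206)))) (.node (.node (.leaf (nat_lit 17655336)) (.leaf (nat_lit 10327099))) (.leaf
    (nat_lit 11507485))))))) (.node (.node (.node (.node (.node (.node (.leaf (nat_lit 1409739))
    (.leaf (nat_lit 17819342))) (.node (.leaf (nat_lit 13001655)) (.leaf (nat_lit 13146968))))
    (.node (.node (.leaf (nat_lit 65633)) (.leaf (nat_lit 11688826))) (.node (.leaf (nat_lit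
    15392848)) (.leaf (nat_lit 9884980))))) (.node (.node (.node (.leaf (nat_lit 4887265)) (.leaf
    (nat_lit 7031983))) (.node (.leaf (nat_lit 9736908)) (.leaf (nat_lit 3376781)))) (.node (.node
    (.leaf (nat_lit 10277913)) (.leaf (nat_lit 3507942))) (.leaf (nat_lit 11179602))))) (.node
    (.node (.node (.node (.leaf (nat_lit 10687782)) (.leaf (nat_lit 590150))) (.node (.leaf
    (nat_lit 2655762)) (.leaf (nat_lit 14115175)))) (.node (.node (.leaf (nat_lit 8802422)) (.leaf
    (nat_lit 17819333))) (.node (.leaf (nat_lit 1541047)) (.leaf (nat_lit 16573097))))) (.node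
    (.node (.node (.leaf (nat_lit 14573085)) (.leaf (nat_lit 9720508))) (.node (.leaf (nat_lit
    11491089)) (.leaf (nat_lit 8163087)))) (.node (.node (.leaf (nat_lit 16589488)) (.leaf (nat_lit
    7704120))) (.leaf (nat_lit 11278001)))))) (.node (.node (.node (.node (.node (.leaf (nat_lit
    1984201)) (.leaf (nat_lit 17278181))) (.node (.leaf (nat_lit 459249)) (.leaf (nat_lit
    15950061)))) (.node (.node (.leaf (nat_lit 3966928)) (.leaf (nat_lit 15835283))) (.node (.leaf
    (nat_lit 14608047)) (.leaf (nat_lit 13064968))))) (.node (.node (.node (.leaf (nat_lit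
    13032171)) (.leaf (nat_lit 8982757))) (.node (.leaf (nat_lit 4739552)) (.leaf (nat_lit
    7425415)))) (.node (.node (.leaf (nat_lit 6493455)) (.leaf (nat_lit 4393556))) (.leaf (nat_lit
    13294542))))) (.node (.node (.node (.node (.leaf (nat_lit 10753358)) (.leaf (nat_lit 3114523)))
    (.node (.leaf (nat_lit 10277902)) (.leaf (nat_lit 196742)))) (.node (.node (.leaf (nat_lit
    11310789)) (.leaf (nat_lit 1704803))) (.node (.leaf (nat_lit 3360718)) (.leaf (nat_lit
    15311852))))) (.node (.node (.node (.leaf (nat_lit 12460350)) (.leaf (nat_lit 11982849)))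
    (.node (.leaf (nat_lit 8789061)) (.leaf (nat_lit 12195991)))) (.node (.node (.leaf (nat_lit
    14851785)) (.leaf (nat_lit 4969241))) (.leaf (nat_lit 16212380)))))))) (.node (.node (.node
    (.node (.node (.node (.node (.leaf (nat_lit 360887)) (.leaf (nat_lit 17737340))) (.node (.leaf
    (nat_lit 16425527)) (.leaf (nat_lit 12868199)))) (.node (.node (.leaf (nat_lit 17573421))
    (.leaf (nat_lit 12048854))) (.node (.leaf (nat_lit 16573102)) (.leaf (nat_lit 11261596)))))
    (.node (.node (.node (.leaf (nat_lit 14146876)) (.leaf (nat_lit 6982803))) (.node (.leaf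
    (nat_lit 9490989)) (.leaf (nat_lit 1917913)))) (.node (.node (.leaf (nat_lit 6573756)) (.leaf
    (nat_lit 2983400))) (.leaf (nat_lit 2902569))))) (.node (.node (.node (.node (.leaf (nat_lit
    9146712)) (.leaf (nat_lit 65580))) (.node (.leaf (nat_lit 3655457)) (.leaf (nat_lit
    15720542)))) (.node (.node (.leaf (nat_lit 2164599)) (.leaf (nat_lit 15459198))) (.node (.leaf
    (nat_lit 2376914)) (.leaf (nat_lit 13540807))))) (.node (.node (.node (.leaf (nat_lit
    11017234)) (.leaf (nat_lit 12458307))) (.node (.leaf (nat_lit 15130469)) (.leaf (nat_lit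
    5458659)))) (.node (.node (.leaf (nat_lit 16097610)) (.leaf (nat_lit 4787475))) (.leaf (nat_lit
    5853888)))))) (.node (.node (.node (.node (.node (.leaf (nat_lit 1803730)) (.leaf (nat_lit
    17573348))) (.node (.leaf (nat_lit 1049094)) (.leaf (nat_lit 16228778)))) (.node (.node (.leaf
    (nat_lit 1737589)) (.leaf (nat_lit 13328012))) (.node (.leaf (nat_lit 15148246)) (.leaf
    (nat_lit 8706250))))) (.node (.node (.node (.leaf (nat_lit 6199001)) (.leaf (nat_lit 7982761)))
    (.node (.leaf (nat_lit 13671536)) (.leaf (nat_lit 6146896)))) (.node (.node (.leaf (nat_lit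
    6591407)) (.leaf (nat_lit 5130597))) (.leaf (nat_lit 3853805))))) (.node (.node (.node (.node
    (.leaf (nat_lit 6294771)) (.leaf (nat_lit 2163830))) (.node (.leaf (nat_lit 9425406)) (.leaf
    (nat_lit 13821537)))) (.node (.node (.leaf (nat_lit 3082949)) (.leaf (nat_lit 1278619))) (.node
    (.leaf (nat_lit 6753318)) (.leaf (nat_lit 17425751))))) (.node (.node (.node (.leaf (nat_lit
    13721626)) (.leaf (nat_lit 8197338))) (.node (.leaf (nat_lit 8035076)) (.leaf (nat_lit
    6590179)))) (.node (.node (.leaf (nat_lit 14179735)) (.leaf (nat_lit 6951353))) (.leaf (nat_lit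
    6526885))))))) (.node (.node (.node (.node (.node (.node (.leaf (nat_lit 1115099)) (.leaf
    (nat_lit 13328127))) (.node (.leaf (nat_lit 17474945)) (.leaf (nat_lit 10508623)))) (.node
    (.node (.leaf (nat_lit 1229441)) (.leaf (nat_lit 14409167))) (.node (.leaf (nat_lit 16327150))
    (.leaf (nat_lit 10212989))))) (.node (.node (.node (.leaf (nat_lit 7754801)) (.leaf (nat_lit
    4213210))) (.node (.leaf (nat_lit 12786209)) (.leaf (nat_lit 3671849)))) (.node (.node (.leaf
    (nat_lit 4444443)) (.leaf (nat_lit 5310933))) (.leaf (nat_lit 11900882))))) (.node (.node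
    (.node (.node (.leaf (nat_lit 9474594)) (.leaf (nat_lit 999988))) (.node (.leaf (nat_lit
    3917755)) (.leaf (nat_lit 14459639)))) (.node (.node (.leaf (nat_lit 4884743)) (.leaf (nat_lit
    17704744))) (.node (.leaf (nat_lit 1328339)) (.leaf (nat_lit 16819031))))) (.node (.node (.node
    (.leaf (nat_lit 10427888)) (.leaf (nat_lit 12097621))) (.node (.leaf (nat_lit 15868078)) (.leaf
    (nat_lit 5065908)))) (.node (.node (.leaf (nat_lit 17179780)) (.leaf (nat_lit 7130952))) (.leaf
    (nat_lit 10884501)))))) (.node (.node (.node (.node (.node (.leaf (nat_lit 8064720)) (.leaf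
    (nat_lit 15754273))) (.node (.leaf (nat_lit 754433)) (.leaf (nat_lit 17573344)))) (.node (.node
    (.leaf (nat_lit 2196855)) (.leaf (nat_lit 15556742))) (.node (.leaf (nat_lit 213172)) (.leaf
    (nat_lit 16081220))))) (.node (.node (.node (.leaf (nat_lit 11508010)) (.leaf (nat_lit
    9671309))) (.node (.leaf (nat_lit 4969277)) (.leaf (nat_lit 4901148)))) (.node (.node (.leaf
    (nat_lit 8132169)) (.leaf (nat_lit 6671369))) (.leaf (nat_lit 7327795))))) (.node (.node (.node
    (.node (.leaf (nat_lit 8228649)) (.leaf (nat_lit 2803282))) (.node (.leaf (nat_lit 10851706))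
    (.leaf (nat_lit 885198)))) (.node (.node (.leaf (nat_lit 9786087)) (.leaf (nat_lit 1639422)))
    (.node (.leaf (nat_lit 9113920)) (.leaf (nat_lit 17720935))))) (.node (.node (.node (.leaf
    (nat_lit 16048840)) (.leaf (nat_lit 13032163))) (.node (.leaf (nat_lit 9215273)) (.leaf
    (nat_lit 8458570)))) (.node (.node (.leaf (nat_lit 11362253)) (.leaf (nat_lit 5444705))) (.leaf
    (nat_lit 11360875)))))))))) (.node (.node (.node (.node (.node (.node (.node (.node (.node
    (.leaf (nat_lit 426214)) (.leaf (nat_lit 11344831))) (.node (.leaf (nat_lit 11870311)) (.leaf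
    (nat_lit 12015646)))) (.node (.node (.leaf (nat_lit 13804532)) (.leaf (nat_lit 9213978)))
    (.node (.leaf (nat_lit 9936367)) (.leaf (nat_lit 12310757))))) (.node (.node (.node (.leaf
    (nat_lit 7327730)) (.leaf (nat_lit 3606282))) (.node (.leaf (nat_lit 4213563)) (.leaf (nat_lit
    1131067)))) (.node (.node (.leaf (nat_lit 12523890)) (.leaf (nat_lit 3589890))) (.node (.leaf
    (nat_lit 6294407)) (.leaf (nat_lit 17557302)))))) (.node (.node (.node (.node (.leaf (nat_lit
    4622515)) (.leaf (nat_lit 14132604))) (.node (.leaf (nat_lit 3327602)) (.leaf (nat_lit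
    17409356)))) (.node (.node (.leaf (nat_lit 6130496)) (.leaf (nat_lit 16589493))) (.node (.leaf
    (nat_lit 295259)) (.leaf (nat_lit 14491115))))) (.node (.node (.node (.leaf (nat_lit 7805481))
    (.leaf (nat_lit 6344278))) (.node (.leaf (nat_lit 14671428)) (.leaf (nat_lit 3541470)))) (.node
    (.node (.leaf (nat_lit 8197930)) (.leaf (nat_lit 8064726))) (.leaf (nat_lit 7442727))))))
    (.node (.node (.node (.node (.node (.leaf (nat_lit 3425962)) (.leaf (nat_lit 17196184))) (.node
    (.leaf (nat_lit 13919971)) (.leaf (nat_lit 11426406)))) (.node (.node (.leaf (nat_lit 1213053))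
    (.leaf (nat_lit 15868083))) (.node (.leaf (nat_lit 17589749)) (.leaf (nat_lit 13081373)))))
    (.node (.node (.node (.leaf (nat_lit 10982861)) (.leaf (nat_lit 5802637))) (.node (.leaf
    (nat_lit 13310947)) (.leaf (nat_lit 3229269)))) (.node (.node (.leaf (nat_lit 10982869)) (.leaf
    (nat_lit 9146702))) (.leaf (nat_lit 5246095))))) (.node (.node (.node (.node (.leaf (nat_lit
    6523855)) (.leaf (nat_lit 1377026))) (.node (.leaf (nat_lit 8048328)) (.leaf (nat_lit
    17097788)))) (.node (.node (.leaf (nat_lit 10294298)) (.leaf (nat_lit 278707))) (.node (.leaf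
    (nat_lit 1525105)) (.leaf (nat_lit 15540360))))) (.node (.node (.node (.leaf (nat_lit
    15032097)) (.leaf (nat_lit 14130487))) (.node (.leaf (nat_lit 7166249)) (.leaf (nat_lit
    4410758)))) (.node (.node (.leaf (nat_lit 14081311)) (.leaf (nat_lit 8310829))) (.leaf (nat_lit
    8017479))))))) (.node (.node (.node (.node (.node (.node (.leaf (nat_lit 1245846)) (.leaf
    (nat_lit 17425760))) (.node (.leaf (nat_lit 12854087)) (.leaf (nat_lit 11720616)))) (.node
    (.node (.leaf (nat_lit 98350)) (.leaf (nat_lit 11852546))) (.node (.leaf (nat_lit 16819039))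
    (.leaf (nat_lit 8475870))))) (.node (.node (.node (.leaf (nat_lit 14261624)) (.leaf (nat_lit
    7015589))) (.node (.leaf (nat_lit 12409128)) (.leaf (nat_lit 2180221)))) (.node (.node (.leaf
    (nat_lit 4214692)) (.leaf (nat_lit 3655451))) (.leaf (nat_lit 9851676))))) (.node (.node (.node
    (.node (.leaf (nat_lit 2869781)) (.leaf (nat_lit 475393))) (.node (.leaf (nat_lit 1656273))
    (.leaf (nat_lit 16294358)))) (.node (.node (.leaf (nat_lit 4671691)) (.leaf (nat_lit
    14001363))) (.node (.leaf (nat_lit 1721201)) (.leaf (nat_lit 14098064))))) (.node (.node (.node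
    (.leaf (nat_lit 10280116)) (.leaf (nat_lit 4411558))) (.node (.leaf (nat_lit 6231772)) (.leaf
    (nat_lit 7868013)))) (.node (.node (.leaf (nat_lit 16507500)) (.leaf (nat_lit 4066801))) (.leaf
    (nat_lit 6214573)))))) (.node (.node (.node (.node (.node (.leaf (nat_lit 6622194)) (.leaf
    (nat_lit 13771313))) (.node (.leaf (nat_lit 1688407)) (.leaf (nat_lit 13769951)))) (.node
    (.node (.leaf (nat_lit 3704628)) (.leaf (nat_lit 16343539))) (.node (.leaf (nat_lit 14493234))
    (.leaf (nat_lit 12523995))))) (.node (.node (.node (.leaf (nat_lit 6494087)) (.leaf (nat_lit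
    7294271))) (.node (.leaf (nat_lit 4559245)) (.leaf (nat_lit 8408992)))) (.node (.node (.leaf
    (nat_lit 13228957)) (.leaf (nat_lit 5360172))) (.leaf (nat_lit 11163206))))) (.node (.node
    (.node (.node (.leaf (nat_lit 7572947)) (.leaf (nat_lit 3507919))) (.node (.leaf (nat_lit
    10031996)) (.leaf (nat_lit 147548)))) (.node (.node (.leaf (nat_lit 10032000)) (.leaf (nat_lit
    1967097))) (.node (.leaf (nat_lit 6425533)) (.leaf (nat_lit 15704960))))) (.node (.node (.node
    (.leaf (nat_lit 17458553)) (.leaf (nat_lit 10868160))) (.node (.leaf (nat_lit 8559638)) (.leaf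
    (nat_lit 10573023)))) (.node (.node (.leaf (nat_lit 13475434)) (.leaf (nat_lit 6787764)))
    (.leaf (nat_lit 16130394)))))))) (.node (.node (.node (.node (.node (.node (.node (.leaf
    (nat_lit 541044)) (.leaf (nat_lit 17524155))) (.node (.leaf (nat_lit 17425749)) (.leaf (nat_lit
    10344120)))) (.node (.node (.leaf (nat_lit 17130931)) (.leaf (nat_lit 12704241))) (.node (.leaf
    (nat_lit 17556951)) (.leaf (nat_lit 11114009))))) (.node (.node (.node (.leaf (nat_lit
    6656333)) (.leaf (nat_lit 5868208))) (.node (.leaf (nat_lit 11933675)) (.leaf (nat_lit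
    1540933)))) (.node (.node (.leaf (nat_lit 10179549)) (.leaf (nat_lit 2311615))) (.leaf (nat_lit
    2836985))))) (.node (.node (.node (.node (.leaf (nat_lit 4999471)) (.leaf (nat_lit 15886201)))
    (.node (.leaf (nat_lit 4360281)) (.leaf (nat_lit 16999406)))) (.node (.node (.leaf (nat_lit
    7310658)) (.leaf (nat_lit 16999403))) (.node (.leaf (nat_lit 819821)) (.leaf (nat_lit
    15294394))))) (.node (.node (.node (.leaf (nat_lit 8199143)) (.leaf (nat_lit 10376283))) (.node
    (.leaf (nat_lit 5707119)) (.leaf (nat_lit 8638475)))) (.node (.node (.leaf (nat_lit 11786318))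
    (.leaf (nat_lit 5491935))) (.leaf (nat_lit 12458310)))))) (.node (.node (.node (.node (.node
    (.leaf (nat_lit 2311586)) (.leaf (nat_lit 17983352))) (.node (.leaf (nat_lit 786818)) (.leaf
    (nat_lit 14737023)))) (.node (.node (.leaf (nat_lit 1278758)) (.leaf (nat_lit 14704225)))
    (.node (.leaf (nat_lit 16770145)) (.leaf (nat_lit 11032691))))) (.node (.node (.node (.leaf
    (nat_lit 6051443)) (.leaf (nat_lit 7851619))) (.node (.leaf (nat_lit 13540396)) (.leaf (nat_lit
    2426714)))) (.node (.node (.leaf (nat_lit 14556690)) (.leaf (nat_lit 3098928))) (.leaf (nat_lit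
    8753243))))) (.node (.node (.node (.node (.leaf (nat_lit 9048345)) (.leaf (nat_lit 1786908)))
    (.node (.leaf (nat_lit 9228668)) (.leaf (nat_lit 15984111)))) (.node (.node (.leaf (nat_lit
    3017347)) (.leaf (nat_lit 704913))) (.node (.leaf (nat_lit 4032509)) (.leaf (nat_lit
    16704269))))) (.node (.node (.node (.leaf (nat_lit 17278178)) (.leaf (nat_lit 12081223)))
    (.node (.leaf (nat_lit 7920284)) (.leaf (nat_lit 8146696)))) (.node (.node (.leaf (nat_lit
    13426013)) (.leaf (nat_lit 10753357))) (.leaf (nat_lit 11687807))))))) (.node (.node (.node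
    (.node (.node (.node (.leaf (nat_lit 902033)) (.leaf (nat_lit 12426946))) (.node (.leaf
    (nat_lit 13935885)) (.leaf (nat_lit 12130561)))) (.node (.node (.leaf (nat_lit 672093)) (.leaf
    (nat_lit 9165898))) (.node (.leaf (nat_lit 12198205)) (.leaf (nat_lit 8918538))))) (.node
    (.node (.node (.leaf (nat_lit 5133265)) (.leaf (nat_lit 5196169))) (.node (.leaf (nat_lit
    12704238)) (.leaf (nat_lit 3114526)))) (.node (.node (.leaf (nat_lit 4526293)) (.leaf (nat_lit
    3262413))) (.leaf (nat_lit 11704174))))) (.node (.node (.node (.node (.leaf (nat_lit 5327585))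
    (.leaf (nat_lit 1131061))) (.node (.leaf (nat_lit 4917523)) (.leaf (nat_lit 14213774)))) (.node
    (.node (.leaf (nat_lit 9507384)) (.leaf (nat_lit 17491618))) (.node (.leaf (nat_lit 2245795))
    (.leaf (nat_lit 14245819))))) (.node (.node (.node (.leaf (nat_lit 9919934)) (.leaf (nat_lit
    8294878))) (.node (.leaf (nat_lit 11376584)) (.leaf (nat_lit 8884410)))) (.node (.node (.leaf
    (nat_lit 17081382)) (.leaf (nat_lit 8146695))) (.leaf (nat_lit 10425610)))))) (.node (.node
    (.node (.node (.node (.leaf (nat_lit 7638518)) (.leaf (nat_lit 16769984))) (.node (.leaf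
    (nat_lit 2491647)) (.leaf (nat_lit 13753821)))) (.node (.node (.leaf (nat_lit 4950306)) (.leaf
    (nat_lit 17097785))) (.node (.leaf (nat_lit 82015)) (.leaf (nat_lit 11524990))))) (.node (.node
    (.node (.leaf (nat_lit 9705670)) (.leaf (nat_lit 6769982))) (.node (.leaf (nat_lit 14310803))
    (.leaf (nat_lit 7212299)))) (.node (.node (.leaf (nat_lit 15179642)) (.leaf (nat_lit 6048519)))
    (.leaf (nat_lit 8196046))))) (.node (.node (.node (.node (.leaf (nat_lit 4017883)) (.leaf
    (nat_lit 3081744))) (.node (.leaf (nat_lit 10671394)) (.leaf (nat_lit 573773)))) (.node (.node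
    (.leaf (nat_lit 6851669)) (.leaf (nat_lit 1770425))) (.node (.leaf (nat_lit 7359850)) (.leaf
    (nat_lit 15033663))))) (.node (.node (.node (.leaf (nat_lit 17540548)) (.leaf (nat_lit
    12900991))) (.node (.leaf (nat_lit 14458339)) (.leaf (nat_lit 9474591)))) (.node (.node (.leaf
    (nat_lit 13361049)) (.leaf (nat_lit 11277996))) (.leaf (nat_lit 16622282))))))))) (.node (.node
    (.node (.node (.node (.node (.node (.node (.leaf (nat_lit 1065488)) (.leaf (nat_lit 17409346)))
    (.node (.leaf (nat_lit 14442777)) (.leaf (nat_lit 12737032)))) (.node (.node (.leaf (nat_lit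
    15377617)) (.leaf (nat_lit 10541256))) (.node (.leaf (nat_lit 10591886)) (.leaf (nat_lit
    9622245))))) (.node (.node (.node (.leaf (nat_lit 7475374)) (.leaf (nat_lit 3835816))) (.node
    (.leaf (nat_lit 11589435)) (.leaf (nat_lit 2049065)))) (.node (.node (.leaf (nat_lit 9802479))
    (.leaf (nat_lit 4933912))) (.leaf (nat_lit 10130359))))) (.node (.node (.node (.node (.leaf
    (nat_lit 8376203)) (.leaf (nat_lit 14722673))) (.node (.leaf (nat_lit 1213560)) (.leaf (nat_lit
    14917530)))) (.node (.node (.leaf (nat_lit 3442355)) (.leaf (nat_lit 14951002))) (.node (.leaf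
    (nat_lit 393697)) (.leaf (nat_lit 15212425))))) (.node (.node (.node (.leaf (nat_lit 8002303))
    (.leaf (nat_lit 6508254))) (.node (.leaf (nat_lit 5510361)) (.leaf (nat_lit 5720689)))) (.node
    (.node (.leaf (nat_lit 11818925)) (.leaf (nat_lit 7474593))) (.leaf (nat_lit 7279035))))))
    (.node (.node (.node (.node (.node (.leaf (nat_lit 3802993)) (.leaf (nat_lit 15786109))) (.node
    (.leaf (nat_lit 180339)) (.leaf (nat_lit 11754306)))) (.node (.node (.leaf (nat_lit 2344136))
    (.leaf (nat_lit 9985474))) (.node (.leaf (nat_lit 15459209)) (.leaf (nat_lit 11458511)))))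
    (.node (.node (.node (.leaf (nat_lit 5805501)) (.leaf (nat_lit 5933790))) (.node (.leaf
    (nat_lit 4181941)) (.leaf (nat_lit 4524176)))) (.node (.node (.leaf (nat_lit 5444280)) (.leaf
    (nat_lit 7786056))) (.leaf (nat_lit 3656975))))) (.node (.node (.node (.node (.leaf (nat_lit
    6786103)) (.leaf (nat_lit 2049053))) (.node (.leaf (nat_lit 4868355)) (.leaf (nat_lit
    15246602)))) (.node (.node (.leaf (nat_lit 3230255)) (.leaf (nat_lit 377127))) (.node (.leaf
    (nat_lit 5802634)) (.leaf (nat_lit 13328709))))) (.node (.node (.node (.leaf (nat_lit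
    16687870)) (.leaf (nat_lit 10163156))) (.node (.leaf (nat_lit 16540301)) (.leaf (nat_lit
    4066844)))) (.node (.node (.leaf (nat_lit 17835730)) (.leaf (nat_lit 4411593))) (.leaf (nat_lit
    11425555))))))) (.node (.node (.node (.node (.node (.node (.leaf (nat_lit 2688325)) (.leaf
    (nat_lit 14769813))) (.node (.leaf (nat_lit 13116439)) (.leaf (nat_lit 9590859)))) (.node
    (.node (.leaf (nat_lit 114859)) (.leaf (nat_lit 14769805))) (.node (.leaf (nat_lit 16786244))
    (.leaf (nat_lit 10409333))))) (.node (.node (.node (.leaf (nat_lit 12622253)) (.leaf (nat_lit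
    4917530))) (.node (.leaf (nat_lit 12556684)) (.leaf (nat_lit 4442222)))) (.node (.node (.leaf
    (nat_lit 5427247)) (.leaf (nat_lit 2557747))) (.leaf (nat_lit 3181411))))) (.node (.node (.node
    (.node (.leaf (nat_lit 10868094)) (.leaf (nat_lit 885193))) (.node (.leaf (nat_lit 1853007))
    (.leaf (nat_lit 16032202)))) (.node (.node (.leaf (nat_lit 2443385)) (.leaf (nat_lit
    15181237))) (.node (.leaf (nat_lit 1000445)) (.leaf (nat_lit 17392958))))) (.node (.node (.node
    (.leaf (nat_lit 12688682)) (.leaf (nat_lit 12507495))) (.node (.leaf (nat_lit 13146958)) (.leaf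
    (nat_lit 6474749)))) (.node (.node (.leaf (nat_lit 16819026)) (.leaf (nat_lit 6229622))) (.leaf
    (nat_lit 7558243)))))) (.node (.node (.node (.node (.node (.leaf (nat_lit 2033415)) (.leaf
    (nat_lit 12755697))) (.node (.leaf (nat_lit 508467)) (.leaf (nat_lit 13360473)))) (.node (.node
    (.leaf (nat_lit 4278332)) (.leaf (nat_lit 16835429))) (.node (.leaf (nat_lit 17688369)) (.leaf
    (nat_lit 11852446))))) (.node (.node (.node (.leaf (nat_lit 12523901)) (.leaf (nat_lit
    4803758))) (.node (.leaf (nat_lit 14196062)) (.leaf (nat_lit 4556955)))) (.node (.node (.leaf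
    (nat_lit 5641555)) (.leaf (nat_lit 5589641))) (.leaf (nat_lit 7720783))))) (.node (.node (.node
    (.node (.leaf (nat_lit 7835227)) (.leaf (nat_lit 3425961))) (.node (.leaf (nat_lit 4819424))
    (.leaf (nat_lit 360657)))) (.node (.node (.leaf (nat_lit 10048389)) (.leaf (nat_lit 1885128)))
    (.node (.leaf (nat_lit 2312205)) (.leaf (nat_lit 15443034))))) (.node (.node (.node (.leaf
    (nat_lit 17442154)) (.leaf (nat_lit 11212406))) (.node (.leaf (nat_lit 13737102)) (.leaf
    (nat_lit 8868009)))) (.node (.node (.leaf (nat_lit 10788601)) (.leaf (nat_lit 10786139)))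
    (.leaf (nat_lit 9558356)))))))) (.node (.node (.node (.node (.node (.node (.node (.leaf
    (nat_lit 1950698)) (.leaf (nat_lit 12410128))) (.node (.leaf (nat_lit 14721683)) (.leaf
    (nat_lit 13081364)))) (.node (.node (.leaf (nat_lit 15148713)) (.leaf (nat_lit 11524652)))
    (.node (.leaf (nat_lit 11100087)) (.leaf (nat_lit 8803372))))) (.node (.node (.node (.leaf
    (nat_lit 4657627)) (.leaf (nat_lit 8868007))) (.node (.leaf (nat_lit 12212376)) (.leaf (nat_lit
    1786840)))) (.node (.node (.leaf (nat_lit 8540113)) (.leaf (nat_lit 2508346))) (.leaf (nat_lit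
    10458262))))) (.node (.node (.node (.node (.leaf (nat_lit 6900841)) (.leaf (nat_lit 213125)))
    (.node (.leaf (nat_lit 1492297)) (.leaf (nat_lit 16737062)))) (.node (.node (.leaf (nat_lit
    2230213)) (.leaf (nat_lit 16737258))) (.node (.leaf (nat_lit 688863)) (.leaf (nat_lit
    14360055))))) (.node (.node (.node (.leaf (nat_lit 9460806)) (.leaf (nat_lit 9031947))) (.node
    (.leaf (nat_lit 15294390)) (.leaf (nat_lit 3689276)))) (.node (.node (.leaf (nat_lit 16130397))
    (.leaf (nat_lit 5639529))) (.leaf (nat_lit 5919517)))))) (.node (.node (.node (.node (.node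
    (.leaf (nat_lit 1705485)) (.leaf (nat_lit 14066025))) (.node (.leaf (nat_lit 409928)) (.leaf
    (nat_lit 14376388)))) (.node (.node (.leaf (nat_lit 934829)) (.leaf (nat_lit 17556942))) (.node
    (.leaf (nat_lit 17360184)) (.leaf (nat_lit 11065645))))) (.node (.node (.node (.leaf (nat_lit
    12900997)) (.leaf (nat_lit 8081119))) (.node (.leaf (nat_lit 4428017)) (.leaf (nat_lit
    3295216)))) (.node (.node (.leaf (nat_lit 5166079)) (.leaf (nat_lit 3606971))) (.leaf (nat_lit
    12523903))))) (.node (.node (.node (.node (.leaf (nat_lit 3689787)) (.leaf (nat_lit 2311363)))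
    (.node (.leaf (nat_lit 9654916)) (.leaf (nat_lit 15017707)))) (.node (.node (.leaf (nat_lit
    6064913)) (.leaf (nat_lit 1147458))) (.node (.leaf (nat_lit 7015586)) (.leaf (nat_lit
    13804226))))) (.node (.node (.node (.leaf (nat_lit 16195993)) (.leaf (nat_lit 13573187)))
    (.node (.leaf (nat_lit 8117116)) (.leaf (nat_lit 9195887)))) (.node (.node (.leaf (nat_lit
    13327839)) (.leaf (nat_lit 9376277))) (.leaf (nat_lit 6608881))))))) (.node (.node (.node
    (.node (.node (.node (.leaf (nat_lit 1885215)) (.leaf (nat_lit 13819728))) (.node (.leaf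
    (nat_lit 13673961)) (.leaf (nat_lit 10803624)))) (.node (.node (.leaf (nat_lit 639380)) (.leaf
    (nat_lit 12213432))) (.node (.leaf (nat_lit 16425535)) (.leaf (nat_lit 11687788))))) (.node
    (.node (.node (.leaf (nat_lit 14196065)) (.leaf (nat_lit 4246040))) (.node (.leaf (nat_lit
    3985045)) (.leaf (nat_lit 3786604)))) (.node (.node (.leaf (nat_lit 9212279)) (.leaf (nat_lit
    5212564))) (.leaf (nat_lit 5278751))))) (.node (.node (.node (.node (.leaf (nat_lit 11409126))
    (.leaf (nat_lit 1245840))) (.node (.leaf (nat_lit 4933920)) (.leaf (nat_lit 16835432)))) (.node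
    (.node (.leaf (nat_lit 9277852)) (.leaf (nat_lit 16401))) (.node (.leaf (nat_lit 4655294))
    (.leaf (nat_lit 15802497))))) (.node (.node (.node (.leaf (nat_lit 15917273)) (.leaf (nat_lit
    11769748))) (.node (.leaf (nat_lit 6854765)) (.leaf (nat_lit 9933643)))) (.node (.node (.leaf
    (nat_lit 14933742)) (.leaf (nat_lit 9343428))) (.leaf (nat_lit 11327182)))))) (.node (.node
    (.node (.node (.node (.leaf (nat_lit 6802494)) (.leaf (nat_lit 15361177))) (.node (.leaf
    (nat_lit 2966992)) (.leaf (nat_lit 13475428)))) (.node (.node (.leaf (nat_lit 1623481)) (.leaf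
    (nat_lit 16097613))) (.node (.leaf (nat_lit 950754)) (.leaf (nat_lit 14146885))))) (.node
    (.node (.node (.leaf (nat_lit 16294355)) (.leaf (nat_lit 7654919))) (.node (.leaf (nat_lit
    11114007)) (.leaf (nat_lit 7031989)))) (.node (.node (.leaf (nat_lit 6198970)) (.leaf (nat_lit
    8097514))) (.leaf (nat_lit 9195891))))) (.node (.node (.node (.node (.leaf (nat_lit 4214650))
    (.leaf (nat_lit 4048899))) (.node (.leaf (nat_lit 6704155)) (.leaf (nat_lit 655807)))) (.node
    (.node (.leaf (nat_lit 3591383)) (.leaf (nat_lit 2114639))) (.node (.leaf (nat_lit 2492589))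
    (.leaf (nat_lit 17868539))))) (.node (.node (.node (.leaf (nat_lit 14557992)) (.leaf (nat_lit
    13114161))) (.node (.leaf (nat_lit 9624948)) (.leaf (nat_lit 9310637)))) (.node (.node (.leaf
    (nat_lit 11542527)) (.leaf (nat_lit 12474702))) (.leaf (nat_lit 11918037)))))))))))) (.node
    (.node (.node (.node (.node (.node (.node (.node (.node (.node (.node (.leaf (nat_lit 163940))
    (.leaf (nat_lit 8035103))) (.node (.leaf (nat_lit 11673631)) (.leaf (nat_lit 12671449))))
    (.node (.node (.leaf (nat_lit 17901340)) (.leaf (nat_lit 13064963))) (.node (.leaf (nat_lit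
    9837991)) (.leaf (nat_lit 10261517))))) (.node (.node (.node (.leaf (nat_lit 8458161)) (.leaf
    (nat_lit 3688241))) (.node (.leaf (nat_lit 11064828)) (.leaf (nat_lit 934376)))) (.node (.node
    (.leaf (nat_lit 10589416)) (.leaf (nat_lit 2213005))) (.node (.leaf (nat_lit 3229911)) (.leaf
    (nat_lit 17704587)))))) (.node (.node (.node (.node (.leaf (nat_lit 4261947)) (.leaf (nat_lit
    13346023))) (.node (.leaf (nat_lit 902019)) (.leaf (nat_lit 14016171)))) (.node (.node (.leaf
    (nat_lit 1672665)) (.leaf (nat_lit 16655079))) (.node (.leaf (nat_lit 1098279)) (.leaf (nat_lit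
    14671438))))) (.node (.node (.node (.leaf (nat_lit 15868081)) (.leaf (nat_lit 7556614))) (.node
    (.leaf (nat_lit 10146755)) (.leaf (nat_lit 5114232)))) (.node (.node (.leaf (nat_lit 11900887))
    (.leaf (nat_lit 6097836))) (.leaf (nat_lit 13737098)))))) (.node (.node (.node (.node (.node
    (.leaf (nat_lit 1229919)) (.leaf (nat_lit 13393796))) (.node (.leaf (nat_lit 17720937)) (.leaf
    (nat_lit 11000307)))) (.node (.node (.leaf (nat_lit 917979)) (.leaf (nat_lit 12147950))) (.node
    (.leaf (nat_lit 17622550)) (.leaf (nat_lit 11884494))))) (.node (.node (.node (.leaf (nat_lit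
    5493951)) (.leaf (nat_lit 4115002))) (.node (.leaf (nat_lit 4017865)) (.leaf (nat_lit
    4655300)))) (.node (.node (.leaf (nat_lit 7803298)) (.leaf (nat_lit 3754052))) (.leaf (nat_lit
    4574273))))) (.node (.node (.node (.node (.leaf (nat_lit 3246993)) (.leaf (nat_lit 1655617)))
    (.node (.leaf (nat_lit 2852756)) (.leaf (nat_lit 15590303)))) (.node (.node (.leaf (nat_lit
    2705751)) (.leaf (nat_lit 114759))) (.node (.leaf (nat_lit 1443103)) (.leaf (nat_lit
    15638588))))) (.node (.node (.node (.leaf (nat_lit 14753411)) (.leaf (nat_lit 12114017)))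
    (.node (.leaf (nat_lit 6936749)) (.leaf (nat_lit 3738926)))) (.node (.node (.leaf (nat_lit
    16540309)) (.leaf (nat_lit 9572961))) (.leaf (nat_lit 9229790))))))) (.node (.node (.node
    (.node (.node (.node (.leaf (nat_lit 2049056)) (.leaf (nat_lit 16343540))) (.node (.leaf
    (nat_lit 16655077)) (.leaf (nat_lit 10278744)))) (.node (.node (.leaf (nat_lit 16590609))
    (.leaf (nat_lit 11491966))) (.node (.leaf (nat_lit 15687761)) (.leaf (nat_lit 10835316)))))
    (.node (.node (.node (.leaf (nat_lit 7197231)) (.leaf (nat_lit 4442240))) (.node (.leaf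
    (nat_lit 12261560)) (.leaf (nat_lit 1442837)))) (.node (.node (.leaf (nat_lit 6147888)) (.leaf
    (nat_lit 3950540))) (.leaf (nat_lit 4442749))))) (.node (.node (.node (.node (.leaf (nat_lit
    10310706)) (.leaf (nat_lit 311487))) (.node (.leaf (nat_lit 1590666)) (.leaf (nat_lit
    14311591)))) (.node (.node (.leaf (nat_lit 2279423)) (.leaf (nat_lit 15688760))) (.node (.leaf
    (nat_lit 2819472)) (.leaf (nat_lit 13737512))))) (.node (.node (.node (.leaf (nat_lit 8903802))
    (.leaf (nat_lit 9900855))) (.node (.leaf (nat_lit 11196003)) (.leaf (nat_lit 6327181)))) (.node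
    (.node (.leaf (nat_lit 11835707)) (.leaf (nat_lit 5541273))) (.leaf (nat_lit 8377176))))))
    (.node (.node (.node (.node (.node (.leaf (nat_lit 6212460)) (.leaf (nat_lit 13607350))) (.node
    (.leaf (nat_lit 1426131)) (.leaf (nat_lit 14441948)))) (.node (.node (.leaf (nat_lit 3376778))
    (.leaf (nat_lit 17835738))) (.node (.leaf (nat_lit 16360859)) (.leaf (nat_lit 10869096)))))
    (.node (.node (.node (.leaf (nat_lit 11605825)) (.leaf (nat_lit 8146693))) (.node (.leaf
    (nat_lit 4460853)) (.leaf (nat_lit 5737077)))) (.node (.node (.leaf (nat_lit 6558795)) (.leaf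
    (nat_lit 5524013))) (.leaf (nat_lit 12884588))))) (.node (.node (.node (.node (.leaf (nat_lit
    10556620)) (.leaf (nat_lit 2770291))) (.node (.leaf (nat_lit 3475722)) (.leaf (nat_lit
    16607059)))) (.node (.node (.leaf (nat_lit 4066130)) (.leaf (nat_lit 1213045))) (.node (.leaf
    (nat_lit 7228686)) (.leaf (nat_lit 16343820))))) (.node (.node (.node (.leaf (nat_lit
    14393465)) (.leaf (nat_lit 13769889))) (.node (.leaf (nat_lit 11459545)) (.leaf (nat_lit
    4149086)))) (.node (.node (.leaf (nat_lit 14589474)) (.leaf (nat_lit 12261570))) (.leaf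
    (nat_lit 12015669)))))))) (.node (.node (.node (.node (.node (.node (.node (.leaf (nat_lit
    262451)) (.leaf (nat_lit 13704345))) (.node (.leaf (nat_lit 12214611)) (.leaf (nat_lit
    10114600)))) (.node (.node (.leaf (nat_lit 15328545)) (.leaf (nat_lit 14671435))) (.node (.leaf
    (nat_lit 17310967)) (.leaf (nat_lit 10704181))))) (.node (.node (.node (.leaf (nat_lit
    4411611)) (.leaf (nat_lit 3262426))) (.node (.leaf (nat_lit 11687787)) (.leaf (nat_lit
    1737593)))) (.node (.node (.leaf (nat_lit 3903015)) (.leaf (nat_lit 2737507))) (.leaf (nat_lit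
    4835749))))) (.node (.node (.node (.node (.leaf (nat_lit 9031948)) (.leaf (nat_lit 14444239)))
    (.node (.leaf (nat_lit 1295537)) (.leaf (nat_lit 17163386)))) (.node (.node (.leaf (nat_lit
    2000597)) (.leaf (nat_lit 16425638))) (.node (.leaf (nat_lit 1819561)) (.leaf (nat_lit
    17507749))))) (.node (.node (.node (.leaf (nat_lit 10083167)) (.leaf (nat_lit 6623000))) (.node
    (.leaf (nat_lit 5592355)) (.leaf (nat_lit 6966412)))) (.node (.node (.leaf (nat_lit 15769710))
    (.leaf (nat_lit 4181113))) (.leaf (nat_lit 9425409)))))) (.node (.node (.node (.node (.node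
    (.leaf (nat_lit 4933918)) (.leaf (nat_lit 15818893))) (.node (.leaf (nat_lit 82034)) (.leaf
    (nat_lit 11377561)))) (.node (.node (.leaf (nat_lit 2524426)) (.leaf (nat_lit 16261567)))
    (.node (.leaf (nat_lit 15410135)) (.leaf (nat_lit 10819586))))) (.node (.node (.node (.leaf
    (nat_lit 11327177)) (.leaf (nat_lit 6081311))) (.node (.leaf (nat_lit 10556622)) (.leaf
    (nat_lit 5212562)))) (.node (.node (.leaf (nat_lit 9835269)) (.leaf (nat_lit 7736881))) (.leaf
    (nat_lit 8671282))))) (.node (.node (.node (.node (.leaf (nat_lit 8654877)) (.leaf (nat_lit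
    1770438))) (.node (.leaf (nat_lit 5228959)) (.leaf (nat_lit 16655705)))) (.node (.node (.leaf
    (nat_lit 2935371)) (.leaf (nat_lit 852400))) (.node (.leaf (nat_lit 6081308)) (.leaf (nat_lit
    13427080))))) (.node (.node (.node (.leaf (nat_lit 17638944)) (.leaf (nat_lit 10277905)))
    (.node (.leaf (nat_lit 7772693)) (.leaf (nat_lit 7294538)))) (.node (.node (.leaf (nat_lit
    14228847)) (.leaf (nat_lit 10491052))) (.leaf (nat_lit 11523895))))))) (.node (.node (.node
    (.node (.node (.node (.leaf (nat_lit 787249)) (.leaf (nat_lit 16638687))) (.node (.leaf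
    (nat_lit 13214835)) (.leaf (nat_lit 12753424)))) (.node (.node (.leaf (nat_lit 901586)) (.leaf
    (nat_lit 16081219))) (.node (.leaf (nat_lit 12099804)) (.leaf (nat_lit 8590765))))) (.node
    (.node (.node (.leaf (nat_lit 12097619)) (.leaf (nat_lit 9851669))) (.node (.leaf (nat_lit
    12622250)) (.leaf (nat_lit 2524434)))) (.node (.node (.leaf (nat_lit 8786025)) (.leaf (nat_lit
    2967403))) (.leaf (nat_lit 11491082))))) (.node (.node (.node (.node (.leaf (nat_lit 8769632))
    (.leaf (nat_lit 836005))) (.node (.leaf (nat_lit 1918579)) (.leaf (nat_lit 14230033)))) (.node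
    (.node (.leaf (nat_lit 4589733)) (.leaf (nat_lit 17344012))) (.node (.leaf (nat_lit 2458866))
    (.leaf (nat_lit 15917280))))) (.node (.node (.node (.leaf (nat_lit 9559395)) (.leaf (nat_lit
    12622255))) (.node (.leaf (nat_lit 11720573)) (.leaf (nat_lit 7622132)))) (.node (.node (.leaf
    (nat_lit 11967157)) (.leaf (nat_lit 7933610))) (.leaf (nat_lit 12687848)))))) (.node (.node
    (.node (.node (.node (.leaf (nat_lit 3721036)) (.leaf (nat_lit 16933825))) (.node (.leaf
    (nat_lit 2213000)) (.leaf (nat_lit 15114075)))) (.node (.node (.leaf (nat_lit 4540562)) (.leaf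
    (nat_lit 15786101))) (.node (.leaf (nat_lit 17770399)) (.leaf (nat_lit 12819182))))) (.node
    (.node (.node (.leaf (nat_lit 15228819)) (.leaf (nat_lit 10310699))) (.node (.leaf (nat_lit
    14245237)) (.leaf (nat_lit 4622520)))) (.node (.node (.leaf (nat_lit 7296388)) (.leaf (nat_lit
    4164285))) (.leaf (nat_lit 9950041))))) (.node (.node (.node (.node (.leaf (nat_lit 7933581))
    (.leaf (nat_lit 2442696))) (.node (.leaf (nat_lit 2869763)) (.leaf (nat_lit 409849)))) (.node
    (.node (.leaf (nat_lit 7622131)) (.leaf (nat_lit 1688409))) (.node (.leaf (nat_lit 2344997))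
    (.leaf (nat_lit 16950452))))) (.node (.node (.node (.leaf (nat_lit 17114192)) (.leaf (nat_lit
    10835658))) (.node (.leaf (nat_lit 14884573)) (.leaf (nat_lit 7770256)))) (.node (.node (.leaf
    (nat_lit 15097678)) (.leaf (nat_lit 10081175))) (.leaf (nat_lit 16474712))))))))) (.node (.node
    (.node (.node (.node (.node (.node (.node (.leaf (nat_lit 704868)) (.leaf (nat_lit 17310964)))
    (.node (.leaf (nat_lit 14295211)) (.leaf (nat_lit 10917285)))) (.node (.node (.leaf (nat_lit
    16573503)) (.leaf (nat_lit 9754720))) (.node (.leaf (nat_lit 17786542)) (.leaf (nat_lit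
    9786084))))) (.node (.node (.node (.leaf (nat_lit 8720447)) (.leaf (nat_lit 3721031))) (.node
    (.leaf (nat_lit 11343575)) (.leaf (nat_lit 672388)))) (.node (.node (.leaf (nat_lit 9769694))
    (.leaf (nat_lit 3180103))) (.node (.leaf (nat_lit 9933630)) (.leaf (nat_lit 17606548))))))
    (.node (.node (.node (.node (.leaf (nat_lit 4524169)) (.leaf (nat_lit 14034388))) (.node (.leaf
    (nat_lit 1082384)) (.leaf (nat_lit 14720819)))) (.node (.node (.leaf (nat_lit 1869405)) (.leaf
    (nat_lit 17655345))) (.node (.leaf (nat_lit 917983)) (.leaf (nat_lit 16589491))))) (.node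
    (.node (.node (.leaf (nat_lit 11180673)) (.leaf (nat_lit 6229634))) (.node (.leaf (nat_lit
    5346427)) (.leaf (nat_lit 2918924)))) (.node (.node (.leaf (nat_lit 6608735)) (.leaf (nat_lit
    6179848))) (.leaf (nat_lit 14081308)))))) (.node (.node (.node (.node (.node (.leaf (nat_lit
    4343886)) (.leaf (nat_lit 17228986))) (.node (.leaf (nat_lit 14346059)) (.leaf (nat_lit
    11705017)))) (.node (.node (.leaf (nat_lit 590419)) (.leaf (nat_lit 14523903))) (.node (.leaf
    (nat_lit 17245377)) (.leaf (nat_lit 11720567))))) (.node (.node (.node (.leaf (nat_lit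
    13589577)) (.leaf (nat_lit 5819029))) (.node (.leaf (nat_lit 8245090)) (.leaf (nat_lit
    3327613)))) (.node (.node (.leaf (nat_lit 11704178)) (.leaf (nat_lit 5179775))) (.leaf (nat_lit
    8638485))))) (.node (.node (.node (.node (.leaf (nat_lit 11917278)) (.leaf (nat_lit 1311540)))
    (.node (.leaf (nat_lit 7638523)) (.leaf (nat_lit 15328379)))) (.node (.node (.leaf (nat_lit
    2804197)) (.leaf (nat_lit 540966))) (.node (.leaf (nat_lit 1607085)) (.leaf (nat_lit
    15130849))))) (.node (.node (.node (.leaf (nat_lit 17474959)) (.leaf (nat_lit 10458259)))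
    (.node (.leaf (nat_lit 16376333)) (.leaf (nat_lit 5410234)))) (.node (.node (.leaf (nat_lit
    16179598)) (.leaf (nat_lit 9081135))) (.leaf (nat_lit 7820959))))))) (.node (.node (.node
    (.node (.node (.node (.leaf (nat_lit 2147424)) (.leaf (nat_lit 13868497))) (.node (.leaf
    (nat_lit 12952473)) (.leaf (nat_lit 11589604)))) (.node (.node (.leaf (nat_lit 262304)) (.leaf
    (nat_lit 11819868))) (.node (.leaf (nat_lit 17064996)) (.leaf (nat_lit 12327162))))) (.node
    (.node (.node (.leaf (nat_lit 14294408)) (.leaf (nat_lit 7327059))) (.node (.leaf (nat_lit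
    3689765)) (.leaf (nat_lit 2278587)))) (.node (.node (.leaf (nat_lit 5050305)) (.leaf (nat_lit
    2590429))) (.leaf (nat_lit 6015737))))) (.node (.node (.node (.node (.leaf (nat_lit 2918967))
    (.leaf (nat_lit 557366))) (.node (.leaf (nat_lit 3409573)) (.leaf (nat_lit 17491348)))) (.node
    (.node (.leaf (nat_lit 8736836)) (.leaf (nat_lit 14427422))) (.node (.leaf (nat_lit 1033128))
    (.leaf (nat_lit 17950545))))) (.node (.node (.node (.leaf (nat_lit 9100523)) (.leaf (nat_lit
    7475422))) (.node (.leaf (nat_lit 13294552)) (.leaf (nat_lit 6638588)))) (.node (.node (.leaf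
    (nat_lit 12294647)) (.leaf (nat_lit 9933636))) (.leaf (nat_lit 6460399)))))) (.node (.node
    (.node (.node (.node (.leaf (nat_lit 6769710)) (.leaf (nat_lit 13542007))) (.node (.leaf
    (nat_lit 1901518)) (.leaf (nat_lit 14802602)))) (.node (.node (.leaf (nat_lit 2671927)) (.leaf
    (nat_lit 16704267))) (.node (.leaf (nat_lit 13837953)) (.leaf (nat_lit 12425753))))) (.node
    (.node (.node (.leaf (nat_lit 11868097)) (.leaf (nat_lit 7507373))) (.node (.leaf (nat_lit
    4624845)) (.leaf (nat_lit 4311136)))) (.node (.node (.leaf (nat_lit 7197937)) (.leaf (nat_lit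
    8786030))) (.leaf (nat_lit 13245346))))) (.node (.node (.node (.node (.leaf (nat_lit 3886595))
    (.leaf (nat_lit 2622776))) (.node (.leaf (nat_lit 5163383)) (.leaf (nat_lit 180343)))) (.node
    (.node (.leaf (nat_lit 6425525)) (.leaf (nat_lit 1999881))) (.node (.leaf (nat_lit 7786050))
    (.leaf (nat_lit 17212579))))) (.node (.node (.node (.leaf (nat_lit 15491374)) (.leaf (nat_lit
    14327201))) (.node (.leaf (nat_lit 8756277)) (.leaf (nat_lit 5771234)))) (.node (.node (.leaf
    (nat_lit 14016175)) (.leaf (nat_lit 9278198))) (.leaf (nat_lit 10295529)))))))) (.node (.node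
    (.node (.node (.node (.node (.node (.leaf (nat_lit 1672008)) (.leaf (nat_lit 17802928))) (.node
    (.leaf (nat_lit 16376341)) (.leaf (nat_lit 11491085)))) (.node (.node (.leaf (nat_lit
    15541779)) (.leaf (nat_lit 12687845))) (.node (.leaf (nat_lit 10968932)) (.leaf (nat_lit
    10228729))))) (.node (.node (.node (.leaf (nat_lit 14130482)) (.leaf (nat_lit 5458457))) (.node
    (.leaf (nat_lit 12032034)) (.leaf (nat_lit 1377161)))) (.node (.node (.leaf (nat_lit 7835311))
    (.leaf (nat_lit 3048954))) (.leaf (nat_lit 10556614))))) (.node (.node (.node (.node (.leaf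
    (nat_lit 9966438)) (.leaf (nat_lit 49181))) (.node (.leaf (nat_lit 3376786)) (.leaf (nat_lit
    16901022)))) (.node (.node (.leaf (nat_lit 7523764)) (.leaf (nat_lit 15426404))) (.node (.leaf
    (nat_lit 606881)) (.leaf (nat_lit 13671857))))) (.node (.node (.node (.leaf (nat_lit 13442061))
    (.leaf (nat_lit 10933675))) (.node (.leaf (nat_lit 15114073)) (.leaf (nat_lit 9851671))))
    (.node (.node (.leaf (nat_lit 16032028)) (.leaf (nat_lit 7572951))) (.leaf (nat_lit
    5788325)))))) (.node (.node (.node (.node (.node (.leaf (nat_lit 2950605)) (.leaf (nat_lit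
    13410563))) (.node (.leaf (nat_lit 442613)) (.leaf (nat_lit 13409313)))) (.node (.node (.leaf
    (nat_lit 3032550)) (.leaf (nat_lit 14278264))) (.node (.leaf (nat_lit 15377597)) (.leaf
    (nat_lit 11966642))))) (.node (.node (.node (.leaf (nat_lit 14343595)) (.leaf (nat_lit
    7818839))) (.node (.leaf (nat_lit 13638750)) (.leaf (nat_lit 3868573)))) (.node (.node (.leaf
    (nat_lit 11277991)) (.leaf (nat_lit 6015734))) (.leaf (nat_lit 4623841))))) (.node (.node
    (.node (.node (.leaf (nat_lit 6540520)) (.leaf (nat_lit 1819740))) (.node (.leaf (nat_lit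
    9376210)) (.leaf (nat_lit 15967818)))) (.node (.node (.leaf (nat_lit 3066551)) (.leaf (nat_lit
    754132))) (.node (.leaf (nat_lit 5360109)) (.leaf (nat_lit 14475844))))) (.node (.node (.node
    (.leaf (nat_lit 16064826)) (.leaf (nat_lit 12277961))) (.node (.leaf (nat_lit 11786993)) (.leaf
    (nat_lit 6491854)))) (.node (.node (.leaf (nat_lit 15900885)) (.leaf (nat_lit 11507480)))
    (.leaf (nat_lit 6494107))))))) (.node (.node (.node (.node (.node (.node (.leaf (nat_lit
    1098699)) (.leaf (nat_lit 17491357))) (.node (.leaf (nat_lit 13542739)) (.leaf (nat_lit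
    11327801)))) (.node (.node (.leaf (nat_lit 393554)) (.leaf (nat_lit 8903806))) (.node (.leaf
    (nat_lit 12312966)) (.leaf (nat_lit 10081884))))) (.node (.node (.node (.leaf (nat_lit
    12212379)) (.leaf (nat_lit 6540248))) (.node (.leaf (nat_lit 8622081)) (.leaf (nat_lit
    2803087)))) (.node (.node (.leaf (nat_lit 4428039)) (.leaf (nat_lit 3311623))) (.leaf (nat_lit
    5475290))))) (.node (.node (.node (.node (.leaf (nat_lit 5114663)) (.leaf (nat_lit 901669)))
    (.node (.leaf (nat_lit 6671376)) (.leaf (nat_lit 14623446)))) (.node (.node (.leaf (nat_lit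
    9130313)) (.leaf (nat_lit 17442570))) (.node (.leaf (nat_lit 4180004)) (.leaf (nat_lit
    15376348))))) (.node (.node (.node (.leaf (nat_lit 17163390)) (.leaf (nat_lit 9736901))) (.node
    (.leaf (nat_lit 15835285)) (.leaf (nat_lit 6753438)))) (.node (.node (.leaf (nat_lit 12491675))
    (.leaf (nat_lit 10622203))) (.leaf (nat_lit 7378245)))))) (.node (.node (.node (.node (.node
    (.leaf (nat_lit 7966362)) (.leaf (nat_lit 15524875))) (.node (.leaf (nat_lit 2704712)) (.leaf
    (nat_lit 14507533)))) (.node (.node (.leaf (nat_lit 5179772)) (.leaf (nat_lit 15523956)))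
    (.node (.leaf (nat_lit 540960)) (.leaf (nat_lit 11377630))))) (.node (.node (.node (.leaf
    (nat_lit 11835666)) (.leaf (nat_lit 7589343))) (.node (.leaf (nat_lit 4952879)) (.leaf (nat_lit
    4933917)))) (.node (.node (.leaf (nat_lit 8164909)) (.leaf (nat_lit 7261482))) (.leaf (nat_lit
    7065620))))) (.node (.node (.node (.node (.leaf (nat_lit 4050709)) (.leaf (nat_lit 3966932)))
    (.node (.leaf (nat_lit 9720510)) (.leaf (nat_lit 852399)))) (.node (.node (.leaf (nat_lit
    8392598)) (.leaf (nat_lit 1950705))) (.node (.leaf (nat_lit 5753468)) (.leaf (nat_lit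
    17835735))))) (.node (.node (.node (.leaf (nat_lit 15934123)) (.leaf (nat_lit 13015771)))
    (.node (.leaf (nat_lit 16556705)) (.leaf (nat_lit 12589473)))) (.node (.node (.leaf (nat_lit
    11345861)) (.leaf (nat_lit 11294393))) (.leaf (nat_lit 7838279)))))))))) (.node (.node (.node
    (.node (.node (.node (.node (.node (.node (.leaf (nat_lit 49261)) (.leaf (nat_lit 8100755)))
    (.node (.leaf (nat_lit 11853915)) (.leaf (nat_lit 7656771)))) (.node (.node (.leaf (nat_lit
    14853076)) (.leaf (nat_lit 11098112))) (.node (.leaf (nat_lit 17442156)) (.leaf (nat_lit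
    9179700))))) (.node (.node (.node (.leaf (nat_lit 10392692)) (.leaf (nat_lit 3540736))) (.node
    (.leaf (nat_lit 6081313)) (.leaf (nat_lit 770594)))) (.node (.node (.leaf (nat_lit 3689807))
    (.leaf (nat_lit 2835873))) (.node (.leaf (nat_lit 5228964)) (.leaf (nat_lit 16672524))))))
    (.node (.node (.node (.node (.leaf (nat_lit 4442225)) (.leaf (nat_lit 14312801))) (.node (.leaf
    (nat_lit 3278434)) (.leaf (nat_lit 16163194)))) (.node (.node (.leaf (nat_lit 6048516)) (.leaf
    (nat_lit 14164356))) (.node (.leaf (nat_lit 1213048)) (.leaf (nat_lit 13573251))))) (.node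
    (.node (.node (.leaf (nat_lit 14507507)) (.leaf (nat_lit 7736900))) (.node (.leaf (nat_lit
    5198863)) (.leaf (nat_lit 5310931)))) (.node (.node (.leaf (nat_lit 15441902)) (.leaf (nat_lit
    5295060))) (.leaf (nat_lit 9523785)))))) (.node (.node (.node (.node (.node (.leaf (nat_lit
    1901746)) (.leaf (nat_lit 15687759))) (.node (.leaf (nat_lit 13903553)) (.leaf (nat_lit
    12917392)))) (.node (.node (.leaf (nat_lit 1196651)) (.leaf (nat_lit 14556693))) (.node (.leaf
    (nat_lit 15164079)) (.leaf (nat_lit 11589437))))) (.node (.node (.node (.leaf (nat_lit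
    14818994)) (.leaf (nat_lit 4426334))) (.node (.leaf (nat_lit 13278151)) (.leaf (nat_lit
    3950539)))) (.node (.node (.leaf (nat_lit 12884595)) (.leaf (nat_lit 3770482))) (.leaf (nat_lit
    3509365))))) (.node (.node (.node (.node (.leaf (nat_lit 3296195)) (.leaf (nat_lit 1721199)))
    (.node (.leaf (nat_lit 7949972)) (.leaf (nat_lit 17130588)))) (.node (.node (.leaf (nat_lit
    9081138)) (.leaf (nat_lit 245917))) (.node (.leaf (nat_lit 5212558)) (.leaf (nat_lit
    15769718))))) (.node (.node (.node (.leaf (nat_lit 17507754)) (.leaf (nat_lit 13458453)))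
    (.node (.leaf (nat_lit 7133457)) (.leaf (nat_lit 10556631)))) (.node (.node (.leaf (nat_lit
    17524142)) (.leaf (nat_lit 5558280))) (.leaf (nat_lit 6624811))))))) (.node (.node (.node
    (.node (.node (.node (.leaf (nat_lit 1360575)) (.leaf (nat_lit 17884948))) (.node (.leaf
    (nat_lit 12804917)) (.leaf (nat_lit 13294550)))) (.node (.node (.leaf (nat_lit 15476633))
    (.leaf (nat_lit 11623138))) (.node (.leaf (nat_lit 15704153)) (.leaf (nat_lit 10458307)))))
    (.node (.node (.node (.leaf (nat_lit 4788843)) (.leaf (nat_lit 4688079))) (.node (.leaf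
    (nat_lit 12376336)) (.leaf (nat_lit 1885288)))) (.node (.node (.leaf (nat_lit 4132743)) (.leaf
    (nat_lit 3721034))) (.leaf (nat_lit 9343435))))) (.node (.node (.node (.node (.leaf (nat_lit
    4983303)) (.leaf (nat_lit 426226))) (.node (.leaf (nat_lit 5261751)) (.leaf (nat_lit
    17589742)))) (.node (.node (.leaf (nat_lit 8523714)) (.leaf (nat_lit 16966834))) (.node (.leaf
    (nat_lit 3065344)) (.leaf (nat_lit 14524028))))) (.node (.node (.node (.leaf (nat_lit
    17032200)) (.leaf (nat_lit 7114899))) (.node (.leaf (nat_lit 6166215)) (.leaf (nat_lit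
    7884408)))) (.node (.node (.leaf (nat_lit 16441922)) (.leaf (nat_lit 7671311))) (.leaf (nat_lit
    5084053)))))) (.node (.node (.node (.node (.node (.leaf (nat_lit 2082420)) (.leaf (nat_lit
    15147539))) (.node (.leaf (nat_lit 360867)) (.leaf (nat_lit 15097676)))) (.node (.node (.leaf
    (nat_lit 2409698)) (.leaf (nat_lit 15064930))) (.node (.leaf (nat_lit 16442903)) (.leaf
    (nat_lit 12458433))))) (.node (.node (.node (.leaf (nat_lit 11573115)) (.leaf (nat_lit
    7605735))) (.node (.leaf (nat_lit 4542845)) (.leaf (nat_lit 7048379)))) (.node (.node (.leaf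
    (nat_lit 10425506)) (.leaf (nat_lit 7097566))) (.leaf (nat_lit 11212400))))) (.node (.node
    (.node (.node (.leaf (nat_lit 9868077)) (.leaf (nat_lit 3524313))) (.node (.leaf (nat_lit
    9999214)) (.leaf (nat_lit 49187)))) (.node (.node (.leaf (nat_lit 11228803)) (.leaf (nat_lit
    950951))) (.node (.leaf (nat_lit 7261484)) (.leaf (nat_lit 15410022))))) (.node (.node (.node
    (.leaf (nat_lit 12083415)) (.leaf (nat_lit 8443306))) (.node (.leaf (nat_lit 8494088)) (.leaf
    (nat_lit 9015551)))) (.node (.node (.leaf (nat_lit 17934151)) (.leaf (nat_lit 8524447))) (.leaf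
    (nat_lit 16064818)))))))) (.node (.node (.node (.node (.node (.node (.node (.leaf (nat_lit
    721259)) (.leaf (nat_lit 13720724))) (.node (.leaf (nat_lit 16261565)) (.leaf (nat_lit
    10180250)))) (.node (.node (.leaf (nat_lit 16967062)) (.leaf (nat_lit 9132390))) (.node (.leaf
    (nat_lit 17425759)) (.leaf (nat_lit 8377206))))) (.node (.node (.node (.leaf (nat_lit 9294241))
    (.leaf (nat_lit 5556795))) (.node (.leaf (nat_lit 3361773)) (.leaf (nat_lit 2114640)))) (.node
    (.node (.leaf (nat_lit 10474656)) (.leaf (nat_lit 3540707))) (.leaf (nat_lit 3394028)))))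
    (.node (.node (.node (.node (.leaf (nat_lit 4917521)) (.leaf (nat_lit 15918937))) (.node (.leaf
    (nat_lit 1344733)) (.leaf (nat_lit 15359991)))) (.node (.node (.leaf (nat_lit 3671845)) (.leaf
    (nat_lit 15262474))) (.node (.leaf (nat_lit 852561)) (.leaf (nat_lit 15114076))))) (.node
    (.node (.node (.leaf (nat_lit 11377619)) (.leaf (nat_lit 8572897))) (.node (.leaf (nat_lit
    5674333)) (.leaf (nat_lit 4573846)))) (.node (.node (.leaf (nat_lit 7149619)) (.leaf (nat_lit
    8622073))) (.leaf (nat_lit 12474709)))))) (.node (.node (.node (.node (.node (.leaf (nat_lit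
    1557895)) (.leaf (nat_lit 13983913))) (.node (.leaf (nat_lit 688478)) (.leaf (nat_lit
    14179672)))) (.node (.node (.leaf (nat_lit 2770297)) (.leaf (nat_lit 16359935))) (.node (.leaf
    (nat_lit 16802885)) (.leaf (nat_lit 10999911))))) (.node (.node (.node (.leaf (nat_lit
    12835402)) (.leaf (nat_lit 7933583))) (.node (.leaf (nat_lit 13507621)) (.leaf (nat_lit
    2885448)))) (.node (.node (.leaf (nat_lit 4985677)) (.leaf (nat_lit 9851672))) (.leaf (nat_lit
    3755411))))) (.node (.node (.node (.node (.leaf (nat_lit 12277956)) (.leaf (nat_lit 1999886)))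
    (.node (.leaf (nat_lit 4311170)) (.leaf (nat_lit 16131532)))) (.node (.node (.leaf (nat_lit
    9900858)) (.leaf (nat_lit 1229446))) (.node (.leaf (nat_lit 4016116)) (.leaf (nat_lit
    15245792))))) (.node (.node (.node (.leaf (nat_lit 14589919)) (.leaf (nat_lit 11507479)))
    (.node (.leaf (nat_lit 12900995)) (.leaf (nat_lit 7818884)))) (.node (.node (.leaf (nat_lit
    17294578)) (.leaf (nat_lit 12212380))) (.leaf (nat_lit 11654999))))))) (.node (.node (.node
    (.node (.node (.node (.leaf (nat_lit 3147308)) (.leaf (nat_lit 17704543))) (.node (.leaf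
    (nat_lit 17310977)) (.leaf (nat_lit 12163303)))) (.node (.node (.leaf (nat_lit 524567)) (.leaf
    (nat_lit 12573754))) (.node (.leaf (nat_lit 16245176)) (.leaf (nat_lit 12409132))))) (.node
    (.node (.node (.leaf (nat_lit 11720569)) (.leaf (nat_lit 5163381))) (.node (.leaf (nat_lit
    4132360)) (.leaf (nat_lit 1705274)))) (.node (.node (.leaf (nat_lit 13704324)) (.leaf (nat_lit
    5278151))) (.leaf (nat_lit 6982804))))) (.node (.node (.node (.node (.leaf (nat_lit 6163294))
    (.leaf (nat_lit 983535))) (.node (.leaf (nat_lit 6179685)) (.leaf (nat_lit 17835733)))) (.node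
    (.node (.leaf (nat_lit 4180180)) (.leaf (nat_lit 16131718))) (.node (.leaf (nat_lit 2393307))
    (.leaf (nat_lit 14000042))))) (.node (.node (.node (.leaf (nat_lit 11066792)) (.leaf (nat_lit
    12441911))) (.node (.leaf (nat_lit 6576060)) (.leaf (nat_lit 7736882)))) (.node (.node (.leaf
    (nat_lit 11574055)) (.leaf (nat_lit 6508277))) (.leaf (nat_lit 10540276)))))) (.node (.node
    (.node (.node (.node (.leaf (nat_lit 3508111)) (.leaf (nat_lit 15393703))) (.node (.leaf
    (nat_lit 2475254)) (.leaf (nat_lit 17622544)))) (.node (.node (.leaf (nat_lit 4868350)) (.leaf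
    (nat_lit 17064987))) (.node (.leaf (nat_lit 114757)) (.leaf (nat_lit 13245359))))) (.node
    (.node (.node (.leaf (nat_lit 14720623)) (.leaf (nat_lit 6180134))) (.node (.leaf (nat_lit
    4887253)) (.leaf (nat_lit 4180198)))) (.node (.node (.leaf (nat_lit 12458313)) (.leaf (nat_lit
    5098231))) (.leaf (nat_lit 12064832))))) (.node (.node (.node (.node (.leaf (nat_lit 13114158))
    (.leaf (nat_lit 3016194))) (.node (.leaf (nat_lit 7572949)) (.leaf (nat_lit 606540)))) (.node
    (.node (.leaf (nat_lit 6818887)) (.leaf (nat_lit 1475493))) (.node (.leaf (nat_lit 7048382))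
    (.leaf (nat_lit 17802943))))) (.node (.node (.node (.leaf (nat_lit 16983011)) (.leaf (nat_lit
    12884591))) (.node (.leaf (nat_lit 9116912)) (.leaf (nat_lit 9146709)))) (.node (.node (.leaf
    (nat_lit 11034497)) (.leaf (nat_lit 11228795))) (.leaf (nat_lit 9361909))))))))) (.node (.node
    (.node (.node (.node (.node (.node (.node (.leaf (nat_lit 213231)) (.leaf (nat_lit 17376552)))
    (.node (.leaf (nat_lit 12148987)) (.leaf (nat_lit 12704242)))) (.node (.node (.leaf (nat_lit
    17786538)) (.leaf (nat_lit 9590958))) (.node (.leaf (nat_lit 10526330)) (.leaf (nat_lit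
    12540294))))) (.node (.node (.node (.leaf (nat_lit 7114902)) (.leaf (nat_lit 3803026))) (.node
    (.leaf (nat_lit 11540263)) (.leaf (nat_lit 1573655)))) (.node (.node (.leaf (nat_lit 7605733))
    (.leaf (nat_lit 3458755))) (.leaf (nat_lit 5097821))))) (.node (.node (.node (.node (.leaf
    (nat_lit 4475066)) (.leaf (nat_lit 14329420))) (.node (.leaf (nat_lit 3786594)) (.leaf (nat_lit
    17540544)))) (.node (.node (.leaf (nat_lit 1951381)) (.leaf (nat_lit 14983750))) (.node (.leaf
    (nat_lit 459222)) (.leaf (nat_lit 13622517))))) (.node (.node (.node (.leaf (nat_lit 11459301))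
    (.leaf (nat_lit 6491850))) (.node (.leaf (nat_lit 14753413)) (.leaf (nat_lit 9392612)))) (.node
    (.node (.leaf (nat_lit 12032042)) (.leaf (nat_lit 7310661))) (.leaf (nat_lit 11835318))))))
    (.node (.node (.node (.node (.node (.leaf (nat_lit 3852177)) (.leaf (nat_lit 17097794))) (.node
    (.leaf (nat_lit 16411)) (.leaf (nat_lit 13179756)))) (.node (.node (.leaf (nat_lit 2049063))
    (.leaf (nat_lit 11034028))) (.node (.leaf (nat_lit 15426410)) (.leaf (nat_lit 12933791)))))
    (.node (.node (.node (.leaf (nat_lit 5789095)) (.leaf (nat_lit 9818876))) (.node (.leaf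
    (nat_lit 13392895)) (.leaf (nat_lit 5376500)))) (.node (.node (.leaf (nat_lit 4821655)) (.leaf
    (nat_lit 6114104))) (.leaf (nat_lit 3624187))))) (.node (.node (.node (.node (.leaf (nat_lit
    12048428)) (.leaf (nat_lit 2065453))) (.node (.leaf (nat_lit 8327020)) (.leaf (nat_lit
    14492912)))) (.node (.node (.leaf (nat_lit 2869793)) (.leaf (nat_lit 459024))) (.node (.leaf
    (nat_lit 5196173)) (.leaf (nat_lit 14950700))))) (.node (.node (.node (.leaf (nat_lit
    10952543)) (.leaf (nat_lit 11195995))) (.node (.leaf (nat_lit 7543227)) (.leaf (nat_lit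
    9736915)))) (.node (.node (.leaf (nat_lit 14212457)) (.leaf (nat_lit 9884466))) (.leaf (nat_lit
    6231779))))))) (.node (.node (.node (.node (.node (.node (.leaf (nat_lit 983790)) (.leaf
    (nat_lit 14392849))) (.node (.leaf (nat_lit 13067263)) (.leaf (nat_lit 8214577)))) (.node
    (.node (.leaf (nat_lit 508174)) (.leaf (nat_lit 11951056))) (.node (.leaf (nat_lit 15605883))
    (.leaf (nat_lit 9164129))))) (.node (.node (.node (.leaf (nat_lit 9261872)) (.leaf (nat_lit
    4999476))) (.node (.leaf (nat_lit 8523720)) (.leaf (nat_lit 2032864)))) (.node (.node (.leaf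
    (nat_lit 7278598)) (.leaf (nat_lit 3426074))) (.leaf (nat_lit 3165005))))) (.node (.node (.node
    (.node (.leaf (nat_lit 4606561)) (.leaf (nat_lit 721261))) (.node (.leaf (nat_lit 6196074))
    (.leaf (nat_lit 17934144)))) (.node (.node (.leaf (nat_lit 9048334)) (.leaf (nat_lit
    17786531))) (.node (.leaf (nat_lit 3409570)) (.leaf (nat_lit 14065416))))) (.node (.node (.node
    (.leaf (nat_lit 16999408)) (.leaf (nat_lit 13933801))) (.node (.leaf (nat_lit 6379322)) (.leaf
    (nat_lit 6360048)))) (.node (.node (.leaf (nat_lit 12982985)) (.leaf (nat_lit 7851621))) (.leaf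
    (nat_lit 10261574)))))) (.node (.node (.node (.node (.node (.leaf (nat_lit 7048374)) (.leaf
    (nat_lit 14672606))) (.node (.leaf (nat_lit 2065450)) (.leaf (nat_lit 13573447)))) (.node
    (.node (.leaf (nat_lit 2360525)) (.leaf (nat_lit 16802635))) (.node (.leaf (nat_lit 16262935))
    (.leaf (nat_lit 11901575))))) (.node (.node (.node (.leaf (nat_lit 9132030)) (.leaf (nat_lit
    5491868))) (.node (.leaf (nat_lit 6771244)) (.leaf (nat_lit 5228961)))) (.node (.node (.leaf
    (nat_lit 7558471)) (.leaf (nat_lit 5048954))) (.leaf (nat_lit 6999865))))) (.node (.node (.node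
    (.node (.leaf (nat_lit 4705863)) (.leaf (nat_lit 3229267))) (.node (.leaf (nat_lit 10343492))
    (.leaf (nat_lit 295104)))) (.node (.node (.leaf (nat_lit 4082642)) (.leaf (nat_lit 1557265)))
    (.node (.leaf (nat_lit 3213321)) (.leaf (nat_lit 15672378))))) (.node (.node (.node (.leaf
    (nat_lit 16146818)) (.leaf (nat_lit 10147418))) (.node (.leaf (nat_lit 8887417)) (.leaf
    (nat_lit 12277963)))) (.node (.node (.leaf (nat_lit 15835293)) (.leaf (nat_lit 10884496)))
    (.leaf (nat_lit 12540291)))))))) (.node (.node (.node (.node (.node (.node (.node (.leaf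
    (nat_lit 1721197)) (.leaf (nat_lit 14851789))) (.node (.leaf (nat_lit 16523899)) (.leaf
    (nat_lit 12933792)))) (.node (.node (.leaf (nat_lit 17393282)) (.leaf (nat_lit 14507509)))
    (.node (.leaf (nat_lit 17852146)) (.leaf (nat_lit 9458708))))) (.node (.node (.node (.leaf
    (nat_lit 13786277)) (.leaf (nat_lit 4524171))) (.node (.leaf (nat_lit 10376285)) (.leaf
    (nat_lit 2147433)))) (.node (.node (.leaf (nat_lit 11114015)) (.leaf (nat_lit 3130921))) (.leaf
    (nat_lit 8933590))))) (.node (.node (.node (.node (.leaf (nat_lit 5163386)) (.leaf (nat_lit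
    163952))) (.node (.leaf (nat_lit 2131265)) (.leaf (nat_lit 15622239)))) (.node (.node (.leaf
    (nat_lit 7753270)) (.leaf (nat_lit 17228979))) (.node (.leaf (nat_lit 2557204)) (.leaf (nat_lit
    16441925))))) (.node (.node (.node (.leaf (nat_lit 10787894)) (.leaf (nat_lit 8310752))) (.node
    (.leaf (nat_lit 5953021)) (.leaf (nat_lit 6032165)))) (.node (.node (.leaf (nat_lit 10967275))
    (.leaf (nat_lit 4885847))) (.leaf (nat_lit 9605888)))))) (.node (.node (.node (.node (.node
    (.leaf (nat_lit 5835420)) (.leaf (nat_lit 13377880))) (.node (.leaf (nat_lit 573753)) (.leaf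
    (nat_lit 14343598)))) (.node (.node (.leaf (nat_lit 1917909)) (.leaf (nat_lit 15966453)))
    (.node (.leaf (nat_lit 17392953)) (.leaf (nat_lit 10721557))))) (.node (.node (.node (.leaf
    (nat_lit 11884497)) (.leaf (nat_lit 8113905))) (.node (.leaf (nat_lit 13786281)) (.leaf
    (nat_lit 3966940)))) (.node (.node (.leaf (nat_lit 7934961)) (.leaf (nat_lit 2935203))) (.leaf
    (nat_lit 8277838))))) (.node (.node (.node (.node (.leaf (nat_lit 7146793)) (.leaf (nat_lit
    2262196))) (.node (.leaf (nat_lit 9556570)) (.leaf (nat_lit 16197321)))) (.node (.node (.leaf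
    (nat_lit 3115759)) (.leaf (nat_lit 1081883))) (.node (.leaf (nat_lit 4638909)) (.leaf (nat_lit
    14901928))))) (.node (.node (.node (.leaf (nat_lit 16409132)) (.leaf (nat_lit 10999261)))
    (.node (.leaf (nat_lit 11901795)) (.leaf (nat_lit 8032029)))) (.node (.node (.leaf (nat_lit
    9887179)) (.leaf (nat_lit 12458308))) (.leaf (nat_lit 12999380))))))) (.node (.node (.node
    (.node (.node (.node (.leaf (nat_lit 1049611)) (.leaf (nat_lit 14475060))) (.node (.leaf
    (nat_lit 17393098)) (.leaf (nat_lit 10721687)))) (.node (.node (.leaf (nat_lit 328063)) (.leaf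
    (nat_lit 15982847))) (.node (.leaf (nat_lit 17458555)) (.leaf (nat_lit 9295565))))) (.node
    (.node (.node (.leaf (nat_lit 14655037)) (.leaf (nat_lit 4229636))) (.node (.leaf (nat_lit
    12933789)) (.leaf (nat_lit 3475143)))) (.node (.node (.leaf (nat_lit 14048526)) (.leaf (nat_lit
    6933624))) (.leaf (nat_lit 3640335))))) (.node (.node (.node (.node (.leaf (nat_lit 6228849))
    (.leaf (nat_lit 918146))) (.node (.leaf (nat_lit 3721039)) (.leaf (nat_lit 16868226)))) (.node
    (.node (.leaf (nat_lit 2640167)) (.leaf (nat_lit 17672082))) (.node (.leaf (nat_lit 4229169))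
    (.leaf (nat_lit 15507468))))) (.node (.node (.node (.leaf (nat_lit 17261781)) (.leaf (nat_lit
    10491049))) (.node (.leaf (nat_lit 6821983)) (.leaf (nat_lit 7704099)))) (.node (.node (.leaf
    (nat_lit 16392741)) (.leaf (nat_lit 12277964))) (.leaf (nat_lit 10524038)))))) (.node (.node
    (.node (.node (.node (.leaf (nat_lit 4130845)) (.leaf (nat_lit 16802945))) (.node (.leaf
    (nat_lit 820022)) (.leaf (nat_lit 14130765)))) (.node (.node (.leaf (nat_lit 5474844)) (.leaf
    (nat_lit 14196954))) (.node (.leaf (nat_lit 180439)) (.leaf (nat_lit 16179593))))) (.node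
    (.node (.node (.leaf (nat_lit 11098468)) (.leaf (nat_lit 4541885))) (.node (.leaf (nat_lit
    14638640)) (.leaf (nat_lit 9277851)))) (.node (.node (.leaf (nat_lit 6346401)) (.leaf (nat_lit
    7835231))) (.leaf (nat_lit 9769690))))) (.node (.node (.node (.node (.leaf (nat_lit 9638527))
    (.leaf (nat_lit 2786936))) (.node (.leaf (nat_lit 10982858)) (.leaf (nat_lit 836009)))) (.node
    (.node (.leaf (nat_lit 8654882)) (.leaf (nat_lit 2081847))) (.node (.leaf (nat_lit 6802496))
    (.leaf (nat_lit 17458702))))) (.node (.node (.node (.leaf (nat_lit 16819037)) (.leaf (nat_lit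
    13245349))) (.node (.leaf (nat_lit 9575782)) (.leaf (nat_lit 11294390)))) (.node (.node (.leaf
    (nat_lit 11526131)) (.leaf (nat_lit 11441911))) (.leaf (nat_lit 7903921))))))))))) (.node
    (.node (.node (.node (.node (.node (.node (.node (.node (.node (.leaf (nat_lit 229516)) (.leaf
    (nat_lit 8067931))) (.node (.leaf (nat_lit 11739193)) (.leaf (nat_lit 12540293)))) (.node
    (.node (.leaf (nat_lit 16262048)) (.leaf (nat_lit 13278149))) (.node (.leaf (nat_lit 17638948))
    (.leaf (nat_lit 8196610))))) (.node (.node (.node (.leaf (nat_lit 4181947)) (.leaf (nat_lit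
    2541272))) (.node (.leaf (nat_lit 6048525)) (.leaf (nat_lit 1213046)))) (.node (.node (.leaf
    (nat_lit 7540166)) (.leaf (nat_lit 1934519))) (.node (.leaf (nat_lit 9409018)) (.leaf (nat_lit
    16000710)))))) (.node (.node (.node (.node (.leaf (nat_lit 4327497)) (.leaf (nat_lit
    13460765))) (.node (.leaf (nat_lit 3180099)) (.leaf (nat_lit 13803221)))) (.node (.node (.leaf
    (nat_lit 5868204)) (.leaf (nat_lit 14066006))) (.node (.leaf (nat_lit 1262222)) (.leaf (nat_lit
    13950196))))) (.node (.node (.node (.leaf (nat_lit 14917347)) (.leaf (nat_lit 8818819))) (.node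
    (.leaf (nat_lit 11261593)) (.leaf (nat_lit 4508064)))) (.node (.node (.leaf (nat_lit 12540297))
    (.leaf (nat_lit 8081121))) (.leaf (nat_lit 10589414)))))) (.node (.node (.node (.node (.node
    (.leaf (nat_lit 2475257)) (.leaf (nat_lit 14753708))) (.node (.leaf (nat_lit 17819331)) (.leaf
    (nat_lit 11082266)))) (.node (.node (.leaf (nat_lit 1819559)) (.leaf (nat_lit 16376331)))
    (.node (.leaf (nat_lit 17327365)) (.leaf (nat_lit 13196159))))) (.node (.node (.node (.leaf
    (nat_lit 5510379)) (.leaf (nat_lit 9146707))) (.node (.leaf (nat_lit 13196157)) (.leaf (nat_lit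
    2721323)))) (.node (.node (.leaf (nat_lit 11638607)) (.leaf (nat_lit 2426975))) (.leaf (nat_lit
    3476571))))) (.node (.node (.node (.node (.leaf (nat_lit 8851612)) (.leaf (nat_lit 1442523)))
    (.node (.leaf (nat_lit 3622842)) (.leaf (nat_lit 15786963)))) (.node (.node (.leaf (nat_lit
    10228724)) (.leaf (nat_lit 180341))) (.node (.leaf (nat_lit 2065727)) (.leaf (nat_lit
    16851825))))) (.node (.node (.node (.leaf (nat_lit 12246692)) (.leaf (nat_lit 5952253))) (.node
    (.leaf (nat_lit 16179591)) (.leaf (nat_lit 4787540)))) (.node (.node (.leaf (nat_lit 17360167))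
    (.leaf (nat_lit 9409012))) (.leaf (nat_lit 13803222))))))) (.node (.node (.node (.node (.node
    (.node (.leaf (nat_lit 508489)) (.leaf (nat_lit 15015707))) (.node (.leaf (nat_lit 12772103))
    (.leaf (nat_lit 11818921)))) (.node (.node (.leaf (nat_lit 14952277)) (.leaf (nat_lit
    11377330))) (.node (.leaf (nat_lit 16868232)) (.leaf (nat_lit 8262814))))) (.node (.node (.node
    (.leaf (nat_lit 13884617)) (.leaf (nat_lit 5179777))) (.node (.leaf (nat_lit 4492486)) (.leaf
    (nat_lit 2081849)))) (.node (.node (.leaf (nat_lit 4099931)) (.leaf (nat_lit 3327611))) (.leaf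
    (nat_lit 3050131))))) (.node (.node (.node (.node (.leaf (nat_lit 7769665)) (.leaf (nat_lit
    327896))) (.node (.leaf (nat_lit 5425666)) (.leaf (nat_lit 15294686)))) (.node (.node (.leaf
    (nat_lit 6786105)) (.leaf (nat_lit 16901238))) (.node (.leaf (nat_lit 2917826)) (.leaf (nat_lit
    13557327))))) (.node (.node (.node (.leaf (nat_lit 10673298)) (.leaf (nat_lit 5607524))) (.node
    (.leaf (nat_lit 10213016)) (.leaf (nat_lit 7933584)))) (.node (.node (.leaf (nat_lit 12097903))
    (.leaf (nat_lit 6163896))) (.leaf (nat_lit 8852346)))))) (.node (.node (.node (.node (.node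
    (.leaf (nat_lit 6376346)) (.leaf (nat_lit 12771810))) (.node (.leaf (nat_lit 1557262)) (.leaf
    (nat_lit 17720928)))) (.node (.node (.leaf (nat_lit 3557092)) (.leaf (nat_lit 15130467)))
    (.node (.leaf (nat_lit 15033814)) (.leaf (nat_lit 9918872))))) (.node (.node (.node (.leaf
    (nat_lit 12605861)) (.leaf (nat_lit 6147082))) (.node (.leaf (nat_lit 4477279)) (.leaf (nat_lit
    4770023)))) (.node (.node (.leaf (nat_lit 6313087)) (.leaf (nat_lit 4655625))) (.leaf (nat_lit
    12982972))))) (.node (.node (.node (.node (.leaf (nat_lit 9392605)) (.leaf (nat_lit 2966997)))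
    (.node (.leaf (nat_lit 9917244)) (.leaf (nat_lit 16492439)))) (.node (.node (.leaf (nat_lit
    6327183)) (.leaf (nat_lit 770695))) (.node (.leaf (nat_lit 5310934)) (.leaf (nat_lit
    17015803))))) (.node (.node (.node (.leaf (nat_lit 12542114)) (.leaf (nat_lit 10966465)))
    (.node (.leaf (nat_lit 8362997)) (.leaf (nat_lit 10015607)))) (.node (.node (.leaf (nat_lit
    10001957)) (.leaf (nat_lit 8606318))) (.leaf (nat_lit 9754722)))))))) (.node (.node (.node
    (.node (.node (.node (.node (.leaf (nat_lit 655703)) (.leaf (nat_lit 17638938))) (.node (.leaf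
    (nat_lit 13525389)) (.leaf (nat_lit 11195999)))) (.node (.node (.leaf (nat_lit 15967580))
    (.leaf (nat_lit 9361718))) (.node (.leaf (nat_lit 10772203)) (.leaf (nat_lit 9769810)))))
    (.node (.node (.node (.leaf (nat_lit 9572959)) (.leaf (nat_lit 3360770))) (.node (.leaf
    (nat_lit 11835312)) (.leaf (nat_lit 1557267)))) (.node (.node (.leaf (nat_lit 12507505)) (.leaf
    (nat_lit 2803085))) (.leaf (nat_lit 7081171))))) (.node (.node (.node (.node (.leaf (nat_lit
    4851963)) (.leaf (nat_lit 14280469))) (.node (.leaf (nat_lit 3507922)) (.leaf (nat_lit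
    15425516)))) (.node (.node (.leaf (nat_lit 7081162)) (.leaf (nat_lit 16278235))) (.node (.leaf
    (nat_lit 508454)) (.leaf (nat_lit 13458756))))) (.node (.node (.node (.leaf (nat_lit 13228951))
    (.leaf (nat_lit 10556617))) (.node (.leaf (nat_lit 6968638)) (.leaf (nat_lit 6917232)))) (.node
    (.node (.leaf (nat_lit 6969353)) (.leaf (nat_lit 4295841))) (.leaf (nat_lit 4723243))))))
    (.node (.node (.node (.node (.node (.leaf (nat_lit 1525083)) (.leaf (nat_lit 15622268))) (.node
    (.leaf (nat_lit 147610)) (.leaf (nat_lit 11787223)))) (.node (.node (.leaf (nat_lit 1508087))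
    (.leaf (nat_lit 11083274))) (.node (.leaf (nat_lit 15623180)) (.leaf (nat_lit 10754094)))))
    (.node (.node (.node (.leaf (nat_lit 6002209)) (.leaf (nat_lit 6671371))) (.node (.leaf
    (nat_lit 5459986)) (.leaf (nat_lit 2852636)))) (.node (.node (.leaf (nat_lit 14392776)) (.leaf
    (nat_lit 3082508))) (.leaf (nat_lit 7212408))))) (.node (.node (.node (.node (.leaf (nat_lit
    10491054)) (.leaf (nat_lit 2114635))) (.node (.leaf (nat_lit 5245357)) (.leaf (nat_lit
    16115093)))) (.node (.node (.leaf (nat_lit 10818914)) (.leaf (nat_lit 803216))) (.node (.leaf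
    (nat_lit 3344003)) (.leaf (nat_lit 14885300))))) (.node (.node (.node (.leaf (nat_lit
    13836232)) (.leaf (nat_lit 11835315))) (.node (.leaf (nat_lit 12835405)) (.leaf (nat_lit
    6245990)))) (.node (.node (.leaf (nat_lit 17573339)) (.leaf (nat_lit 11064831))) (.leaf
    (nat_lit 13048572))))))) (.node (.node (.node (.node (.node (.node (.leaf (nat_lit 836433))
    (.leaf (nat_lit 17442159))) (.node (.leaf (nat_lit 13280431)) (.leaf (nat_lit 10442929))))
    (.node (.node (.leaf (nat_lit 655705)) (.leaf (nat_lit 13884619))) (.node (.leaf (nat_lit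
    16458326)) (.leaf (nat_lit 12114022))))) (.node (.node (.node (.leaf (nat_lit 12917390)) (.leaf
    (nat_lit 5097819))) (.node (.leaf (nat_lit 9638531)) (.leaf (nat_lit 4819184)))) (.node (.node
    (.leaf (nat_lit 8278158)) (.leaf (nat_lit 3803020))) (.leaf (nat_lit 11245200))))) (.node
    (.node (.node (.node (.leaf (nat_lit 9015552)) (.leaf (nat_lit 1098276))) (.node (.leaf
    (nat_lit 2901664)) (.leaf (nat_lit 17360162)))) (.node (.node (.leaf (nat_lit 2508981)) (.leaf
    (nat_lit 13805125))) (.node (.leaf (nat_lit 1147995)) (.leaf (nat_lit 15966451))))) (.node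
    (.node (.node (.leaf (nat_lit 12262788)) (.leaf (nat_lit 10261513))) (.node (.leaf (nat_lit
    13032176)) (.leaf (nat_lit 8392595)))) (.node (.node (.leaf (nat_lit 11000553)) (.leaf (nat_lit
    8048333))) (.leaf (nat_lit 10605813)))))) (.node (.node (.node (.node (.node (.leaf (nat_lit
    2213732)) (.leaf (nat_lit 16999410))) (.node (.leaf (nat_lit 2278576)) (.leaf (nat_lit
    13622703)))) (.node (.node (.leaf (nat_lit 1426703)) (.leaf (nat_lit 15327266))) (.node (.leaf
    (nat_lit 49183)) (.leaf (nat_lit 11393836))))) (.node (.node (.node (.leaf (nat_lit 10033284))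
    (.leaf (nat_lit 7146748))) (.node (.leaf (nat_lit 5870247)) (.leaf (nat_lit 2558163)))) (.node
    (.node (.leaf (nat_lit 7050673)) (.leaf (nat_lit 5901012))) (.leaf (nat_lit 10491056)))))
    (.node (.node (.node (.node (.leaf (nat_lit 3985061)) (.leaf (nat_lit 2999773))) (.node (.leaf
    (nat_lit 10507442)) (.leaf (nat_lit 524571)))) (.node (.node (.leaf (nat_lit 3410979)) (.leaf
    (nat_lit 1377156))) (.node (.leaf (nat_lit 5261756)) (.leaf (nat_lit 17343763))))) (.node
    (.node (.node (.leaf (nat_lit 15294984)) (.leaf (nat_lit 12982975))) (.node (.leaf (nat_lit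
    9034951)) (.leaf (nat_lit 11015655)))) (.node (.node (.leaf (nat_lit 13885289)) (.leaf (nat_lit
    10146751))) (.leaf (nat_lit 11442620))))))))) (.node (.node (.node (.node (.node (.node (.node
    (.node (.leaf (nat_lit 491788)) (.leaf (nat_lit 17327362))) (.node (.leaf (nat_lit 15114467))
    (.leaf (nat_lit 11097612)))) (.node (.node (.leaf (nat_lit 16327805)) (.leaf (nat_lit
    13540403))) (.node (.leaf (nat_lit 10313285)) (.leaf (nat_lit 4870812))))) (.node (.node (.node
    (.leaf (nat_lit 5607522)) (.leaf (nat_lit 3180392))) (.node (.leaf (nat_lit 11425521)) (.leaf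
    (nat_lit 983720)))) (.node (.node (.leaf (nat_lit 7245238)) (.leaf (nat_lit 3573496))) (.leaf
    (nat_lit 9835279))))) (.node (.node (.node (.node (.leaf (nat_lit 9113913)) (.leaf (nat_lit
    14640661))) (.node (.leaf (nat_lit 1115187)) (.leaf (nat_lit 14245734)))) (.node (.node (.leaf
    (nat_lit 6540240)) (.leaf (nat_lit 14017034))) (.node (.leaf (nat_lit 1704796)) (.leaf (nat_lit
    16163193))))) (.node (.node (.node (.leaf (nat_lit 11950778)) (.leaf (nat_lit 6377128))) (.node
    (.leaf (nat_lit 5411997)) (.leaf (nat_lit 7015594)))) (.node (.node (.leaf (nat_lit 13245360))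
    (.leaf (nat_lit 7687710))) (.leaf (nat_lit 10999263)))))) (.node (.node (.node (.node (.node
    (.leaf (nat_lit 3786599)) (.leaf (nat_lit 17032202))) (.node (.leaf (nat_lit 14657423)) (.leaf
    (nat_lit 11459303)))) (.node (.node (.leaf (nat_lit 541311)) (.leaf (nat_lit 14737017))) (.node
    (.leaf (nat_lit 17130592)) (.leaf (nat_lit 13228958))))) (.node (.node (.node (.leaf (nat_lit
    8590720)) (.leaf (nat_lit 5589690))) (.node (.leaf (nat_lit 13376504)) (.leaf (nat_lit
    2295450)))) (.node (.node (.leaf (nat_lit 5689969)) (.leaf (nat_lit 7031984))) (.leaf (nat_lit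
    9966440))))) (.node (.node (.node (.node (.leaf (nat_lit 9179491)) (.leaf (nat_lit 1672020)))
    (.node (.leaf (nat_lit 8474548)) (.leaf (nat_lit 15525047)))) (.node (.node (.leaf (nat_lit
    5720687)) (.leaf (nat_lit 409846))) (.node (.leaf (nat_lit 5638734)) (.leaf (nat_lit
    15180032))))) (.node (.node (.node (.leaf (nat_lit 13475630)) (.leaf (nat_lit 10228731)))
    (.node (.leaf (nat_lit 7444883)) (.leaf (nat_lit 10622205)))) (.node (.node (.leaf (nat_lit
    8953005)) (.leaf (nat_lit 10294301))) (.leaf (nat_lit 10901199))))))) (.node (.node (.node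
    (.node (.node (.node (.leaf (nat_lit 1442521)) (.leaf (nat_lit 15064885))) (.node (.leaf
    (nat_lit 13018063)) (.leaf (nat_lit 8443909)))) (.node (.node (.leaf (nat_lit 344260)) (.leaf
    (nat_lit 11705236))) (.node (.leaf (nat_lit 15360099)) (.leaf (nat_lit 7378240))))) (.node
    (.node (.node (.leaf (nat_lit 5919483)) (.leaf (nat_lit 4737270))) (.node (.leaf (nat_lit
    12474698)) (.leaf (nat_lit 2360527)))) (.node (.node (.leaf (nat_lit 4231133)) (.leaf (nat_lit
    2377475))) (.leaf (nat_lit 3132189))))) (.node (.node (.node (.node (.leaf (nat_lit 6130507))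
    (.leaf (nat_lit 819611))) (.node (.leaf (nat_lit 1738273)) (.leaf (nat_lit 14770571)))) (.node
    (.node (.leaf (nat_lit 8851608)) (.leaf (nat_lit 17507747))) (.node (.leaf (nat_lit 1573836))
    (.leaf (nat_lit 15097675))))) (.node (.node (.node (.leaf (nat_lit 11967746)) (.leaf (nat_lit
    8605962))) (.node (.leaf (nat_lit 6330144)) (.leaf (nat_lit 4082646)))) (.node (.node (.leaf
    (nat_lit 16687866)) (.leaf (nat_lit 4738633))) (.leaf (nat_lit 9311250)))))) (.node (.node
    (.node (.node (.node (.leaf (nat_lit 2574047)) (.leaf (nat_lit 14181037))) (.node (.leaf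
    (nat_lit 1967095)) (.leaf (nat_lit 14950131)))) (.node (.node (.leaf (nat_lit 4032502)) (.leaf
    (nat_lit 15589411))) (.node (.leaf (nat_lit 14427857)) (.leaf (nat_lit 12835407))))) (.node
    (.node (.node (.leaf (nat_lit 11933673)) (.leaf (nat_lit 4787318))) (.node (.leaf (nat_lit
    4674047)) (.leaf (nat_lit 2443375)))) (.node (.node (.leaf (nat_lit 9426212)) (.leaf (nat_lit
    5458531))) (.leaf (nat_lit 10048392))))) (.node (.node (.node (.node (.leaf (nat_lit 5344813))
    (.leaf (nat_lit 2491742))) (.node (.leaf (nat_lit 4376990)) (.leaf (nat_lit 245919)))) (.node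
    (.node (.leaf (nat_lit 11146808)) (.leaf (nat_lit 1721191))) (.node (.leaf (nat_lit 3311585))
    (.leaf (nat_lit 16753668))))) (.node (.node (.node (.leaf (nat_lit 17212583)) (.leaf (nat_lit
    10049060))) (.node (.leaf (nat_lit 8821847)) (.leaf (nat_lit 5853194)))) (.node (.node (.leaf
    (nat_lit 17589739)) (.leaf (nat_lit 8901427))) (.leaf (nat_lit 16277956)))))))) (.node (.node
    (.node (.node (.node (.node (.node (.leaf (nat_lit 1770378)) (.leaf (nat_lit 16556703))) (.node
    (.leaf (nat_lit 16458317)) (.leaf (nat_lit 13032166)))) (.node (.node (.leaf (nat_lit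
    16737864)) (.leaf (nat_lit 12540400))) (.node (.leaf (nat_lit 17720942)) (.leaf (nat_lit
    11228796))))) (.node (.node (.node (.leaf (nat_lit 13950189)) (.leaf (nat_lit 5245355))) (.node
    (.leaf (nat_lit 5475394)) (.leaf (nat_lit 1852339)))) (.node (.node (.leaf (nat_lit 9654919))
    (.leaf (nat_lit 2917893))) (.leaf (nat_lit 9392614))))) (.node (.node (.node (.node (.leaf
    (nat_lit 10097562)) (.leaf (nat_lit 114755))) (.node (.leaf (nat_lit 4098069)) (.leaf (nat_lit
    15687756)))) (.node (.node (.leaf (nat_lit 3868569)) (.leaf (nat_lit 17163383))) (.node (.leaf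
    (nat_lit 656059)) (.leaf (nat_lit 14835393))))) (.node (.node (.node (.leaf (nat_lit 12475422))
    (.leaf (nat_lit 10884493))) (.node (.leaf (nat_lit 5887451)) (.leaf (nat_lit 5081844)))) (.node
    (.node (.leaf (nat_lit 13146965)) (.leaf (nat_lit 6147371))) (.leaf (nat_lit 12114019))))))
    (.node (.node (.node (.node (.node (.leaf (nat_lit 3032557)) (.leaf (nat_lit 14098736))) (.node
    (.leaf (nat_lit 1131058)) (.leaf (nat_lit 14032140)))) (.node (.node (.leaf (nat_lit 2393303))
    (.leaf (nat_lit 14229160))) (.node (.leaf (nat_lit 16622831)) (.leaf (nat_lit 9525476)))))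
    (.node (.node (.node (.leaf (nat_lit 11900891)) (.leaf (nat_lit 6097840))) (.node (.leaf
    (nat_lit 4395199)) (.leaf (nat_lit 4360284)))) (.node (.node (.leaf (nat_lit 5116859)) (.leaf
    (nat_lit 6081315))) (.leaf (nat_lit 8343423))))) (.node (.node (.node (.node (.leaf (nat_lit
    6180096)) (.leaf (nat_lit 1803402))) (.node (.leaf (nat_lit 5212569)) (.leaf (nat_lit
    14902921)))) (.node (.node (.leaf (nat_lit 5966553)) (.leaf (nat_lit 1245837))) (.node (.leaf
    (nat_lit 1967809)) (.leaf (nat_lit 16114286))))) (.node (.node (.node (.leaf (nat_lit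
    14426148)) (.leaf (nat_lit 8213742))) (.node (.leaf (nat_lit 11819818)) (.leaf (nat_lit
    8015602)))) (.node (.node (.leaf (nat_lit 16212384)) (.leaf (nat_lit 10835315))) (.leaf
    (nat_lit 13114166))))))) (.node (.node (.node (.node (.node (.node (.leaf (nat_lit 1967093))
    (.leaf (nat_lit 12721930))) (.node (.leaf (nat_lit 13591953)) (.leaf (nat_lit 10688875))))
    (.node (.node (.leaf (nat_lit 868803)) (.leaf (nat_lit 13868227))) (.node (.leaf (nat_lit
    16048569)) (.leaf (nat_lit 10180253))))) (.node (.node (.node (.leaf (nat_lit 14671433)) (.leaf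
    (nat_lit 5360105))) (.node (.leaf (nat_lit 3952225)) (.leaf (nat_lit 4606127)))) (.node (.node
    (.leaf (nat_lit 13966582)) (.leaf (nat_lit 8327012))) (.leaf (nat_lit 11950064))))) (.node
    (.node (.node (.node (.leaf (nat_lit 5638996)) (.leaf (nat_lit 1016396))) (.node (.leaf
    (nat_lit 2574112)) (.leaf (nat_lit 17999748)))) (.node (.node (.leaf (nat_lit 9818868)) (.leaf
    (nat_lit 17540942))) (.node (.leaf (nat_lit 1377502)) (.leaf (nat_lit 17114187))))) (.node
    (.node (.node (.leaf (nat_lit 11443718)) (.leaf (nat_lit 12474701))) (.node (.leaf (nat_lit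
    15884477)) (.leaf (nat_lit 8343413)))) (.node (.node (.leaf (nat_lit 10902491)) (.leaf (nat_lit
    8671276))) (.leaf (nat_lit 15032092)))))) (.node (.node (.node (.node (.node (.leaf (nat_lit
    8163082)) (.leaf (nat_lit 15590467))) (.node (.leaf (nat_lit 770831)) (.leaf (nat_lit
    17278176)))) (.node (.node (.leaf (nat_lit 5343714)) (.leaf (nat_lit 14917796))) (.node (.leaf
    (nat_lit 360661)) (.leaf (nat_lit 16228780))))) (.node (.node (.node (.leaf (nat_lit 13671541))
    (.leaf (nat_lit 6917524))) (.node (.leaf (nat_lit 14523896)) (.leaf (nat_lit 5900993)))) (.node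
    (.node (.leaf (nat_lit 6035031)) (.leaf (nat_lit 6376349))) (.leaf (nat_lit 8556603))))) (.node
    (.node (.node (.node (.leaf (nat_lit 7589686)) (.leaf (nat_lit 3983323))) (.node (.leaf
    (nat_lit 7376243)) (.leaf (nat_lit 1098275)))) (.node (.node (.leaf (nat_lit 3542169)) (.leaf
    (nat_lit 1442834))) (.node (.leaf (nat_lit 5835428)) (.leaf (nat_lit 17917751))))) (.node
    (.node (.node (.leaf (nat_lit 15704796)) (.leaf (nat_lit 11654997))) (.node (.leaf (nat_lit
    9280834)) (.leaf (nat_lit 10802528)))) (.node (.node (.leaf (nat_lit 11411417)) (.leaf (nat_lit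
    10261628))) (.leaf (nat_lit 7871101)))))))))) (.node (.node (.node (.node (.node (.node (.node
    (.node (.node (.leaf (nat_lit 114837)) (.leaf (nat_lit 8149967))) (.node (.leaf (nat_lit
    11919473)) (.leaf (nat_lit 12605865)))) (.node (.node (.leaf (nat_lit 16458759)) (.leaf
    (nat_lit 12671447))) (.node (.leaf (nat_lit 9969157)) (.leaf (nat_lit 12655057))))) (.node
    (.node (.node (.leaf (nat_lit 5427213)) (.leaf (nat_lit 2344735))) (.node (.leaf (nat_lit
    3541838)) (.leaf (nat_lit 1081935)))) (.node (.node (.leaf (nat_lit 7409025)) (.leaf (nat_lit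
    2770298))) (.node (.leaf (nat_lit 5540404)) (.leaf (nat_lit 14870352)))))) (.node (.node (.node
    (.node (.leaf (nat_lit 2820213)) (.leaf (nat_lit 14935452))) (.node (.leaf (nat_lit 1016812))
    (.leaf (nat_lit 16064821)))) (.node (.node (.leaf (nat_lit 3212877)) (.leaf (nat_lit
    16671475))) (.node (.leaf (nat_lit 1409743)) (.leaf (nat_lit 14310805))))) (.node (.node (.node
    (.leaf (nat_lit 13245352)) (.leaf (nat_lit 6245986))) (.node (.leaf (nat_lit 5297221)) (.leaf
    (nat_lit 5343722)))) (.node (.node (.leaf (nat_lit 15507458)) (.leaf (nat_lit 6605807))) (.leaf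
    (nat_lit 13999356)))))) (.node (.node (.node (.node (.node (.leaf (nat_lit 3376782)) (.leaf
    (nat_lit 16901030))) (.node (.leaf (nat_lit 14034695)) (.leaf (nat_lit 12982978)))) (.node
    (.node (.leaf (nat_lit 1114667)) (.leaf (nat_lit 11017536))) (.node (.leaf (nat_lit 15278816))
    (.leaf (nat_lit 9377627))))) (.node (.node (.node (.leaf (nat_lit 6149434)) (.leaf (nat_lit
    5835423))) (.node (.leaf (nat_lit 8310627)) (.leaf (nat_lit 3245664)))) (.node (.node (.leaf
    (nat_lit 9490999)) (.leaf (nat_lit 3475589))) (.leaf (nat_lit 8245048))))) (.node (.node (.node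
    (.node (.leaf (nat_lit 8802426)) (.leaf (nat_lit 2081845))) (.node (.leaf (nat_lit 8146690))
    (.leaf (nat_lit 17065021)))) (.node (.node (.leaf (nat_lit 5310927)) (.leaf (nat_lit 360658)))
    (.node (.leaf (nat_lit 5376494)) (.leaf (nat_lit 14442668))))) (.node (.node (.node (.leaf
    (nat_lit 16540297)) (.leaf (nat_lit 9573200))) (.node (.leaf (nat_lit 7215413)) (.leaf (nat_lit
    4984220)))) (.node (.node (.leaf (nat_lit 15278004)) (.leaf (nat_lit 10015605))) (.leaf
    (nat_lit 11196001))))))) (.node (.node (.node (.node (.node (.node (.leaf (nat_lit 967333))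
    (.leaf (nat_lit 17966940))) (.node (.leaf (nat_lit 12870497)) (.leaf (nat_lit 13196160))))
    (.node (.node (.leaf (nat_lit 196728)) (.leaf (nat_lit 11901728))) (.node (.leaf (nat_lit
    15638583)) (.leaf (nat_lit 11999247))))) (.node (.node (.node (.leaf (nat_lit 5771937)) (.leaf
    (nat_lit 5376497))) (.node (.leaf (nat_lit 6786307)) (.leaf (nat_lit 1803408)))) (.node (.node
    (.leaf (nat_lit 5935020)) (.leaf (nat_lit 2606786))) (.leaf (nat_lit 10655009))))) (.node
    (.node (.node (.node (.leaf (nat_lit 10523830)) (.leaf (nat_lit 459026))) (.node (.leaf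
    (nat_lit 3868581)) (.leaf (nat_lit 17507750)))) (.node (.node (.leaf (nat_lit 8589288)) (.leaf
    (nat_lit 14836968))) (.node (.leaf (nat_lit 2622761)) (.leaf (nat_lit 13475500))))) (.node
    (.node (.node (.leaf (nat_lit 14212453)) (.leaf (nat_lit 13687935))) (.node (.leaf (nat_lit
    12917397)) (.leaf (nat_lit 5196718)))) (.node (.node (.leaf (nat_lit 12114370)) (.leaf (nat_lit
    10736962))) (.leaf (nat_lit 10146753)))))) (.node (.node (.node (.node (.node (.leaf (nat_lit
    2885278)) (.leaf (nat_lit 13656649))) (.node (.leaf (nat_lit 1753986)) (.leaf (nat_lit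
    13671666)))) (.node (.node (.leaf (nat_lit 1541221)) (.leaf (nat_lit 16605889))) (.node (.leaf
    (nat_lit 17917744)) (.leaf (nat_lit 8690170))))) (.node (.node (.node (.leaf (nat_lit
    13294548)) (.leaf (nat_lit 4754492))) (.node (.leaf (nat_lit 4575647)) (.leaf (nat_lit
    4376673)))) (.node (.node (.leaf (nat_lit 5543108)) (.leaf (nat_lit 8638473))) (.leaf (nat_lit
    13146952))))) (.node (.node (.node (.node (.leaf (nat_lit 7671315)) (.leaf (nat_lit 2557216)))
    (.node (.leaf (nat_lit 5130601)) (.leaf (nat_lit 114761)))) (.node (.node (.leaf (nat_lit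
    6261652)) (.leaf (nat_lit 2049058))) (.node (.leaf (nat_lit 7622124)) (.leaf (nat_lit
    15475612))))) (.node (.node (.node (.leaf (nat_lit 14885126)) (.leaf (nat_lit 10671580)))
    (.node (.leaf (nat_lit 8608797)) (.leaf (nat_lit 8359870)))) (.node (.node (.leaf (nat_lit
    14753417)) (.leaf (nat_lit 12327154))) (.leaf (nat_lit 8476854)))))))) (.node (.node (.node
    (.node (.node (.node (.node (.leaf (nat_lit 1573652)) (.leaf (nat_lit 15097681))) (.node (.leaf
    (nat_lit 16327143)) (.leaf (nat_lit 12441912)))) (.node (.node (.leaf (nat_lit 15656401))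
    (.leaf (nat_lit 13556795))) (.node (.leaf (nat_lit 10870576)) (.leaf (nat_lit 11195997)))))
    (.node (.node (.node (.leaf (nat_lit 13769887)) (.leaf (nat_lit 7228689))) (.node (.leaf
    (nat_lit 3591185)) (.leaf (nat_lit 1688411)))) (.node (.node (.leaf (nat_lit 10163147)) (.leaf
    (nat_lit 5228962))) (.leaf (nat_lit 2968075))))) (.node (.node (.node (.node (.leaf (nat_lit
    7523774)) (.leaf (nat_lit 16181149))) (.node (.leaf (nat_lit 1361143)) (.leaf (nat_lit
    17228982)))) (.node (.node (.leaf (nat_lit 2115395)) (.leaf (nat_lit 15360824))) (.node (.leaf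
    (nat_lit 1114761)) (.leaf (nat_lit 16540304))))) (.node (.node (.node (.leaf (nat_lit
    12114934)) (.leaf (nat_lit 12228771))) (.node (.leaf (nat_lit 15064881)) (.leaf (nat_lit
    6654978)))) (.node (.node (.leaf (nat_lit 12819003)) (.leaf (nat_lit 8277833))) (.leaf (nat_lit
    10933678)))))) (.node (.node (.node (.node (.node (.leaf (nat_lit 5442062)) (.leaf (nat_lit
    17950552))) (.node (.leaf (nat_lit 540968)) (.leaf (nat_lit 14097702)))) (.node (.node (.leaf
    (nat_lit 2885040)) (.leaf (nat_lit 12377674))) (.node (.leaf (nat_lit 15344771)) (.leaf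
    (nat_lit 10786951))))) (.node (.node (.node (.leaf (nat_lit 6067859)) (.leaf (nat_lit
    7868011))) (.node (.leaf (nat_lit 13573180)) (.leaf (nat_lit 2967405)))) (.node (.node (.leaf
    (nat_lit 8508274)) (.leaf (nat_lit 9245065))) (.leaf (nat_lit 6720960))))) (.node (.node (.node
    (.node (.leaf (nat_lit 3591361)) (.leaf (nat_lit 1557556))) (.node (.leaf (nat_lit 9294238))
    (.leaf (nat_lit 14411281)))) (.node (.node (.leaf (nat_lit 3148443)) (.leaf (nat_lit 836007)))
    (.node (.leaf (nat_lit 4212781)) (.leaf (nat_lit 15049230))))) (.node (.node (.node (.leaf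
    (nat_lit 16032032)) (.leaf (nat_lit 11441914))) (.node (.leaf (nat_lit 13081366)) (.leaf
    (nat_lit 7835309)))) (.node (.node (.leaf (nat_lit 15130475)) (.leaf (nat_lit 10031999)))
    (.leaf (nat_lit 6477685))))))) (.node (.node (.node (.node (.node (.node (.leaf (nat_lit
    1655714)) (.leaf (nat_lit 10706641))) (.node (.leaf (nat_lit 17442149)) (.leaf (nat_lit
    9918742)))) (.node (.node (.leaf (nat_lit 1065491)) (.leaf (nat_lit 12737628))) (.node (.leaf
    (nat_lit 16523906)) (.leaf (nat_lit 11163204))))) (.node (.node (.node (.leaf (nat_lit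
    5149673)) (.leaf (nat_lit 4327836))) (.node (.leaf (nat_lit 12737028)) (.leaf (nat_lit
    3278442)))) (.node (.node (.leaf (nat_lit 9113925)) (.leaf (nat_lit 3213279))) (.leaf (nat_lit
    11720564))))) (.node (.node (.node (.node (.leaf (nat_lit 11146800)) (.leaf (nat_lit 1147455)))
    (.node (.leaf (nat_lit 3704641)) (.leaf (nat_lit 17704536)))) (.node (.node (.leaf (nat_lit
    2558179)) (.leaf (nat_lit 17393348))) (.node (.leaf (nat_lit 1868985)) (.leaf (nat_lit
    16983007))))) (.node (.node (.node (.leaf (nat_lit 15818890)) (.leaf (nat_lit 12294359)))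
    (.node (.leaf (nat_lit 6625248)) (.leaf (nat_lit 6818940)))) (.node (.node (.leaf (nat_lit
    11721573)) (.leaf (nat_lit 8130330))) (.leaf (nat_lit 12622260)))))) (.node (.node (.node
    (.node (.node (.leaf (nat_lit 2197429)) (.leaf (nat_lit 16868312))) (.node (.leaf (nat_lit
    705234)) (.leaf (nat_lit 17802936)))) (.node (.node (.leaf (nat_lit 1459509)) (.leaf (nat_lit
    17130585))) (.node (.leaf (nat_lit 377046)) (.leaf (nat_lit 11787167))))) (.node (.node (.node
    (.leaf (nat_lit 12228832)) (.leaf (nat_lit 4771154))) (.node (.leaf (nat_lit 14327194)) (.leaf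
    (nat_lit 6769713)))) (.node (.node (.leaf (nat_lit 13835540)) (.leaf (nat_lit 5163810))) (.leaf
    (nat_lit 4296677))))) (.node (.node (.node (.node (.leaf (nat_lit 8130299)) (.leaf (nat_lit
    3130919))) (.node (.leaf (nat_lit 10720566)) (.leaf (nat_lit 803215)))) (.node (.node (.leaf
    (nat_lit 12163188)) (.leaf (nat_lit 1590217))) (.node (.leaf (nat_lit 7638528)) (.leaf (nat_lit
    16475478))))) (.node (.node (.node (.leaf (nat_lit 15786611)) (.leaf (nat_lit 12802605)))
    (.node (.leaf (nat_lit 9133313)) (.leaf (nat_lit 11048435)))) (.node (.node (.leaf (nat_lit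
    11083687)) (.leaf (nat_lit 11655001))) (.leaf (nat_lit 16310755))))))))) (.node (.node (.node
    (.node (.node (.node (.node (.node (.leaf (nat_lit 1147452)) (.leaf (nat_lit 14950132))) (.node
    (.leaf (nat_lit 12181801)) (.leaf (nat_lit 9098750)))) (.node (.node (.leaf (nat_lit 16524523))
    (.leaf (nat_lit 9443554))) (.node (.leaf (nat_lit 10657443)) (.leaf (nat_lit 9245432)))))
    (.node (.node (.node (.leaf (nat_lit 9310633)) (.leaf (nat_lit 3901368))) (.node (.leaf
    (nat_lit 11638598)) (.leaf (nat_lit 1426133)))) (.node (.node (.leaf (nat_lit 10736969)) (.leaf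
    (nat_lit 2622781))) (.leaf (nat_lit 2722163))))) (.node (.node (.node (.node (.leaf (nat_lit
    8999157)) (.leaf (nat_lit 13854349))) (.node (.leaf (nat_lit 1229961)) (.leaf (nat_lit
    17901344)))) (.node (.node (.leaf (nat_lit 6802490)) (.leaf (nat_lit 16065136))) (.node (.leaf
    (nat_lit 426471)) (.leaf (nat_lit 14704231))))) (.node (.node (.node (.leaf (nat_lit 12983075))
    (.leaf (nat_lit 6475504))) (.node (.leaf (nat_lit 14786205)) (.leaf (nat_lit 6835279)))) (.node
    (.node (.leaf (nat_lit 15704146)) (.leaf (nat_lit 6769756))) (.leaf (nat_lit 12704244))))))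
    (.node (.node (.node (.node (.node (.leaf (nat_lit 4835572)) (.leaf (nat_lit 15491134))) (.node
    (.leaf (nat_lit 32833)) (.leaf (nat_lit 13245354)))) (.node (.node (.leaf (nat_lit 1590053))
    (.leaf (nat_lit 13721038))) (.node (.leaf (nat_lit 15442852)) (.leaf (nat_lit 11917283)))))
    (.node (.node (.node (.leaf (nat_lit 13868225)) (.leaf (nat_lit 6015731))) (.node (.leaf
    (nat_lit 13442063)) (.leaf (nat_lit 3507930)))) (.node (.node (.leaf (nat_lit 11884492)) (.leaf
    (nat_lit 6818890))) (.leaf (nat_lit 3788077))))) (.node (.node (.node (.node (.leaf (nat_lit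
    8408989)) (.leaf (nat_lit 2147421))) (.node (.leaf (nat_lit 4507779)) (.leaf (nat_lit
    16442659)))) (.node (.node (.leaf (nat_lit 9720503)) (.leaf (nat_lit 606539))) (.node (.leaf
    (nat_lit 1689089)) (.leaf (nat_lit 16507503))))) (.node (.node (.node (.leaf (nat_lit
    15753325)) (.leaf (nat_lit 10195948))) (.node (.leaf (nat_lit 7690735)) (.leaf (nat_lit
    7114282)))) (.node (.node (.leaf (nat_lit 17688144)) (.leaf (nat_lit 9048337))) (.leaf (nat_lit
    6248193))))))) (.node (.node (.node (.node (.node (.node (.leaf (nat_lit 2786686)) (.leaf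
    (nat_lit 13442602))) (.node (.leaf (nat_lit 13132853)) (.leaf (nat_lit 8689764)))) (.node
    (.node (.leaf (nat_lit 164027)) (.leaf (nat_lit 14294411))) (.node (.leaf (nat_lit 12001441))
    (.leaf (nat_lit 12507497))))) (.node (.node (.node (.leaf (nat_lit 8606549)) (.leaf (nat_lit
    9245061))) (.node (.leaf (nat_lit 4722075)) (.leaf (nat_lit 2475259)))) (.node (.node (.leaf
    (nat_lit 9950031)) (.leaf (nat_lit 3393355))) (.leaf (nat_lit 10113964))))) (.node (.node
    (.node (.node (.leaf (nat_lit 3017335)) (.leaf (nat_lit 1114669))) (.node (.leaf (nat_lit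
    6359958)) (.leaf (nat_lit 17966948)))) (.node (.node (.leaf (nat_lit 8966368)) (.leaf (nat_lit
    14902735))) (.node (.leaf (nat_lit 3589886)) (.leaf (nat_lit 15835287))))) (.node (.node (.node
    (.leaf (nat_lit 9887038)) (.leaf (nat_lit 13589579))) (.node (.leaf (nat_lit 6428499)) (.leaf
    (nat_lit 3410951)))) (.node (.node (.leaf (nat_lit 13097769)) (.leaf (nat_lit 6262407))) (.leaf
    (nat_lit 11638602)))))) (.node (.node (.node (.node (.node (.leaf (nat_lit 3671852)) (.leaf
    (nat_lit 16163599))) (.node (.leaf (nat_lit 2114637)) (.leaf (nat_lit 16540303)))) (.node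
    (.node (.leaf (nat_lit 2032868)) (.leaf (nat_lit 16868223))) (.node (.leaf (nat_lit 17377115))
    (.leaf (nat_lit 13146967))))) (.node (.node (.node (.leaf (nat_lit 12064825)) (.leaf (nat_lit
    6950084))) (.node (.leaf (nat_lit 4772443)) (.leaf (nat_lit 5819031)))) (.node (.node (.leaf
    (nat_lit 14999302)) (.leaf (nat_lit 6425530))) (.leaf (nat_lit 7098209))))) (.node (.node
    (.node (.node (.leaf (nat_lit 12851794)) (.leaf (nat_lit 2377134))) (.node (.leaf (nat_lit
    10425474)) (.leaf (nat_lit 377051)))) (.node (.node (.leaf (nat_lit 9261458)) (.leaf (nat_lit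
    1622841))) (.node (.leaf (nat_lit 8294232)) (.leaf (nat_lit 15737976))))) (.node (.node (.node
    (.leaf (nat_lit 16851829)) (.leaf (nat_lit 11245206))) (.node (.leaf (nat_lit 8920209)) (.leaf
    (nat_lit 7491678)))) (.node (.node (.leaf (nat_lit 15015699)) (.leaf (nat_lit 8704884))) (.leaf
    (nat_lit 9083245)))))))) (.node (.node (.node (.node (.node (.node (.node (.leaf (nat_lit
    459265)) (.leaf (nat_lit 9166109))) (.node (.leaf (nat_lit 12722851)) (.leaf (nat_lit
    11917285)))) (.node (.node (.leaf (nat_lit 16131787)) (.leaf (nat_lit 11573832))) (.node (.leaf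
    (nat_lit 15671366)) (.leaf (nat_lit 10032200))))) (.node (.node (.node (.leaf (nat_lit
    13376507)) (.leaf (nat_lit 4507777))) (.node (.leaf (nat_lit 12245164)) (.leaf (nat_lit
    1311726)))) (.node (.node (.leaf (nat_lit 6475551)) (.leaf (nat_lit 3245659))) (.leaf (nat_lit
    2951773))))) (.node (.node (.node (.node (.leaf (nat_lit 5245353)) (.leaf (nat_lit 229528)))
    (.node (.leaf (nat_lit 1541472)) (.leaf (nat_lit 16966610)))) (.node (.node (.leaf (nat_lit
    2246615)) (.leaf (nat_lit 15623170))) (.node (.leaf (nat_lit 1491699)) (.leaf (nat_lit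
    13344271))))) (.node (.node (.node (.leaf (nat_lit 12409944)) (.leaf (nat_lit 8327183))) (.node
    (.leaf (nat_lit 10065446)) (.leaf (nat_lit 3885905)))) (.node (.node (.leaf (nat_lit 16245170))
    (.leaf (nat_lit 6720886))) (.leaf (nat_lit 14425554)))))) (.node (.node (.node (.node (.node
    (.leaf (nat_lit 1869346)) (.leaf (nat_lit 18016156))) (.node (.leaf (nat_lit 1311405)) (.leaf
    (nat_lit 13458561)))) (.node (.node (.leaf (nat_lit 951235)) (.leaf (nat_lit 15900875))) (.node
    (.leaf (nat_lit 15000926)) (.leaf (nat_lit 11508030))))) (.node (.node (.node (.leaf (nat_lit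
    11540261)) (.leaf (nat_lit 5295065))) (.node (.leaf (nat_lit 13884614)) (.leaf (nat_lit
    4032516)))) (.node (.node (.leaf (nat_lit 8147991)) (.leaf (nat_lit 6540245))) (.leaf (nat_lit
    3919427))))) (.node (.node (.node (.node (.leaf (nat_lit 9950038)) (.leaf (nat_lit 3655454)))
    (.node (.leaf (nat_lit 8294229)) (.leaf (nat_lit 16459535)))) (.node (.node (.leaf (nat_lit
    10081177)) (.leaf (nat_lit 672288))) (.node (.leaf (nat_lit 2017023)) (.leaf (nat_lit
    14574296))))) (.node (.node (.node (.leaf (nat_lit 15179872)) (.leaf (nat_lit 9180476))) (.node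
    (.leaf (nat_lit 11705248)) (.leaf (nat_lit 7671602)))) (.node (.node (.leaf (nat_lit 9919973))
    (.leaf (nat_lit 6689330))) (.leaf (nat_lit 10917895))))))) (.node (.node (.node (.node (.node
    (.node (.leaf (nat_lit 3229265)) (.leaf (nat_lit 16261570))) (.node (.leaf (nat_lit 13690377))
    (.leaf (nat_lit 8198590)))) (.node (.node (.leaf (nat_lit 836011)) (.leaf (nat_lit 13491402)))
    (.node (.leaf (nat_lit 12509708)) (.leaf (nat_lit 13097773))))) (.node (.node (.node (.leaf
    (nat_lit 11081219)) (.leaf (nat_lit 6999197))) (.node (.leaf (nat_lit 13015773)) (.leaf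
    (nat_lit 2983390)))) (.node (.node (.leaf (nat_lit 9294245)) (.leaf (nat_lit 4425837))) (.leaf
    (nat_lit 8408999))))) (.node (.node (.node (.node (.leaf (nat_lit 3214201)) (.leaf (nat_lit
    1278626))) (.node (.leaf (nat_lit 2148195)) (.leaf (nat_lit 16802665)))) (.node (.node (.leaf
    (nat_lit 2656577)) (.leaf (nat_lit 49185))) (.node (.leaf (nat_lit 4688076)) (.leaf (nat_lit
    16720663))))) (.node (.node (.node (.leaf (nat_lit 12754502)) (.leaf (nat_lit 8393370))) (.node
    (.leaf (nat_lit 6887555)) (.leaf (nat_lit 6704383)))) (.node (.node (.leaf (nat_lit 14310809))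
    (.leaf (nat_lit 11982852))) (.leaf (nat_lit 9622959)))))) (.node (.node (.node (.node (.node
    (.leaf (nat_lit 8490934)) (.leaf (nat_lit 15459515))) (.node (.leaf (nat_lit 869206)) (.leaf
    (nat_lit 13393534)))) (.node (.node (.leaf (nat_lit 5605958)) (.leaf (nat_lit 13820158)))
    (.node (.leaf (nat_lit 983532)) (.leaf (nat_lit 15900880))))) (.node (.node (.node (.leaf
    (nat_lit 11639188)) (.leaf (nat_lit 7392734))) (.node (.leaf (nat_lit 10245124)) (.leaf
    (nat_lit 5999337)))) (.node (.node (.leaf (nat_lit 11294417)) (.leaf (nat_lit 6392741))) (.leaf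
    (nat_lit 12392743))))) (.node (.node (.node (.node (.leaf (nat_lit 9441799)) (.leaf (nat_lit
    3393177))) (.node (.leaf (nat_lit 10999258)) (.leaf (nat_lit 917981)))) (.node (.node (.leaf
    (nat_lit 3607781)) (.leaf (nat_lit 1410147))) (.node (.leaf (nat_lit 3524796)) (.leaf (nat_lit
    17540687))))) (.node (.node (.node (.leaf (nat_lit 13984571)) (.leaf (nat_lit 13146955)))
    (.node (.leaf (nat_lit 9706883)) (.leaf (nat_lit 11327180)))) (.node (.node (.leaf (nat_lit
    11591689)) (.leaf (nat_lit 12228774))) (.leaf (nat_lit 7953121))))))))))))))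

/-- Certificate data. -/
def tK_C : TC.Cert := ⟨11, 2047, 14, 16383, 1486373390087298562220836320735856039100928, 32640, tK_par, tK_fact, tK_just, tK_rel, 222⟩

/-- Certificate data. -/
def tK_rs : List (List ℕ) := [[8, 8, 8], [8, 9, 8, 9], [8, 13, 7, 13], [8, 14, 7, 10], [10, 9, 10, 9], [10, 14, 10, 14], [15, 9, 15, 9], [9, 13, 9, 13], [8, 10, 7, 10, 14], [8, 10, 14, 7, 14], [10, 9, 14, 9, 14], [15, 13, 15, 13, 15, 13], [10, 15, 10, 15, 13, 10, 13], [10, 15, 9, 15, 14, 9, 14], [10, 13, 9, 13, 14, 9, 14], [8, 10, 13, 7, 9, 13, 14, 9], [8, 9, 13, 14, 8, 9, 14, 13], [10, 15, 13, 15, 10, 13, 15, 13], [15, 14, 15, 14, 15, 14, 15, 14], [13, 14, 13, 14, 13, 14, 13, 14], [8, 13, 14, 13, 14, 7, 15, 10, 15], [8, 10, 15, 7, 10, 15, 8, 10, 15, 9], [8, 10, 15, 7, 10, 9, 15, 14, 7, 15], [8, 10, 15, 7, 9, 10, 15, 7, 10, 15], [8, 10, 15, 14, 7, 15, 9, 14, 7, 15], [10, 15, 13, 14, 15, 13, 10, 15, 14, 13], [10, 15, 14, 15, 13, 10, 15, 14, 15, 13], [12, 12, 12], [12, 10, 11, 9], [12, 14, 12, 14], [12, 10, 9, 11, 10], [12, 9, 11, 10, 9], [8, 12, 8, 12, 7, 11], [8, 12, 10, 11, 8,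 9], [8, 11, 8, 11, 8, 11], [12, 9, 14, 12, 9, 14], [12, 9, 11, 14, 9, 14], [12, 9, 11, 10, 15, 9, 15], [8, 12, 7, 11, 10, 8, 11, 14], [12, 10, 15, 14, 9, 12, 15, 14], [12, 10, 15, 11, 10, 14, 15, 14], [12, 10, 15, 11, 14, 10, 15, 14], [12, 15, 10, 14, 12, 15, 14, 10], [12, 15, 11, 10, 14, 15, 14, 9], [8, 12, 8, 12, 8, 10, 8, 12, 14], [8, 12, 8, 10, 12, 14, 8, 11, 10], [8, 12, 15, 8, 12, 15, 8, 12, 15], [8, 12, 15, 10, 14, 12, 15, 7, 14], [8, 12, 15, 10, 11, 14, 15, 7, 14], [8, 12, 15, 11, 15, 8, 11, 15, 12], [8, 12, 9, 7, 12, 7, 10, 12, 14], [8, 15, 12, 7, 15, 12, 15, 7, 11], [12, 10, 15, 12, 9, 14, 11, 15, 14], [8, 12, 8, 10, 12, 7, 10, 7, 11, 10], [8, 12, 15, 11, 8, 15, 7, 10, 15, 10], [8, 12, 15, 11, 8, 15, 14, 7, 15, 10], [8, 12, 9, 14, 12, 8, 10, 15, 9, 15], [8, 10, 15, 14, 15, 7, 11, 10, 15, 12], [8, 15, 8, 15, 12, 8, 15, 8, 15, 12], [8, 15, 12, 15, 11, 8, 15, 12, 15, 11], [8, 15, 7, 12, 15, 14, 12, 7, 15, 10], [8, 15, 14, 7, 15, 8, 11, 14, 15, 11], [12, 10, 13, 9, 13, 11, 10], [12, 9, 11, 10, 13, 9, 13], [12, 15, 12, 15, 12, 13, 14, 13, 15], [12, 13, 10,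 14, 13, 11, 13, 14, 13], [12, 10, 13, 10, 11, 13, 11, 13, 12, 13], [12, 10, 13, 11, 9, 13, 11, 13, 12, 13], [12, 10, 13, 11, 13, 9, 11, 13, 12, 13], [12, 15, 9, 13, 10, 13, 14, 12, 15, 14], [12, 9, 13, 12, 13, 11, 9, 13, 11, 13], [12, 9, 13, 14, 9, 13, 11, 13, 14, 13], [12, 13, 12, 13, 11, 13, 11, 10, 13, 10], [12, 13, 14, 13, 11, 15, 13, 14, 13, 15], [12, 13, 11, 10, 15, 12, 13, 11, 10, 15]]

/-- Certificate data. -/
def tK_gl : List ℕ := [7, 281611, 563213, 844815, 1126409, 1408010, 1689614]

theorem tK_h1_0 : allR tK_C.factChk 0 661 = true := by decide +kernel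

theorem tK_h1_1 : allR tK_C.factChk 661 715 = true := by decide +kernel

theorem tK_h1_2 : allR tK_C.factChk 1376 676 = true := by decide +kernel

theorem tK_h1_3 : allR tK_C.factChk 2052 649 = true := by decide +kernel

theorem tK_h1_4 : allR tK_C.factChk 2701 652 = true := by decide +kernel

theorem tK_h1_5 : allR tK_C.factChk 3353 682 = true := by decide +kernel

theorem tK_h1_6 : allR tK_C.factChk 4035 660 = true := by decide +kernel

theorem tK_h1_7 : allR tK_C.factChk 4695 377 = true := by decide +kernel

theorem tK_h1 : allB tK_C.factChk 5072 = true :=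
  allB_of_allR (a := 5072)
    (allR_append (allR_append (allR_append (allR_append (allR_append (allR_append (allR_append
    (tK_h1_0) tK_h1_1) tK_h1_2) tK_h1_3) tK_h1_4) tK_h1_5) tK_h1_6) tK_h1_7)

theorem tK_h2 : tK_C.finChk 5072 1100 tK_lv tK_tb tK_gl = true := by decide +kernel

theorem tK_h3 : TC.relChk tK_C.ivc tK_rs tK_C.rel tK_rc tK_C.nrel = true := by decide +kernel

end Cfsg.Agent.H7.HS
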